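import Mathlib
import Cfsg.Agent.Helper1.C9Defs
import Cfsg.Agent.S1403
import Cfsg.Agent.Helper22.BG10b
import Cfsg.Agent.Helper21.PRank
import Cfsg.Agent.Helper49.OddCyclic
import Cfsg.Agent.Helper62.BG12c

/-!
# CALL S1376, piece SYL (helper92, double)
-/

set_option autoImplicit false

namespace Cfsg.Agent.Helper92

open Cfsg Subgroup
open Cfsg.Agent.Helper1 (C9)

universe u

variable {G : Type u} [Group G] [Finite G]

/-- SYL. With `τ₂(M) = ∅` and `κ(M) = ∅`: for a prime `s ∉ σ(M)` dividing `|M|`, every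
`s`-subgroup of `M` is cyclic and acts regularly on `M_σ`. -/
theorem c9_syl (hG : IsMinSimpleOddOrder G) {M N K U L : Subgroup G} {x : G}
    (h : C9 M N K U L x) (ht : tau2 M = ∅) {s : ℕ} (hs : s.Prime) (hsM : s ∣ Nat.card M)
    (hsσ : s ∉ sigma M) (P : Subgroup G) (hPM : P ≤ M) (hP : IsPGroup s P) :
    IsCyclic ↥P ∧ ∀ e ∈ P, e ≠ 1 → ∀ y ∈ sigmaCore M, e * y = y * e → y = 1 := by
  have hUq : Cfsg.Agent.Helper22.BGUniq G :=
    fun K hK h1 h2 => Cfsg.Agent.S1403.result hG K hK h1 h2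
  haveI := Fact.mk hs
  have hs2 : s ≠ 2 := Cfsg.Agent.Helper62.BG12.odd_prime_ne_two hG hs hsM
  have hsα : s ∉ alpha M :=
    fun hα => hsσ (Cfsg.Agent.Helper22.bg10_alpha_sub_sigma hG hUq h.hM hα)
  have h2 : PRankLE s 2 ↥M := Cfsg.Agent.Helper22.bg10_pRank_of_not_alpha M s hs hsα
  have h1 : PRankLE s 1 ↥M := by
    by_contra h1
    have h3 : s ∈ tau2 M := ⟨hs, hsσ, h2, h1⟩
    rw [ht] at h3
    exact h3
  have hcyc : IsCyclic ↥P := by
    apply Cfsg.Agent.Helper49.isCyclic_of_pRankLE_one hs2 hP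
    exact Cfsg.Agent.Helper21.pRankLE_of_injective (Subgroup.inclusion hPM)
      (Subgroup.inclusion_injective hPM) h1
  refine ⟨hcyc, ?_⟩
  have hκ : s ∉ kappa M := by rw [h.hκ]; exact Set.notMem_empty s
  have hex : ¬ ∀ P₀ : Sylow s ↥M, IsCyclic ↥P₀ ∧
      ∃ z : ↥M, z ∈ (P₀ : Subgroup ↥M) ∧ z ≠ 1 ∧
        ∃ y ∈ sigmaCore M, y ≠ 1 ∧ (z : G) * y = y * z :=
    fun hall => hκ ⟨hs, hsM, hsσ, hall⟩
  rw [not_forall] at hex
  obtain ⟨P₀, hP₀⟩ := hex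
  have hP₀c : IsCyclic ↥P₀ := by
    apply Cfsg.Agent.Helper49.isCyclic_of_pRankLE_one hs2 P₀.isPGroup'
    exact Cfsg.Agent.Helper21.pRankLE_of_injective (P₀ : Subgroup ↥M).subtype
      (Subgroup.subtype_injective _) h1
  have hreg : ¬ ∃ z : ↥M, z ∈ (P₀ : Subgroup ↥M) ∧ z ≠ 1 ∧
        ∃ y ∈ sigmaCore M, y ≠ 1 ∧ (z : G) * y = y * z := fun hz => hP₀ ⟨hP₀c, hz⟩
  intro e he he1 y hy hey
  by_contra hy1
  -- `P.subgroupOf M` lies in a conjugate of `P₀`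
  have hPs : IsPGroup s ↥(P.subgroupOf M) := hP.comap_subtype
  obtain ⟨Q, hQ⟩ := hPs.exists_le_sylow
  obtain ⟨g, hg⟩ := MulAction.exists_smul_eq ↥M Q P₀
  have heQ : (⟨e, hPM he⟩ : ↥M) ∈ (Q : Subgroup ↥M) := hQ (Subgroup.mem_subgroupOf.mpr he)
  have heP₀ : g * ⟨e, hPM he⟩ * g⁻¹ ∈ (P₀ : Subgroup ↥M) := by
    rw [← hg]
    rw [Sylow.coe_subgroup_smul, Subgroup.mem_pointwise_smul_iff_inv_smul_mem]
    simpa [MulAut.smul_def, mul_assoc] using heQ
  have hσn : (sigmaCore M).subgroupOf M = piCore (sigma M) ↥M := by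
    unfold sigmaCore
    exact Subgroup.comap_map_eq_self_of_injective (Subgroup.subtype_injective M) _
  have hyM : y ∈ M := by
    unfold sigmaCore at hy
    obtain ⟨w, -, rfl⟩ := hy
    exact w.2
  have hy' : (g : G) * y * (g : G)⁻¹ ∈ sigmaCore M := by
    have h3 : (⟨y, hyM⟩ : ↥M) ∈ piCore (sigma M) ↥M := by
      rw [← hσn]; exact Subgroup.mem_subgroupOf.mpr hy
    have h4 : g * ⟨y, hyM⟩ * g⁻¹ ∈ piCore (sigma M) ↥M :=
      (piCore_normal (sigma M) ↥M).conj_mem _ h3 g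
    rw [← hσn] at h4
    exact Subgroup.mem_subgroupOf.mp h4
  apply hreg
  refine ⟨g * ⟨e, hPM he⟩ * g⁻¹, heP₀, ?_, (g : G) * y * (g : G)⁻¹, hy', ?_, ?_⟩
  · intro h5
    apply he1
    have h6 : (⟨e, hPM he⟩ : ↥M) = 1 := by
      have := congrArg (fun t => g⁻¹ * t * g) h5
      simpa [mul_assoc] using this
    exact congrArg Subtype.val h6
  · intro h5
    apply hy1
    have := congrArg (fun t => (g : G)⁻¹ * t * (g : G)) h5
    simpa [mul_assoc] using this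
  · push_cast
    calc (g : G) * e * (g : G)⁻¹ * ((g : G) * y * (g : G)⁻¹)
        = (g : G) * (e * y) * (g : G)⁻¹ := by group
      _ = (g : G) * (y * e) * (g : G)⁻¹ := by rw [hey]
      _ = (g : G) * y * (g : G)⁻¹ * ((g : G) * e * (g : G)⁻¹) := by group

end Cfsg.Agent.Helper92
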