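import Cfsg.Agent.Helper92.LeechCensusEven

/-!
# Census of the lattice vectors of squared length 32

The three shapes `(∓3, ±1^23)`, `(±2^8, 0^16)`, `(±4^2, 0^22)` and the total count `196560`.
-/

set_option autoImplicit false

namespace Cfsg.Agent.Helper92

open Cfsg Cfsg.Agent.Helper26

/-! ### Odd vectors -/

theorem odd32_cases {y : GolayPt → ℤ} (h : ∀ i, y i % 4 = 1) (hn : sqNorm y = 32) :
    ∃ j : GolayPt, y = ov {j} := by
  have hy : ∀ i, y i = 1 ∨ y i = -3 ∨ y i = 5 := by
    intro i
    have hi := h i
    have hle : y i ^ 2 ≤ 32 := by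
      rw [← hn]
      exact Finset.single_le_sum (f := fun i => y i ^ 2) (fun i _ => sq_nonneg (y i))
        (Finset.mem_univ i)
    have hb : -6 < y i ∧ y i < 6 := by
      constructor <;> nlinarith
    omega
  have hsq : ∀ i, y i ^ 2 = 1 + ((if y i = -3 then 8 else 0) + (if y i = 5 then 24 else 0)) := by
    intro i
    rcases hy i with e | e | e <;> rw [e] <;> norm_num
  have hsum : (32 : ℤ) = 24 + (8 * ((Finset.univ.filter fun i => y i = -3).card : ℤ) +
      24 * ((Finset.univ.filter fun i => y i = 5).card : ℤ)) := by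
    rw [← hn]
    unfold sqNorm
    simp only [hsq]
    rw [Finset.sum_add_distrib, Finset.sum_add_distrib, Finset.sum_ite, Finset.sum_ite]
    simp
    ring
  have hcases : (Finset.univ.filter fun i => y i = -3).card = 1 ∧
      (Finset.univ.filter fun i => y i = 5).card = 0 := by
    omega
  obtain ⟨h3, h5⟩ := hcases
  obtain ⟨j, hj⟩ := Finset.card_eq_one.1 h3
  refine ⟨j, ?_⟩
  funext i
  unfold ov
  by_cases hi : i = j
  · rw [if_pos (by rw [hi]; exact Finset.mem_singleton_self j)]
    have : j ∈ Finset.univ.filter fun i => y i = -3 := by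
      rw [hj]
      exact Finset.mem_singleton_self j
    rw [hi]
    exact (Finset.mem_filter.1 this).2
  · rw [if_neg (by rw [Finset.mem_singleton]; exact hi)]
    have h1 : y i ≠ -3 := by
      intro e
      have : i ∈ Finset.univ.filter fun i => y i = -3 :=
        Finset.mem_filter.2 ⟨Finset.mem_univ _, e⟩
      rw [hj, Finset.mem_singleton] at this
      exact hi this
    have h2 : y i ≠ 5 := by
      intro e
      have : i ∈ Finset.univ.filter fun i => y i = 5 :=
        Finset.mem_filter.2 ⟨Finset.mem_univ _, e⟩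
      rw [Finset.card_eq_zero.1 h5] at this
      exact absurd this (Finset.notMem_empty _)
    rcases hy i with e | e | e
    · exact e
    · exact absurd e h1
    · exact absurd e h2

/-- the odd vectors with one coordinate `±3` -/
def oddOne : Set (GolayPt → ℤ) :=
  {x | ∃ c ∈ supports (golayCode : Set (GolayPt → ZMod 2)), ∃ j ∈ (Finset.univ : Finset GolayPt),
    x = signFun c (ov {j})}

theorem ncard_oddOne : oddOne.ncard = 98304 := by
  unfold oddOne
  rw [ncard_odd_family Finset.univ (fun j => ov {j})
    (fun a _ b _ h => Finset.singleton_injective (ov_injective h))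
    (fun a _ i => ov_mod {a} i), Finset.card_univ, card_golayPt]

theorem oddOne_spec {x : GolayPt → ℤ} (hx : x ∈ oddOne) :
    x ∈ leechLattice ∧ sqNorm x = 32 ∧ ∀ i, x i % 2 = 1 := by
  obtain ⟨c, hc, j, -, rfl⟩ := hx
  have hno : sqNorm (ov {j}) = 32 := by
    rw [sqNorm_ov, Finset.card_singleton]
    norm_num
  refine ⟨signFun_mem hc (one_mod_four_mem (ov_mod {j}) (by rw [hno]; norm_num)),
    by rw [sqNorm_signFun, hno], fun i => ?_⟩
  rw [signFun_apply]
  have := ov_mod {j} i
  split_ifs <;> omega

theorem odd32_mem {x : GolayPt → ℤ} (hx : x ∈ leechLattice) (hn : sqNorm x = 32)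
    (ho : x none % 2 = 1) : x ∈ oddOne := by
  obtain ⟨c, hc, y, hy1, hy2, rfl⟩ := odd_decomp hx ho
  rw [hn] at hy2
  obtain ⟨j, rfl⟩ := odd32_cases hy1 hy2
  exact ⟨c, hc, j, Finset.mem_univ j, rfl⟩

/-! ### Even vectors supported on an octad -/

/-- the even vectors `±2` on an octad with evenly many minus signs -/
def evenOct32 : Set (GolayPt → ℤ) :=
  {x | ∃ o ∈ octads, ∃ S ∈ o.powerset.filter (fun t => Even t.card), x = dv o S}

theorem ncard_evenOct32_aux (K : Finset (Finset GolayPt)) (hK : ∀ d, d ∈ K ↔ d ∈ octads) :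
    evenOct32.ncard = K.card * 128 := by
  have he : evenOct32 = (fun p : (_ : Finset GolayPt) × Finset GolayPt => dv p.1 p.2) ''
      ((K.sigma (fun d => d.powerset.filter (fun t => Even t.card)) : Finset _) : Set _) := by
    ext x
    constructor
    · rintro ⟨d, hd, S, hS, rfl⟩
      exact ⟨⟨d, S⟩, Finset.mem_coe.2 (Finset.mem_sigma.2 ⟨(hK d).2 hd, hS⟩), rfl⟩
    · rintro ⟨⟨d, S⟩, hp, rfl⟩
      have hp' := Finset.mem_sigma.1 (Finset.mem_coe.1 hp)
      exact ⟨d, (hK d).1 hp'.1, S, hp'.2, rfl⟩
  rw [he, Set.InjOn.ncard_image, Set.ncard_coe_finset, Finset.card_sigma]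
  · rw [Finset.sum_congr rfl (fun d hd => (card_even_powerset d 7 ((hK d).1 hd).2).1),
      Finset.sum_const, smul_eq_mul]
    norm_num
  · rintro ⟨d, S⟩ hp ⟨d', S'⟩ hp' heq
    have hp1 := Finset.mem_sigma.1 (Finset.mem_coe.1 hp)
    have hp2 := Finset.mem_sigma.1 (Finset.mem_coe.1 hp')
    have hS := Finset.mem_powerset.1 (Finset.mem_filter.1 hp1.2).1
    have hS' := Finset.mem_powerset.1 (Finset.mem_filter.1 hp2.2).1
    obtain ⟨e1, e2⟩ := dv_injective hS hS' heq
    dsimp only at e1 e2
    subst e1
    subst e2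
    rfl

theorem ncard_evenOct32 : evenOct32.ncard = 97152 := by
  rw [ncard_evenOct32_aux octF mem_octF, card_octF]

theorem evenOct32_spec {x : GolayPt → ℤ} (hx : x ∈ evenOct32) :
    x ∈ leechLattice ∧ sqNorm x = 32 ∧ ∀ i, x i = 0 ∨ x i = 2 ∨ x i = -2 := by
  obtain ⟨d, hd, S, hS, rfl⟩ := hx
  obtain ⟨hS1, hS2⟩ := Finset.mem_filter.1 hS
  have hSd := Finset.mem_powerset.1 hS1
  have hd8 : d.card = 8 := hd.2
  refine ⟨dv_mem hSd hd.1 ?_, ?_, dv_cases d S⟩
  · obtain ⟨r, hr⟩ := hS2
    rw [hd8, hr]
    push_cast
    omega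
  · rw [sqNorm_dv hSd, hd8]
    norm_num

/-! ### Even vectors with two coordinates `±4` -/

/-- the vector with `-4` on `S`, `4` on `T \ S` and `0` elsewhere -/
def pv (T S : Finset GolayPt) : GolayPt → ℤ := fun i => 2 * dv T S i

/-- the even vectors with two coordinates `±4` -/
def evenPair : Set (GolayPt → ℤ) :=
  {x | ∃ T : Finset GolayPt, T.card = 2 ∧ ∃ S ∈ T.powerset, x = pv T S}

theorem ncard_evenPair_aux (K : Finset (Finset GolayPt)) (hK : ∀ T, T ∈ K ↔ T.card = 2) :
    evenPair.ncard = K.card * 4 := by
  have he : evenPair = (fun p : (_ : Finset GolayPt) × Finset GolayPt => pv p.1 p.2) ''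
      ((K.sigma (fun T => T.powerset) : Finset _) : Set _) := by
    ext x
    constructor
    · rintro ⟨T, hT, S, hS, rfl⟩
      exact ⟨⟨T, S⟩, Finset.mem_coe.2 (Finset.mem_sigma.2 ⟨(hK T).2 hT, hS⟩), rfl⟩
    · rintro ⟨⟨T, S⟩, hp, rfl⟩
      have hp' := Finset.mem_sigma.1 (Finset.mem_coe.1 hp)
      exact ⟨T, (hK T).1 hp'.1, S, hp'.2, rfl⟩
  rw [he, Set.InjOn.ncard_image, Set.ncard_coe_finset, Finset.card_sigma]
  · have hc : ∀ T ∈ K, T.powerset.card = 4 := by
      intro T hT
      rw [Finset.card_powerset, (hK T).1 hT]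
      norm_num
    rw [Finset.sum_congr rfl hc, Finset.sum_const, smul_eq_mul]
  · rintro ⟨T, S⟩ hp ⟨T', S'⟩ hp' heq
    have hp1 := Finset.mem_sigma.1 (Finset.mem_coe.1 hp)
    have hp2 := Finset.mem_sigma.1 (Finset.mem_coe.1 hp')
    have hS := Finset.mem_powerset.1 hp1.2
    have hS' := Finset.mem_powerset.1 hp2.2
    have hdv : dv T S = dv T' S' := by
      funext i
      have := congrFun heq i
      unfold pv at this
      dsimp only at this
      omega
    obtain ⟨e1, e2⟩ := dv_injective hS hS' hdv
    subst e1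
    subst e2
    rfl

theorem ncard_evenPair : evenPair.ncard = 1104 := by
  rw [ncard_evenPair_aux (Finset.powersetCard 2 (Finset.univ : Finset GolayPt))
    (fun T => by rw [Finset.mem_powersetCard]; simp), Finset.card_powersetCard, Finset.card_univ,
    card_golayPt]
  have : Nat.choose 24 2 = 276 := by decide
  rw [this]

theorem evenPair_spec {x : GolayPt → ℤ} (hx : x ∈ evenPair) :
    x ∈ leechLattice ∧ sqNorm x = 32 ∧ ∀ i, x i % 4 = 0 := by
  obtain ⟨T, hT, S, hS, rfl⟩ := hx
  have hST := Finset.mem_powerset.1 hS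
  have h4 : ∀ i, pv T S i % 4 = 0 := by
    intro i
    unfold pv
    rcases dv_cases T S i with e | e | e <;> rw [e] <;> rfl
  refine ⟨?_, ?_, h4⟩
  · apply even_mem
    · intro i
      have := h4 i
      omega
    · have : ∑ i, pv T S i = 2 * ∑ i, dv T S i := by
        unfold pv
        rw [Finset.mul_sum]
      rw [this, sum_dv hST, hT]
      push_cast
      omega
    · have e : (Finset.univ.filter fun i => pv T S i % 4 = 2) = ∅ := by
        ext i
        rw [Finset.mem_filter]
        simp only [Finset.mem_univ, true_and, Finset.notMem_empty, iff_false]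
        rw [h4 i]
        norm_num
      rw [e]
      exact supports_empty
  · have : sqNorm (pv T S) = 4 * sqNorm (dv T S) := by
      unfold sqNorm pv
      rw [Finset.mul_sum]
      apply Finset.sum_congr rfl
      intro i _
      ring
    rw [this, sqNorm_dv hST, hT]
    norm_num

/-! ### Every even vector of squared length 32 is in one of the two families -/

theorem even32_mem {x : GolayPt → ℤ} (hx : x ∈ leechLattice) (hn : sqNorm x = 32)
    (he : x none % 2 = 0) : x ∈ evenOct32 ∨ x ∈ evenPair := by
  have hev : ∀ i, x i % 2 = 0 := fun i => by rw [leech_parity hx i none, he]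
  have hsum : (∑ i, x i) % 8 = 0 := by
    rw [leech_sum_mod hx, he]
    rfl
  have hn' : ∑ i, x i ^ 2 = 32 := hn
  have hc := leech_lvl_two hx
  generalize hcdef : (Finset.univ.filter fun i => x i % 4 = 2) = c at hc
  have hmem : ∀ i, i ∈ c ↔ x i % 4 = 2 := fun i => by
    rw [← hcdef, Finset.mem_filter]
    simp
  have hcard := card_of_mem_supports hc
  have hlow : ∀ i, (if i ∈ c then (4 : ℤ) else 0) ≤ x i ^ 2 := by
    intro i
    by_cases h : i ∈ c
    · rw [if_pos h]
      exact four_le_sq_of_mod _ ((hmem i).1 h)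
    · rw [if_neg h]
      exact sq_nonneg _
  have hsumlow : ∑ i, (if i ∈ c then (4 : ℤ) else 0) = 4 * (c.card : ℤ) := by
    rw [Finset.sum_ite_mem, Finset.univ_inter, Finset.sum_const]
    simp
    ring
  have hle : 4 * (c.card : ℤ) ≤ 32 := by
    rw [← hsumlow, ← hn']
    exact Finset.sum_le_sum (fun i _ => hlow i)
  rcases hcard with h0 | h8 | h12 | h16 | h24
  · right
    have hc0 : ∀ i, x i % 4 = 0 := by
      intro i
      have hi : i ∉ c := by
        rw [Finset.card_eq_zero.1 h0]
        exact Finset.notMem_empty i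
      have h1 : ¬ x i % 4 = 2 := fun h => hi ((hmem i).2 h)
      have h2 := hev i
      omega
    have hval : ∀ i, x i = 0 ∨ x i = 4 ∨ x i = -4 := by
      intro i
      have hi := hc0 i
      have hle : x i ^ 2 ≤ 32 := by
        rw [← hn']
        exact Finset.single_le_sum (f := fun i => x i ^ 2) (fun i _ => sq_nonneg (x i))
          (Finset.mem_univ i)
      have hb : -6 < x i ∧ x i < 6 := by
        constructor <;> nlinarith
      omega
    have hS : (Finset.univ.filter fun i => x i = -4) ⊆ (Finset.univ.filter fun i => x i ≠ 0) := by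
      intro i hi
      have := (Finset.mem_filter.1 hi).2
      rw [Finset.mem_filter]
      refine ⟨Finset.mem_univ _, ?_⟩
      rw [this]
      norm_num
    have hsq : ∀ i, x i ^ 2 = if i ∈ (Finset.univ.filter fun i => x i ≠ 0) then 16 else 0 := by
      intro i
      by_cases h : i ∈ (Finset.univ.filter fun i => x i ≠ 0)
      · rw [if_pos h]
        have h1 := (Finset.mem_filter.1 h).2
        rcases hval i with e | e | e
        · exact absurd e h1
        · rw [e]; norm_num
        · rw [e]; norm_num
      · rw [if_neg h]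
        have h1 : x i = 0 := by
          by_contra h0
          exact h (Finset.mem_filter.2 ⟨Finset.mem_univ _, h0⟩)
        rw [h1]
        norm_num
    have hT : (Finset.univ.filter fun i => x i ≠ 0).card = 2 := by
      have h1 : ∑ i, x i ^ 2 = 16 * ((Finset.univ.filter fun i => x i ≠ 0).card : ℤ) := by
        simp only [hsq]
        rw [Finset.sum_ite_mem, Finset.univ_inter, Finset.sum_const]
        simp
        ring
      rw [hn'] at h1
      omega
    refine ⟨_, hT, _, Finset.mem_powerset.2 hS, ?_⟩
    funext i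
    unfold pv dv
    by_cases h1 : i ∈ Finset.univ.filter fun i => x i = -4
    · rw [if_pos h1, (Finset.mem_filter.1 h1).2]
      norm_num
    · rw [if_neg h1]
      by_cases h2 : i ∈ Finset.univ.filter fun i => x i ≠ 0
      · rw [if_pos h2]
        have h3 := (Finset.mem_filter.1 h2).2
        rcases hval i with e | e | e
        · exact absurd e h3
        · rw [e]; norm_num
        · exact (h1 (Finset.mem_filter.2 ⟨Finset.mem_univ _, e⟩)).elim
      · rw [if_neg h2]
        by_contra h0
        exact h2 (Finset.mem_filter.2 ⟨Finset.mem_univ _, h0⟩)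
  · left
    have hSc : (Finset.univ.filter fun i => x i = -2) ⊆ c := by
      intro i hi
      have := (Finset.mem_filter.1 hi).2
      rw [hmem, this]
      rfl
    have hsum2 : ∑ i, x i ^ 2 = ∑ i, (if i ∈ c then (4 : ℤ) else 0) := by
      rw [hsumlow, h8, hn']
      norm_num
    have heq := eq_of_sum_eq hlow hsum2
    have hxe : x = dv c (Finset.univ.filter fun i => x i = -2) := by
      funext i
      have h1 := heq i
      unfold dv
      by_cases hS : i ∈ Finset.univ.filter fun i => x i = -2
      · rw [if_pos hS]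
        exact (Finset.mem_filter.1 hS).2
      · rw [if_neg hS]
        by_cases hic : i ∈ c
        · rw [if_pos hic]
          rw [if_pos hic] at h1
          rcases sq_mod_two_cases ((hmem i).1 hic) (by rw [h1]; norm_num) with e | e
          · exact e
          · exact (hS (Finset.mem_filter.2 ⟨Finset.mem_univ _, e⟩)).elim
        · rw [if_neg hic]
          rw [if_neg hic] at h1
          exact pow_eq_zero_iff (two_ne_zero) |>.1 h1
    have hpar : Even (Finset.univ.filter fun i => x i = -2).card := by
      by_contra hE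
      obtain ⟨r, hr⟩ := Nat.not_even_iff_odd.1 hE
      have hs := sum_dv hSc
      rw [← hxe] at hs
      rw [hs, h8, hr] at hsum
      push_cast at hsum
      omega
    exact ⟨c, ⟨hc, h8⟩, _, Finset.mem_filter.2 ⟨Finset.mem_powerset.2 hSc, hpar⟩, hxe⟩
  · rw [h12] at hle
    norm_num at hle
  · rw [h16] at hle
    norm_num at hle
  · rw [h24] at hle
    norm_num at hle

/-! ### The count -/

theorem set32_eq : {x : GolayPt → ℤ | x ∈ leechLattice ∧ sqNorm x = 32} =
    (evenOct32 ∪ evenPair) ∪ oddOne := by
  ext x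
  constructor
  · rintro ⟨hx, hn⟩
    rcases Int.emod_two_eq_zero_or_one (x none) with he | ho
    · left
      exact even32_mem hx hn he
    · right
      exact odd32_mem hx hn ho
  · rintro ((h | h) | h)
    · exact ⟨(evenOct32_spec h).1, (evenOct32_spec h).2.1⟩
    · exact ⟨(evenPair_spec h).1, (evenPair_spec h).2.1⟩
    · exact ⟨(oddOne_spec h).1, (oddOne_spec h).2.1⟩

/-- **There are `196560` lattice vectors of squared length 32.** -/
theorem ncard_norm32 :
    {x : GolayPt → ℤ | x ∈ leechLattice ∧ sqNorm x = 32}.ncard = 196560 := by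
  have f1 : evenOct32.Finite := Set.finite_of_ncard_ne_zero (by rw [ncard_evenOct32]; norm_num)
  have f2 : evenPair.Finite := Set.finite_of_ncard_ne_zero (by rw [ncard_evenPair]; norm_num)
  have f3 : oddOne.Finite := Set.finite_of_ncard_ne_zero (by rw [ncard_oddOne]; norm_num)
  have d1 : Disjoint evenOct32 evenPair := by
    rw [Set.disjoint_left]
    intro x h1 h2
    obtain ⟨-, hn, hall⟩ := evenOct32_spec h1
    obtain ⟨-, -, h4⟩ := evenPair_spec h2
    have h0 : ∀ i, x i = 0 := by
      intro i
      have := h4 i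
      rcases hall i with e | e | e
      · exact e
      · rw [e] at this; norm_num at this
      · rw [e] at this; norm_num at this
    have : sqNorm x = 0 := by
      unfold sqNorm
      apply Finset.sum_eq_zero
      intro i _
      rw [h0 i]
      norm_num
    rw [this] at hn
    norm_num at hn
  have d3 : Disjoint (evenOct32 ∪ evenPair) oddOne := by
    rw [Set.disjoint_left]
    intro x h1 h2
    have he : x none % 2 = 0 := by
      rcases h1 with h | h
      · obtain ⟨-, -, hall⟩ := evenOct32_spec h
        rcases hall none with e | e | e <;> rw [e] <;> rfl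
      · have := (evenPair_spec h).2.2 none
        omega
    have ho := (oddOne_spec h2).2.2 none
    omega
  rw [set32_eq, Set.ncard_union_eq d3 (f1.union f2) f3, Set.ncard_union_eq d1 f1 f2,
    ncard_evenOct32, ncard_evenPair, ncard_oddOne]

end Cfsg.Agent.Helper92
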