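import Cfsg.Agent.Helper92.LeechType

/-!
# The lattice modulo 2 is a faithful irreducible module for `Co0 / {±1}`

* `closure_min_eq`: the lattice is generated by its vectors of squared length 32.
* `central_of_trivial_mod_two`: an automorphism acting trivially on the lattice modulo twice the
  lattice is `1` or `-1`.
* `invariant_sublattice`: an invariant subgroup between twice the lattice and the lattice is one
  of the two.
-/

set_option autoImplicit false

namespace Cfsg.Agent.Helper92

open Cfsg

/-! ### Generation by minimal vectors -/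

theorem sqNorm_twoVec_basis : ∀ b ∈ Cfsg.Agent.Helper7.basis,
    sqNorm (twoVec (Cfsg.Agent.Helper7.setOf b)) = 32 := by decide

theorem sqNorm_P_of_ne {i j : GolayPt} (hij : i ≠ j) :
    sqNorm ((P i j : leechLattice) : GolayPt → ℤ) = 32 := by
  revert i j; decide

theorem sqNorm_Pm_of_ne {i j : GolayPt} (hij : i ≠ j) :
    sqNorm ((P i j - P j j : leechLattice) : GolayPt → ℤ) = 32 := by
  revert i j; decide

/-- the set of minimal vectors -/
def minSet : Set (GolayPt → ℤ) := {x | x ∈ leechLattice ∧ sqNorm x = 32}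

theorem gens_subset_closure_min :
    gens ⊆ (AddSubgroup.closure minSet : Set (GolayPt → ℤ)) := by
  rintro g ((⟨i, rfl⟩ | hg) | ⟨b, hb, rfl⟩)
  · by_cases hi : i = none
    · subst hi
      have h1 : ((P none (some 0) : leechLattice) : GolayPt → ℤ) ∈ AddSubgroup.closure minSet :=
        AddSubgroup.subset_closure ⟨(P none (some 0)).2, sqNorm_P_of_ne (by decide)⟩
      have h2 : ((P none (some 0) - P (some 0) (some 0) : leechLattice) : GolayPt → ℤ) ∈
          AddSubgroup.closure minSet :=
        AddSubgroup.subset_closure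
          ⟨(P none (some 0) - P (some 0) (some 0)).2, sqNorm_Pm_of_ne (by decide)⟩
      have h3 : e4 none + e4 none = ((P none (some 0) : leechLattice) : GolayPt → ℤ) +
          ((P none (some 0) - P (some 0) (some 0) : leechLattice) : GolayPt → ℤ) := by
        decide
      show e4 none + e4 none ∈ AddSubgroup.closure _
      rw [h3]
      exact add_mem h1 h2
    · exact AddSubgroup.subset_closure ⟨(P i none).2, sqNorm_P_of_ne hi⟩
  · rw [Set.mem_singleton_iff] at hg
    subst hg
    have h1 : ((O2 : leechLattice) : GolayPt → ℤ) ∈ AddSubgroup.closure minSet :=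
      AddSubgroup.subset_closure ⟨O2.2, sqNorm_O2⟩
    have h2 : ((P none (some 0) : leechLattice) : GolayPt → ℤ) ∈ AddSubgroup.closure minSet :=
      AddSubgroup.subset_closure ⟨(P none (some 0)).2, sqNorm_P_of_ne (by decide)⟩
    have h3 : ((P none (some 0) - P (some 0) (some 0) : leechLattice) : GolayPt → ℤ) ∈
        AddSubgroup.closure minSet :=
      AddSubgroup.subset_closure
        ⟨(P none (some 0) - P (some 0) (some 0)).2, sqNorm_Pm_of_ne (by decide)⟩
    have h4 : Cfsg.Spor.vecV = -((O2 : leechLattice) : GolayPt → ℤ) -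
        ((P none (some 0) : leechLattice) : GolayPt → ℤ) -
        ((P none (some 0) - P (some 0) (some 0) : leechLattice) : GolayPt → ℤ) := by
      decide
    show Cfsg.Spor.vecV ∈ AddSubgroup.closure _
    rw [h4]
    exact sub_mem (sub_mem (neg_mem h1) h2) h3
  · exact AddSubgroup.subset_closure ⟨twoVec_mem (setOf_basis_mem hb), sqNorm_twoVec_basis b hb⟩

/-- the lattice is generated by its vectors of squared length 32 -/
theorem closure_min_eq : AddSubgroup.closure minSet = leechLattice := by
  apply le_antisymm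
  · rw [AddSubgroup.closure_le]
    rintro x ⟨hx, -⟩
    exact hx
  · have h := closure_gens_eq
    intro x hx
    rw [← h] at hx
    exact (AddSubgroup.closure_le _).2 gens_subset_closure_min hx

/-! ### Orbits of short vectors -/

theorem orb_leechU_of_norm (v : leechLattice) (hv : sqNorm (v : GolayPt → ℤ) = 32) :
    Orb v Cfsg.Spor.leechU := by
  have h32 : sqNorm (v : GolayPt → ℤ) ≤ 64 := by rw [hv]; norm_num
  rcases orb_cases v with h | h | h | h
  · have := h.sqNorm_eq h32 (by rw [sqNorm_zero']; norm_num)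
    rw [hv, sqNorm_zero'] at this
    omega
  · exact h
  · have := h.sqNorm_eq h32 (by rw [sqNorm_leechV]; norm_num)
    rw [hv, sqNorm_leechV] at this
    omega
  · have := h.sqNorm_eq h32 (by rw [sqNorm_U4])
    rw [hv, sqNorm_U4] at this
    omega

theorem orb_leechV_of_norm (v : leechLattice) (hv : sqNorm (v : GolayPt → ℤ) = 48) :
    Orb v Cfsg.Spor.leechV := by
  have h48 : sqNorm (v : GolayPt → ℤ) ≤ 64 := by rw [hv]; norm_num
  rcases orb_cases v with h | h | h | h
  · have := h.sqNorm_eq h48 (by rw [sqNorm_zero']; norm_num)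
    rw [hv, sqNorm_zero'] at this
    omega
  · have := h.sqNorm_eq h48 (by rw [sqNorm_leechU]; norm_num)
    rw [hv, sqNorm_leechU] at this
    omega
  · exact h
  · have := h.sqNorm_eq h48 (by rw [sqNorm_U4])
    rw [hv, sqNorm_U4] at this
    omega

theorem orb_U4_of_norm (v : leechLattice) (hv : sqNorm (v : GolayPt → ℤ) = 64) :
    Orb v U4 := by
  rcases orb_cases v with h | h | h | h
  · have := h.sqNorm_eq hv.le (by rw [sqNorm_zero']; norm_num)
    rw [hv, sqNorm_zero'] at this
    omega
  · have := h.sqNorm_eq hv.le (by rw [sqNorm_leechU]; norm_num)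
    rw [hv, sqNorm_leechU] at this
    omega
  · have := h.sqNorm_eq hv.le (by rw [sqNorm_leechV]; norm_num)
    rw [hv, sqNorm_leechV] at this
    omega
  · exact h

/-- `Co0` is transitive on the vectors of squared length 32 -/
theorem exists_smul_eq_of_norm32 (v w : leechLattice) (hv : sqNorm (v : GolayPt → ℤ) = 32)
    (hw : sqNorm (w : GolayPt → ℤ) = 32) : ∃ g : Co0, g • v = w := by
  obtain ⟨g, hg⟩ := (orb_leechU_of_norm v hv).exists_smul_eq (by rw [hv]; norm_num)
    (by rw [sqNorm_leechU]; norm_num)
  obtain ⟨h, hh⟩ := (orb_leechU_of_norm w hw).exists_smul_eq (by rw [hw]; norm_num)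
    (by rw [sqNorm_leechU]; norm_num)
  refine ⟨h⁻¹ * g, ?_⟩
  rw [mul_smul, hg, ← hh, inv_smul_smul]

/-- `Co0` is transitive on the vectors of squared length 48 -/
theorem exists_smul_eq_of_norm48 (v w : leechLattice) (hv : sqNorm (v : GolayPt → ℤ) = 48)
    (hw : sqNorm (w : GolayPt → ℤ) = 48) : ∃ g : Co0, g • v = w := by
  obtain ⟨g, hg⟩ := (orb_leechV_of_norm v hv).exists_smul_eq (by rw [hv]; norm_num)
    (by rw [sqNorm_leechV]; norm_num)
  obtain ⟨h, hh⟩ := (orb_leechV_of_norm w hw).exists_smul_eq (by rw [hw]; norm_num)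
    (by rw [sqNorm_leechV]; norm_num)
  refine ⟨h⁻¹ * g, ?_⟩
  rw [mul_smul, hg, ← hh, inv_smul_smul]

/-! ### Faithfulness modulo the centre -/

/-- an automorphism acting trivially modulo twice the lattice fixes or negates every vector of
squared length 32 -/
theorem pm_of_trivial_mod_two {g : Co0}
    (hg : ∀ v : leechLattice, Cong (g • v) v) (v : leechLattice)
    (hv : sqNorm (v : GolayPt → ℤ) = 32) : g • v = v ∨ g • v = -v := by
  obtain ⟨w, hw⟩ := hg v
  have hn := co0_sqNorm g v
  have hd : ((g • v : leechLattice) : GolayPt → ℤ) - (v : GolayPt → ℤ) =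
      (2 : ℤ) • (w : GolayPt → ℤ) := by
    rw [hw, two_smul]
    show (v : GolayPt → ℤ) + ((w : GolayPt → ℤ) + (w : GolayPt → ℤ)) - (v : GolayPt → ℤ) = _
    abel
  rcases leech_congr_two v.2 w.2 hd (by rw [hn, hv]; norm_num) (by rw [hv]; norm_num)
    with h | h | h
  · left
    exact Subtype.ext h.symm
  · right
    apply Subtype.ext
    show ((g • v : leechLattice) : GolayPt → ℤ) = -(v : GolayPt → ℤ)
    rw [h, neg_neg]
  · rw [hv] at h
    omega

theorem P_diag_eq (i j : GolayPt) : P i i = P i j + (P i j - P j j) := by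
  rw [← add_sub_assoc, ← P_rel_diag]
  abel

theorem P_diag_eq' (i j : GolayPt) : P j j = P i j - (P i j - P j j) := by
  abel

theorem P_diag_ne {a b : GolayPt} (hab : a ≠ b) : P a a ≠ P b b ∧ P a a ≠ -P b b := by
  constructor
  · intro h
    have := congrFun (congrArg Subtype.val h) a
    rw [P_diag_apply, P_diag_apply, if_pos rfl, if_neg hab] at this
    omega
  · intro h
    have := congrFun (congrArg Subtype.val h) a
    have e : ((-P b b : leechLattice) : GolayPt → ℤ) a = -((P b b : leechLattice) : GolayPt → ℤ) a := rfl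
    rw [e, P_diag_apply, P_diag_apply, if_pos rfl, if_neg hab] at this
    omega

theorem exists_two_ne : ∀ i : GolayPt, ∃ j₁ j₂ : GolayPt, j₁ ≠ i ∧ j₂ ≠ i ∧ j₁ ≠ j₂ := by decide

theorem F_of_trivial_mod_two {g : Co0} (hg : ∀ v : leechLattice, Cong (g • v) v) (i : GolayPt) :
    g • P i i = P i i ∨ g • P i i = -P i i := by
  have hF : ∀ j, i ≠ j → g • P i i = P i i ∨ g • P i i = -P i i ∨ g • P i i = P j j ∨
      g • P i i = -P j j := by
    intro j hij
    have e1 := P_diag_eq i j
    have e2 := P_diag_eq' i j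
    have h1 := pm_of_trivial_mod_two hg (P i j) (sqNorm_P_of_ne hij)
    have h2 := pm_of_trivial_mod_two hg (P i j - P j j) (sqNorm_Pm_of_ne hij)
    have e3 : g • P i i = g • P i j + g • (P i j - P j j) := by
      conv_lhs => rw [e1]
      rw [co0_add]
    rcases h1 with h1 | h1 <;> rcases h2 with h2 | h2
    · left; rw [e3, h1, h2, ← e1]
    · right; right; left; rw [e3, h1, h2, ← sub_eq_add_neg, ← e2]
    · right; right; right; rw [e3, h1, h2]
      conv_rhs => rw [e2]
      abel
    · right; left; rw [e3, h1, h2]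
      conv_rhs => rw [e1]
      abel
  obtain ⟨j₁, j₂, h1, h2, h12⟩ := exists_two_ne i
  rcases hF j₁ (Ne.symm h1) with a | a | a | a
  · exact Or.inl a
  · exact Or.inr a
  · rcases hF j₂ (Ne.symm h2) with b | b | b | b
    · exact Or.inl b
    · exact Or.inr b
    · exact absurd (a.symm.trans b) (P_diag_ne h12).1
    · exact absurd (a.symm.trans b) (P_diag_ne h12).2
  · rcases hF j₂ (Ne.symm h2) with b | b | b | b
    · exact Or.inl b
    · exact Or.inr b
    · exact absurd (neg_eq_iff_eq_neg.1 (a.symm.trans b)) (P_diag_ne h12).2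
    · exact absurd (neg_injective (a.symm.trans b)) (P_diag_ne h12).1

theorem F_sign_of_trivial_mod_two {g : Co0} (hg : ∀ v : leechLattice, Cong (g • v) v)
    {i j : GolayPt} (hij : i ≠ j) :
    ¬ (g • P i i = P i i ∧ g • P j j = -P j j) := by
  rintro ⟨h1, h2⟩
  have h3 := pm_of_trivial_mod_two hg (P i j) (sqNorm_P_of_ne hij)
  have e : g • (P i j + P i j) = P i i + -P j j := by
    rw [← P_rel_diag, co0_add, h1, h2]
  rw [co0_add] at e
  rcases h3 with h3 | h3
  · rw [h3, ← P_rel_diag] at e
    have := congrFun (congrArg Subtype.val e) j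
    have e1 : ((P i i + P j j : leechLattice) : GolayPt → ℤ) j =
        ((P i i : leechLattice) : GolayPt → ℤ) j + ((P j j : leechLattice) : GolayPt → ℤ) j := rfl
    have e2 : ((P i i + -P j j : leechLattice) : GolayPt → ℤ) j =
        ((P i i : leechLattice) : GolayPt → ℤ) j + -((P j j : leechLattice) : GolayPt → ℤ) j := rfl
    rw [e1, e2, P_diag_apply, P_diag_apply, if_neg (Ne.symm hij), if_pos rfl] at this
    omega
  · rw [h3, ← neg_add, ← P_rel_diag] at e
    have := congrFun (congrArg Subtype.val e) i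
    have e1 : ((-(P i i + P j j) : leechLattice) : GolayPt → ℤ) i =
        -(((P i i : leechLattice) : GolayPt → ℤ) i + ((P j j : leechLattice) : GolayPt → ℤ) i) := rfl
    have e2 : ((P i i + -P j j : leechLattice) : GolayPt → ℤ) i =
        ((P i i : leechLattice) : GolayPt → ℤ) i + -((P j j : leechLattice) : GolayPt → ℤ) i := rfl
    rw [e1, e2, P_diag_apply, P_diag_apply, if_neg hij, if_pos rfl] at this
    omega

/-- **Faithfulness**: an automorphism acting trivially on the lattice modulo twice the lattice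
is `1` or `-1`. -/
theorem eq_one_or_neg_of_trivial_mod_two {g : Co0} (hg : ∀ v : leechLattice, Cong (g • v) v) :
    g = 1 ∨ g = negAut := by
  have hF := F_of_trivial_mod_two hg
  have hne : ∀ i : GolayPt, P i i ≠ -P i i := by
    intro i h
    have := congrFun (congrArg Subtype.val h) i
    have e : ((-P i i : leechLattice) : GolayPt → ℤ) i = -((P i i : leechLattice) : GolayPt → ℤ) i := rfl
    rw [e, P_diag_apply, if_pos rfl] at this
    omega
  rcases hF none with h0 | h0
  · left
    apply co0_ext
    intro v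
    rw [one_smul]
    have := co0_eq_of_F g 1 (fun i => by
      rw [one_smul]
      by_cases hi : i = none
      · rw [hi]; exact h0
      · rcases hF i with h | h
        · exact h
        · exact absurd ⟨h0, h⟩ (F_sign_of_trivial_mod_two hg (Ne.symm hi))) v
    rwa [one_smul] at this
  · right
    apply co0_ext
    intro v
    rw [negAut_smul]
    have := co0_eq_of_F g (-1) (fun i => by
      rw [neg_one_smul]
      by_cases hi : i = none
      · rw [hi]; exact h0
      · rcases hF i with h | h
        · exact absurd ⟨h, h0⟩ (F_sign_of_trivial_mod_two hg hi)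
        · exact h) v
    rwa [neg_one_smul] at this

/-! ### Irreducibility -/

theorem mem_of_orb {M : AddSubgroup (GolayPt → ℤ)}
    (h2 : ∀ v ∈ leechLattice, (2 : ℤ) • v ∈ M)
    (hinv : ∀ g : Co0, ∀ v : leechLattice, (v : GolayPt → ℤ) ∈ M →
      ((g • v : leechLattice) : GolayPt → ℤ) ∈ M) {x u : leechLattice}
    (hx : (x : GolayPt → ℤ) ∈ M) (ho : Orb x u) : (u : GolayPt → ℤ) ∈ M := by
  obtain ⟨g, z, hz⟩ := ho
  have h1 := hinv g x hx
  have h3 := h2 _ z.2
  have e : (u : GolayPt → ℤ) = ((g • x : leechLattice) : GolayPt → ℤ) - (2 : ℤ) • (z : GolayPt → ℤ) := by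
    rw [hz, two_smul]
    show (u : GolayPt → ℤ) = (u : GolayPt → ℤ) + ((z : GolayPt → ℤ) + (z : GolayPt → ℤ)) -
      ((z : GolayPt → ℤ) + (z : GolayPt → ℤ))
    abel
  rw [e]
  exact sub_mem h1 h3

theorem sqNorm_diffV :
    sqNorm ((Cfsg.Spor.leechV - signAut oct oct_mem • Cfsg.Spor.leechV : leechLattice) :
      GolayPt → ℤ) = 32 := by
  show sqNorm (Cfsg.Spor.vecV - signFun oct Cfsg.Spor.vecV) = 32
  have : Cfsg.Spor.vecV - signFun oct Cfsg.Spor.vecV =
      fun k => if k ∈ oct then -2 else 0 := by
    funext k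
    show Cfsg.Spor.vecV k - signFun oct Cfsg.Spor.vecV k = _
    rw [signFun_apply]
    have := none_not_mem_oct
    unfold Cfsg.Spor.vecV
    by_cases hk : k ∈ oct
    · have hkn : k ≠ none := fun h => this (h ▸ hk)
      simp [hk, hkn]
    · simp [hk]
  rw [this]
  unfold sqNorm
  have : ∀ k : GolayPt, (if k ∈ oct then (-2 : ℤ) else 0) ^ 2 = if k ∈ oct then 4 else 0 := by
    intro k; split_ifs <;> norm_num
  simp only [this]
  rw [Finset.sum_ite_mem, Finset.univ_inter, Finset.sum_const, oct_card]
  norm_num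

/-- **Irreducibility**: an invariant subgroup between twice the lattice and the lattice is
contained in twice the lattice or is the whole lattice. -/
theorem invariant_sublattice (M : AddSubgroup (GolayPt → ℤ))
    (h2 : ∀ v ∈ leechLattice, (2 : ℤ) • v ∈ M) (hM : M ≤ leechLattice)
    (hinv : ∀ g : Co0, ∀ v : leechLattice, (v : GolayPt → ℤ) ∈ M →
      ((g • v : leechLattice) : GolayPt → ℤ) ∈ M) :
    (∀ x ∈ M, ∃ w ∈ leechLattice, x = (2 : ℤ) • w) ∨ M = leechLattice := by
  by_cases h : ∀ x ∈ M, ∃ w ∈ leechLattice, x = (2 : ℤ) • w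
  · exact Or.inl h
  right
  push Not at h
  obtain ⟨x, hx, hxn⟩ := h
  -- a minimal vector in `M`
  have hmin : ∃ y : leechLattice, (y : GolayPt → ℤ) ∈ M ∧ sqNorm (y : GolayPt → ℤ) = 32 := by
    rcases orb_cases ⟨x, hM hx⟩ with ho | ho | ho | ho
    · exfalso
      obtain ⟨g, z, hz⟩ := ho
      have e : (⟨x, hM hx⟩ : leechLattice) = g⁻¹ • z + g⁻¹ • z := by
        rw [← co0_add, ← zero_add (z + z), ← hz, inv_smul_smul]
      apply hxn ((g⁻¹ • z : leechLattice) : GolayPt → ℤ) (g⁻¹ • z : leechLattice).2
      have := congrArg Subtype.val e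
      rw [two_smul]
      exact this
    · exact ⟨_, mem_of_orb h2 hinv (x := ⟨x, hM hx⟩) hx ho, sqNorm_leechU⟩
    · have hV := mem_of_orb h2 hinv (x := ⟨x, hM hx⟩) hx ho
      refine ⟨Cfsg.Spor.leechV - signAut oct oct_mem • Cfsg.Spor.leechV, ?_, sqNorm_diffV⟩
      exact sub_mem hV (hinv _ _ hV)
    · have h4 := mem_of_orb h2 hinv (x := ⟨x, hM hx⟩) hx ho
      have h5 := hinv xi U4 h4
      rw [xi_U4] at h5
      obtain ⟨σ, hσ, s1, s2, s3, s4⟩ := m24_trans4 (p := none) (q := some 0) (r := some 1)
        (s := some 7) (p' := none) (q' := some 0) (r' := some 1) (s' := some 2)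
        (by decide) (by decide)
      have h6 := hinv (permAut σ hσ) _ h5
      have e : permAut σ hσ • (Q0 - P none none) =
          P none (some 0) + P (some 1) (some 2) - P none none := by
        have e0 : Q0 - P none none = Q0 + -P none none := sub_eq_add_neg _ _
        rw [e0, co0_add, co0_neg]
        unfold Q0
        rw [co0_add, permAut_P, permAut_P, permAut_P, s1, s2, s3, s4, ← sub_eq_add_neg]
      rw [e] at h6
      refine ⟨P (some 7) (some 2) - P (some 2) (some 2), ?_, sqNorm_Pm_of_ne (by decide)⟩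
      have e2 : ((P (some 7) (some 2) - P (some 2) (some 2) : leechLattice) : GolayPt → ℤ) =
          ((Q0 - P none none : leechLattice) : GolayPt → ℤ) -
          ((P none (some 0) + P (some 1) (some 2) - P none none : leechLattice) : GolayPt → ℤ) := by
        decide
      rw [e2]
      exact sub_mem h5 h6
  obtain ⟨y, hyM, hyn⟩ := hmin
  apply le_antisymm hM
  rw [← closure_min_eq, AddSubgroup.closure_le]
  rintro w ⟨hw, hwn⟩
  have ho : Orb y ⟨w, hw⟩ := (orb_leechU_of_norm y hyn).trans (orb_leechU_of_norm ⟨w, hw⟩ hwn).symm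
  exact mem_of_orb h2 hinv hyM ho

end Cfsg.Agent.Helper92
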