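import Cfsg.Agent.Helper92.LeechCensusEven

/-!
# Census of the lattice vectors of squared length 48

The four shapes `(±2^12, 0^12)`, `(±3^3, ±1^21)`, `(±4, ±2^8, 0^15)`, `(±5, ±1^23)` and the total
count `16773120`.
-/

set_option autoImplicit false

namespace Cfsg.Agent.Helper92

open Cfsg Cfsg.Agent.Helper26

theorem abs_odd_of_five {t : ℤ} (h : |t| = 5 ∨ |t| = 1 ∨ |t| = 3) : t % 2 = 1 := by
  rcases h with h | h | h <;> rcases abs_eq (by norm_num) |>.1 h with e | e <;> rw [e] <;> rfl

theorem set48_dod_eq : {x : GolayPt → ℤ | x ∈ leechLattice ∧ sqNorm x = 48 ∧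
    ∀ i, x i = 0 ∨ x i = 2 ∨ x i = -2} = evenDod := by
  ext x
  constructor
  · rintro ⟨hx, hn, hall⟩
    have he : x none % 2 = 0 := by
      rcases hall none with h | h | h <;> rw [h] <;> rfl
    rcases even48_mem hx hn he with h | h
    · exact h
    · exfalso
      obtain ⟨-, -, ⟨i, hi⟩, -⟩ := evenOct_spec h
      rcases hall i with e | e | e <;> rw [e] at hi <;> norm_num at hi
  · intro h
    exact evenDod_spec h

theorem set48_oct_eq : {x : GolayPt → ℤ | x ∈ leechLattice ∧ sqNorm x = 48 ∧
    ∃ i, |x i| = 4} = evenOct := by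
  ext x
  constructor
  · rintro ⟨hx, hn, i, hi⟩
    have he : x none % 2 = 0 := by
      rw [leech_parity hx none i]
      rcases abs_eq (by norm_num) |>.1 hi with e | e <;> rw [e] <;> rfl
    rcases even48_mem hx hn he with h | h
    · exfalso
      obtain ⟨-, -, hall⟩ := evenDod_spec h
      rcases hall i with e | e | e <;> rw [e] at hi <;> norm_num at hi
    · exact h
  · intro h
    obtain ⟨h1, h2, h3, -⟩ := evenOct_spec h
    exact ⟨h1, h2, h3⟩

theorem set48_five_eq : {x : GolayPt → ℤ | x ∈ leechLattice ∧ sqNorm x = 48 ∧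
    ∃ i, |x i| = 5} = oddFive := by
  ext x
  constructor
  · rintro ⟨hx, hn, i, hi⟩
    have ho : x none % 2 = 1 := by
      rw [leech_parity hx none i]
      exact abs_odd_of_five (Or.inl hi)
    rcases odd48_mem hx hn ho with h | h
    · exact h
    · exfalso
      obtain ⟨-, -, -, hall⟩ := oddThree_spec h
      rcases hall i with e | e <;> rw [e] at hi <;> norm_num at hi
  · intro h
    obtain ⟨h1, h2, h3, -⟩ := oddFive_spec h
    exact ⟨h1, h2, h3⟩

theorem set48_three_eq : {x : GolayPt → ℤ | x ∈ leechLattice ∧ sqNorm x = 48 ∧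
    ∃ i j k, i ≠ j ∧ j ≠ k ∧ i ≠ k ∧ |x i| = 3 ∧ |x j| = 3 ∧ |x k| = 3} = oddThree := by
  ext x
  constructor
  · rintro ⟨hx, hn, i, j, k, -, -, -, hi, -, -⟩
    have ho : x none % 2 = 1 := by
      rw [leech_parity hx none i]
      exact abs_odd_of_five (Or.inr (Or.inr hi))
    rcases odd48_mem hx hn ho with h | h
    · exfalso
      obtain ⟨-, -, -, hall⟩ := oddFive_spec h
      rcases hall i with e | e <;> rw [e] at hi <;> norm_num at hi
    · exact h
  · intro h
    obtain ⟨h1, h2, h3, -⟩ := oddThree_spec h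
    exact ⟨h1, h2, h3⟩

/-- the lattice vectors of squared length 48 -/
theorem set48_eq : {x : GolayPt → ℤ | x ∈ leechLattice ∧ sqNorm x = 48} =
    (evenDod ∪ evenOct) ∪ (oddFive ∪ oddThree) := by
  ext x
  constructor
  · rintro ⟨hx, hn⟩
    rcases Int.emod_two_eq_zero_or_one (x none) with he | ho
    · left
      exact even48_mem hx hn he
    · right
      exact odd48_mem hx hn ho
  · rintro ((h | h) | (h | h))
    · exact ⟨(evenDod_spec h).1, (evenDod_spec h).2.1⟩
    · exact ⟨(evenOct_spec h).1, (evenOct_spec h).2.1⟩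
    · exact ⟨(oddFive_spec h).1, (oddFive_spec h).2.1⟩
    · exact ⟨(oddThree_spec h).1, (oddThree_spec h).2.1⟩

/-- **There are `16773120` lattice vectors of squared length 48.** -/
theorem ncard_norm48 :
    {x : GolayPt → ℤ | x ∈ leechLattice ∧ sqNorm x = 48}.ncard = 16773120 := by
  have f1 : evenDod.Finite := Set.finite_of_ncard_ne_zero (by rw [ncard_evenDod]; norm_num)
  have f2 : evenOct.Finite := Set.finite_of_ncard_ne_zero (by rw [ncard_evenOct]; norm_num)
  have f3 : oddFive.Finite := Set.finite_of_ncard_ne_zero (by rw [ncard_oddFive]; norm_num)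
  have f4 : oddThree.Finite := Set.finite_of_ncard_ne_zero (by rw [ncard_oddThree]; norm_num)
  have d1 : Disjoint evenDod evenOct := by
    rw [Set.disjoint_left]
    intro x h1 h2
    obtain ⟨-, -, hall⟩ := evenDod_spec h1
    obtain ⟨-, -, ⟨i, hi⟩, -⟩ := evenOct_spec h2
    rcases hall i with e | e | e <;> rw [e] at hi <;> norm_num at hi
  have d2 : Disjoint oddFive oddThree := by
    rw [Set.disjoint_left]
    intro x h1 h2
    obtain ⟨-, -, ⟨i, hi⟩, -⟩ := oddFive_spec h1
    obtain ⟨-, -, -, hall⟩ := oddThree_spec h2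
    rcases hall i with e | e <;> rw [e] at hi <;> norm_num at hi
  have d3 : Disjoint (evenDod ∪ evenOct) (oddFive ∪ oddThree) := by
    rw [Set.disjoint_left]
    intro x h1 h2
    have he : x none % 2 = 0 := by
      rcases h1 with h | h
      · obtain ⟨-, -, hall⟩ := evenDod_spec h
        rcases hall none with e | e | e <;> rw [e] <;> rfl
      · exact (evenOct_spec h).2.2.2 none
    have ho : x none % 2 = 1 := by
      rcases h2 with h | h
      · exact abs_odd_of_five (by
          rcases (oddFive_spec h).2.2.2 none with e | e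
          · exact Or.inl e
          · exact Or.inr (Or.inl e))
      · exact abs_odd_of_five (by
          rcases (oddThree_spec h).2.2.2 none with e | e
          · exact Or.inr (Or.inr e)
          · exact Or.inr (Or.inl e))
    omega
  rw [set48_eq, Set.ncard_union_eq d3 (f1.union f2) (f3.union f4), Set.ncard_union_eq d1 f1 f2,
    Set.ncard_union_eq d2 f3 f4, ncard_evenDod, ncard_evenOct, ncard_oddFive, ncard_oddThree]

end Cfsg.Agent.Helper92
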