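import Cfsg.Agent.Helper92.LeechStabU

/-!
# Normal 2-subgroups of the monomial group

* `stabCross_of_cong`: an automorphism fixing `(8,0^23)` modulo twice the lattice stabilises the
  standard cross.
* `m24_invol_conj_comm`: an involutory permutation commuting with all its conjugates under the
  Mathieu group is trivial.
* `sign_of_normal_monomial`: a normal subset of the monomial group whose squares and commutators
  are `±1` consists of sign changes.
* `card_C1_le`: there are at most `2^11` code words avoiding `∞`.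
-/

set_option autoImplicit false

open scoped Pointwise

namespace Cfsg.Agent.Helper92

open Cfsg Cfsg.Agent.Helper26

/-! ### Automorphisms fixing `(8,0^23)` modulo twice the lattice -/

theorem cong_U4_of_mem_stdCross {v : leechLattice} (hv : (v : GolayPt → ℤ) ∈ stdCross) :
    Cong v U4 := by
  obtain ⟨i, a, ha, hv⟩ := hv
  rcases ha with ha | ha
  · subst ha
    refine ⟨P i i - P none i, Subtype.ext ?_⟩
    have h1 := single_eight_sub i
    have h2 : ((U4 + (P i i - P none i + (P i i - P none i)) : leechLattice) : GolayPt → ℤ) =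
        (Pi.single none 8 : GolayPt → ℤ) -
          (2 : ℤ) • ((P none i - P i i : leechLattice) : GolayPt → ℤ) := by
      rw [two_smul, ← P_diag_val none]
      show ((P none none : leechLattice) : GolayPt → ℤ) +
        ((((P i i : leechLattice) : GolayPt → ℤ) - ((P none i : leechLattice) : GolayPt → ℤ)) +
         (((P i i : leechLattice) : GolayPt → ℤ) - ((P none i : leechLattice) : GolayPt → ℤ))) =
        ((P none none : leechLattice) : GolayPt → ℤ) -
        ((((P none i : leechLattice) : GolayPt → ℤ) - ((P i i : leechLattice) : GolayPt → ℤ)) +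
         (((P none i : leechLattice) : GolayPt → ℤ) - ((P i i : leechLattice) : GolayPt → ℤ)))
      abel
    rw [h2, ← h1, hv]
    abel
  · subst ha
    refine ⟨-P none i, Subtype.ext ?_⟩
    have h1 := single_eight_add i
    have h2 : ((U4 + (-P none i + -P none i) : leechLattice) : GolayPt → ℤ) =
        (Pi.single none 8 : GolayPt → ℤ) -
          (2 : ℤ) • ((P none i : leechLattice) : GolayPt → ℤ) := by
      rw [two_smul, ← P_diag_val none]
      show ((P none none : leechLattice) : GolayPt → ℤ) +
        (-((P none i : leechLattice) : GolayPt → ℤ) + -((P none i : leechLattice) : GolayPt → ℤ)) =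
        ((P none none : leechLattice) : GolayPt → ℤ) -
        (((P none i : leechLattice) : GolayPt → ℤ) + ((P none i : leechLattice) : GolayPt → ℤ))
      abel
    rw [h2, ← h1, hv]
    abel

/-- an automorphism fixing `(8,0^23)` modulo twice the lattice stabilises the standard cross -/
theorem stabCross_of_cong {γ : Co0} (h : Cong (γ • U4) U4) : StabCross γ := by
  intro v hv
  have h1 : Cong (γ • v) U4 := ((cong_U4_of_mem_stdCross hv).smul γ).trans h
  obtain ⟨w, hw⟩ := h1
  have hn : sqNorm ((γ • v : leechLattice) : GolayPt → ℤ) = 64 := by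
    rw [co0_sqNorm]
    obtain ⟨i, a, ha, hv'⟩ := hv
    rw [hv', sqNorm_single]
    rcases ha with ha | ha <;> rw [ha] <;> norm_num
  have h2 : (Pi.single none 8 : GolayPt → ℤ) - ((γ • v : leechLattice) : GolayPt → ℤ) =
      (2 : ℤ) • ((-w : leechLattice) : GolayPt → ℤ) := by
    rw [hw, two_smul, ← P_diag_val none]
    show ((P none none : leechLattice) : GolayPt → ℤ) -
        (((P none none : leechLattice) : GolayPt → ℤ) +
          ((w : GolayPt → ℤ) + (w : GolayPt → ℤ))) =
        -(w : GolayPt → ℤ) + -(w : GolayPt → ℤ)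
    abel
  exact mem_stdCross_of_cong (γ • v).2 (-w).2 none 8 (Or.inl rfl) hn h2

/-- an automorphism stabilising the standard cross fixes `(8,0^23)` modulo twice the lattice -/
theorem cong_of_stabCross {γ : Co0} (h : StabCross γ) : Cong (γ • U4) U4 :=
  cong_U4_of_mem_stdCross (h U4 (P_diag_mem none))

/-! ### The permutation part of a monomial automorphism -/

/-- `π` is the permutation induced by `γ` on the coordinate frame -/
def PermPart (γ : Co0) (π : GolayPt → GolayPt) : Prop :=
  ∀ k, γ • P k k = P (π k) (π k) ∨ γ • P k k = -P (π k) (π k)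

theorem PermPart.mul {γ γ' : Co0} {π π' : GolayPt → GolayPt} (h : PermPart γ π)
    (h' : PermPart γ' π') : PermPart (γ * γ') (π ∘ π') := by
  intro k
  rw [mul_smul]
  rcases h' k with e | e
  · rw [e]
    exact h (π' k)
  · rw [e, co0_neg]
    rcases h (π' k) with e' | e'
    · right
      rw [e']
      rfl
    · left
      rw [e', neg_neg]
      rfl

theorem PermPart.unique {γ : Co0} {π π' : GolayPt → GolayPt} (h : PermPart γ π)
    (h' : PermPart γ π') : π = π' := by
  funext k
  by_contra hne
  have h0 := P_diag_ne hne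
  rcases h k with e | e <;> rcases h' k with e' | e'
  · exact h0.1 (e.symm.trans e')
  · exact h0.2 (e.symm.trans e')
  · apply h0.2
    have := e.symm.trans e'
    rw [← this, neg_neg]
  · apply h0.1
    have := e.symm.trans e'
    exact neg_injective this

theorem permPart_one : PermPart 1 id := fun _ => Or.inl (one_smul _ _)

theorem permPart_neg : PermPart negAut id := fun _ => Or.inr (negAut_smul _)

theorem permPart_permAut (ρ : Equiv.Perm GolayPt) (hρ : ρ ∈ M24) :
    PermPart (permAut ρ hρ) ρ := fun k => Or.inl (permAut_P ρ hρ k k)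

theorem permPart_permAut_inv (ρ : Equiv.Perm GolayPt) (hρ : ρ ∈ M24) :
    PermPart (permAut ρ hρ)⁻¹ ρ.symm := by
  intro k
  left
  rw [inv_smul_eq_iff, permAut_P, Equiv.apply_symm_apply]

theorem permPart_monomial (c : Finset GolayPt)
    (hc : c ∈ supports (golayCode : Set (GolayPt → ZMod 2)))
    (σ : Equiv.Perm GolayPt) (hσ : σ ∈ M24) : PermPart (signAut c hc * permAut σ hσ) σ := by
  intro k
  rw [mul_smul, permAut_P]
  by_cases hk : σ k ∈ c
  · right
    exact signAut_F_neg c hc _ hk
  · left
    exact signAut_F c hc _ hk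

/-! ### Involutions of the Mathieu group commuting with their conjugates -/

theorem exists_notMem_of_card_lt (s : Finset GolayPt) (h : s.card < 24) : ∃ x, x ∉ s := by
  by_contra hne
  push Not at hne
  have : s = Finset.univ := Finset.eq_univ_iff_forall.2 hne
  rw [this] at h
  revert h
  decide

/-- an involutory permutation commuting with all its conjugates under the Mathieu group is
trivial -/
theorem m24_invol_conj_comm {σ : GolayPt → GolayPt} (hsq : ∀ k, σ (σ k) = k)
    (hcomm : ∀ ρ ∈ M24, ∀ k, σ (ρ (σ (ρ.symm k))) = ρ (σ (ρ.symm (σ k)))) :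
    ∀ k, σ k = k := by
  by_contra hne
  push Not at hne
  obtain ⟨i, hi⟩ := hne
  have hinj : ∀ a b, σ a = σ b → a = b := by
    intro a b hab
    rw [← hsq a, ← hsq b, hab]
  obtain ⟨m, hm⟩ := exists_notMem_of_card_lt {i, σ i} (by
    have := Finset.card_insert_le i ({σ i} : Finset GolayPt)
    rw [Finset.card_singleton] at this
    omega)
  rw [Finset.mem_insert, Finset.mem_singleton] at hm
  push Not at hm
  obtain ⟨hmi, hmj⟩ := hm
  have hij : i ≠ σ i := fun h => hi h.symm
  by_cases hfix : σ m = m
  · obtain ⟨x, hx⟩ := exists_notMem_of_card_lt {i, σ i, m} (by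
      have h1 := Finset.card_insert_le i ({σ i, m} : Finset GolayPt)
      have h2 := Finset.card_insert_le (σ i) ({m} : Finset GolayPt)
      rw [Finset.card_singleton] at h2
      omega)
    simp only [Finset.mem_insert, Finset.mem_singleton] at hx
    push Not at hx
    obtain ⟨hxi, hxj, hxm⟩ := hx
    obtain ⟨ρ, hρ, r1, r2, r3, -⟩ := m24_trans4 (p := i) (q := σ i) (r := m) (s := x)
      (p' := i) (q' := m) (r' := σ i) (s' := x)
      (by simp [hij, Ne.symm hmi, Ne.symm hxi, Ne.symm hmj, Ne.symm hxj, Ne.symm hxm])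
      (by simp [hij, Ne.symm hmi, Ne.symm hxi, hmj, Ne.symm hxj, Ne.symm hxm])
    have h := hcomm ρ hρ i
    have e1 : ρ.symm i = i := by rw [Equiv.symm_apply_eq, r1]
    have e2 : ρ.symm (σ i) = m := by rw [Equiv.symm_apply_eq, r3]
    rw [e1, r2, hfix, e2, hfix, r3] at h
    exact hmj h
  · have hni : σ m ≠ i := by
      intro h
      apply hmj
      rw [← h, hsq]
    have hnj : σ m ≠ σ i := fun h => hmi (hinj _ _ h)
    obtain ⟨l, hl⟩ := exists_notMem_of_card_lt {i, σ i, m, σ m} (by
      have h1 := Finset.card_insert_le i ({σ i, m, σ m} : Finset GolayPt)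
      have h2 := Finset.card_insert_le (σ i) ({m, σ m} : Finset GolayPt)
      have h3 := Finset.card_insert_le m ({σ m} : Finset GolayPt)
      rw [Finset.card_singleton] at h3
      omega)
    simp only [Finset.mem_insert, Finset.mem_singleton] at hl
    push Not at hl
    obtain ⟨hli, hlj, hlm, hln⟩ := hl
    obtain ⟨ρ, hρ, r1, r2, r3, r4⟩ := m24_trans4 (p := i) (q := σ i) (r := m) (s := σ m)
      (p' := i) (q' := m) (r' := σ i) (s' := l)
      (by simp [hij, Ne.symm hmi, Ne.symm hni, Ne.symm hmj, Ne.symm hnj, Ne.symm hfix])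
      (by simp [hij, Ne.symm hmi, Ne.symm hli, hmj, Ne.symm hlj, Ne.symm hlm])
    have h := hcomm ρ hρ i
    have e1 : ρ.symm i = i := by rw [Equiv.symm_apply_eq, r1]
    have e2 : ρ.symm (σ i) = m := by rw [Equiv.symm_apply_eq, r3]
    rw [e1, r2, e2, r4] at h
    exact hln h.symm

/-! ### Normal subsets of the monomial group -/

theorem stabCross_permAut (ρ : Equiv.Perm GolayPt) (hρ : ρ ∈ M24) : StabCross (permAut ρ hρ) := by
  have h := stabCross_monomial ∅ supports_empty ρ hρ
  rwa [signAut_empty, one_mul] at h

/-- **Normal 2-subgroups of the monomial group** with squares and commutators `±1` consist of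
sign changes. -/
theorem sign_of_normal_monomial (R : Co0 → Prop)
    (hstab : ∀ γ, R γ → StabCross γ)
    (hnorm : ∀ σ : Co0, StabCross σ → ∀ γ, R γ → R (σ * γ * σ⁻¹))
    (hsq : ∀ γ, R γ → γ * γ = 1 ∨ γ * γ = negAut)
    (hcomm : ∀ γ γ', R γ → R γ' → γ * γ' = γ' * γ ∨ γ * γ' = negAut * (γ' * γ)) :
    ∀ γ, R γ → ∃ c, ∃ hc : c ∈ supports (golayCode : Set (GolayPt → ZMod 2)),
      γ = signAut c hc := by
  intro γ hγ
  obtain ⟨c, hc, σ, hσ, rfl⟩ := stabCross_eq (hstab γ hγ)
  have hp := permPart_monomial c hc σ hσ
  have hσσ : ∀ k, σ (σ k) = k := by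
    intro k
    rcases hsq _ hγ with h | h
    · have h1 := hp.mul hp
      rw [h] at h1
      exact congrFun (h1.unique permPart_one) k
    · have h1 := hp.mul hp
      rw [h] at h1
      exact congrFun (h1.unique permPart_neg) k
  have hall : ∀ k, σ k = k := by
    apply m24_invol_conj_comm hσσ
    intro ρ hρ k
    have hγ' := hnorm _ (stabCross_permAut ρ hρ) _ hγ
    have hp' : PermPart (permAut ρ hρ * (signAut c hc * permAut σ hσ) * (permAut ρ hρ)⁻¹)
        ((ρ ∘ σ) ∘ ρ.symm) := ((permPart_permAut ρ hρ).mul hp).mul (permPart_permAut_inv ρ hρ)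
    have h1 := hp.mul hp'
    have h2 := hp'.mul hp
    rcases hcomm _ _ hγ hγ' with h | h
    · rw [h] at h1
      exact congrFun (h1.unique h2) k
    · rw [h] at h1
      have h3 := permPart_neg.mul h2
      exact congrFun (h1.unique h3) k
  have hσ1 : σ = 1 := Equiv.ext hall
  subst hσ1
  exact ⟨c, hc, by rw [permAut_one, mul_one]⟩

/-! ### Code words avoiding `∞` -/

/-- the code words avoiding `∞` -/
def C1 (c : Finset GolayPt) : Prop :=
  c ∈ supports (golayCode : Set (GolayPt → ZMod 2)) ∧ none ∉ c

theorem card_filter_codeOf_one : ((Finset.range 4096).filter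
    (fun k => (codeOf k).testBit 23 = false)).card = 2048 := by
  decide +kernel

theorem C1_subset : {c : Finset GolayPt | C1 c} ⊆
    ↑(((Finset.range 4096).filter
      (fun k => (codeOf k).testBit 23 = false)).image
        (fun k => dec (codeOf k))) := by
  rintro c ⟨hc, h1⟩
  rw [← mem_codeF] at hc
  unfold codeF at hc
  rw [Finset.mem_image] at hc
  obtain ⟨k, hk, rfl⟩ := hc
  rw [Finset.mem_coe, Finset.mem_image]
  refine ⟨k, ?_, rfl⟩
  rw [Finset.mem_filter]
  refine ⟨hk, ?_⟩
  rw [mem_dec, idx_none'] at h1
  simpa using h1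

theorem card_C1_le : Nat.card {c : Finset GolayPt // C1 c} ≤ 2048 := by
  have h := Set.ncard_le_ncard C1_subset (Finset.finite_toSet _)
  rw [Set.ncard_coe_finset] at h
  have h2 := Finset.card_image_le (s := (Finset.range 4096).filter
      (fun k => (codeOf k).testBit 23 = false))
      (f := fun k => dec (codeOf k))
  rw [card_filter_codeOf_one] at h2
  have h3 : Nat.card {c : Finset GolayPt // C1 c} = {c : Finset GolayPt | C1 c}.ncard := rfl
  rw [h3]
  exact h.trans h2

/-- multiplying a sign change by `-1` complements the code word -/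
theorem negAut_mul_signAut (c : Finset GolayPt)
    (hc : c ∈ supports (golayCode : Set (GolayPt → ZMod 2))) :
    negAut * signAut c hc = signAut cᶜ (supports_compl hc) := by
  apply co0_ext
  intro x
  apply Subtype.ext
  funext k
  show -(signFun c (x : GolayPt → ℤ) k) = signFun cᶜ (x : GolayPt → ℤ) k
  rw [signFun_apply, signFun_apply]
  by_cases hk : k ∈ c
  · rw [if_pos hk, if_neg (by rw [Finset.mem_compl]; exact not_not.2 hk), neg_neg]
  · rw [if_neg hk, if_pos (by rw [Finset.mem_compl]; exact hk)]

/-- every sign change is, up to `-1`, a sign change on a code word avoiding `∞` -/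
theorem signAut_C1 (c : Finset GolayPt)
    (hc : c ∈ supports (golayCode : Set (GolayPt → ZMod 2))) :
    ∃ c', ∃ hc' : C1 c', signAut c hc = signAut c' hc'.1 ∨
      negAut * signAut c hc = signAut c' hc'.1 := by
  by_cases h : none ∈ c
  · exact ⟨cᶜ, ⟨supports_compl hc, by rw [Finset.mem_compl]; exact not_not.2 h⟩,
      Or.inr (negAut_mul_signAut c hc)⟩
  · exact ⟨c, ⟨hc, h⟩, Or.inl rfl⟩

end Cfsg.Agent.Helper92
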