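import Cfsg.Agent.Helper92.LeechIndex
import Cfsg.Agent.Helper92.LeechCensus48
import Cfsg.Agent.Helper92.LeechCensus32
import Cfsg.Agent.Helper92.LeechNormal

/-!
# Counting the classes of the lattice modulo twice itself

Each of the `2^24` classes contains the zero vector, or exactly two vectors `±v` of squared length
32, or exactly two of squared length 48, or exactly 48 of squared length 64.  Hence the number of
vectors of squared length 64 (`ncard_norm64`) and the order of the automorphism group
(`card_co0`).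
-/

set_option autoImplicit false

namespace Cfsg.Agent.Helper92

open Cfsg

/-- the lattice vectors of squared length `N`, as a set of lattice elements -/
def normSet (N : ℤ) : Set leechLattice := {v | sqNorm (v : GolayPt → ℤ) = N}

theorem ncard_normSet (N : ℤ) :
    (normSet N).ncard = {x : GolayPt → ℤ | x ∈ leechLattice ∧ sqNorm x = N}.ncard := by
  have h : {x : GolayPt → ℤ | x ∈ leechLattice ∧ sqNorm x = N} = Subtype.val '' normSet N := by
    ext x
    constructor
    · rintro ⟨hx, hn⟩
      exact ⟨⟨x, hx⟩, hn, rfl⟩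
    · rintro ⟨v, hv, rfl⟩
      exact ⟨v.2, hv⟩
  rw [h, Set.ncard_image_of_injective _ Subtype.val_injective]

/-- the class of a lattice vector modulo twice the lattice -/
def cls (v : leechLattice) : leechLattice ⧸ dblSub := QuotientAddGroup.mk v

theorem cls_eq_iff (x y : leechLattice) : cls x = cls y ↔ Cong x y := mk_eq_iff x y

instance finite_quot_dblSub : Finite (leechLattice ⧸ dblSub) :=
  Nat.finite_of_card_ne_zero (by rw [card_quot_dblSub]; norm_num)

theorem finite_normSet64 : (normSet 64).Finite := by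
  have : Finite (normSet 64) := by
    let Φ : normSet 64 → (GolayPt → ↥(Finset.Icc (-8 : ℤ) 8)) := fun v k =>
      ⟨((v : leechLattice) : GolayPt → ℤ) k, coord_le_of_sqNorm v.2 k⟩
    apply Finite.of_injective Φ
    intro v w h
    apply Subtype.ext
    apply Subtype.ext
    funext k
    exact congrArg Subtype.val (congrFun h k)
  exact Set.toFinite _

/-- congruent lattice vectors of squared length at most 64 -/
theorem cong_cases {v w : leechLattice} (h : Cong v w)
    (hv : sqNorm (v : GolayPt → ℤ) ≤ 64) (hw : sqNorm (w : GolayPt → ℤ) ≤ 64) :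
    w = v ∨ w = -v ∨ (sqNorm (v : GolayPt → ℤ) = 64 ∧ sqNorm (w : GolayPt → ℤ) = 64) := by
  obtain ⟨z, hz⟩ := h
  have hd : (v : GolayPt → ℤ) - (w : GolayPt → ℤ) = (2 : ℤ) • (z : GolayPt → ℤ) := by
    rw [hz, two_smul]
    show (w : GolayPt → ℤ) + ((z : GolayPt → ℤ) + (z : GolayPt → ℤ)) - (w : GolayPt → ℤ) = _
    abel
  rcases leech_congr_two w.2 z.2 hd hv hw with h1 | h1 | ⟨h1, h2, -⟩
  · left
    exact Subtype.ext h1
  · right; left
    exact Subtype.ext h1
  · right; right
    exact ⟨h1, h2⟩

theorem ne_neg_of_norm {a : leechLattice} {N : ℤ} (hN : N ≠ 0)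
    (ha : sqNorm (a : GolayPt → ℤ) = N) : a ≠ -a := by
  intro h
  apply hN
  rw [← ha]
  have h0 : ∀ i, (a : GolayPt → ℤ) i = 0 := by
    intro i
    have h1 : (a : GolayPt → ℤ) i = ((-a : leechLattice) : GolayPt → ℤ) i := by rw [← h]
    have h2 : ((-a : leechLattice) : GolayPt → ℤ) i = -(a : GolayPt → ℤ) i := rfl
    omega
  unfold sqNorm
  apply Finset.sum_eq_zero
  intro i _
  rw [h0 i]
  norm_num

theorem sqNorm_neg_coe (a : leechLattice) :
    sqNorm ((-a : leechLattice) : GolayPt → ℤ) = sqNorm (a : GolayPt → ℤ) :=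
  sqNorm_neg _

/-- the classes of vectors of squared length 32 or 48 contain exactly two such vectors -/
theorem fiber_two {N : ℤ} (hN0 : N ≠ 0) (hN : N < 64) (a : leechLattice) (ha : a ∈ normSet N) :
    {a' | a' ∈ normSet N ∧ cls a' = cls a}.ncard = 2 := by
  have he : {a' | a' ∈ normSet N ∧ cls a' = cls a} = {a, -a} := by
    ext a'
    constructor
    · rintro ⟨hn', hc⟩
      have ha' : sqNorm (a' : GolayPt → ℤ) = N := hn'
      have ha0 : sqNorm (a : GolayPt → ℤ) = N := ha
      rcases cong_cases ((cls_eq_iff a' a).1 hc) (by rw [ha']; exact hN.le)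
        (by rw [ha0]; exact hN.le) with h | h | ⟨h, -⟩
      · left
        exact h.symm
      · right
        show a' = -a
        rw [h, neg_neg]
      · rw [ha'] at h
        omega
    · rintro (h | h)
      · rw [Set.mem_singleton_iff.1 h] 
        exact ⟨ha, rfl⟩
      · have h' : a' = -a := h
        rw [h']
        refine ⟨?_, (cls_eq_iff _ _).2 (Cong.neg_self a)⟩
        show sqNorm ((-a : leechLattice) : GolayPt → ℤ) = N
        rw [sqNorm_neg_coe]
        exact ha
  rw [he, Set.ncard_pair (ne_neg_of_norm hN0 ha)]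

/-- the classes of vectors of squared length 64 contain exactly 48 such vectors -/
theorem fiber_48 (a : leechLattice) (ha : a ∈ normSet 64) :
    {a' | a' ∈ normSet 64 ∧ cls a' = cls a}.ncard = 48 := by
  have ha0 : sqNorm (a : GolayPt → ℤ) = 64 := ha
  have he : cross (a : GolayPt → ℤ) = Subtype.val '' {a' | a' ∈ normSet 64 ∧ cls a' = cls a} := by
    ext y
    rw [mem_cross_iff]
    constructor
    · rintro ⟨hy, hn, hc⟩
      refine ⟨⟨y, hy⟩, ⟨?_, (cls_eq_iff _ _).2 hc.symm⟩, rfl⟩
      show sqNorm y = 64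
      rw [hn, ha0]
    · rintro ⟨a', ⟨hn, hc⟩, rfl⟩
      have hn' : sqNorm (a' : GolayPt → ℤ) = 64 := hn
      exact ⟨a'.2, by rw [hn', ha0], ((cls_eq_iff _ _).1 hc).symm⟩
  have h48 := ncard_cross (a : GolayPt → ℤ) a.2 ha0
  rw [he, Set.ncard_image_of_injective _ Subtype.val_injective] at h48
  exact h48

/-- every class contains a vector of squared length `0`, `32`, `48` or `64` -/
theorem cls_cover (q : leechLattice ⧸ dblSub) :
    q ∈ ({cls 0} : Set (leechLattice ⧸ dblSub)) ∪ cls '' normSet 32 ∪ cls '' normSet 48 ∪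
      cls '' normSet 64 := by
  obtain ⟨x, rfl⟩ := QuotientAddGroup.mk_surjective q
  have key : ∀ u : leechLattice, Orb x u → ∃ w : leechLattice,
      sqNorm (w : GolayPt → ℤ) = sqNorm (u : GolayPt → ℤ) ∧ cls x = cls w := by
    rintro u ⟨g, hg⟩
    refine ⟨g⁻¹ • u, co0_sqNorm _ _, (cls_eq_iff _ _).2 ?_⟩
    have := hg.smul g⁻¹
    rwa [inv_smul_smul] at this
  rcases orb_cases x with h | h | h | h
  · obtain ⟨w, hw, hc⟩ := key _ h
    left; left; left
    have hw0 : w = 0 := by
      by_contra hne
      have h1 : (w : GolayPt → ℤ) ≠ 0 := fun h0 => hne (Subtype.ext h0)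
      have h2 := leech_min_norm w.2 h1
      rw [hw, sqNorm_zero'] at h2
      norm_num at h2
    rw [hw0] at hc
    exact hc
  · obtain ⟨w, hw, hc⟩ := key _ h
    left; left; right
    exact ⟨w, by rw [← sqNorm_leechU]; exact hw, hc.symm⟩
  · obtain ⟨w, hw, hc⟩ := key _ h
    left; right
    exact ⟨w, by rw [← sqNorm_leechV]; exact hw, hc.symm⟩
  · obtain ⟨w, hw, hc⟩ := key _ h
    right
    exact ⟨w, by rw [← sqNorm_U4]; exact hw, hc.symm⟩

/-- classes of vectors of different squared lengths (at most 64) are different -/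
theorem cls_ne {N N' : ℤ} (hN : N ≤ 64) (hN' : N' ≤ 64) (hne : N ≠ N') {a b : leechLattice}
    (ha : a ∈ normSet N) (hb : b ∈ normSet N') : cls a ≠ cls b := by
  intro h
  have ha0 : sqNorm (a : GolayPt → ℤ) = N := ha
  have hb0 : sqNorm (b : GolayPt → ℤ) = N' := hb
  rcases cong_cases ((cls_eq_iff a b).1 h) (by rw [ha0]; exact hN) (by rw [hb0]; exact hN')
    with h1 | h1 | ⟨h1, h2⟩
  · rw [h1, ha0] at hb0
    exact hne hb0
  · rw [h1, sqNorm_neg_coe, ha0] at hb0
    exact hne hb0
  · rw [ha0] at h1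
    rw [hb0] at h2
    exact hne (h1.trans h2.symm)

theorem zero_mem_normSet : (0 : leechLattice) ∈ normSet 0 := sqNorm_zero'

/-- **The class count**: `2^24 = 1 + n₂/2 + n₃/2 + n₄/48`. -/
theorem class_count : ∃ a b c : ℕ, (normSet 32).ncard = a * 2 ∧ (normSet 48).ncard = b * 2 ∧
    (normSet 64).ncard = c * 48 ∧ 2 ^ 24 = 1 + a + b + c ∧ c = (cls '' normSet 64).ncard := by
  have f32 : (normSet 32).Finite := Set.finite_of_ncard_ne_zero (by
    rw [ncard_normSet, ncard_norm32]; norm_num)
  have f48 : (normSet 48).Finite := Set.finite_of_ncard_ne_zero (by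
    rw [ncard_normSet, ncard_norm48]; norm_num)
  refine ⟨(cls '' normSet 32).ncard, (cls '' normSet 48).ncard, (cls '' normSet 64).ncard,
    ncard_eq_mul_of_fibers _ f32 cls 2 (fiber_two (by norm_num) (by norm_num)),
    ncard_eq_mul_of_fibers _ f48 cls 2 (fiber_two (by norm_num) (by norm_num)),
    ncard_eq_mul_of_fibers _ finite_normSet64 cls 48 fiber_48, ?_, rfl⟩
  have huniv : (Set.univ : Set (leechLattice ⧸ dblSub)) =
      ({cls 0} : Set (leechLattice ⧸ dblSub)) ∪ cls '' normSet 32 ∪ cls '' normSet 48 ∪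
        cls '' normSet 64 :=
    (Set.eq_univ_of_forall cls_cover).symm
  have d1 : Disjoint ({cls 0} : Set (leechLattice ⧸ dblSub)) (cls '' normSet 32) := by
    rw [Set.disjoint_left]
    rintro q hq ⟨b, hb, rfl⟩
    exact cls_ne (by norm_num) (by norm_num) (by norm_num) zero_mem_normSet hb
      (Set.mem_singleton_iff.1 hq).symm
  have d2 : Disjoint (({cls 0} : Set (leechLattice ⧸ dblSub)) ∪ cls '' normSet 32)
      (cls '' normSet 48) := by
    rw [Set.disjoint_left]
    rintro q (hq | ⟨a, ha, rfl⟩) ⟨b, hb, hab⟩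
    · exact cls_ne (by norm_num) (by norm_num) (by norm_num) zero_mem_normSet hb
        ((Set.mem_singleton_iff.1 hq).symm.trans hab.symm)
    · exact cls_ne (by norm_num) (by norm_num) (by norm_num) ha hb hab.symm
  have d3 : Disjoint (({cls 0} : Set (leechLattice ⧸ dblSub)) ∪ cls '' normSet 32 ∪
      cls '' normSet 48) (cls '' normSet 64) := by
    rw [Set.disjoint_left]
    rintro q ((hq | ⟨a, ha, rfl⟩) | ⟨a, ha, rfl⟩) ⟨b, hb, hab⟩
    · exact cls_ne (by norm_num) (by norm_num) (by norm_num) zero_mem_normSet hb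
        ((Set.mem_singleton_iff.1 hq).symm.trans hab.symm)
    · exact cls_ne (by norm_num) (by norm_num) (by norm_num) ha hb hab.symm
    · exact cls_ne (by norm_num) (by norm_num) (by norm_num) ha hb hab.symm
  have hcard := congrArg Set.ncard huniv
  rw [Set.ncard_univ, card_quot_dblSub, Set.ncard_union_eq d3 (Set.toFinite _) (Set.toFinite _),
    Set.ncard_union_eq d2 (Set.toFinite _) (Set.toFinite _),
    Set.ncard_union_eq d1 (Set.toFinite _) (Set.toFinite _), Set.ncard_singleton] at hcard
  exact hcard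

/-- **There are `398034000` lattice vectors of squared length 64**, in `8292375` classes. -/
theorem ncard_norm64_aux : (normSet 64).ncard = 398034000 ∧ (cls '' normSet 64).ncard = 8292375 := by
  obtain ⟨a, b, c, h2, h3, h4, hsum, hc⟩ := class_count
  rw [ncard_normSet, ncard_norm32] at h2
  rw [ncard_normSet, ncard_norm48] at h3
  rw [← hc, h4]
  norm_num at hsum
  omega

theorem ncard_norm64 :
    {x : GolayPt → ℤ | x ∈ leechLattice ∧ sqNorm x = 64}.ncard = 398034000 := by
  rw [← ncard_normSet]
  exact ncard_norm64_aux.1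

/-- **The order of the automorphism group of the lattice.** -/
theorem card_co0 : Nat.card Co0 = 8315553613086720000 := by
  have hfib : ∀ γ ∈ (Set.univ : Set Co0),
      {γ' | γ' ∈ (Set.univ : Set Co0) ∧ cls (γ' • U4) = cls (γ • U4)}.ncard =
        4096 * 244823040 := by
    intro γ _
    have he : {γ' | γ' ∈ (Set.univ : Set Co0) ∧ cls (γ' • U4) = cls (γ • U4)} =
        (fun n => γ * n) '' {n : Co0 | StabCross n} := by
      ext γ'
      constructor
      · rintro ⟨-, hc⟩
        refine ⟨γ⁻¹ * γ', ?_, by group⟩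
        apply stabCross_of_cong
        have := ((cls_eq_iff _ _).1 hc).smul γ⁻¹
        rwa [inv_smul_smul, ← mul_smul] at this
      · rintro ⟨n, hn, rfl⟩
        refine ⟨Set.mem_univ _, (cls_eq_iff _ _).2 ?_⟩
        have := (cong_of_stabCross hn).smul γ
        rwa [← mul_smul] at this
    rw [he, Set.ncard_image_of_injective _ (mul_right_injective γ)]
    exact card_stabCross
  have h1 := ncard_eq_mul_of_fibers (Set.univ : Set Co0) (Set.toFinite _)
    (fun γ => cls (γ • U4)) _ hfib
  have himg : (fun γ : Co0 => cls (γ • U4)) '' Set.univ = cls '' normSet 64 := by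
    ext q
    constructor
    · rintro ⟨γ, -, rfl⟩
      exact ⟨γ • U4, by
        show sqNorm ((γ • U4 : leechLattice) : GolayPt → ℤ) = 64
        rw [co0_sqNorm, sqNorm_U4], rfl⟩
    · rintro ⟨v, hv, rfl⟩
      obtain ⟨g, hg⟩ := orb_U4_of_norm v hv
      refine ⟨g⁻¹, Set.mem_univ _, ((cls_eq_iff _ _).2 ?_).symm⟩
      have := hg.smul g⁻¹
      rwa [inv_smul_smul] at this
  rw [himg, ncard_norm64_aux.2, Set.ncard_univ] at h1
  rw [h1]

end Cfsg.Agent.Helper92
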