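import Cfsg.Agent.Helper92.LeechMono
import Cfsg.Agent.Helper92.LeechClasses
import Cfsg.Agent.Helper7.OutM24

/-!
# Normal subgroups of the automorphism group of the lattice

Every normal subgroup of `Co0` is contained in the centre `{±1}` or is the whole group.
-/

set_option autoImplicit false

namespace Cfsg.Agent.Helper92

open Cfsg Cfsg.Agent.Helper26
open scoped Pointwise

/-! ### Normal subgroups containing the monomial group -/

theorem xi_Q0 : xi • Q0 = Q0 := by
  apply Subtype.ext
  apply xi_eq_of
  show ∀ p, xi2 (e4 none + e4 (some 0) + (e4 (some 1) + e4 (some 7))) p =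
    2 * (e4 none + e4 (some 0) + (e4 (some 1) + e4 (some 7))) p
  decide

/-- **A normal subgroup containing the monomial group is the whole group.** -/
theorem normal_eq_top_of_stab (L : Subgroup Co0) [hL : L.Normal]
    (h : ∀ g, StabCross g → g ∈ L) : L = ⊤ := by
  have hxi : xi ∈ L := by
    obtain ⟨g, hg⟩ := orb_Q0
    have h2 : Cong (g⁻¹ • U4) Q0 := by
      have := (hg.symm).smul g⁻¹
      rwa [inv_smul_smul] at this
    have h3 := h2.smul xi
    rw [xi_Q0] at h3
    have h4 := (h3.smul g).trans hg
    rw [← mul_smul, ← mul_smul] at h4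
    have h5 := h _ (stabCross_of_cong h4)
    have h6 := hL.conj_mem _ h5 g⁻¹
    have e : g⁻¹ * (g * xi * g⁻¹) * g⁻¹⁻¹ = xi := by group
    rwa [e] at h6
  rw [eq_top_iff, ← monoXi_eq_top]
  apply (Subgroup.closure_le L).2
  rintro x (hx | hx)
  · exact h x hx
  · rw [Set.mem_singleton_iff] at hx
    rw [hx]
    exact hxi

/-! ### A monomial conjugate of a sign change that is not a sign change -/

/-- a conjugate of a sign change -/
def gam : Co0 :=
  xi * signAut (Cfsg.Agent.Helper7.setOf 0xc75001) (setOf_basis_mem (by decide)) * xi⁻¹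

theorem xi_Q1 : xi • (Q0 - P none none) = U4 := by
  apply Subtype.ext
  apply xi_eq_of
  show ∀ p, xi2 ((e4 none + e4 (some 0) + (e4 (some 1) + e4 (some 7))) - (e4 none + e4 none)) p =
    2 * (e4 none + e4 none) p
  decide

theorem gam_U4 : gam • U4 = P (some 0) (some 0) := by
  have e1 : xi⁻¹ • U4 = Q0 - P none none := by
    rw [inv_smul_eq_iff, xi_Q1]
  have e2 : signAut (Cfsg.Agent.Helper7.setOf 0xc75001) (setOf_basis_mem (by decide)) •
      (Q0 - P none none) = Q0 - P (some 0) (some 0) := by
    apply Subtype.ext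
    funext k
    show signFun (Cfsg.Agent.Helper7.setOf 0xc75001)
      ((e4 none + e4 (some 0) + (e4 (some 1) + e4 (some 7))) - (e4 none + e4 none)) k =
      ((e4 none + e4 (some 0) + (e4 (some 1) + e4 (some 7))) - (e4 (some 0) + e4 (some 0))) k
    simp only [signFun_apply, Pi.add_apply, Pi.sub_apply, e4_apply, Cfsg.Agent.Helper7.mem_setOf]
    revert k
    decide
  have e3 : xi • (Q0 - P (some 0) (some 0)) = P (some 0) (some 0) := by
    apply Subtype.ext
    apply xi_eq_of
    show ∀ p, xi2 ((e4 none + e4 (some 0) + (e4 (some 1) + e4 (some 7))) -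
      (e4 (some 0) + e4 (some 0))) p = 2 * (e4 (some 0) + e4 (some 0)) p
    decide
  unfold gam
  rw [mul_smul, mul_smul, e1, e2, e3]

theorem stabCross_gam : StabCross gam := by
  apply stabCross_of_cong
  rw [gam_U4]
  exact cong_U4_of_mem_stdCross (P_diag_mem (some 0))

theorem not_sign_gam : ¬ IsSign gam := by
  rintro ⟨c, hc, h⟩
  have h1 := gam_U4
  rw [h] at h1
  have h0 := P_diag_ne (a := (none : GolayPt)) (b := some 0) (by decide)
  by_cases hn : none ∈ c
  · have h2 : signAut c hc • U4 = -P none none := signAut_F_neg c hc none hn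
    rw [h2] at h1
    apply h0.2
    rw [← h1, neg_neg]
  · have h2 : signAut c hc • U4 = P none none := signAut_F c hc none hn
    rw [h2] at h1
    exact h0.1 h1

/-! ### An element of order 23 -/

/-- the coordinate permutation `i ↦ i + 1` -/
def t23 : Co0 := permAut Cfsg.Agent.Helper7.gA Cfsg.Agent.Helper7.gA_mem

/-- coordinate permutations as a homomorphism -/
def permHom : M24 →* Co0 where
  toFun π := permAut π.1 π.2
  map_one' := permAut_one
  map_mul' a b := permAut_mul a.1 b.1 a.2 b.2

theorem t23_pow : t23 ^ 23 = 1 := by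
  have h : t23 = permHom ⟨Cfsg.Agent.Helper7.gA, Cfsg.Agent.Helper7.gA_mem⟩ := rfl
  have h2 : (⟨Cfsg.Agent.Helper7.gA, Cfsg.Agent.Helper7.gA_mem⟩ : M24) ^ 23 = 1 := by
    apply Subtype.ext
    show Cfsg.Agent.Helper7.gA ^ 23 = 1
    rw [← Cfsg.Agent.Helper7.orderOf_gA]
    exact pow_orderOf_eq_one _
  rw [h, ← map_pow, h2, map_one]

theorem stabCross_t23 : StabCross t23 := stabCross_permAut _ _

theorem gA_ne_one : Cfsg.Agent.Helper7.gA ≠ 1 := by
  intro h
  have := Cfsg.Agent.Helper7.orderOf_gA
  rw [h, orderOf_one] at this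
  omega

theorem not_sign_t23 : ¬ IsSign t23 := by
  rintro ⟨c, hc, h⟩
  have h1 : PermPart t23 Cfsg.Agent.Helper7.gA := permPart_permAut _ _
  have h2 := permPart_monomial c hc 1 (one_mem _)
  rw [permAut_one, mul_one, ← h] at h2
  have h3 := h1.unique h2
  exact gA_ne_one (Equiv.ext (congrFun h3))

theorem orderOf_t23 : orderOf t23 = 23 := by
  have hp : Nat.Prime 23 := by norm_num
  have hd := orderOf_dvd_of_pow_eq_one t23_pow
  rcases (Nat.dvd_prime hp).1 hd with h | h
  · exfalso
    rw [orderOf_eq_one_iff] at h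
    apply not_sign_t23
    rw [h]
    exact ⟨∅, supports_empty, signAut_empty.symm⟩
  · exact h

/-! ### Group-theoretic lemmas -/

/-- an endomorphism of a finite `p`-group whose 23rd iterate is the identity is the identity,
when distinct powers of `p` up to the group order are incongruent modulo 23 -/
theorem fix_of_iterate23 {Q : Type*} [Group Q] [Finite Q] (f : Q →* Q) (hf : ∀ x, f^[23] x = x)
    (p i : ℕ) (hp : p.Prime) (hcard : Nat.card Q = p ^ i)
    (harith : ∀ j ≤ i, p ^ i ≡ p ^ j [MOD 23] → i = j) (x : Q) : f x = x := by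
  classical
  have := Fintype.ofFinite Q
  have : Fact (Nat.Prime 23) := ⟨by norm_num⟩
  let F : Subgroup Q :=
    { carrier := {x | f x = x}
      one_mem' := map_one f
      mul_mem' := by
        intro a b ha hb
        have ha' : f a = a := ha
        have hb' : f b = b := hb
        show f (a * b) = a * b
        rw [map_mul, ha', hb']
      inv_mem' := by
        intro a ha
        have ha' : f a = a := ha
        show f a⁻¹ = a⁻¹
        rw [map_inv, ha'] }
  let g : Function.End Q := fun y => f y
  have h1 : g ^ 23 ^ 1 = (1 : Function.End Q) := by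
    rw [pow_one]
    have key := hom_coe_pow (fun g : Function.End Q ↦ g) rfl (fun g h ↦ rfl) g 23
    funext y
    exact (congrFun key y).trans (hf y)
  have h2 := Equiv.Perm.card_fixedPoints_modEq (p := 23) (n := 1) h1
  have h3 : Fintype.card (Function.fixedPoints g) = Nat.card F := by
    rw [Nat.card_eq_fintype_card]
    exact Fintype.card_congr (Equiv.refl _)
  have h4 : Nat.card F ∣ p ^ i := hcard ▸ Subgroup.card_subgroup_dvd_card F
  obtain ⟨j, hj, hFj⟩ := (Nat.dvd_prime_pow hp).1 h4
  have h5 : Fintype.card Q = p ^ i := by rw [← Nat.card_eq_fintype_card]; exact hcard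
  rw [h3, hFj, h5] at h2
  have h6 := harith j hj h2
  have h7 : F = ⊤ := by
    apply Subgroup.eq_top_of_card_eq
    rw [hFj, hcard, h6]
  have : x ∈ F := by rw [h7]; exact Subgroup.mem_top x
  exact this

/-- distinct powers of an odd prime other than 23 dividing the order of `Co0` are incongruent
modulo 23 -/
theorem arith23 (p i j : ℕ) (hp : p.Prime) (hp2 : p ≠ 2) (hp23 : p ≠ 23) (hji : j ≤ i)
    (hdvd : p ^ i ∣ 8315553613086720000) (hmod : p ^ i ≡ p ^ j [MOD 23]) : i = j := by
  by_cases hi : i = 0
  · omega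
  have h1 : p ∣ 8315553613086720000 := (dvd_pow_self p hi).trans hdvd
  have e : (8315553613086720000 : ℕ) = 2 ^ 22 * 3 ^ 9 * 5 ^ 4 * 7 ^ 2 * 11 * 13 * 23 := by norm_num
  rw [e] at h1
  have key : ∀ q : ℕ, q.Prime → p ∣ q → p = q := fun q hq h =>
    (Nat.prime_dvd_prime_iff_eq hp hq).1 h
  have hcases : p = 3 ∨ p = 5 ∨ p = 7 ∨ p = 11 ∨ p = 13 := by
    rcases (Nat.Prime.dvd_mul hp).1 h1 with h | h
    · rcases (Nat.Prime.dvd_mul hp).1 h with h | h
      · rcases (Nat.Prime.dvd_mul hp).1 h with h | h
        · rcases (Nat.Prime.dvd_mul hp).1 h with h | h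
          · rcases (Nat.Prime.dvd_mul hp).1 h with h | h
            · rcases (Nat.Prime.dvd_mul hp).1 h with h | h
              · exact absurd (key 2 (by norm_num) (hp.dvd_of_dvd_pow h)) hp2
              · exact Or.inl (key 3 (by norm_num) (hp.dvd_of_dvd_pow h))
            · exact Or.inr (Or.inl (key 5 (by norm_num) (hp.dvd_of_dvd_pow h)))
          · exact Or.inr (Or.inr (Or.inl (key 7 (by norm_num) (hp.dvd_of_dvd_pow h))))
        · exact Or.inr (Or.inr (Or.inr (Or.inl (key 11 (by norm_num) h))))
      · exact Or.inr (Or.inr (Or.inr (Or.inr (key 13 (by norm_num) h))))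
    · exact absurd (key 23 (by norm_num) h) hp23
  have bound : ∀ (q k : ℕ), ¬ q ^ k ∣ 8315553613086720000 → p = q → i < k := by
    intro q k hk hpq
    by_contra hlt
    apply hk
    rw [← hpq]
    exact (pow_dvd_pow p (by omega)).trans hdvd
  rcases hcases with h | h | h | h | h
  · have hb := bound 3 10 (by decide) h
    subst h
    interval_cases i <;> interval_cases j <;> first | rfl | (exfalso; revert hmod; decide)
  · have hb := bound 5 5 (by decide) h
    subst h
    interval_cases i <;> interval_cases j <;> first | rfl | (exfalso; revert hmod; decide)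
  · have hb := bound 7 3 (by decide) h
    subst h
    interval_cases i <;> interval_cases j <;> first | rfl | (exfalso; revert hmod; decide)
  · have hb := bound 11 2 (by decide) h
    subst h
    interval_cases i <;> interval_cases j <;> first | rfl | (exfalso; revert hmod; decide)
  · have hb := bound 13 2 (by decide) h
    subst h
    interval_cases i <;> interval_cases j <;> first | rfl | (exfalso; revert hmod; decide)

/-! ### The monomial group as a subgroup -/

theorem stabCross_iff_cong (γ : Co0) : StabCross γ ↔ Cong (γ • U4) U4 :=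
  ⟨cong_of_stabCross, stabCross_of_cong⟩

/-- the stabiliser of the standard cross -/
def monoSub : Subgroup Co0 where
  carrier := {g | StabCross g}
  one_mem' := fun v hv => by rwa [one_smul]
  mul_mem' := fun {a b} ha hb v hv => by rw [mul_smul]; exact ha _ (hb v hv)
  inv_mem' := by
    intro g hg
    rw [Set.mem_ofPred_eq, stabCross_iff_cong] at *
    have := (hg.symm).smul g⁻¹
    rwa [inv_smul_smul] at this

theorem mem_monoSub (g : Co0) : g ∈ monoSub ↔ StabCross g := Iff.rfl

theorem card_monoSub : Nat.card monoSub = 4096 * 244823040 := card_stabCross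

theorem index_monoSub : monoSub.index = 8292375 := by
  have h := Subgroup.card_mul_index monoSub
  rw [card_monoSub, card_co0] at h
  omega

/-- every element of 2-power order is conjugate into the monomial group -/
theorem two_elt_conj_stab (x : Co0) (k : ℕ) (hx : x ^ 2 ^ k = 1) :
    ∃ g : Co0, StabCross (g⁻¹ * x * g) := by
  have : Fact (Nat.Prime 2) := ⟨by norm_num⟩
  have hP : IsPGroup 2 (Subgroup.zpowers x) := by
    rintro ⟨y, hy⟩
    obtain ⟨m, rfl⟩ := Subgroup.mem_zpowers_iff.1 hy
    refine ⟨k, Subtype.ext ?_⟩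
    show (x ^ m) ^ 2 ^ k = 1
    rw [← zpow_natCast, ← zpow_mul, mul_comm, zpow_mul, zpow_natCast, hx, one_zpow]
  have hnd : ¬ 2 ∣ Nat.card (Co0 ⧸ monoSub) := by
    rw [← Subgroup.index_eq_card, index_monoSub]
    norm_num
  obtain ⟨q, hq⟩ := hP.nonempty_fixed_point_of_prime_not_dvd_card (Co0 ⧸ monoSub) hnd
  induction q using QuotientGroup.induction_on with
  | H g =>
    refine ⟨g, ?_⟩
    have h1 := hq ⟨x, Subgroup.mem_zpowers x⟩
    have h2 : ((x * g : Co0) : Co0 ⧸ monoSub) = (g : Co0 ⧸ monoSub) := h1
    rw [QuotientGroup.eq] at h2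
    have h3 := monoSub.inv_mem h2
    have e : ((x * g)⁻¹ * g)⁻¹ = g⁻¹ * x * g := by group
    rw [e] at h3
    exact h3

/-! ### The main theorem -/

/-- **Normal subgroups of `Co0`**: a normal subgroup is central or the whole group. -/
theorem normal_le_center_or_eq_top (K : Subgroup Co0) [hK : K.Normal] :
    K ≤ Subgroup.center Co0 ∨ K = ⊤ := by
  have hnorm : ∀ σ : Co0, StabCross σ → ∀ γ ∈ K, σ * γ * σ⁻¹ ∈ K :=
    fun σ _ γ hγ => hK.conj_mem γ hγ σ
  by_cases hA : ∃ γ ∈ K, StabCross γ ∧ ¬ IsSign γ
  · obtain ⟨γ, hγ, hs, hns⟩ := hA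
    exact Or.inr (normal_eq_top_of_stab K (stab_mem_of_not_sign K hnorm γ hγ hs hns))
  have hA' : ∀ γ ∈ K, StabCross γ → IsSign γ := by
    intro γ hγ hs
    by_contra hns
    exact hA ⟨γ, hγ, hs, hns⟩
  left
  -- monomial elements of `K` are `±1`
  have hB : ∀ γ ∈ K, StabCross γ → γ = 1 ∨ γ = negAut := by
    intro γ hγ hs
    obtain ⟨c, hc, rfl⟩ := hA' γ hγ hs
    by_cases hc0 : c = ∅
    · left; rw [signAut_congr hc0 _ supports_empty, signAut_empty]
    by_cases hc1 : c = Finset.univ
    · right; rw [signAut_congr hc1 _ supports_univ, signAut_univ]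
    exfalso
    have hall := sign_mem_of_sign K hnorm c hc hγ hc0 hc1
    have hg : gam ∈ K := hK.conj_mem _ (hall _ _) xi
    exact not_sign_gam (hA' gam hg stabCross_gam)
  -- elements of 2-power order
  have hD1 : ∀ x ∈ K, ∀ k : ℕ, x ^ 2 ^ k = 1 → x = 1 ∨ x = negAut := by
    intro x hx k hk
    obtain ⟨g, hg⟩ := two_elt_conj_stab x k hk
    have h1 : g⁻¹ * x * g ∈ K := by
      have := hK.conj_mem x hx g⁻¹
      rwa [inv_inv] at this
    have e : x = g * (g⁻¹ * x * g) * g⁻¹ := by group
    rcases hB _ h1 hg with h | h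
    · left
      rw [e, h]
      group
    · right
      rw [e, h, ← negAut_comm, mul_assoc, mul_inv_cancel, mul_one]
  -- the order of `K` is prime to 23
  have hD2 : ¬ 23 ∣ Nat.card K := by
    intro h23
    have h1 := Subgroup.card_mul_index K
    rw [card_co0] at h1
    have h2 : Nat.Coprime K.index 23 := by
      rw [Nat.coprime_comm, Nat.Prime.coprime_iff_not_dvd (by norm_num)]
      intro h3
      have : 23 * 23 ∣ Nat.card K * K.index := Nat.mul_dvd_mul h23 h3
      rw [h1] at this
      revert this
      decide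
    have h4 : t23 ^ K.index ∈ K := Subgroup.pow_index_mem K t23
    rw [← orderOf_t23] at h2
    obtain ⟨m, hm⟩ := exists_pow_eq_self_of_coprime h2
    have h5 : t23 ∈ K := by rw [← hm]; exact K.pow_mem h4 m
    exact not_sign_t23 (hA' t23 h5 stabCross_t23)
  -- the element of order 23 centralises `K`
  have hD3 : ∀ x ∈ K, t23 * x = x * t23 := by
    classical
    let φ : MulAut K := MulAut.conjNormal t23
    have hφ : ∀ x : K, ((φ x : K) : Co0) = t23 * x * t23⁻¹ := fun x => rfl
    have hφ23 : φ ^ 23 = 1 := by
      show (MulAut.conjNormal t23 : MulAut K) ^ 23 = 1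
      rw [← map_pow, t23_pow, map_one]
    let H : Subgroup K := (Subgroup.centralizer {t23}).subgroupOf K
    have hH : ∀ x : K, x ∈ H ↔ t23 * (x : Co0) = x * t23 := by
      intro x
      show (x : Co0) ∈ Subgroup.centralizer {t23} ↔ _
      rw [Subgroup.mem_centralizer_iff]
      simp
    suffices hs : H = ⊤ by
      intro x hx
      have : (⟨x, hx⟩ : K) ∈ H := by rw [hs]; exact Subgroup.mem_top _
      exact (hH _).1 this
    apply Subgroup.eq_top_of_card_eq
    apply Nat.dvd_antisymm (Subgroup.card_subgroup_dvd_card H)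
    have hK0 : Nat.card K ≠ 0 := Nat.card_pos.ne'
    have hH0 : Nat.card H ≠ 0 := Nat.card_pos.ne'
    rw [← Nat.factorization_le_iff_dvd hK0 hH0]
    intro p
    by_cases hp : p.Prime
    swap
    · rw [Nat.factorization_eq_zero_of_not_prime _ hp]
      exact Nat.zero_le _
    have : Fact p.Prime := ⟨hp⟩
    by_cases hp23 : p = 23
    · subst hp23
      rw [Nat.factorization_eq_zero_of_not_dvd hD2]
      exact Nat.zero_le _
    suffices hQ : ∃ Q : Sylow p K, (Q : Subgroup K) ≤ H by
      obtain ⟨Q, hQ⟩ := hQ
      rw [← Nat.Prime.pow_dvd_iff_le_factorization hp hH0, ← Sylow.card_eq_multiplicity Q]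
      exact Subgroup.card_dvd_of_le hQ
    by_cases hp2 : p = 2
    · subst hp2
      refine ⟨default, ?_⟩
      intro x hx
      obtain ⟨k, hk⟩ := (default : Sylow 2 K).isPGroup' ⟨x, hx⟩
      have hk' : (x : Co0) ^ 2 ^ k = 1 := by
        have := congrArg (fun y : ((default : Sylow 2 K) : Subgroup K) => ((y : K) : Co0)) hk
        simpa using this
      rw [hH]
      rcases hD1 x x.2 k hk' with h | h
      · rw [h, mul_one, one_mul]
      · rw [h, negAut_comm]
    -- a Sylow subgroup fixed by the automorphism
    have hfix : ∃ Q : Sylow p K, φ • Q = Q := by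
      have := Fintype.ofFinite (Sylow p K)
      have : Fact (Nat.Prime 23) := ⟨by norm_num⟩
      have hnd : ¬ 23 ∣ Fintype.card (Sylow p K) := by
        rw [← Nat.card_eq_fintype_card]
        intro h
        have Q : Sylow p K := default
        exact hD2 ((h.trans (Sylow.card_dvd_index Q)).trans (Subgroup.index_dvd_card _))
      have hσ : (MulAction.toPerm φ : Equiv.Perm (Sylow p K)) ^ 23 ^ 1 = 1 := by
        rw [pow_one]
        have := congrArg (MulAction.toPermHom (MulAut K) (Sylow p K)) hφ23
        rw [map_pow, map_one] at this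
        exact this
      obtain ⟨Q, hQ⟩ := Equiv.Perm.exists_fixed_point_of_prime hnd hσ
      exact ⟨Q, hQ⟩
    obtain ⟨Q, hQ⟩ := hfix
    refine ⟨Q, ?_⟩
    have hmem : ∀ x : K, x ∈ Q → φ x ∈ Q := by
      intro x hx
      have h1 : φ • x ∈ φ • (Q : Subgroup K) :=
        Subgroup.smul_mem_pointwise_smul x φ (Q : Subgroup K) hx
      rw [← Sylow.pointwise_smul_def, hQ] at h1
      exact h1
    let f : (Q : Subgroup K) →* (Q : Subgroup K) :=
      { toFun := fun x => ⟨φ x.1, hmem x.1 x.2⟩
        map_one' := Subtype.ext (map_one φ)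
        map_mul' := fun x y => Subtype.ext (map_mul φ x.1 y.1) }
    have hf1 : ∀ x : (Q : Subgroup K), ((f x : (Q : Subgroup K)) : K) = φ x := fun x => rfl
    have hfn : ∀ (n : ℕ) (x : (Q : Subgroup K)),
        ((f^[n] x : (Q : Subgroup K)) : K) = (φ ^ n) x := by
      intro n
      induction n with
      | zero => intro x; rfl
      | succ n ih =>
        intro x
        rw [Function.iterate_succ_apply', hf1, ih, pow_succ', MulAut.mul_apply]
    have hf23 : ∀ x : (Q : Subgroup K), f^[23] x = x := by
      intro x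
      apply Subtype.ext
      rw [hfn, hφ23]
      rfl
    have hi := Sylow.card_eq_multiplicity Q
    have hdiv : p ^ (Nat.card K).factorization p ∣ 8315553613086720000 := by
      rw [← hi, ← card_co0]
      exact (Subgroup.card_subgroup_dvd_card (Q : Subgroup K)).trans
        (Subgroup.card_subgroup_dvd_card K)
    have hall := fix_of_iterate23 f hf23 p _ hp hi
      (fun j hj hmod => arith23 p _ j hp hp2 hp23 hj hdiv hmod)
    intro x hx
    rw [hH]
    have h1 := hall ⟨x, hx⟩
    have h2 : φ x = x := congrArg Subtype.val h1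
    have h3 := congrArg Subtype.val h2
    rw [hφ] at h3
    calc t23 * (x : Co0) = (t23 * x * t23⁻¹) * t23 := by group
      _ = x * t23 := by rw [h3]
  -- the centraliser of `K` is everything
  have hCn : (Subgroup.centralizer (K : Set Co0)).Normal := inferInstance
  have hC : Subgroup.centralizer (K : Set Co0) = ⊤ := by
    apply normal_eq_top_of_stab
    apply stab_mem_of_not_sign _ (fun σ _ γ hγ => hCn.conj_mem γ hγ σ) t23 _ stabCross_t23
      not_sign_t23
    rw [Subgroup.mem_centralizer_iff]
    intro h hh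
    exact (hD3 h hh).symm
  intro x hx
  rw [Subgroup.mem_center_iff]
  intro g
  have hg : g ∈ Subgroup.centralizer (K : Set Co0) := by rw [hC]; exact Subgroup.mem_top _
  rw [Subgroup.mem_centralizer_iff] at hg
  exact (hg x hx).symm

end Cfsg.Agent.Helper92
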