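import Mathlib

/-!
# Normal subgroups containing a point stabiliser

Abstract permutation group theory.

* `card_stabilizer_mul_ncard_orbit`, `relIndex_stabilizer`, `orbit_ncard_mul_index`:
  orbit–stabiliser counting with `Set.ncard`.
* `suborbit_cases`: a union of suborbits whose size divides the degree is trivial or everything,
  given the arithmetic of the subdegrees.
* `normal_eq_top_of_suborbits`: a normal subgroup containing a point stabiliser is the whole
  group, given the arithmetic of the subdegrees.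
* `conjEquiv`: conjugate subgroups are isomorphic.
-/

set_option autoImplicit false

namespace Cfsg.Agent.Helper92

open MulAction

theorem stabilizer_subgroupOf {G X : Type*} [Group G] [MulAction G X] (x : X) (L : Subgroup G) :
    stabilizer L x = (stabilizer G x).subgroupOf L := by
  ext l
  rw [Subgroup.mem_subgroupOf, mem_stabilizer_iff, mem_stabilizer_iff]
  rfl

theorem relIndex_stabilizer {G X : Type*} [Group G] [MulAction G X] (x : X) (L : Subgroup G) :
    (stabilizer G x).relIndex L = (orbit L x).ncard := by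
  rw [Subgroup.relIndex, ← stabilizer_subgroupOf, index_stabilizer]

theorem orbit_ncard_mul_index {G X : Type*} [Group G] [MulAction G X] (x : X) (L : Subgroup G)
    (hS : stabilizer G x ≤ L) : (orbit L x).ncard * L.index = (orbit G x).ncard := by
  rw [← relIndex_stabilizer, Subgroup.relIndex_mul_index hS, index_stabilizer]

theorem card_stabilizer_mul_ncard_orbit {G X : Type*} [Group G] [MulAction G X] (x : X) :
    Nat.card (stabilizer G x) * (orbit G x).ncard = Nat.card G := by
  rw [← index_stabilizer, Subgroup.card_mul_index]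

/-- a union of suborbits containing the base point, of size dividing the degree, is the base
point or everything — when no proper partial sum of the subdegrees plus one divides the degree -/
theorem suborbit_cases {X ι : Type*} [Fintype ι] (x₀ : X) (Z : Set X) (A : ι → Set X)
    (n : ι → ℕ) (hZ : Z = insert x₀ (⋃ i, A i)) (hx : ∀ i, x₀ ∉ A i)
    (hdisj : ∀ i j, i ≠ j → Disjoint (A i) (A j)) (hfin : ∀ i, (A i).Finite)
    (hn : ∀ i, (A i).ncard = n i)
    (harith : ∀ I : Finset ι, (1 + ∑ i ∈ I, n i) ∣ (1 + ∑ i, n i) → I = ∅ ∨ I = Finset.univ)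
    (O : Set X) (hO : x₀ ∈ O) (hOZ : O ⊆ Z) (hinv : ∀ i, ∀ y ∈ O, y ∈ A i → A i ⊆ O)
    (hdvd : O.ncard ∣ Z.ncard) : O = {x₀} ∨ O = Z := by
  classical
  have hfinU : ∀ I : Finset ι, (⋃ i ∈ I, A i).Finite :=
    fun I => Set.Finite.biUnion I.finite_toSet (fun i _ => hfin i)
  have hU : ∀ I : Finset ι, (⋃ i ∈ I, A i).ncard = ∑ i ∈ I, n i := by
    intro I
    induction I using Finset.induction_on with
    | empty => simp
    | insert a s ha ih =>
      rw [Finset.set_biUnion_insert, Finset.sum_insert ha, Set.ncard_union_eq _ (hfin a) (hfinU s),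
        hn a, ih]
      rw [Set.disjoint_iUnion₂_right]
      intro i hi
      exact hdisj a i (by rintro rfl; exact ha hi)
  have key : ∀ I : Finset ι, (insert x₀ (⋃ i ∈ I, A i)).ncard = 1 + ∑ i ∈ I, n i := by
    intro I
    rw [Set.ncard_insert_of_notMem _ (hfinU I), hU, add_comm]
    simp only [Set.mem_iUnion, not_exists]
    intro i _ h
    exact hx i h
  have hZ' : Z = insert x₀ (⋃ i ∈ (Finset.univ : Finset ι), A i) := by
    rw [hZ]
    simp
  let I : Finset ι := Finset.univ.filter (fun i => A i ⊆ O)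
  have hOI : O = insert x₀ (⋃ i ∈ I, A i) := by
    ext y
    constructor
    · intro hy
      have hyZ := hOZ hy
      rw [hZ] at hyZ
      rcases hyZ with rfl | hyZ
      · exact Set.mem_insert _ _
      · obtain ⟨i, hi⟩ := Set.mem_iUnion.1 hyZ
        refine Set.mem_insert_of_mem _ (Set.mem_iUnion₂.2 ⟨i, ?_, hi⟩)
        exact Finset.mem_filter.2 ⟨Finset.mem_univ _, hinv i y hy hi⟩
    · rintro (rfl | hy)
      · exact hO
      · obtain ⟨i, hiI, hi⟩ := Set.mem_iUnion₂.1 hy
        exact (Finset.mem_filter.1 hiI).2 hi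
  have h1 : O.ncard = 1 + ∑ i ∈ I, n i := by
    conv_lhs => rw [hOI]
    exact key I
  have h2 : Z.ncard = 1 + ∑ i, n i := by
    conv_lhs => rw [hZ']
    exact key _
  rw [h1, h2] at hdvd
  rcases harith I hdvd with h | h
  · left
    rw [hOI, h]
    simp
  · right
    rw [hOI, h, ← hZ']

/-- **A normal subgroup containing a point stabiliser is everything**, when the point
stabiliser has suborbits `A i` of sizes `n i` (at least one of them non-trivial) and no proper
partial sum of the subdegrees plus one divides the degree. -/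
theorem normal_eq_top_of_suborbits {G X ι : Type*} [Group G] [MulAction G X] [Fintype ι]
    (x₀ : X) (A : ι → Set X) (n : ι → ℕ)
    (horb : orbit G x₀ = insert x₀ (⋃ i, A i)) (hx : ∀ i, x₀ ∉ A i)
    (hdisj : ∀ i j, i ≠ j → Disjoint (A i) (A j)) (hfin : ∀ i, (A i).Finite)
    (hn : ∀ i, (A i).ncard = n i)
    (harith : ∀ I : Finset ι, (1 + ∑ i ∈ I, n i) ∣ (1 + ∑ i, n i) → I = ∅ ∨ I = Finset.univ)
    (htrans : ∀ i, ∀ y ∈ A i, ∀ y' ∈ A i, ∃ s : G, s • x₀ = x₀ ∧ s • y = y')
    (hmove : ∃ i, 2 ≤ n i)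
    (L : Subgroup G) [hL : L.Normal] (hS : stabilizer G x₀ ≤ L) : L = ⊤ := by
  have hcount := orbit_ncard_mul_index x₀ L hS
  have hZfin : (orbit G x₀).Finite := by
    rw [horb]
    exact Set.Finite.insert _ (Set.finite_iUnion hfin)
  have hsub : (orbit L x₀ : Set X) ⊆ orbit G x₀ := by
    rintro y ⟨l, rfl⟩
    exact ⟨l.1, rfl⟩
  have hinv : ∀ i, ∀ y ∈ (orbit L x₀ : Set X), y ∈ A i → A i ⊆ orbit L x₀ := by
    intro i y hyO hyA y' hy'
    obtain ⟨s, hs, hsy⟩ := htrans i y hyA y' hy'
    obtain ⟨l, rfl⟩ := hyO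
    refine ⟨⟨s, hS hs⟩ * l, ?_⟩
    rw [← hsy]
    exact mul_smul _ _ _
  rcases suborbit_cases x₀ (orbit G x₀) A n horb hx hdisj hfin hn harith (orbit L x₀)
    (mem_orbit_self x₀) hsub hinv (Dvd.intro _ hcount) with h | h
  · exfalso
    have hLS : ∀ l ∈ L, l • x₀ = x₀ := by
      intro l hl
      have h1 : (⟨l, hl⟩ : L) • x₀ ∈ orbit L x₀ := mem_orbit _ _
      rw [h] at h1
      exact h1
    obtain ⟨i, hi⟩ := hmove
    have h1 : 1 < (A i).ncard := by rw [hn i]; omega
    obtain ⟨y, hy, y', hy', hne⟩ := (Set.one_lt_ncard (hfin i)).1 h1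
    obtain ⟨s, hs, hsy⟩ := htrans i y hy y' hy'
    have hyZ : y ∈ orbit G x₀ := by
      rw [horb]
      exact Set.mem_insert_of_mem _ (Set.mem_iUnion.2 ⟨i, hy⟩)
    obtain ⟨g, rfl⟩ := hyZ
    have hc : g⁻¹ * s * g ∈ L := by
      have := hL.conj_mem s (hS hs) g⁻¹
      rwa [inv_inv] at this
    have h2 := hLS _ hc
    rw [mul_smul, mul_smul, inv_smul_eq_iff] at h2
    exact hne (hsy.symm.trans h2).symm
  · rw [h] at hcount
    have hpos : 0 < (orbit G x₀).ncard := (Set.ncard_pos hZfin).2 ⟨x₀, mem_orbit_self x₀⟩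
    have h1 : L.index = 1 := by
      have h2 : (orbit G x₀).ncard * L.index = (orbit G x₀).ncard * 1 := by rw [hcount, mul_one]
      exact Nat.eq_of_mul_eq_mul_left hpos h2
    exact Subgroup.index_eq_one.1 h1

/-- conjugate subgroups are isomorphic -/
def conjEquiv {G : Type*} [Group G] (g : G) (S T : Subgroup G)
    (h : ∀ x, x ∈ S ↔ g * x * g⁻¹ ∈ T) : S ≃* T where
  toFun x := ⟨g * x.1 * g⁻¹, (h x.1).1 x.2⟩
  invFun y := ⟨g⁻¹ * y.1 * g, (h _).2 (by
    have e : g * (g⁻¹ * y.1 * g) * g⁻¹ = y.1 := by group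
    rw [e]
    exact y.2)⟩
  left_inv x := Subtype.ext (by show g⁻¹ * (g * x.1 * g⁻¹) * g = x.1; group)
  right_inv y := Subtype.ext (by show g * (g⁻¹ * y.1 * g) * g⁻¹ = y.1; group)
  map_mul' x y := Subtype.ext (by
    show g * (x.1 * y.1) * g⁻¹ = (g * x.1 * g⁻¹) * (g * y.1 * g⁻¹)
    group)

end Cfsg.Agent.Helper92
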