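import Cfsg.Agent.Helper92.SimpleCrit
import Cfsg.Agent.Helper92.Suborbit
import Cfsg.Agent.Helper92.LeechSimple
import Cfsg.Agent.Helper26.HSTrans
import Cfsg.Agent.S0379
import Cfsg.Agent.S0378
import Cfsg.Agent.Helper7.OutM23
import Cfsg.Agent.Helper7.OutTools

/-!
# The Higman–Sims group in the Leech lattice

`hsSub` is the joint stabiliser in `Co0` of `V = (-5, -1^23)` and `U' = (4, -4, 0^22)`;
`co3Sub` is the stabiliser of `V`.

* `card_co3Sub`, `card_hsSub`: the orders.
* `fix3_eq`: the joint stabiliser of `V`, `U'`, `U` consists of coordinate permutations fixing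
  the points `∞` and `0`.
* `isSimpleGroup_hsSub`: `hsSub` is simple.
-/

set_option autoImplicit false

namespace Cfsg.Agent.Helper92

open Cfsg MulAction

/-- the stabiliser of `(-5, -1^23)` -/
def co3Sub : Subgroup Co0 := stabilizer Co0 Spor.leechV

/-- the joint stabiliser of `(-5, -1^23)` and `(4, -4, 0^22)` -/
def hsSub : Subgroup Co0 := stabilizer Co0 Spor.leechV ⊓ stabilizer Co0 Spor.leechU'

theorem mem_co3Sub (g : Co0) : g ∈ co3Sub ↔ g • Spor.leechV = Spor.leechV := Iff.rfl

theorem mem_hsSub (g : Co0) :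
    g ∈ hsSub ↔ g • Spor.leechV = Spor.leechV ∧ g • Spor.leechU' = Spor.leechU' := Iff.rfl

theorem hsSub_le_co3Sub : hsSub ≤ co3Sub := inf_le_left

/-! ### Orders -/

theorem orbit_leechV : orbit Co0 Spor.leechV = normSet 48 := by
  ext y
  constructor
  · rintro ⟨g, rfl⟩
    show sqNorm ((g • Spor.leechV : leechLattice) : GolayPt → ℤ) = 48
    rw [co0_sqNorm]
    exact sqNorm_leechV
  · intro hy
    obtain ⟨g, hg⟩ := exists_smul_eq_of_norm48 Spor.leechV y sqNorm_leechV hy
    exact ⟨g, hg⟩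

theorem card_co3Sub : Nat.card co3Sub = 495766656000 := by
  have h := card_stabilizer_mul_ncard_orbit (G := Co0) Spor.leechV
  rw [orbit_leechV, ncard_normSet, ncard_norm48, card_co0] at h
  have h' : Nat.card co3Sub * 16773120 = 495766656000 * 16773120 := h.trans (by norm_num)
  exact Nat.eq_of_mul_eq_mul_right (by norm_num) h'

theorem index_co3Sub : co3Sub.index = 16773120 := by
  have h := Subgroup.card_mul_index co3Sub
  rw [card_co3Sub, card_co0] at h
  have h' : 495766656000 * co3Sub.index = 495766656000 * 16773120 := h.trans (by norm_num)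
  exact Nat.eq_of_mul_eq_mul_left (by norm_num) h'

theorem orbit_co3Sub_leechU' : (orbit co3Sub Spor.leechU' : Set leechLattice) =
    {x : leechLattice | sqNorm (x : GolayPt → ℤ) = 32 ∧
      dotInt (Spor.leechV : GolayPt → ℤ) (x : GolayPt → ℤ) = -16} := by
  ext y
  constructor
  · rintro ⟨g, rfl⟩
    refine ⟨?_, ?_⟩
    · show sqNorm (((g : Co0) • Spor.leechU' : leechLattice) : GolayPt → ℤ) = 32
      rw [co0_sqNorm]
      exact Cfsg.Agent.Helper26.sqNorm_leechU'32
    · show dotInt (Spor.leechV : GolayPt → ℤ)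
        (((g : Co0) • Spor.leechU' : leechLattice) : GolayPt → ℤ) = -16
      rw [Cfsg.Agent.Helper26.dot_fix g.1 _ g.2]
      exact Cfsg.Agent.Helper26.dot_V_U'
  · rintro ⟨h1, h2⟩
    obtain ⟨g, hg, hy⟩ := Cfsg.Agent.Helper26.co3_trans16 Spor.leechU' y
      Cfsg.Agent.Helper26.sqNorm_leechU'32 h1 Cfsg.Agent.Helper26.dot_V_U' h2
    exact ⟨⟨g, hg⟩, hy⟩

theorem index_hsSub : hsSub.index = 11178 * 16773120 := by
  have h1 := relIndex_stabilizer (G := Co0) Spor.leechU' co3Sub
  rw [orbit_co3Sub_leechU', Cfsg.Agent.Helper26.co3_count16] at h1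
  have h2 : hsSub.relIndex co3Sub = 11178 := by
    rw [← h1]
    exact Subgroup.inf_relIndex_left _ _
  rw [← Subgroup.relIndex_mul_index hsSub_le_co3Sub, h2, index_co3Sub]

theorem card_hsSub : Nat.card hsSub = 44352000 := by
  have h := Subgroup.card_mul_index hsSub
  rw [index_hsSub, card_co0] at h
  have h' : Nat.card hsSub * (11178 * 16773120) = 44352000 * (11178 * 16773120) :=
    h.trans (by norm_num)
  exact Nat.eq_of_mul_eq_mul_right (by norm_num) h'

/-! ### Coordinate permutations fixing the base vectors -/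

theorem permAut_leechV (σ : Equiv.Perm GolayPt) (hσ : σ ∈ M24) (h : σ none = none) :
    permAut σ hσ • Spor.leechV = Spor.leechV := by
  apply Subtype.ext
  funext i
  show Spor.vecV (σ.symm i) = Spor.vecV i
  unfold Spor.vecV
  have : σ.symm i = none ↔ i = none := by
    rw [Equiv.symm_apply_eq, h]
  simp only [this]

theorem permAut_leechU' (σ : Equiv.Perm GolayPt) (hσ : σ ∈ M24) (h : σ none = none)
    (h0 : σ (some 0) = some 0) : permAut σ hσ • Spor.leechU' = Spor.leechU' := by
  apply Subtype.ext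
  funext i
  show Spor.vecU' (σ.symm i) = Spor.vecU' i
  unfold Spor.vecU'
  have h1 : σ.symm i = none ↔ i = none := by
    rw [Equiv.symm_apply_eq, h]
  have h2 : σ.symm i = some 0 ↔ i = some 0 := by
    rw [Equiv.symm_apply_eq, h0]
  simp only [h1, h2]

theorem permAut_leechU (σ : Equiv.Perm GolayPt) (hσ : σ ∈ M24) (h : σ none = none)
    (h0 : σ (some 0) = some 0) : permAut σ hσ • Spor.leechU = Spor.leechU := by
  apply Subtype.ext
  funext i
  show Spor.vecU (σ.symm i) = Spor.vecU i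
  unfold Spor.vecU
  have h1 : σ.symm i = none ↔ i = none := by
    rw [Equiv.symm_apply_eq, h]
  have h2 : σ.symm i = some 0 ↔ i = some 0 := by
    rw [Equiv.symm_apply_eq, h0]
  simp only [h1, h2]

theorem leechU_add_leechU' : Spor.leechU + Spor.leechU' = U4 := by
  apply Subtype.ext
  show Spor.vecU + Spor.vecU' = ((P none none : leechLattice) : GolayPt → ℤ)
  rw [P_diag_val]
  funext i
  revert i
  decide

theorem permAut_injective (σ σ' : Equiv.Perm GolayPt) (hσ : σ ∈ M24) (hσ' : σ' ∈ M24)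
    (h : permAut σ hσ = permAut σ' hσ') : σ = σ' := by
  have h1 : PermPart (permAut σ hσ) σ := permPart_permAut _ _
  have h2 : PermPart (permAut σ hσ) σ' := by rw [h]; exact permPart_permAut _ _
  exact Equiv.ext (congrFun (h1.unique h2))

/-- an automorphism fixing `V` and the coordinate vector `(8, 0^23)` is a coordinate
permutation fixing the point `∞` -/
theorem fix2_eq (g : Co0) (hV : g • Spor.leechV = Spor.leechV) (h4 : g • U4 = U4) :
    ∃ (σ : Equiv.Perm GolayPt) (hσ : σ ∈ M24), σ none = none ∧ g = permAut σ hσ := by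
  have hs : StabCross g := stabCross_of_cong (by rw [h4]; exact Cong.refl _)
  obtain ⟨c, hc, σ, hσ, rfl⟩ := stabCross_eq hs
  -- the image of the coordinate vector
  have e4 : (((signAut c hc * permAut σ hσ) • U4 : leechLattice) : GolayPt → ℤ) =
      signFun c (permFun σ ((U4 : leechLattice) : GolayPt → ℤ)) := rfl
  have e4' : (((signAut c hc * permAut σ hσ) • U4 : leechLattice) : GolayPt → ℤ) =
      ((U4 : leechLattice) : GolayPt → ℤ) := congrArg Subtype.val h4
  rw [e4] at e4'
  have hU4 : ((U4 : leechLattice) : GolayPt → ℤ) = Pi.single none 8 := P_diag_val none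
  rw [hU4, permFun_single, signFun_single] at e4'
  have hn : σ none = none := by
    by_contra hne
    have := congrFun e4' (σ none)
    rw [Pi.single_eq_same, Pi.single_eq_of_ne hne] at this
    split_ifs at this
    all_goals omega
  have eV : (((signAut c hc * permAut σ hσ) • Spor.leechV : leechLattice) : GolayPt → ℤ) =
      signFun c ((permAut σ hσ • Spor.leechV : leechLattice) : GolayPt → ℤ) := rfl
  rw [permAut_leechV σ hσ hn] at eV
  have eV' : (((signAut c hc * permAut σ hσ) • Spor.leechV : leechLattice) : GolayPt → ℤ) =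
      ((Spor.leechV : leechLattice) : GolayPt → ℤ) := congrArg Subtype.val hV
  rw [eV] at eV'
  have hc0 : c = ∅ := by
    apply Finset.eq_empty_of_forall_notMem
    intro i hi
    have := congrFun eV' i
    rw [signFun_apply, if_pos hi] at this
    have h3 : (Spor.leechV : GolayPt → ℤ) i = Spor.vecV i := rfl
    rw [h3] at this
    unfold Spor.vecV at this
    split_ifs at this <;> omega
  refine ⟨σ, hσ, hn, ?_⟩
  rw [signAut_congr hc0 _ Cfsg.Agent.Helper26.supports_empty, signAut_empty, one_mul]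

/-- an automorphism fixing `V`, `U'` and `U` is a coordinate permutation fixing the points `∞`
and `0` -/
theorem fix3_eq (g : Co0) (hV : g • Spor.leechV = Spor.leechV)
    (hU' : g • Spor.leechU' = Spor.leechU') (hU : g • Spor.leechU = Spor.leechU) :
    ∃ (σ : Equiv.Perm GolayPt) (hσ : σ ∈ M24), σ none = none ∧ σ (some 0) = some 0 ∧
      g = permAut σ hσ := by
  have h4 : g • U4 = U4 := by
    rw [← leechU_add_leechU', co0_add, hU, hU']
  obtain ⟨σ, hσ, hn, rfl⟩ := fix2_eq g hV h4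
  refine ⟨σ, hσ, hn, ?_, rfl⟩
  have e : ((permAut σ hσ • Spor.leechU' : leechLattice) : GolayPt → ℤ) =
      ((Spor.leechU' : leechLattice) : GolayPt → ℤ) := congrArg Subtype.val hU'
  have e2 := congrFun e (σ (some 0))
  have e3 : ((permAut σ hσ • Spor.leechU' : leechLattice) : GolayPt → ℤ) (σ (some 0)) =
      Spor.vecU' (σ.symm (σ (some 0))) := rfl
  rw [e3, Equiv.symm_apply_apply] at e2
  have e4 : (Spor.leechU' : GolayPt → ℤ) (σ (some 0)) = Spor.vecU' (σ (some 0)) := rfl
  rw [e4] at e2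
  have hL : Spor.vecU' (some 0) = -4 := by decide
  have hR : ∀ j, Spor.vecU' j = -4 → j = some 0 := by decide
  exact hR _ (e2.symm.trans hL)

/-! ### The 100 points -/

/-- the base point `(-4, -4, 0^22)` -/
def hsPt : leechLattice := -Spor.leechU

/-- the two non-trivial suborbits, of sizes 77 and 22 -/
def hsSuborb (i : Fin 2) : Set leechLattice :=
  {y : leechLattice | sqNorm (y : GolayPt → ℤ) = 32 ∧
    Cfsg.Agent.Helper26.clsM (Cfsg.Agent.Helper26.pk (y : GolayPt → ℤ)) = (i : ℕ) + 1}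

theorem hs_dots_of_clsH (y : leechLattice) (hn : sqNorm (y : GolayPt → ℤ) = 32)
    (hc : Cfsg.Agent.Helper26.clsH (Cfsg.Agent.Helper26.pk (y : GolayPt → ℤ)) = 1) :
    dotInt (Spor.leechV : GolayPt → ℤ) (y : GolayPt → ℤ) = 24 ∧
      dotInt (Spor.leechU' : GolayPt → ℤ) (y : GolayPt → ℤ) = 0 := by
  rw [Cfsg.Agent.Helper26.clsH_spec _ y.2 hn] at hc
  split_ifs at hc with a b <;> first | exact ⟨a, b⟩ | omega

theorem hs_dots_of_clsM (y : leechLattice) (hn : sqNorm (y : GolayPt → ℤ) = 32)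
    (hc : Cfsg.Agent.Helper26.clsM (Cfsg.Agent.Helper26.pk (y : GolayPt → ℤ)) = 1 ∨
      Cfsg.Agent.Helper26.clsM (Cfsg.Agent.Helper26.pk (y : GolayPt → ℤ)) = 2) :
    dotInt (Spor.leechV : GolayPt → ℤ) (y : GolayPt → ℤ) = 24 ∧
      dotInt (Spor.leechU' : GolayPt → ℤ) (y : GolayPt → ℤ) = 0 := by
  rw [Cfsg.Agent.Helper26.clsM_spec _ y.2 hn] at hc
  by_cases a : dotInt (Spor.leechV : GolayPt → ℤ) (y : GolayPt → ℤ) = 24
  · by_cases b : dotInt (Spor.leechU' : GolayPt → ℤ) (y : GolayPt → ℤ) = 0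
    · exact ⟨a, b⟩
    · rw [if_pos a, if_neg b] at hc
      omega
  · rw [if_neg a] at hc
    split_ifs at hc
    all_goals first | omega | (exfalso; simp at hc)

theorem clsH_of_dots (y : leechLattice) (hn : sqNorm (y : GolayPt → ℤ) = 32)
    (h1 : dotInt (Spor.leechV : GolayPt → ℤ) (y : GolayPt → ℤ) = 24)
    (h2 : dotInt (Spor.leechU' : GolayPt → ℤ) (y : GolayPt → ℤ) = 0) :
    Cfsg.Agent.Helper26.clsH (Cfsg.Agent.Helper26.pk (y : GolayPt → ℤ)) = 1 := by
  rw [Cfsg.Agent.Helper26.clsH_spec _ y.2 hn, if_pos h1, if_pos h2]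

theorem clsM_of_clsH (y : leechLattice) (hn : sqNorm (y : GolayPt → ℤ) = 32)
    (hc : Cfsg.Agent.Helper26.clsH (Cfsg.Agent.Helper26.pk (y : GolayPt → ℤ)) = 1) :
    Cfsg.Agent.Helper26.clsM (Cfsg.Agent.Helper26.pk (y : GolayPt → ℤ)) = 1 ∨
      Cfsg.Agent.Helper26.clsM (Cfsg.Agent.Helper26.pk (y : GolayPt → ℤ)) = 2 ∨
      Cfsg.Agent.Helper26.clsM (Cfsg.Agent.Helper26.pk (y : GolayPt → ℤ)) = 3 := by
  obtain ⟨h1, h2⟩ := hs_dots_of_clsH y hn hc
  rw [Cfsg.Agent.Helper26.clsM_spec _ y.2 hn, if_pos h1, if_pos h2]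
  split_ifs <;> simp

theorem orbit_hsPt :
    (orbit hsSub hsPt : Set leechLattice) = insert hsPt (⋃ i, hsSuborb i) := by
  ext y
  constructor
  · rintro ⟨h, rfl⟩
    have hV := ((mem_hsSub h.1).1 h.2).1
    have hU' := ((mem_hsSub h.1).1 h.2).2
    show (h : Co0) • hsPt ∈ _
    have hn : sqNorm (((h : Co0) • hsPt : leechLattice) : GolayPt → ℤ) = 32 := by
      rw [co0_sqNorm]
      exact Cfsg.Agent.Helper26.sqNorm_negU
    have hc : Cfsg.Agent.Helper26.clsH
        (Cfsg.Agent.Helper26.pk (((h : Co0) • hsPt : leechLattice) : GolayPt → ℤ)) = 1 := by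
      rw [Cfsg.Agent.Helper26.clsH_congr ((h : Co0) • hsPt) hsPt hn
        Cfsg.Agent.Helper26.sqNorm_negU (Cfsg.Agent.Helper26.dot_fix h.1 _ hV hsPt)
        (Cfsg.Agent.Helper26.dot_fix h.1 _ hU' hsPt)]
      exact Cfsg.Agent.Helper26.clsH_negU
    rcases clsM_of_clsH _ hn hc with h1 | h1 | h1
    · exact Set.mem_insert_of_mem _ (Set.mem_iUnion.2 ⟨0, hn, h1⟩)
    · exact Set.mem_insert_of_mem _ (Set.mem_iUnion.2 ⟨1, hn, h1⟩)
    · exact Set.mem_insert_iff.2 (Or.inl (Cfsg.Agent.Helper26.m22_catch3 _ hn h1))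
  · rintro (rfl | hy)
    · exact mem_orbit_self _
    · obtain ⟨i, hn, hc⟩ := Set.mem_iUnion.1 hy
      have hd := hs_dots_of_clsM y hn (by
        fin_cases i
        · left; exact hc
        · right; exact hc)
      have hcH := clsH_of_dots y hn hd.1 hd.2
      obtain ⟨g, hV, hU', hg⟩ := Cfsg.Agent.Helper26.hs_trans 0 hsPt y
        Cfsg.Agent.Helper26.sqNorm_negU hn Cfsg.Agent.Helper26.clsH_negU hcH
      exact ⟨⟨g, (mem_hsSub g).2 ⟨hV, hU'⟩⟩, hg⟩

theorem ncard_hsSuborb (i : Fin 2) : (hsSuborb i).ncard = ![77, 22] i := by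
  fin_cases i
  · exact Cfsg.Agent.Helper26.ncard_cls Cfsg.Agent.Helper26.clsM 1 77 Cfsg.Agent.Helper26.cnt_M1
  · exact Cfsg.Agent.Helper26.ncard_cls Cfsg.Agent.Helper26.clsM 2 22 Cfsg.Agent.Helper26.cnt_M2

theorem hsSuborb_finite (i : Fin 2) : (hsSuborb i).Finite := by
  apply Set.finite_of_ncard_ne_zero
  rw [ncard_hsSuborb]
  fin_cases i <;> decide

theorem hsPt_notMem (i : Fin 2) : hsPt ∉ hsSuborb i := by
  rintro ⟨-, h⟩
  have h3 : Cfsg.Agent.Helper26.clsM (Cfsg.Agent.Helper26.pk (hsPt : GolayPt → ℤ)) = 3 :=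
    Cfsg.Agent.Helper26.clsM_negU
  rw [h3] at h
  omega

theorem hsSuborb_disjoint (i j : Fin 2) (hij : i ≠ j) : Disjoint (hsSuborb i) (hsSuborb j) := by
  rw [Set.disjoint_left]
  rintro y ⟨-, h1⟩ ⟨-, h2⟩
  apply hij
  apply Fin.ext
  rw [h1] at h2
  omega

theorem hs_suborb_trans (i : Fin 2) (y : leechLattice) (hy : y ∈ hsSuborb i) (y' : leechLattice)
    (hy' : y' ∈ hsSuborb i) : ∃ s : hsSub, s • hsPt = hsPt ∧ s • y = y' := by
  obtain ⟨g, hV, hU', hU, hg⟩ := Cfsg.Agent.Helper26.m22_trans i y y' hy.1 hy'.1 hy.2 hy'.2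
  refine ⟨⟨g, (mem_hsSub g).2 ⟨hV, hU'⟩⟩, ?_, hg⟩
  show g • (-Spor.leechU) = -Spor.leechU
  rw [co0_neg, hU]

/-- a normal subgroup of `hsSub` containing the stabiliser of a point is everything -/
theorem hs_normal_top (L : Subgroup hsSub) [L.Normal] (hS : stabilizer hsSub hsPt ≤ L) :
    L = ⊤ :=
  normal_eq_top_of_suborbits hsPt hsSuborb ![77, 22] orbit_hsPt hsPt_notMem hsSuborb_disjoint
    hsSuborb_finite ncard_hsSuborb (by decide) hs_suborb_trans ⟨0, by decide⟩ L hS

/-! ### The point stabiliser -/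

/-- the two-point stabiliser in `M24` -/
def m22Sub : Subgroup M24 :=
  stabilizer M24 (none : GolayPt) ⊓ stabilizer M24 (some 0 : GolayPt)

instance isSimpleGroup_m22Sub : IsSimpleGroup m22Sub :=
  Cfsg.Agent.S0379.result none (some 0) (by decide)

theorem card_m22Sub : Nat.card m22Sub = 443520 :=
  Cfsg.Agent.S0378.result none (some 0) (by decide)

theorem m22Sub_none (π : m22Sub) : π.1.1 none = none := (Subgroup.mem_inf.1 π.2).1

theorem m22Sub_zero (π : m22Sub) : π.1.1 (some 0) = some 0 := (Subgroup.mem_inf.1 π.2).2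

/-- coordinate permutations fixing `∞` and `0`, as elements of `hsSub` -/
def m22Hom : m22Sub →* hsSub where
  toFun π := ⟨permAut π.1.1 π.1.2, (mem_hsSub _).2 ⟨permAut_leechV _ _ (m22Sub_none π),
    permAut_leechU' _ _ (m22Sub_none π) (m22Sub_zero π)⟩⟩
  map_one' := Subtype.ext permAut_one
  map_mul' a b := Subtype.ext (permAut_mul a.1.1 b.1.1 a.1.2 b.1.2)

theorem m22Hom_injective : Function.Injective m22Hom := by
  intro a b h
  have h1 : permAut a.1.1 a.1.2 = permAut b.1.1 b.1.2 := congrArg Subtype.val h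
  exact Subtype.ext (Subtype.ext (permAut_injective _ _ _ _ h1))

theorem m22Hom_surj (h : hsSub) (hh : h • hsPt = hsPt) : ∃ π : m22Sub, m22Hom π = h := by
  have hV := ((mem_hsSub h.1).1 h.2).1
  have hU' := ((mem_hsSub h.1).1 h.2).2
  have hU : h.1 • Spor.leechU = Spor.leechU := by
    have h1 : h.1 • (-Spor.leechU) = -Spor.leechU := hh
    rw [co0_neg, neg_inj] at h1
    exact h1
  obtain ⟨σ, hσ, hn, h0, e⟩ := fix3_eq h.1 hV hU' hU
  exact ⟨⟨⟨σ, hσ⟩, Subgroup.mem_inf.2 ⟨hn, h0⟩⟩, Subtype.ext e.symm⟩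

/-- the coordinate permutation `i ↦ 2 i` -/
noncomputable def m22Dbl : m22Sub :=
  ⟨⟨Cfsg.Agent.Helper7.gDbl, Cfsg.Agent.Helper7.gDbl_mem⟩,
    Subgroup.mem_inf.2 ⟨Cfsg.Agent.Helper7.gDbl_none, Cfsg.Agent.Helper7.gDbl_zero⟩⟩

theorem m22Dbl_pow : m22Dbl ^ 11 = 1 := by
  apply Subtype.ext
  apply Subtype.ext
  show Cfsg.Agent.Helper7.gDbl ^ 11 = 1
  rw [← Cfsg.Agent.Helper7.orderOf_gDbl]
  exact pow_orderOf_eq_one _

theorem m22Dbl_ne_one : m22Dbl ≠ 1 := by
  intro h
  have h1 : Cfsg.Agent.Helper7.gDbl = 1 := congrArg (fun x : m22Sub => x.1.1) h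
  have := Cfsg.Agent.Helper7.orderOf_gDbl
  rw [h1, orderOf_one] at this
  omega

/-- an element of order 11 of `hsSub` -/
noncomputable def hsT : hsSub := m22Hom m22Dbl

theorem hsT_pow : hsT ^ 11 = 1 := by
  rw [hsT, ← map_pow, m22Dbl_pow, map_one]

theorem hsT_ne_one : hsT ≠ 1 :=
  fun h => m22Dbl_ne_one (m22Hom_injective (h.trans (map_one _).symm))

theorem center_m22Sub : Subgroup.center m22Sub = ⊥ := by
  rcases IsSimpleGroup.eq_bot_or_eq_top_of_normal (Subgroup.center m22Sub) inferInstance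
    with h | h
  · exact h
  · exfalso
    have hN : (Subgroup.zpowers m22Dbl).Normal := ⟨fun n hn g => by
      have hg : g ∈ Subgroup.center m22Sub := by rw [h]; exact Subgroup.mem_top _
      rw [Subgroup.mem_center_iff] at hg
      have e : g * n * g⁻¹ = n := by rw [← hg n, mul_inv_cancel_right]
      rw [e]
      exact hn⟩
    rcases IsSimpleGroup.eq_bot_or_eq_top_of_normal (Subgroup.zpowers m22Dbl) hN with h1 | h1
    · exact m22Dbl_ne_one (Subgroup.zpowers_eq_bot.1 h1)
    · have : Fact (Nat.Prime 11) := ⟨by norm_num⟩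
      have h2 : Nat.card (Subgroup.zpowers m22Dbl) = 11 := by
        rw [Nat.card_zpowers]
        exact orderOf_eq_prime m22Dbl_pow m22Dbl_ne_one
      rw [h1, Subgroup.card_top, card_m22Sub] at h2
      omega

/-- a normal subgroup of `hsSub` containing the element of order 11 is everything -/
theorem hs_gen (L : Subgroup hsSub) (hL : L.Normal) (ht : hsT ∈ L) : L = ⊤ := by
  have hN : (L.comap m22Hom).Normal := hL.comap m22Hom
  have htop : L.comap m22Hom = ⊤ := by
    rcases IsSimpleGroup.eq_bot_or_eq_top_of_normal (L.comap m22Hom) hN with h | h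
    · exfalso
      have h1 : m22Dbl ∈ L.comap m22Hom := ht
      rw [h, Subgroup.mem_bot] at h1
      exact m22Dbl_ne_one h1
    · exact h
  apply hs_normal_top L
  intro h hh
  obtain ⟨π, rfl⟩ := m22Hom_surj h hh
  have h1 : π ∈ L.comap m22Hom := by rw [htop]; exact Subgroup.mem_top _
  exact h1

theorem center_hsSub : Subgroup.center hsSub = ⊥ := by
  rw [eq_bot_iff]
  intro z hz
  rw [Subgroup.mem_center_iff] at hz
  have hfix : z • hsPt = hsPt := by
    by_contra hne
    have hmem : z • hsPt ∈ (orbit hsSub hsPt : Set leechLattice) := mem_orbit _ _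
    rw [orbit_hsPt] at hmem
    rcases hmem with h | h
    · exact hne h
    · obtain ⟨i, hi⟩ := Set.mem_iUnion.1 h
      have h1 : 1 < (hsSuborb i).ncard := by
        rw [ncard_hsSuborb]
        fin_cases i <;> decide
      obtain ⟨y', hy', hne'⟩ := Set.exists_ne_of_one_lt_ncard h1 (z • hsPt)
      obtain ⟨s, hs, hsy⟩ := hs_suborb_trans i _ hi y' hy'
      apply hne'
      rw [← hsy, ← mul_smul, hz s, mul_smul, hs]
  obtain ⟨π, rfl⟩ := m22Hom_surj z hfix
  have hπ : π ∈ Subgroup.center m22Sub := by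
    rw [Subgroup.mem_center_iff]
    intro ρ
    apply m22Hom_injective
    rw [map_mul, map_mul]
    exact hz (m22Hom ρ)
  rw [center_m22Sub, Subgroup.mem_bot] at hπ
  rw [hπ, map_one]
  exact one_mem _

/-! ### Simplicity -/

theorem arith_hs (p i j : ℕ) (hp : p.Prime) (hp11 : p ≠ 11) (hji : j ≤ i)
    (hdvd : p ^ i ∣ 44352000) (hmod : p ^ i ≡ p ^ j [MOD 11]) : i = j := by
  by_cases hi : i = 0
  · omega
  have h1 : p ∣ 44352000 := (dvd_pow_self p hi).trans hdvd
  have e : (44352000 : ℕ) = 2 ^ 9 * 3 ^ 2 * 5 ^ 3 * 7 * 11 := by norm_num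
  rw [e] at h1
  have key : ∀ q : ℕ, q.Prime → p ∣ q → p = q := fun q hq h =>
    (Nat.prime_dvd_prime_iff_eq hp hq).1 h
  have hcases : p = 2 ∨ p = 3 ∨ p = 5 ∨ p = 7 := by
    rcases (Nat.Prime.dvd_mul hp).1 h1 with h | h
    · rcases (Nat.Prime.dvd_mul hp).1 h with h | h
      · rcases (Nat.Prime.dvd_mul hp).1 h with h | h
        · rcases (Nat.Prime.dvd_mul hp).1 h with h | h
          · exact Or.inl (key 2 (by norm_num) (hp.dvd_of_dvd_pow h))
          · exact Or.inr (Or.inl (key 3 (by norm_num) (hp.dvd_of_dvd_pow h)))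
        · exact Or.inr (Or.inr (Or.inl (key 5 (by norm_num) (hp.dvd_of_dvd_pow h))))
      · exact Or.inr (Or.inr (Or.inr (key 7 (by norm_num) h)))
    · exact absurd (key 11 (by norm_num) h) hp11
  have bound : ∀ (q k : ℕ), ¬ q ^ k ∣ 44352000 → p = q → i < k := by
    intro q k hk hpq
    by_contra hlt
    apply hk
    rw [← hpq]
    exact (pow_dvd_pow p (by omega)).trans hdvd
  rcases hcases with h | h | h | h
  · have hb := bound 2 10 (by decide) h
    subst h
    interval_cases i <;> interval_cases j <;> first | rfl | (exfalso; revert hmod; decide)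
  · have hb := bound 3 3 (by decide) h
    subst h
    interval_cases i <;> interval_cases j <;> first | rfl | (exfalso; revert hmod; decide)
  · have hb := bound 5 4 (by decide) h
    subst h
    interval_cases i <;> interval_cases j <;> first | rfl | (exfalso; revert hmod; decide)
  · have hb := bound 7 2 (by decide) h
    subst h
    interval_cases i <;> interval_cases j <;> first | rfl | (exfalso; revert hmod; decide)

/-- **The joint stabiliser of `(-5, -1^23)` and `(4, -4, 0^22)` is simple.** -/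
theorem isSimpleGroup_hsSub : IsSimpleGroup hsSub :=
  isSimpleGroup_of_prime_elt hsT 11 (by norm_num) hsT_pow hsT_ne_one
    (by rw [card_hsSub]; decide)
    (fun p i j hp hpq hji hdvd hmod => arith_hs p i j hp hpq hji (card_hsSub ▸ hdvd) hmod)
    hs_gen center_hsSub

theorem isHS_hsSub : IsHS hsSub := ⟨isSimpleGroup_hsSub, card_hsSub⟩

/-- **The joint stabiliser of two vectors of squared length 48 with inner product `-32` is a
simple group of order `44352000`.** -/
theorem isHS_stabilizer (v w : leechLattice) (hv : sqNorm (v : GolayPt → ℤ) = 48)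
    (hw : sqNorm (w : GolayPt → ℤ) = 48)
    (hvw : dotInt (v : GolayPt → ℤ) (w : GolayPt → ℤ) = -32) :
    IsHS ↥(stabilizer Co0 v ⊓ stabilizer Co0 w) := by
  obtain ⟨g, h1, h2⟩ := Cfsg.Agent.Helper26.pair48 v w hv hw hvw
  have hU : g • (-w - v) = Spor.leechU' := by
    rw [co0_sub, co0_neg, h1, h2]
    abel
  have key : ∀ x : Co0, x ∈ stabilizer Co0 v ⊓ stabilizer Co0 w ↔ g * x * g⁻¹ ∈ hsSub := by
    intro x
    rw [Subgroup.mem_inf, mem_stabilizer_iff, mem_stabilizer_iff, mem_hsSub]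
    have e1 : (g * x * g⁻¹) • Spor.leechV = g • x • v := by
      rw [mul_smul, mul_smul, ← h1, inv_smul_smul]
    have e2 : (g * x * g⁻¹) • Spor.leechU' = g • x • (-w - v) := by
      rw [mul_smul, mul_smul, ← hU, inv_smul_smul]
    rw [e1, e2]
    constructor
    · rintro ⟨a, b⟩
      rw [co0_sub, co0_neg, a, b]
      exact ⟨h1, hU⟩
    · rintro ⟨a, b⟩
      have a' : x • v = v := by
        apply MulAction.injective g
        show g • x • v = g • v
        rw [a, h1]
      have b' : x • (-w - v) = -w - v := by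
        apply MulAction.injective g
        show g • x • (-w - v) = g • (-w - v)
        rw [b, hU]
      refine ⟨a', ?_⟩
      rw [co0_sub, co0_neg, a', sub_left_inj, neg_inj] at b'
      exact b'
  let e : ↥(stabilizer Co0 v ⊓ stabilizer Co0 w) ≃* hsSub := conjEquiv g _ _ key
  have := isSimpleGroup_hsSub
  exact ⟨e.isSimpleGroup, by rw [Nat.card_congr e.toEquiv, card_hsSub]⟩

end Cfsg.Agent.Helper92
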