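import Cfsg.Agent.Helper92.SimpleStab
import Cfsg.Agent.Helper92.LeechHS
import Cfsg.Agent.Helper26.McLTrans

/-!
# The McLaughlin group in the Leech lattice

`mclSub` is the joint stabiliser in `Co0` of `V = (-5, -1^23)` and `U = (4, 4, 0^22)`. It acts
on the 2025 minimal vectors `y` with `y·V = -16`, `y·U = 0`, with point stabiliser the
coordinate permutations fixing `∞` and `0` (the Mathieu group of degree 22) and subdegrees
`1, 330, 462, 1232`.

* `card_mclSub`: the order `898128000`.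
* `isSimpleGroup_mclSub`: `mclSub` is simple.
* `isMcL_stabilizer`: the joint stabiliser of two minimal vectors with inner product `-8` is
  simple of order `898128000`.
-/

set_option autoImplicit false

namespace Cfsg.Agent.Helper92

open Cfsg MulAction

/-- the joint stabiliser of `(-5, -1^23)` and `(4, 4, 0^22)` -/
def mclSub : Subgroup Co0 := stabilizer Co0 Spor.leechV ⊓ stabilizer Co0 Spor.leechU

theorem mem_mclSub (g : Co0) :
    g ∈ mclSub ↔ g • Spor.leechV = Spor.leechV ∧ g • Spor.leechU = Spor.leechU := Iff.rfl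

/-! ### The 2025 points -/

/-- the three non-trivial suborbits, of sizes 330, 462, 1232 -/
def mclSuborb (i : Fin 3) : Set leechLattice :=
  {y : leechLattice | sqNorm (y : GolayPt → ℤ) = 32 ∧
    Cfsg.Agent.Helper26.clsM (Cfsg.Agent.Helper26.pk (y : GolayPt → ℤ)) = (i : ℕ) + 3 + 1}

theorem dot_U_U' : dotInt (Spor.leechU : GolayPt → ℤ) (Spor.leechU' : GolayPt → ℤ) = 0 := by
  decide +kernel

theorem mcl_dots_of_clsM (y : leechLattice) (hn : sqNorm (y : GolayPt → ℤ) = 32)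
    (hc : 4 ≤ Cfsg.Agent.Helper26.clsM (Cfsg.Agent.Helper26.pk (y : GolayPt → ℤ))) :
    dotInt (Spor.leechV : GolayPt → ℤ) (y : GolayPt → ℤ) = -16 ∧
      dotInt (Spor.leechU : GolayPt → ℤ) (y : GolayPt → ℤ) = 0 := by
  rw [Cfsg.Agent.Helper26.clsM_spec _ y.2 hn] at hc
  by_cases a : dotInt (Spor.leechV : GolayPt → ℤ) (y : GolayPt → ℤ) = 24
  · rw [if_pos a] at hc
    split_ifs at hc
    all_goals omega
  · rw [if_neg a] at hc
    by_cases b : dotInt (Spor.leechV : GolayPt → ℤ) (y : GolayPt → ℤ) = -16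
    · by_cases c : dotInt (Spor.leechU : GolayPt → ℤ) (y : GolayPt → ℤ) = 0
      · exact ⟨b, c⟩
      · rw [if_pos b, if_neg c] at hc
        omega
    · rw [if_neg b] at hc
      omega

theorem clsM_of_mcl_dots (y : leechLattice) (hn : sqNorm (y : GolayPt → ℤ) = 32)
    (h1 : dotInt (Spor.leechV : GolayPt → ℤ) (y : GolayPt → ℤ) = -16)
    (h2 : dotInt (Spor.leechU : GolayPt → ℤ) (y : GolayPt → ℤ) = 0) :
    Cfsg.Agent.Helper26.clsM (Cfsg.Agent.Helper26.pk (y : GolayPt → ℤ)) = 4 ∨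
    Cfsg.Agent.Helper26.clsM (Cfsg.Agent.Helper26.pk (y : GolayPt → ℤ)) = 5 ∨
    Cfsg.Agent.Helper26.clsM (Cfsg.Agent.Helper26.pk (y : GolayPt → ℤ)) = 6 ∨
    Cfsg.Agent.Helper26.clsM (Cfsg.Agent.Helper26.pk (y : GolayPt → ℤ)) = 7 := by
  rw [Cfsg.Agent.Helper26.clsM_spec _ y.2 hn, if_neg (by omega), if_pos h1, if_pos h2]
  split_ifs <;> simp

theorem clsL_of_mcl_dots (y : leechLattice) (hn : sqNorm (y : GolayPt → ℤ) = 32)
    (h1 : dotInt (Spor.leechV : GolayPt → ℤ) (y : GolayPt → ℤ) = -16)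
    (h2 : dotInt (Spor.leechU : GolayPt → ℤ) (y : GolayPt → ℤ) = 0) :
    Cfsg.Agent.Helper26.clsL (Cfsg.Agent.Helper26.pk (y : GolayPt → ℤ)) = 1 + 1 := by
  rw [Cfsg.Agent.Helper26.clsL_spec _ y.2 hn, if_neg (by omega), if_pos h1, if_pos h2]

theorem orbit_mclPt :
    (orbit mclSub Spor.leechU' : Set leechLattice) =
      insert Spor.leechU' (⋃ i, mclSuborb i) := by
  ext y
  constructor
  · rintro ⟨h, rfl⟩
    have hV := ((mem_mclSub h.1).1 h.2).1
    have hU := ((mem_mclSub h.1).1 h.2).2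
    show (h : Co0) • Spor.leechU' ∈ _
    have hn : sqNorm (((h : Co0) • Spor.leechU' : leechLattice) : GolayPt → ℤ) = 32 := by
      rw [co0_sqNorm]
      exact Cfsg.Agent.Helper26.sqNorm_leechU'32
    have d1 : dotInt (Spor.leechV : GolayPt → ℤ)
        (((h : Co0) • Spor.leechU' : leechLattice) : GolayPt → ℤ) = -16 := by
      rw [Cfsg.Agent.Helper26.dot_fix h.1 _ hV]
      exact Cfsg.Agent.Helper26.dot_V_U'
    have d2 : dotInt (Spor.leechU : GolayPt → ℤ)
        (((h : Co0) • Spor.leechU' : leechLattice) : GolayPt → ℤ) = 0 := by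
      rw [Cfsg.Agent.Helper26.dot_fix h.1 _ hU]
      exact dot_U_U'
    rcases clsM_of_mcl_dots _ hn d1 d2 with h1 | h1 | h1 | h1
    · exact Set.mem_insert_of_mem _ (Set.mem_iUnion.2 ⟨0, hn, h1⟩)
    · exact Set.mem_insert_of_mem _ (Set.mem_iUnion.2 ⟨1, hn, h1⟩)
    · exact Set.mem_insert_of_mem _ (Set.mem_iUnion.2 ⟨2, hn, h1⟩)
    · exact Set.mem_insert_iff.2 (Or.inl (Cfsg.Agent.Helper26.m22_catch7 _ hn h1))
  · rintro (rfl | hy)
    · exact mem_orbit_self _
    · obtain ⟨i, hn, hc⟩ := Set.mem_iUnion.1 hy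
      have hd := mcl_dots_of_clsM y hn (by rw [hc]; omega)
      obtain ⟨g, hV, hU, hg⟩ := Cfsg.Agent.Helper26.mcl_trans 1 Spor.leechU' y
        Cfsg.Agent.Helper26.sqNorm_leechU'32 hn
        (clsL_of_mcl_dots _ Cfsg.Agent.Helper26.sqNorm_leechU'32
          Cfsg.Agent.Helper26.dot_V_U' dot_U_U')
        (clsL_of_mcl_dots y hn hd.1 hd.2)
      exact ⟨⟨g, (mem_mclSub g).2 ⟨hV, hU⟩⟩, hg⟩

theorem ncard_mclSuborb (i : Fin 3) : (mclSuborb i).ncard = ![330, 462, 1232] i := by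
  fin_cases i
  · exact Cfsg.Agent.Helper26.ncard_cls Cfsg.Agent.Helper26.clsM 4 330 Cfsg.Agent.Helper26.cnt_M4
  · exact Cfsg.Agent.Helper26.ncard_cls Cfsg.Agent.Helper26.clsM 5 462 Cfsg.Agent.Helper26.cnt_M5
  · exact Cfsg.Agent.Helper26.ncard_cls Cfsg.Agent.Helper26.clsM 6 1232
      Cfsg.Agent.Helper26.cnt_M6

theorem mclSuborb_finite (i : Fin 3) : (mclSuborb i).Finite := by
  apply Set.finite_of_ncard_ne_zero
  rw [ncard_mclSuborb]
  fin_cases i <;> decide

theorem mclPt_notMem (i : Fin 3) : Spor.leechU' ∉ mclSuborb i := by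
  rintro ⟨-, h⟩
  rw [Cfsg.Agent.Helper26.clsM_U'] at h
  omega

theorem mclSuborb_disjoint (i j : Fin 3) (hij : i ≠ j) :
    Disjoint (mclSuborb i) (mclSuborb j) := by
  rw [Set.disjoint_left]
  rintro y ⟨-, h1⟩ ⟨-, h2⟩
  apply hij
  apply Fin.ext
  rw [h1] at h2
  omega

theorem mcl_suborb_trans (i : Fin 3) (y : leechLattice) (hy : y ∈ mclSuborb i)
    (y' : leechLattice) (hy' : y' ∈ mclSuborb i) :
    ∃ s : mclSub, s • Spor.leechU' = Spor.leechU' ∧ s • y = y' := by
  obtain ⟨g, hV, hU', hU, hg⟩ :=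
    Cfsg.Agent.Helper26.m22_trans ((i : ℕ) + 3) y y' hy.1 hy'.1 hy.2 hy'.2
  exact ⟨⟨g, (mem_mclSub g).2 ⟨hV, hU⟩⟩, hU', hg⟩

theorem mcl_arith_sub : ∀ I : Finset (Fin 3),
    (1 + ∑ i ∈ I, ![330, 462, 1232] i) ∣ (1 + ∑ i, ![330, 462, 1232] i) →
      I = ∅ ∨ I = Finset.univ := by
  decide

theorem mcl_degree : 1 + ∑ i, ![330, 462, 1232] i = 2025 := by
  decide

/-! ### The point stabiliser -/

/-- coordinate permutations fixing `∞` and `0`, as elements of `mclSub` -/
def m22HomL : m22Sub →* mclSub where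
  toFun π := ⟨permAut π.1.1 π.1.2, (mem_mclSub _).2 ⟨permAut_leechV _ _ (m22Sub_none π),
    permAut_leechU _ _ (m22Sub_none π) (m22Sub_zero π)⟩⟩
  map_one' := Subtype.ext permAut_one
  map_mul' a b := Subtype.ext (permAut_mul a.1.1 b.1.1 a.1.2 b.1.2)

theorem m22HomL_injective : Function.Injective m22HomL := by
  intro a b h
  have h1 : permAut a.1.1 a.1.2 = permAut b.1.1 b.1.2 := congrArg Subtype.val h
  exact Subtype.ext (Subtype.ext (permAut_injective _ _ _ _ h1))

theorem m22HomL_range (g : mclSub) :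
    g • Spor.leechU' = Spor.leechU' ↔ ∃ π, m22HomL π = g := by
  constructor
  · intro hg
    have hV := ((mem_mclSub g.1).1 g.2).1
    have hU := ((mem_mclSub g.1).1 g.2).2
    obtain ⟨σ, hσ, hn, h0, e⟩ := fix3_eq g.1 hV hg hU
    exact ⟨⟨⟨σ, hσ⟩, Subgroup.mem_inf.2 ⟨hn, h0⟩⟩, Subtype.ext e.symm⟩
  · rintro ⟨π, rfl⟩
    exact permAut_leechU' π.1.1 π.1.2 (m22Sub_none π) (m22Sub_zero π)

theorem card_stabilizer_mclPt : Nat.card (stabilizer mclSub Spor.leechU') = 443520 := by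
  rw [← card_m22Sub]
  symm
  apply Nat.card_congr
  refine Equiv.ofBijective
    (fun π => (⟨m22HomL π, (m22HomL_range _).2 ⟨π, rfl⟩⟩ : stabilizer mclSub Spor.leechU')) ⟨?_, ?_⟩
  · intro a b h
    exact m22HomL_injective (congrArg Subtype.val h)
  · intro s
    obtain ⟨π, hπ⟩ := (m22HomL_range s.1).1 s.2
    exact ⟨π, Subtype.ext hπ⟩

theorem card_mclSub : Nat.card mclSub = 898128000 := by
  have h := card_stabilizer_mul_ncard_orbit (G := mclSub) Spor.leechU'
  rw [card_stabilizer_mclPt, orbit_mclPt,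
    ncard_insert_iUnion Spor.leechU' mclSuborb ![330, 462, 1232] mclPt_notMem mclSuborb_disjoint
      mclSuborb_finite ncard_mclSuborb, mcl_degree] at h
  rw [← h]

/-! ### Simplicity -/

theorem arith_mcl (p i j : ℕ) (hp : p.Prime) (hji : j ≤ i)
    (hdvd : p ^ i ∣ 2025) (hmod : p ^ i ≡ p ^ j [MOD 11]) : i = j := by
  by_cases hi : i = 0
  · omega
  have h1 : p ∣ 2025 := (dvd_pow_self p hi).trans hdvd
  have e : (2025 : ℕ) = 3 ^ 4 * 5 ^ 2 := by norm_num
  rw [e] at h1
  have key : ∀ q : ℕ, q.Prime → p ∣ q → p = q := fun q hq h =>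
    (Nat.prime_dvd_prime_iff_eq hp hq).1 h
  have hcases : p = 3 ∨ p = 5 := by
    rcases (Nat.Prime.dvd_mul hp).1 h1 with h | h
    · exact Or.inl (key 3 (by norm_num) (hp.dvd_of_dvd_pow h))
    · exact Or.inr (key 5 (by norm_num) (hp.dvd_of_dvd_pow h))
  have bound : ∀ (q k : ℕ), ¬ q ^ k ∣ 2025 → p = q → i < k := by
    intro q k hk hpq
    by_contra hlt
    apply hk
    rw [← hpq]
    exact (pow_dvd_pow p (by omega)).trans hdvd
  rcases hcases with h | h
  · have hb := bound 3 5 (by decide) h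
    subst h
    interval_cases i <;> interval_cases j <;> first | rfl | (exfalso; revert hmod; decide)
  · have hb := bound 5 3 (by decide) h
    subst h
    interval_cases i <;> interval_cases j <;> first | rfl | (exfalso; revert hmod; decide)

/-- **The joint stabiliser of `(-5, -1^23)` and `(4, 4, 0^22)` is simple.** -/
theorem isSimpleGroup_mclSub : IsSimpleGroup mclSub :=
  isSimpleGroup_of_suborbits Spor.leechU' mclSuborb ![330, 462, 1232] orbit_mclPt mclPt_notMem
    mclSuborb_disjoint mclSuborb_finite ncard_mclSuborb mcl_arith_sub mcl_suborb_trans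
    ⟨0, by decide⟩ m22HomL m22HomL_injective m22HomL_range m22Dbl 11 (by norm_num) m22Dbl_pow
    m22Dbl_ne_one (by rw [mcl_degree]; decide)
    (fun p i j hp _ hji hdvd hmod => arith_mcl p i j hp hji (mcl_degree ▸ hdvd) hmod)

theorem isMcL_mclSub : IsMcL mclSub := ⟨isSimpleGroup_mclSub, card_mclSub⟩

/-- conjugating the joint stabiliser of `v`, `w` to the joint stabiliser of the images of `v`
and `-w - v` -/
theorem stab_pair_conj (g : Co0) (v w a b : leechLattice) (h1 : g • v = a)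
    (h2 : g • (-w - v) = b) (x : Co0) :
    x ∈ stabilizer Co0 v ⊓ stabilizer Co0 w ↔
      (g * x * g⁻¹) • a = a ∧ (g * x * g⁻¹) • b = b := by
  rw [Subgroup.mem_inf, mem_stabilizer_iff, mem_stabilizer_iff]
  have e1 : (g * x * g⁻¹) • a = g • x • v := by
    rw [mul_smul, mul_smul, ← h1, inv_smul_smul]
  have e2 : (g * x * g⁻¹) • b = g • x • (-w - v) := by
    rw [mul_smul, mul_smul, ← h2, inv_smul_smul]
  rw [e1, e2]
  constructor
  · rintro ⟨p, q⟩
    rw [co0_sub, co0_neg, p, q]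
    exact ⟨h1, h2⟩
  · rintro ⟨p, q⟩
    have p' : x • v = v := by
      apply MulAction.injective g
      show g • x • v = g • v
      rw [p, h1]
    have q' : x • (-w - v) = -w - v := by
      apply MulAction.injective g
      show g • x • (-w - v) = g • (-w - v)
      rw [q, h2]
    refine ⟨p', ?_⟩
    rw [co0_sub, co0_neg, p', sub_left_inj, neg_inj] at q'
    exact q'

theorem sqNorm_mclW : sqNorm ((-Spor.leechV - Spor.leechU : leechLattice) : GolayPt → ℤ) = 32 := by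
  decide +kernel

theorem dot_U_mclW : dotInt (Spor.leechU : GolayPt → ℤ)
    ((-Spor.leechV - Spor.leechU : leechLattice) : GolayPt → ℤ) = -8 := by
  decide +kernel

/-- **The joint stabiliser of two minimal vectors with inner product `-8` is a simple group of
order `898128000`.** -/
theorem isMcL_stabilizer (v w : leechLattice) (hv : sqNorm (v : GolayPt → ℤ) = 32)
    (hw : sqNorm (w : GolayPt → ℤ) = 32)
    (hvw : dotInt (v : GolayPt → ℤ) (w : GolayPt → ℤ) = -8) :
    IsMcL ↥(stabilizer Co0 v ⊓ stabilizer Co0 w) := by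
  obtain ⟨g₁, h1⟩ := exists_smul_eq_of_norm32 v Spor.leechU hv sqNorm_leechU
  obtain ⟨g₂, h2, h3⟩ := Cfsg.Agent.Helper26.co2_trans8 (g₁ • w) (-Spor.leechV - Spor.leechU)
    (by rw [co0_sqNorm]; exact hw) sqNorm_mclW
    (by rw [Cfsg.Agent.Helper26.dot_map g₁ v _ h1]; exact hvw) dot_U_mclW
  have ha : (g₂ * g₁) • v = Spor.leechU := by rw [mul_smul, h1, h2]
  have hb0 : (g₂ * g₁) • w = -Spor.leechV - Spor.leechU := by rw [mul_smul, h3]
  have hb : (g₂ * g₁) • (-w - v) = Spor.leechV := by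
    rw [co0_sub, co0_neg, ha, hb0]
    abel
  have key : ∀ x : Co0, x ∈ stabilizer Co0 v ⊓ stabilizer Co0 w ↔
      (g₂ * g₁) * x * (g₂ * g₁)⁻¹ ∈ mclSub := by
    intro x
    rw [stab_pair_conj (g₂ * g₁) v w _ _ ha hb x, mem_mclSub, and_comm]
  let e : ↥(stabilizer Co0 v ⊓ stabilizer Co0 w) ≃* mclSub := conjEquiv (g₂ * g₁) _ _ key
  have := isSimpleGroup_mclSub
  exact ⟨e.isSimpleGroup, by rw [Nat.card_congr e.toEquiv, card_mclSub]⟩

end Cfsg.Agent.Helper92
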