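import Mathlib
import Cfsg.Agent.Helper48.M11UGeo

/-! Auxiliary lemmas for helper92's pieces of CALL S0420 (M11 uniqueness, part I). -/

set_option autoImplicit false
set_option linter.unusedSectionVars false
set_option linter.unusedVariables false
set_option linter.style.haveILetI false
open scoped Pointwise

namespace Cfsg.Agent.Helper92.M11UAux

open Cfsg.Agent.Helper48.M11U

universe u
variable {G : Type u} [Group G] [Finite G]

theorem natCard_subtype_eq_filter {α : Type*} [Fintype α] (p : α → Prop) [DecidablePred p] :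
    Nat.card {a : α // p a} = (Finset.univ.filter p).card := by
  rw [Nat.card_eq_fintype_card, Fintype.card_subtype]

theorem inv_eq_self_of_two {z : G} (hz : orderOf z = 2) : z⁻¹ = z := by
  have h : z ^ 2 = 1 := by rw [← hz]; exact pow_orderOf_eq_one z
  rw [inv_eq_iff_mul_eq_one, ← pow_two]; exact h

theorem mul_self_of_two {z : G} (hz : orderOf z = 2) : z * z = 1 := by
  have h : z ^ 2 = 1 := by rw [← hz]; exact pow_orderOf_eq_one z
  rw [← pow_two]; exact h

/-- the three Sylow 3-subgroups inverted by `z` -/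
theorem tri_exists {z : G} (htri : Nat.card {P : Sylow 3 G // Inv z P} = 3) :
    ∃ R S T : Sylow 3 G, Inv z R ∧ Inv z S ∧ Inv z T ∧ R ≠ S ∧ R ≠ T ∧ S ≠ T ∧
      ∀ P : Sylow 3 G, Inv z P → P = R ∨ P = S ∨ P = T := by
  classical
  haveI : Fintype (Sylow 3 G) := Fintype.ofFinite _
  have hc : (Finset.univ.filter (fun P : Sylow 3 G => Inv z P)).card = 3 := by
    rw [← natCard_subtype_eq_filter]; exact htri
  obtain ⟨R, S, T, hRS, hRT, hST, hF⟩ := Finset.card_eq_three.1 hc
  have hm : ∀ P : Sylow 3 G, Inv z P ↔ P = R ∨ P = S ∨ P = T := by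
    intro P
    have : P ∈ Finset.univ.filter (fun P : Sylow 3 G => Inv z P) ↔ P ∈ ({R, S, T} : Finset _) := by
      rw [hF]
    simpa using this
  exact ⟨R, S, T, (hm R).2 (Or.inl rfl), (hm S).2 (Or.inr (Or.inl rfl)),
    (hm T).2 (Or.inr (Or.inr rfl)), hRS, hRT, hST, fun P hP => (hm P).1 hP⟩

/-- the third Sylow 3-subgroup inverted by `z` -/
theorem tri_third {z : G} (htri : Nat.card {P : Sylow 3 G // Inv z P} = 3) (R S : Sylow 3 G)
    (h1 : Inv z R) (h2 : Inv z S) (hne : R ≠ S) :
    ∃ T : Sylow 3 G, Inv z T ∧ R ≠ T ∧ S ≠ T ∧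
      ∀ P : Sylow 3 G, Inv z P → P = R ∨ P = S ∨ P = T := by
  obtain ⟨A, B, C, hA, hB, hC, hAB, hAC, hBC, hall⟩ := tri_exists htri
  rcases hall R h1 with e1 | e1 | e1 <;> rcases hall S h2 with e2 | e2 | e2
  · exact (hne (e1.trans e2.symm)).elim
  · refine ⟨C, hC, ?_, ?_, ?_⟩
    · rw [e1]; exact hAC
    · rw [e2]; exact hBC
    · intro P hP; rw [e1, e2]; exact hall P hP
  · refine ⟨B, hB, ?_, ?_, ?_⟩
    · rw [e1]; exact hAB
    · rw [e2]; exact fun e => hBC e.symm
    · intro P hP; rw [e1, e2]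
      rcases hall P hP with e | e | e
      · exact Or.inl e
      · exact Or.inr (Or.inr e)
      · exact Or.inr (Or.inl e)
  · refine ⟨C, hC, ?_, ?_, ?_⟩
    · rw [e1]; exact hBC
    · rw [e2]; exact hAC
    · intro P hP; rw [e1, e2]
      rcases hall P hP with e | e | e
      · exact Or.inr (Or.inl e)
      · exact Or.inl e
      · exact Or.inr (Or.inr e)
  · exact (hne (e1.trans e2.symm)).elim
  · refine ⟨A, hA, ?_, ?_, ?_⟩
    · rw [e1]; exact fun e => hAB e.symm
    · rw [e2]; exact fun e => hAC e.symm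
    · intro P hP; rw [e1, e2]
      rcases hall P hP with e | e | e
      · exact Or.inr (Or.inr e)
      · exact Or.inl e
      · exact Or.inr (Or.inl e)
  · refine ⟨B, hB, ?_, ?_, ?_⟩
    · rw [e1]; exact fun e => hBC e.symm
    · rw [e2]; exact hAB
    · intro P hP; rw [e1, e2]
      rcases hall P hP with e | e | e
      · exact Or.inr (Or.inl e)
      · exact Or.inr (Or.inr e)
      · exact Or.inl e
  · refine ⟨A, hA, ?_, ?_, ?_⟩
    · rw [e1]; exact fun e => hAC e.symm
    · rw [e2]; exact fun e => hAB e.symm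
    · intro P hP; rw [e1, e2]
      rcases hall P hP with e | e | e
      · exact Or.inr (Or.inr e)
      · exact Or.inr (Or.inl e)
      · exact Or.inl e
  · exact (hne (e1.trans e2.symm)).elim

/-- the product of two inverters of `R` centralises `R`, hence lies in `R` -/
theorem mul_inverters_mem (h : M11Raw G) {z z' : G} {R : Sylow 3 G} (h1 : Inv z R)
    (h2 : Inv z' R) : z * z' ∈ (R : Subgroup G) := by
  apply h.cent R
  intro r hr
  have e1 : z' * r = r⁻¹ * z' := by
    have := h2 r hr
    calc z' * r = (z' * r * z'⁻¹) * z' := by group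
      _ = r⁻¹ * z' := by rw [this]
  have e2 : z * r⁻¹ = r * z := by
    have := h1 r⁻¹ (inv_mem hr)
    rw [inv_inv] at this
    calc z * r⁻¹ = (z * r⁻¹ * z⁻¹) * z := by group
      _ = r * z := by rw [this]
  calc z * z' * r = z * (z' * r) := by group
    _ = z * (r⁻¹ * z') := by rw [e1]
    _ = (z * r⁻¹) * z' := by group
    _ = r * z * z' := by rw [e2]
    _ = r * (z * z') := by group

/-- two inverting involutions of `R` normalising a common `P ≠ R` coincide -/
theorem inverter_eq_of_normalize (h : M11L1 G) {z z' : G} (hz : orderOf z = 2)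
    (hz' : orderOf z' = 2) {R P : Sylow 3 G} (h1 : Inv z R) (h2 : Inv z' R) (hP : z • P = P)
    (hP' : z' • P = P) (hne : R ≠ P) : z = z' := by
  have hm := mul_inverters_mem h.raw h1 h2
  have hs : (z * z') • P = P := by rw [mul_smul, hP', hP]
  have h3 := h.semireg R P (z * z') hm hs (fun e => hne e.symm)
  have h4 : z = z'⁻¹ := eq_inv_of_mul_eq_one_left h3
  rw [h4, inv_eq_self_of_two hz']

theorem adj_of_inv {z : G} (hz : orderOf z = 2) {A B : Sylow 3 G} (hA : Inv z A) (hB : Inv z B)
    (hne : A ≠ B) : Adj A B := ⟨hne, z, hz, hA, hB⟩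

theorem adj_irrefl (A : Sylow 3 G) : ¬ Adj A A := fun h => h.1 rfl

end Cfsg.Agent.Helper92.M11UAux
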