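import Mathlib
import Cfsg.Agent.Helper48.M11UGeo
import Cfsg.Agent.Helper92.M11UAux

set_option autoImplicit false
set_option linter.unusedSectionVars false
set_option linter.unusedVariables false
set_option linter.style.haveILetI false
open scoped Pointwise

namespace Cfsg.Agent.Helper92

open Cfsg.Agent.Helper48.M11U
open Cfsg.Agent.Helper92.M11UAux

universe u
variable {G : Type u} [Group G] [Finite G]

theorem m11u_nab_conf (h : M11Gr G) (hA : PropA' G) (hB : PropB G) :
    ∃ R S T U : Sylow 3 G, Adj R S ∧ Adj R T ∧ (∀ r ∈ (R : Subgroup G), Adj T (r • S)) ∧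
      U ≠ R ∧ ¬ Adj R U ∧ ∀ r ∈ (R : Subgroup G), Adj U (r • T) := by
  classical
  have hl1 := h.geo.l1
  obtain ⟨R0⟩ : Nonempty (Sylow 3 G) := inferInstance
  obtain ⟨z, hz, hzR0⟩ := hl1.exinv R0
  obtain ⟨R, S, T, hR, hS, hT, hRS, hRT, hST, hall⟩ := tri_exists (hl1.tri z hz)
  have hS9 := hl1.raw.card3 S
  obtain ⟨s₀, hs₀, hs₀1⟩ : ∃ s₀ ∈ (S : Subgroup G), s₀ ≠ 1 := by
    by_contra hcon
    have hcon' : ∀ s ∈ (S : Subgroup G), s = 1 := fun s hs => by
      by_contra hs1
      exact hcon ⟨s, hs, hs1⟩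
    have hbot : (S : Subgroup G) = ⊥ := (Subgroup.eq_bot_iff_forall _).2 hcon'
    rw [hbot] at hS9
    simp at hS9
  have hRS' : Adj R S := adj_of_inv hz hR hS hRS
  have hRT' : Adj R T := adj_of_inv hz hR hT hRT
  have hSR' : Adj S R := adj_symm hRS'
  have hTS' : Adj T S := adj_of_inv hz hT hS (fun e => hST e.symm)
  refine ⟨R, S, T, s₀ • R, hRS', hRT', ?_, ?_, ?_, ?_⟩
  · intro r hr
    by_cases hr1 : r = 1
    · rw [hr1, one_smul]; exact hTS'
    · exact hB z R T S hz hR hT hS hRT hRS (fun e => hST e.symm) r hr hr1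
  · intro e
    exact hs₀1 (hl1.semireg S R s₀ hs₀ e hRS)
  · exact hA S R hSR' s₀ hs₀ hs₀1
  · intro r hr
    have hkey : ∃ s' ∈ (S : Subgroup G), r • T = s' • T := by
      by_cases hr1 : r = 1
      · exact ⟨1, one_mem _, by rw [hr1]⟩
      · have h1 : Adj S (r • T) := hB z R S T hz hR hS hT hRS hRT hST r hr hr1
        have hrR : r • R = R := by
          rw [smul_eq_iff]; exact Subgroup.le_normalizer hr
        have h2 : Adj R (r • T) := by
          have := adj_smul hRT' r
          rwa [hrR] at this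
        obtain ⟨s, hs, hsU | hsU⟩ :=
          h.nbr z S R T (r • T) hz hS hR hT (fun e => hRS e.symm) hST hRT h1
        · exfalso
          by_cases hs1 : s = 1
          · rw [hs1, one_smul] at hsU
            rw [hsU] at h2
            exact adj_irrefl R h2
          · rw [hsU] at h2
            exact hA S R hSR' s hs hs1 h2
        · exact ⟨s, hs, hsU⟩
    obtain ⟨s', hs', hs'T⟩ := hkey
    rw [hs'T]
    have hs₀S : s₀ • S = S := by rw [smul_eq_iff]; exact Subgroup.le_normalizer hs₀
    by_cases hss : s' = s₀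
    · rw [hss]; exact adj_smul hRT' s₀
    · have hz' : orderOf (s₀ * z * s₀⁻¹) = 2 := by
        have h3 := MulEquiv.orderOf_eq (MulAut.conj s₀) z
        rw [MulAut.conj_apply] at h3
        rw [h3, hz]
      have hiS : Inv (s₀ * z * s₀⁻¹) S := by
        have := inv_conj hS s₀
        rwa [hs₀S] at this
      have key := hB (s₀ * z * s₀⁻¹) S (s₀ • R) (s₀ • T) hz' hiS (inv_conj hR s₀) (inv_conj hT s₀)
        (fun e => hRS (smul_left_cancel s₀ (by rw [hs₀S]; exact e)).symm)
        (fun e => hST (smul_left_cancel s₀ (by rw [hs₀S]; exact e)))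
        (fun e => hRT (smul_left_cancel s₀ e))
        (s' * s₀⁻¹) (mul_mem hs' (inv_mem hs₀))
        (fun e => hss (by rw [mul_inv_eq_one] at e; exact e))
      rwa [← mul_smul, inv_mul_cancel_right] at key

end Cfsg.Agent.Helper92
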