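import Mathlib
import Cfsg.Agent.Helper48.M11UGeo
import Cfsg.Agent.Helper92.M11UAux

set_option autoImplicit false
set_option linter.unusedSectionVars false
set_option linter.unusedVariables false
set_option linter.style.haveILetI false
open scoped Pointwise

namespace Cfsg.Agent.Helper92

open Cfsg.Agent.Helper48.M11U
open Cfsg.Agent.Helper92.M11UAux

universe u
variable {G : Type u} [Group G] [Finite G]

theorem m11u_nn_refl4 (h : M11Gr G)
    (hthird : ∀ (z : G) (R S U : Sylow 3 G), orderOf z = 2 → Inv z R → Inv z S → R ≠ S →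
      Adj U R → Adj U S → Inv z U)
    (z : G) (hz : orderOf z = 2) :
    Nat.card {P : Sylow 3 G // ¬ Inv z P ∧ ∀ Q : Sylow 3 G, Inv z Q → ¬ Adj P Q} = 4 := by
  classical
  haveI : Fintype (Sylow 3 G) := Fintype.ofFinite _
  have htri := h.geo.l1.tri z hz
  obtain ⟨R, S, T, hR, hS, hT, hRS, hRT, hST, hall⟩ := tri_exists htri
  have cA : (Finset.univ.filter (fun U : Sylow 3 G => Adj R U)).card = 18 := by
    rw [← natCard_subtype_eq_filter]; exact h.valency R
  have cB : (Finset.univ.filter (fun U : Sylow 3 G => Adj S U)).card = 18 := by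
    rw [← natCard_subtype_eq_filter]; exact h.valency S
  have cC : (Finset.univ.filter (fun U : Sylow 3 G => Adj T U)).card = 18 := by
    rw [← natCard_subtype_eq_filter]; exact h.valency T
  have hAB : (Finset.univ.filter (fun U : Sylow 3 G => Adj R U)) ∩
      (Finset.univ.filter (fun U : Sylow 3 G => Adj S U)) = {T} := by
    ext P
    simp only [Finset.mem_inter, Finset.mem_filter, Finset.mem_univ, true_and,
      Finset.mem_singleton]
    constructor
    · rintro ⟨h1, h2⟩
      have hP := hthird z R S P hz hR hS hRS (adj_symm h1) (adj_symm h2)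
      rcases hall P hP with e | e | e
      · exact (h1.1 e.symm).elim
      · exact (h2.1 e.symm).elim
      · exact e
    · intro e
      rw [e]
      exact ⟨adj_of_inv hz hR hT hRT, adj_of_inv hz hS hT hST⟩
  have hAC : (Finset.univ.filter (fun U : Sylow 3 G => Adj R U)) ∩
      (Finset.univ.filter (fun U : Sylow 3 G => Adj T U)) = {S} := by
    ext P
    simp only [Finset.mem_inter, Finset.mem_filter, Finset.mem_univ, true_and,
      Finset.mem_singleton]
    constructor
    · rintro ⟨h1, h2⟩
      have hP := hthird z R T P hz hR hT hRT (adj_symm h1) (adj_symm h2)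
      rcases hall P hP with e | e | e
      · exact (h1.1 e.symm).elim
      · exact e
      · exact (h2.1 e.symm).elim
    · intro e
      rw [e]
      exact ⟨adj_of_inv hz hR hS hRS, adj_of_inv hz hT hS (fun e => hST e.symm)⟩
  have hBC : (Finset.univ.filter (fun U : Sylow 3 G => Adj S U)) ∩
      (Finset.univ.filter (fun U : Sylow 3 G => Adj T U)) = {R} := by
    ext P
    simp only [Finset.mem_inter, Finset.mem_filter, Finset.mem_univ, true_and,
      Finset.mem_singleton]
    constructor
    · rintro ⟨h1, h2⟩
      have hP := hthird z S T P hz hS hT hST (adj_symm h1) (adj_symm h2)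
      rcases hall P hP with e | e | e
      · exact e
      · exact (h1.1 e.symm).elim
      · exact (h2.1 e.symm).elim
    · intro e
      rw [e]
      exact ⟨adj_of_inv hz hS hR (fun e => hRS e.symm), adj_of_inv hz hT hR (fun e => hRT e.symm)⟩
  have hABc : ((Finset.univ.filter (fun U : Sylow 3 G => Adj R U)) ∪
      (Finset.univ.filter (fun U : Sylow 3 G => Adj S U))).card = 35 := by
    have := Finset.card_union_add_card_inter (Finset.univ.filter (fun U : Sylow 3 G => Adj R U))
      (Finset.univ.filter (fun U : Sylow 3 G => Adj S U))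
    rw [hAB, Finset.card_singleton, cA, cB] at this
    omega
  have hc2 : (((Finset.univ.filter (fun U : Sylow 3 G => Adj R U)) ∪
      (Finset.univ.filter (fun U : Sylow 3 G => Adj S U))) ∩
      (Finset.univ.filter (fun U : Sylow 3 G => Adj T U))).card = 2 := by
    rw [Finset.union_inter_distrib_right, hAC, hBC, ← Finset.insert_eq,
      Finset.card_pair (fun e => hRS e.symm)]
  have hU : (((Finset.univ.filter (fun U : Sylow 3 G => Adj R U)) ∪
      (Finset.univ.filter (fun U : Sylow 3 G => Adj S U))) ∪
      (Finset.univ.filter (fun U : Sylow 3 G => Adj T U))).card = 51 := by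
    have := Finset.card_union_add_card_inter ((Finset.univ.filter (fun U : Sylow 3 G => Adj R U)) ∪
      (Finset.univ.filter (fun U : Sylow 3 G => Adj S U)))
      (Finset.univ.filter (fun U : Sylow 3 G => Adj T U))
    rw [hc2, hABc, cC] at this
    omega
  have hX : Finset.univ.filter
      (fun P : Sylow 3 G => ¬ Inv z P ∧ ∀ Q : Sylow 3 G, Inv z Q → ¬ Adj P Q) =
      (((Finset.univ.filter (fun U : Sylow 3 G => Adj R U)) ∪
      (Finset.univ.filter (fun U : Sylow 3 G => Adj S U))) ∪
      (Finset.univ.filter (fun U : Sylow 3 G => Adj T U)))ᶜ := by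
    ext P
    simp only [Finset.mem_filter, Finset.mem_univ, true_and, Finset.mem_compl, Finset.mem_union,
      not_or]
    constructor
    · rintro ⟨h1, h2⟩
      exact ⟨⟨fun e => h2 R hR (adj_symm e), fun e => h2 S hS (adj_symm e)⟩,
        fun e => h2 T hT (adj_symm e)⟩
    · rintro ⟨⟨h1, h2⟩, h3⟩
      have hQ : ∀ Q : Sylow 3 G, Inv z Q → ¬ Adj P Q := by
        intro Q hQ hPQ
        rcases hall Q hQ with e | e | e
        · rw [e] at hPQ; exact h1 (adj_symm hPQ)
        · rw [e] at hPQ; exact h2 (adj_symm hPQ)
        · rw [e] at hPQ; exact h3 (adj_symm hPQ)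
      refine ⟨fun hP => ?_, hQ⟩
      rcases hall P hP with e | e | e
      · exact h2 (by rw [e]; exact adj_of_inv hz hS hR (fun e' => hRS e'.symm))
      · exact h1 (by rw [e]; exact adj_of_inv hz hR hS hRS)
      · exact h1 (by rw [e]; exact adj_of_inv hz hR hT hRT)
  rw [natCard_subtype_eq_filter, hX, Finset.card_compl, hU]
  have : Fintype.card (Sylow 3 G) = 55 := by
    rw [← Nat.card_eq_fintype_card]; exact h.geo.l1.raw.num3
  omega

end Cfsg.Agent.Helper92
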