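import Mathlib

/-!
# CALL BG17 (helper25), piece CFP (helper92)
-/

set_option autoImplicit false

namespace Cfsg.Agent.Helper92

open Subgroup

universe u

theorem bg17_cyclic_fpf {Γ : Type u} [Group Γ] [Finite Γ] (u : Γ) (H : Subgroup Γ)
    (h : ∀ r : ℕ, r.Prime → r ∣ orderOf u →
      ∀ x ∈ H, u ^ (orderOf u / r) * x = x * u ^ (orderOf u / r) → x = 1) :
    ∀ c ∈ zpowers u, c ≠ 1 → ∀ x ∈ H, c * x = x * c → x = 1 := by
  intro c hc hc1 x hx hcx
  have hcN : orderOf c ∣ orderOf u := orderOf_dvd_of_mem_zpowers hc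
  obtain ⟨r, hr, hrc⟩ := Nat.exists_prime_and_dvd (fun h0 => hc1 (orderOf_eq_one_iff.mp h0))
  have hru : r ∣ orderOf u := hrc.trans hcN
  have hw : orderOf (u ^ (orderOf u / r)) = r :=
    orderOf_pow_orderOf_div (orderOf_pos u).ne' hru
  have hc' : orderOf (c ^ (orderOf c / r)) = r :=
    orderOf_pow_orderOf_div (orderOf_pos c).ne' hrc
  have hc'u : c ^ (orderOf c / r) ∈ zpowers u := (zpowers u).pow_mem hc _
  have hmem : c ^ (orderOf c / r) ∈ zpowers (u ^ (orderOf u / r)) := by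
    obtain ⟨j, hj⟩ := mem_zpowers_iff.mp hc'u
    have h1 : u ^ (j * (r : ℤ)) = 1 := by
      rw [zpow_mul, hj, zpow_natCast]
      nth_rewrite 2 [← hc']
      exact pow_orderOf_eq_one _
    have h2 : (orderOf u : ℤ) ∣ j * (r : ℤ) := orderOf_dvd_iff_zpow_eq_one.mpr h1
    obtain ⟨q, hq⟩ := hru
    have hq' : orderOf u / r = q := by
      rw [hq]
      exact Nat.mul_div_cancel_left q hr.pos
    have h3 : (q : ℤ) ∣ j := by
      rw [hq] at h2
      push_cast at h2
      rw [mul_comm (r : ℤ) (q : ℤ)] at h2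
      exact Int.dvd_of_mul_dvd_mul_right (by exact_mod_cast hr.ne_zero) h2
    obtain ⟨t, ht⟩ := h3
    rw [mem_zpowers_iff]
    refine ⟨t, ?_⟩
    rw [hq', ← zpow_natCast, ← zpow_mul, ← ht, hj]
  have heq : zpowers (c ^ (orderOf c / r)) = zpowers (u ^ (orderOf u / r)) := by
    apply Subgroup.eq_of_le_of_card_ge (zpowers_le.mpr hmem)
    rw [Nat.card_zpowers, Nat.card_zpowers, hw, hc']
  have hwc : u ^ (orderOf u / r) ∈ zpowers (c ^ (orderOf c / r)) :=
    heq ▸ mem_zpowers (u ^ (orderOf u / r))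
  obtain ⟨s, hs⟩ := mem_zpowers_iff.mp hwc
  have hcomm : u ^ (orderOf u / r) * x = x * u ^ (orderOf u / r) := by
    have h1 : Commute c x := hcx
    have h2 : Commute (c ^ (orderOf c / r)) x := h1.pow_left _
    have h3 : Commute ((c ^ (orderOf c / r)) ^ s) x := h2.zpow_left s
    rw [hs] at h3
    exact h3
  exact h r hr hru x hx hcomm

end Cfsg.Agent.Helper92
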