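import Mathlib

/-!
# CALL BG17 (helper25), piece EXD (helper92)
-/

set_option autoImplicit false

namespace Cfsg.Agent.Helper92

open Subgroup

universe u

variable {G : Type u} [Group G] [Finite G]

theorem bg17_W_cyclic {r : ℕ} (hr : r.Prime) (A W : Subgroup G) (hWA : W ≤ A)
    (hA : Nat.card A = r ^ 2) {a : G} (haA : a ∈ A) (ha : orderOf a = r) (haW : a ∉ W) :
    ∀ w ∈ W, w ≠ 1 → zpowers w = W := by
  intro w hw hw1
  have hdvd : Nat.card W ∣ r ^ 2 := hA ▸ Subgroup.card_dvd_of_le hWA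
  obtain ⟨i, hi, hWi⟩ := (Nat.dvd_prime_pow hr).mp hdvd
  have hzle : zpowers w ≤ W := zpowers_le.mpr hw
  have hz : Nat.card (zpowers w) ∣ Nat.card W := Subgroup.card_dvd_of_le hzle
  rw [Nat.card_zpowers] at hz
  have hw2 : orderOf w ≠ 1 := fun h => hw1 (orderOf_eq_one_iff.mp h)
  have hi2 : i ≠ 2 := by
    intro h2
    rw [h2] at hWi
    have hWA' : W = A := Subgroup.eq_of_le_of_card_ge hWA (by rw [hA, hWi])
    exact haW (hWA' ▸ haA)
  have hi0 : i ≠ 0 := by
    intro h0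
    rw [h0, pow_zero] at hWi
    rw [hWi] at hz
    exact hw2 (Nat.dvd_one.mp hz)
  have hi1 : i = 1 := by omega
  rw [hi1, pow_one] at hWi
  rw [hWi] at hz
  have hwr : orderOf w = r := ((Nat.dvd_prime hr).mp hz).resolve_left hw2
  exact Subgroup.eq_of_le_of_card_ge hzle (by rw [Nat.card_zpowers, hwr, hWi])

end Cfsg.Agent.Helper92
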