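import Mathlib

/-!
# CALL BG17 (helper25), piece EXU (helper92)
-/

set_option autoImplicit false

namespace Cfsg.Agent.Helper92

open Subgroup

universe u

theorem bg17_exists_cyclic_good {A : Type u} [Group A] [Finite A] (hc : ∀ a b : A, a * b = b * a)
    (good : A → Prop)
    (hpow : ∀ (w : A) (m : ℕ), good w → (orderOf w).Coprime m → good (w ^ m))
    (h : ∀ r : ℕ, r.Prime → r ∣ Nat.card A →
      ∃ v : A, orderOf v = r ^ (Monoid.exponent A).factorization r ∧
        good (v ^ r ^ ((Monoid.exponent A).factorization r - 1))) :
    ∃ u : A, orderOf u = Monoid.exponent A ∧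
      ∀ r : ℕ, r.Prime → r ∣ orderOf u → good (u ^ (orderOf u / r)) := by
  classical
  obtain ⟨N, hNdef⟩ : ∃ N, N = Monoid.exponent A := ⟨_, rfl⟩
  rw [← hNdef] at h ⊢
  have hN0 : N ≠ 0 := hNdef ▸ Monoid.exponent_ne_zero_of_finite
  have hNcard : N ∣ Nat.card A := hNdef ▸ Group.exponent_dvd_nat_card
  have key : ∀ s : Finset ℕ, (∀ r ∈ s, r.Prime ∧ r ∣ N) →
      ∃ u : A, orderOf u = ∏ r ∈ s, r ^ N.factorization r ∧
        ∀ r ∈ s, good (u ^ (orderOf u / r)) := by
    intro s
    induction s using Finset.induction_on with
    | empty =>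
      intro _
      exact ⟨1, by rw [orderOf_one, Finset.prod_empty], fun r hr => absurd hr (Finset.notMem_empty r)⟩
    | insert p s hps ih =>
      intro hs
      obtain ⟨u, hu, hgood⟩ := ih (fun r hr => hs r (Finset.mem_insert_of_mem hr))
      obtain ⟨hp, hpN⟩ := hs p (Finset.mem_insert_self p s)
      obtain ⟨v, hv, hvg⟩ := h p hp (hpN.trans hNcard)
      have he : 0 < N.factorization p := hp.factorization_pos_of_dvd hN0 hpN
      have hpe : p ^ N.factorization p = p ^ (N.factorization p - 1) * p := by
        rw [← pow_succ, Nat.sub_add_cancel he]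
      have hcop : (orderOf u).Coprime (orderOf v) := by
        rw [hu, hv]
        apply Nat.Coprime.prod_left
        intro r hr
        have hrp : r ≠ p := fun h => hps (h ▸ hr)
        exact Nat.Coprime.pow _ _
          ((Nat.coprime_primes (hs r (Finset.mem_insert_of_mem hr)).1 hp).mpr hrp)
      have hcomm : Commute u v := hc u v
      have huv : orderOf (u * v) = orderOf u * orderOf v :=
        hcomm.orderOf_mul_eq_mul_orderOf_of_coprime hcop
      refine ⟨u * v, ?_, ?_⟩
      · rw [huv, hu, hv, Finset.prod_insert hps, mul_comm]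
      · intro r hr
        rw [huv]
        rcases Finset.mem_insert.mp hr with hrp | hr'
        · rw [hrp]
          have e1 : orderOf u * orderOf v / p = orderOf u * p ^ (N.factorization p - 1) := by
            rw [hv, hpe, ← mul_assoc, Nat.mul_div_cancel _ hp.pos]
          rw [e1, hcomm.mul_pow, pow_mul u, pow_orderOf_eq_one, one_pow, one_mul, mul_comm,
            pow_mul]
          apply hpow _ _ hvg
          have ho : orderOf (v ^ p ^ (N.factorization p - 1)) = p := by
            have h1 : p ^ (N.factorization p - 1) = orderOf v / p := by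
              rw [hv, hpe, Nat.mul_div_cancel _ hp.pos]
            rw [h1]
            exact orderOf_pow_orderOf_div (orderOf_pos v).ne' (hv ▸ dvd_pow_self p he.ne')
          rw [ho]
          exact (Nat.Coprime.coprime_dvd_right (dvd_pow_self p he.ne') (hv ▸ hcop)).symm
        · have hrP : r.Prime := (hs r (Finset.mem_insert_of_mem hr')).1
          have hrN : r ∣ N := (hs r (Finset.mem_insert_of_mem hr')).2
          have hrp : r ≠ p := fun h => hps (h ▸ hr')
          have hru : r ∣ orderOf u := by
            rw [hu]
            exact dvd_trans (dvd_pow_self r (hrP.factorization_pos_of_dvd hN0 hrN).ne')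
              (Finset.dvd_prod_of_mem (fun r => r ^ N.factorization r) hr')
          have e1 : orderOf u * orderOf v / r = orderOf u / r * orderOf v :=
            Nat.mul_div_right_comm hru _
          rw [e1, hcomm.mul_pow, pow_mul' v, pow_orderOf_eq_one, one_pow, mul_one, pow_mul]
          apply hpow _ _ (hgood r hr')
          have ho : orderOf (u ^ (orderOf u / r)) = r :=
            orderOf_pow_orderOf_div (orderOf_pos u).ne' hru
          rw [ho, hv]
          exact Nat.Coprime.pow_right _ ((Nat.coprime_primes hrP hp).mpr hrp)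
  obtain ⟨u, hu, hgood⟩ := key N.primeFactors
    (fun r hr => ⟨Nat.prime_of_mem_primeFactors hr, Nat.dvd_of_mem_primeFactors hr⟩)
  have huN : orderOf u = N := by
    rw [hu]
    have h1 := Nat.prod_factorization_pow_eq_self hN0
    rw [Finsupp.prod, Nat.support_factorization] at h1
    exact h1
  exact ⟨u, huN, fun r hr hrd => hgood r (Nat.mem_primeFactors.mpr ⟨hr, huN ▸ hrd, hN0⟩)⟩

end Cfsg.Agent.Helper92
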