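import Mathlib
import Cfsg.Agent.S1432

/-!
# CALL BG36 (row S1436), piece P3 (helper92, double)
-/

set_option autoImplicit false

namespace Cfsg.Agent.Helper92

open Cfsg Subgroup

universe u

variable {G : Type u} [Group G] [Finite G]

/-- PIECE P3: S1432 in `N` for `(g z g⁻¹, g a₁ g⁻¹)`: the alternative `C_G(g a₁ g⁻¹) ≤ N` would
give `g A g⁻¹ ≤ N`; so `p ∈ κ(N)`.  Also `z` does not centralize `A`. -/
theorem bg36_p_kappa (hG : IsMinSimpleOddOrder G) {N : Subgroup G} (hN : IsCoatom N) {p : ℕ}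
    (hp : p.Prime) (hpσN : p ∉ sigma N) {A : Subgroup G} (hAel : IsElementaryAbelian p A)
    {z g a₁ : G} (hz1 : z ≠ 1) (hgσ : g * z * g⁻¹ ∈ sigmaCore N)
    (hgC : centralizer ({g * z * g⁻¹} : Set G) ≤ N)
    (hnle : ¬ A.map (MulAut.conj g).toMonoidHom ≤ N)
    (ha₁ : a₁ ∈ A) (ha₁1 : a₁ ≠ 1) (hza₁ : z * a₁ = a₁ * z) :
    p ∈ kappa N ∧ ¬ ∀ a ∈ A, z * a = a * z := by
  have hmem : ∀ v w : G, v * w = w * v →
      g * w * g⁻¹ ∈ centralizer ({g * v * g⁻¹} : Set G) := by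
    intro v w hw
    rw [Subgroup.mem_centralizer_iff]
    intro y hy
    rw [Set.mem_singleton_iff] at hy
    subst hy
    calc g * v * g⁻¹ * (g * w * g⁻¹) = g * (v * w) * g⁻¹ := by group
      _ = g * (w * v) * g⁻¹ := by rw [hw]
      _ = g * w * g⁻¹ * (g * v * g⁻¹) := by group
  have hsecond : ¬ ∀ a ∈ A, z * a = a * z := by
    intro hall
    apply hnle
    rintro _ ⟨a, ha, rfl⟩
    exact hgC (hmem z a (hall a ha))
  refine ⟨?_, hsecond⟩
  have hx1 : g * z * g⁻¹ ≠ 1 := by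
    intro h1
    apply hz1
    have h2 : z = g⁻¹ * (g * z * g⁻¹) * g := by group
    rw [h2, h1]; group
  have hx'1 : g * a₁ * g⁻¹ ≠ 1 := by
    intro h1
    apply ha₁1
    have h2 : a₁ = g⁻¹ * (g * a₁ * g⁻¹) * g := by group
    rw [h2, h1]; group
  have hx'N : g * a₁ * g⁻¹ ∈ N ⊓ centralizer ({g * z * g⁻¹} : Set G) :=
    ⟨hgC (hmem z a₁ hza₁), hmem z a₁ hza₁⟩
  have ho : orderOf (g * a₁ * g⁻¹) = p := by
    have h1 : (g * a₁ * g⁻¹) ^ p = 1 := by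
      rw [conj_pow, hAel.2 a₁ ha₁]; group
    haveI := Fact.mk hp
    exact orderOf_eq_prime h1 hx'1
  have hσ : ∀ r : ℕ, r.Prime → r ∣ orderOf (g * a₁ * g⁻¹) → r ∉ sigma N := by
    intro r hr hrd
    rw [ho] at hrd
    have h3 : r = p := (Nat.prime_dvd_prime_iff_eq hr hp).mp hrd
    rw [h3]; exact hpσN
  rcases Cfsg.Agent.S1432.result hG N hN (g * z * g⁻¹) hgσ hx1 (g * a₁ * g⁻¹) hx'N hx'1 hσ
    with h1 | h2
  · exact h1.1 p hp (by rw [ho])
  · exfalso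
    apply hnle
    rintro _ ⟨a, ha, rfl⟩
    apply h2.2.2.1
    have hc : a₁ * a = a * a₁ := by
      have h4 := hAel.1.is_comm.comm (⟨a₁, ha₁⟩ : ↥A) ⟨a, ha⟩
      exact congrArg Subtype.val h4
    exact hmem a₁ a hc

end Cfsg.Agent.Helper92
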