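import Mathlib
import Cfsg.Prelude.Def_OddOrderLocal

/-!
# CALL S1356 (helper99), pieces SUPN and CNORM (helper92)
-/

set_option autoImplicit false

namespace Cfsg.Agent.Helper92

open Cfsg Subgroup

universe u

variable {G : Type u} [Group G] [Finite G]

theorem bg56_sup_nil {A X : Subgroup G} (hA : ∀ a ∈ A, ∀ b ∈ A, a * b = b * a) (hX : IsCyclic ↥X)
    (hXA : X ≤ centralizer (A : Set G)) : Group.IsNilpotent ↥(A ⊔ X) := by
  have hXc : ∀ x ∈ X, ∀ y ∈ X, x * y = y * x := by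
    intro x hx y hy
    obtain ⟨g, hg⟩ := hX.exists_generator
    obtain ⟨i, hi⟩ := mem_zpowers_iff.mp (hg ⟨x, hx⟩)
    obtain ⟨j, hj⟩ := mem_zpowers_iff.mp (hg ⟨y, hy⟩)
    have h : (⟨x, hx⟩ : ↥X) * ⟨y, hy⟩ = ⟨y, hy⟩ * ⟨x, hx⟩ := by
      rw [← hi, ← hj, ← zpow_add, ← zpow_add, add_comm]
    exact congrArg Subtype.val h
  have hgen : ∀ a ∈ ((A : Set G) ∪ X), ∀ b ∈ ((A : Set G) ∪ X), a * b = b * a := by
    rintro a (ha | ha) b (hb | hb)
    · exact hA a ha b hb
    · exact mem_centralizer_iff.mp (hXA hb) a ha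
    · exact (mem_centralizer_iff.mp (hXA ha) b hb).symm
    · exact hXc a ha b hb
  have hcl : ∀ a ∈ A ⊔ X, ∀ b ∈ A ⊔ X, a * b = b * a := by
    rw [sup_eq_closure]
    have h1 : closure ((A : Set G) ∪ X) ≤ centralizer ((A : Set G) ∪ X) :=
      (closure_le _).2 (fun x hx => mem_centralizer_iff.2 (fun y hy => hgen y hy x hx))
    have h2 : closure ((A : Set G) ∪ X) ≤ centralizer (closure ((A : Set G) ∪ X) : Set G) :=
      (closure_le _).2 (fun x hx => mem_centralizer_iff.2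
        (fun y hy => (mem_centralizer_iff.1 (h1 hy) x hx).symm))
    intro x hx y hy
    exact mem_centralizer_iff.1 (h2 hy) x hx
  refine ⟨⟨1, ?_⟩⟩
  rw [_root_.upperCentralSeries_one, eq_top_iff']
  intro z
  rw [mem_center_iff]
  intro g
  exact Subtype.ext (hcl g.1 g.2 z.1 z.2)

end Cfsg.Agent.Helper92
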