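import Mathlib
import Cfsg.Agent.Helper25.CN

/-!
# CALL BG83 (row S1383), piece NILP (helper92, double)
-/

set_option autoImplicit false

namespace Cfsg.Agent.Helper92

open Subgroup

universe u

variable {G : Type u} [Group G] [Finite G]

/-- NILP (pure). The Sylow `q`-subgroup of a nilpotent `H`, as a subgroup of `G`. -/
theorem bg83_nilp_sylow (H : Subgroup G) (hnil : Group.IsNilpotent ↥H) (q : ℕ) [Fact q.Prime] :
    ∃ S : Subgroup G, S ≤ H ∧ IsPGroup q S ∧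
      (∀ Q : Subgroup G, Q ≤ H → IsPGroup q Q → Q ≤ S) ∧
      (∀ s ∈ S, ∀ h ∈ H, (orderOf h).Coprime q → s * h = h * s) ∧
      (∀ h ∈ H, ∃ s ∈ S, ∃ t ∈ H, (orderOf t).Coprime q ∧ h = s * t) := by
  have hq : q.Prime := Fact.out
  obtain ⟨S₀⟩ : Nonempty (Sylow q ↥H) := inferInstance
  have h03 : Group.IsNilpotent ↥H ↔
      ∀ (p : ℕ) (_hp : Fact p.Prime) (P : Sylow p ↥H), (P : Subgroup ↥H).Normal :=
    Group.isNilpotent_of_finite_tfae.out 0 3
  have hS₀n : (S₀ : Subgroup ↥H).Normal := h03.mp hnil q inferInstance S₀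
  have hSH : (S₀ : Subgroup ↥H).map H.subtype ≤ H := by
    rintro _ ⟨w, -, rfl⟩
    exact w.2
  have hSq : IsPGroup q ↥((S₀ : Subgroup ↥H).map H.subtype) := S₀.isPGroup'.map _
  have hmax : ∀ Q : Subgroup G, Q ≤ H → IsPGroup q Q → Q ≤ (S₀ : Subgroup ↥H).map H.subtype := by
    intro Q hQH hQ
    have hQs : IsPGroup q ↥(Q.subgroupOf H) := hQ.comap_subtype
    obtain ⟨Q', hQ'⟩ := hQs.exists_le_sylow
    obtain ⟨g, hg⟩ := MulAction.exists_smul_eq ↥H S₀ Q'
    have hQ'S : Q' = S₀ := by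
      rw [← hg]
      exact Sylow.smul_eq_of_normal
    intro z hz
    refine ⟨⟨z, hQH hz⟩, ?_, rfl⟩
    have h1 : (⟨z, hQH hz⟩ : ↥H) ∈ (Q' : Subgroup ↥H) := hQ' (Subgroup.mem_subgroupOf.mpr hz)
    rw [hQ'S] at h1
    exact h1
  refine ⟨(S₀ : Subgroup ↥H).map H.subtype, hSH, hSq, hmax, ?_, ?_⟩
  · intro s hs h hh hcop
    obtain ⟨k, hk⟩ := (IsPGroup.iff_orderOf.mp hSq) ⟨s, hs⟩
    have hos : orderOf s = q ^ k := by
      rw [← hk]
      exact (Subgroup.orderOf_mk s hs).symm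
    have hc : (orderOf s).Coprime (orderOf h) := by
      rw [hos]
      exact Nat.Coprime.pow_left k hcop.symm
    exact (Cfsg.Agent.Helper25.commute_of_coprime_of_mem_nilpotent H hnil (hSH hs) hh hc).eq
  · intro h hh
    have hfin : orderOf h ≠ 0 := (orderOf_pos h).ne'
    obtain ⟨a, b, hab, ha, hb, ⟨k, hak⟩, hbq⟩ :=
      Cfsg.Agent.Helper25.exists_primary_decomp q hq h hfin
    have hzH : Subgroup.zpowers h ≤ H := by
      rw [Subgroup.zpowers_le]
      exact hh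
    refine ⟨a, ?_, b, hzH hb, hbq, hab⟩
    have haq : IsPGroup q ↥(Subgroup.zpowers a) :=
      IsPGroup.of_card (n := k) (by rw [Nat.card_zpowers, hak])
    have h2 : Subgroup.zpowers a ≤ (S₀ : Subgroup ↥H).map H.subtype :=
      hmax _ (Subgroup.zpowers_le.mpr (hzH ha)) haq
    exact h2 (Subgroup.mem_zpowers a)

end Cfsg.Agent.Helper92
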