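import Mathlib
import Cfsg.Prelude.Def_OddOrderLocal

/-!
# CALL BG83 (row S1383), piece PCARD (helper92, double)
-/

set_option autoImplicit false

namespace Cfsg.Agent.Helper92

open Cfsg Subgroup

universe u

variable {G : Type u} [Group G] [Finite G]

/-- PCARD (pure). -/
theorem bg83_pCore_card (H P : Subgroup G) (p : ℕ) [Fact p.Prime] (hPH : P ≤ H)
    (hP : IsPGroup p P) (hmax : ∀ Q : Subgroup G, Q ≤ H → IsPGroup p Q → Q ≤ P) :
    Nat.card ↥(pCore p ↥H) = Nat.card ↥P := by
  have hcore : IsPGroup p ↥(pCore p ↥H) := by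
    unfold pCore
    exact Sylow.sSup_of_normal _ (fun _ h => h.2) (fun _ h => h.1)
  have hnorm : (P.subgroupOf H).Normal := by
    constructor
    intro n hn g
    rw [Subgroup.mem_subgroupOf] at hn ⊢
    have hle : P.map (MulAut.conj (g : G)).toMonoidHom ≤ P := by
      apply hmax
      · rintro _ ⟨w, hw, rfl⟩
        exact H.mul_mem (H.mul_mem g.2 (hPH hw)) (H.inv_mem g.2)
      · exact hP.map _
    have h1 := hle ⟨(n : G), hn, rfl⟩
    simpa using h1
  have hPs : IsPGroup p ↥(P.subgroupOf H) := hP.comap_subtype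
  have h1 : P.subgroupOf H ≤ pCore p ↥H := le_sSup ⟨hnorm, hPs⟩
  have h2 : pCore p ↥H ≤ P.subgroupOf H := by
    intro z hz
    rw [Subgroup.mem_subgroupOf]
    have hle : (pCore p ↥H).map H.subtype ≤ P := by
      apply hmax
      · rintro _ ⟨w, -, rfl⟩
        exact w.2
      · exact hcore.map _
    exact hle ⟨z, hz, rfl⟩
  have h3 : pCore p ↥H = P.subgroupOf H := le_antisymm h2 h1
  rw [h3]
  exact Nat.card_congr (Subgroup.subgroupOfEquivOfLe hPH).toEquiv

end Cfsg.Agent.Helper92
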