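import Mathlib

/-!
# CALL BG83 (row S1383), piece PNOR (helper92, double)
-/

set_option autoImplicit false

namespace Cfsg.Agent.Helper92

open Subgroup

universe u

variable {G : Type u} [Group G] [Finite G]

/-- PNOR (pure). -/
theorem bg83_norm_max (H P : Subgroup G) (p : ℕ) [Fact p.Prime] (hPH : P ≤ H)
    (hP : IsPGroup p P) (hmax : ∀ Q : Subgroup G, Q ≤ H → IsPGroup p Q → Q ≤ P)
    (K : Subgroup G) (hK : K ≤ normalizer (H : Set G)) : K ≤ normalizer (P : Set G) := by
  have key : ∀ k ∈ normalizer (H : Set G), ∀ z ∈ P, k * z * k⁻¹ ∈ P := by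
    intro k hk z hz
    have hle : P.map (MulAut.conj k).toMonoidHom ≤ P := by
      apply hmax
      · rintro _ ⟨w, hw, rfl⟩
        exact (Subgroup.mem_normalizer_iff.mp hk w).mp (hPH hw)
      · exact hP.map _
    exact hle ⟨z, hz, rfl⟩
  intro k hk
  rw [Subgroup.mem_normalizer_iff]
  intro z
  constructor
  · exact key k (hK hk) z
  · intro hz
    have h1 := key k⁻¹ (inv_mem (hK hk)) _ hz
    simpa [mul_assoc] using h1

end Cfsg.Agent.Helper92
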