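import Mathlib
import Cfsg.Prelude.Def_OddOrderLocal
import Cfsg.Agent.Helper22.Fitting
import Cfsg.Agent.Helper92.BG83NILP
import Cfsg.Agent.Helper92.BG83PNOR

/-!
# CALL BG83 (row S1383), piece PCOMM (helper92, double)
-/

set_option autoImplicit false

namespace Cfsg.Agent.Helper92

open Cfsg Subgroup
open scoped commutatorElement

universe u

variable {G : Type u} [Group G] [Finite G]

/-- In a finite nilpotent group `X`, every element of order prime to `p` lies in `O_{p'}(X)`. -/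
theorem bg83_mem_pPrimeCore {X : Type u} [Group X] [Finite X] (hnil : Group.IsNilpotent X)
    (p : ℕ) [Fact p.Prime] (t : X) (ht : (orderOf t).Coprime p) : t ∈ pPrimeCore p X := by
  have hp : p.Prime := Fact.out
  have h03 : Group.IsNilpotent X ↔
      ∀ (r : ℕ) (_hr : Fact r.Prime) (R : Sylow r X), (R : Subgroup X).Normal :=
    Group.isNilpotent_of_finite_tfae.out 0 3
  have hCn : (pPrimeCore p X).Normal := Subgroup.sSup_normal _ (fun _ h => h.1)
  have hidx : ∀ r : ℕ, r.Prime → r ∣ (pPrimeCore p X).index → r = p := by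
    intro r hr hrd
    by_contra hne
    haveI := Fact.mk hr
    obtain ⟨Sr⟩ : Nonempty (Sylow r X) := inferInstance
    have hSrn : (Sr : Subgroup X).Normal := h03.mp hnil r inferInstance Sr
    have hSrcop : (Nat.card (Sr : Subgroup X)).Coprime p := by
      obtain ⟨n, hn⟩ := IsPGroup.iff_card.mp Sr.isPGroup'
      rw [hn]
      exact Nat.Coprime.pow_left n ((Nat.coprime_primes hr hp).mpr hne)
    have hle : (Sr : Subgroup X) ≤ pPrimeCore p X := le_sSup ⟨hSrn, hSrcop⟩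
    have h1 : (pPrimeCore p X).index ∣ (Sr : Subgroup X).index := Subgroup.index_dvd_of_le hle
    exact Sr.not_dvd_index (hrd.trans h1)
  have hj : (pPrimeCore p X).index = p ^ ((pPrimeCore p X).index).primeFactorsList.length :=
    Nat.eq_prime_pow_of_unique_prime_dvd Subgroup.index_ne_zero_of_finite
      (fun hd hdvd => hidx _ hd hdvd)
  have h1 : t ^ (pPrimeCore p X).index ∈ pPrimeCore p X := Subgroup.pow_index_mem _ t
  have h2 : ((pPrimeCore p X).index).Coprime (orderOf t) := by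
    rw [hj]
    exact Nat.Coprime.pow_left _ ht.symm
  obtain ⟨m, hm⟩ := exists_pow_eq_self_of_coprime h2
  rw [← hm]
  exact (pPrimeCore p X).pow_mem h1 m

/-- PCOMM (pure). -/
theorem bg83_P_comm (H P K : Subgroup G) (hnil : Group.IsNilpotent ↥H) (p : ℕ) [Fact p.Prime]
    (hPH : P ≤ H) (hP : IsPGroup p P)
    (hmax : ∀ Q : Subgroup G, Q ≤ H → IsPGroup p Q → Q ≤ P)
    (hK : K ≤ normalizer (H : Set G)) (hHK : ⁅H, K⁆ = H) : ⁅P, K⁆ = P := by
  have hp : p.Prime := Fact.out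
  obtain ⟨S, hSH, hSp, hSmax, hScomm, hSdec⟩ := bg83_nilp_sylow H hnil p
  have hSP : S = P := le_antisymm (hmax S hSH hSp) (hSmax P hPH hP)
  rw [hSP] at hScomm hSdec
  have hKP : K ≤ normalizer (P : Set G) := bg83_norm_max H P p hPH hP hmax K hK
  -- the `p'`-part `C` of `H`
  have hC₀cop : (Nat.card (pPrimeCore p ↥H)).Coprime p :=
    Cfsg.Agent.Helper22.card_pPrimeCore_coprime p ↥H
  have hCH : (pPrimeCore p ↥H).map H.subtype ≤ H := by
    rintro _ ⟨w, -, rfl⟩
    exact w.2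
  have hCmem : ∀ t ∈ H, (orderOf t).Coprime p → t ∈ (pPrimeCore p ↥H).map H.subtype := by
    intro t ht hcop
    refine ⟨⟨t, ht⟩, bg83_mem_pPrimeCore hnil p ⟨t, ht⟩ ?_, rfl⟩
    rw [Subgroup.orderOf_mk]
    exact hcop
  have hCord : ∀ c ∈ (pPrimeCore p ↥H).map H.subtype, (orderOf c).Coprime p := by
    rintro _ ⟨w, hw, rfl⟩
    have h1 : orderOf w ∣ Nat.card (pPrimeCore p ↥H) := by
      have h0 := orderOf_dvd_natCard (⟨w, hw⟩ : ↥(pPrimeCore p ↥H))
      rwa [Subgroup.orderOf_mk] at h0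
    have h2 : orderOf (H.subtype w) = orderOf w := Subgroup.orderOf_coe w
    rw [h2]
    exact Nat.Coprime.coprime_dvd_left h1 hC₀cop
  have hCP : ∀ c ∈ (pPrimeCore p ↥H).map H.subtype, ∀ s ∈ P, s * c = c * s :=
    fun c hc s hs => hScomm s hs c (hCH hc) (hCord c hc)
  have hKC : ∀ k ∈ K, ∀ c ∈ (pPrimeCore p ↥H).map H.subtype,
      k * c * k⁻¹ ∈ (pPrimeCore p ↥H).map H.subtype := by
    intro k hk c hc
    apply hCmem
    · exact (Subgroup.mem_normalizer_iff.mp (hK hk) c).mp (hCH hc)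
    · have h1 := (MulAut.conj k).orderOf_eq c
      rw [MulAut.conj_apply] at h1
      rw [h1]
      exact hCord c hc
  have hPC : ∀ z ∈ P, z ∈ (pPrimeCore p ↥H).map H.subtype → z = 1 := by
    intro z hz hzC
    obtain ⟨k, hk⟩ := (IsPGroup.iff_orderOf.mp hP) ⟨z, hz⟩
    rw [Subgroup.orderOf_mk] at hk
    have h1 := hCord z hzC
    rw [hk] at h1
    have hk0 : k = 0 := by
      by_contra hk0
      have h2 : p ∣ Nat.gcd (p ^ k) p := Nat.dvd_gcd (dvd_pow_self p hk0) dvd_rfl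
      rw [Nat.Coprime] at h1
      rw [h1] at h2
      exact hp.one_lt.ne' (Nat.dvd_one.mp h2)
    rw [hk0, pow_zero] at hk
    exact orderOf_eq_one_iff.mp hk
  -- `⁅P, K⁆ ≤ P`
  have hDP : ⁅P, K⁆ ≤ P := by
    rw [Subgroup.commutator_le]
    intro s hs k hk
    have h1 : k * s⁻¹ * k⁻¹ ∈ P :=
      (Subgroup.mem_normalizer_iff.mp (hKP hk) s⁻¹).mp (P.inv_mem hs)
    have h2 : ⁅s, k⁆ = s * (k * s⁻¹ * k⁻¹) := by
      rw [commutatorElement_def]; group
    rw [h2]
    exact P.mul_mem hs h1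
  -- `⁅H, K⁆ ≤ C ⊔ ⁅P, K⁆`
  have hHK' : ⁅H, K⁆ ≤ (pPrimeCore p ↥H).map H.subtype ⊔ ⁅P, K⁆ := by
    rw [Subgroup.commutator_le]
    intro h hh k hk
    obtain ⟨s, hs, t, ht, htcop, rfl⟩ := hSdec h hh
    have htC : t ∈ (pPrimeCore p ↥H).map H.subtype := hCmem t ht htcop
    have hc' : t * (k * t⁻¹ * k⁻¹) ∈ (pPrimeCore p ↥H).map H.subtype :=
      Subgroup.mul_mem _ htC (hKC k hk t⁻¹ (Subgroup.inv_mem _ htC))
    have hcomm := hCP _ hc' s hs
    have h2 : ⁅s * t, k⁆ = (t * (k * t⁻¹ * k⁻¹)) * ⁅s, k⁆ := by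
      have h3 : ⁅s * t, k⁆ = s * (t * (k * t⁻¹ * k⁻¹)) * s⁻¹ * ⁅s, k⁆ := by
        rw [commutatorElement_def, commutatorElement_def]; group
      rw [h3, hcomm]; group
    rw [h2]
    exact Subgroup.mul_mem _ (Subgroup.mem_sup_left hc')
      (Subgroup.mem_sup_right (Subgroup.commutator_mem_commutator hs hk))
  -- `C` normalizes `⁅P, K⁆`
  have hCN : (pPrimeCore p ↥H).map H.subtype ≤ normalizer ((⁅P, K⁆ : Subgroup G) : Set G) := by
    intro c hc
    rw [Subgroup.mem_normalizer_iff]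
    intro d
    constructor
    · intro hd
      have h1 : c * d * c⁻¹ = d := by
        rw [← hCP c hc d (hDP hd)]; group
      rw [h1]; exact hd
    · intro hd
      have h1 : c * (c * d * c⁻¹) * c⁻¹ = c * d * c⁻¹ := by
        rw [← hCP c hc _ (hDP hd)]; group
      have h2 : d = c * d * c⁻¹ := by
        have h3 : c * d * c⁻¹ = c⁻¹ * (c * (c * d * c⁻¹) * c⁻¹) * c := by group
        rw [h1] at h3
        have h4 : c⁻¹ * (c * d * c⁻¹) * c = d := by group
        rw [h4] at h3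
        exact h3.symm ▸ rfl
      rw [h2]; exact hd
  apply le_antisymm hDP
  intro s hs
  have h1 : s ∈ (((pPrimeCore p ↥H).map H.subtype ⊔ ⁅P, K⁆ : Subgroup G) : Set G) :=
    hHK' (hHK.symm ▸ hPH hs)
  rw [Subgroup.coe_mul_of_left_le_normalizer_right _ _ hCN] at h1
  obtain ⟨c, hc, d, hd, hcd⟩ := h1
  have hcd' : c * d = s := hcd
  have hcP : c ∈ P := by
    have h2 : c = s * d⁻¹ := by rw [← hcd']; group
    rw [h2]
    exact P.mul_mem hs (P.inv_mem (hDP hd))
  have hc1 : c = 1 := hPC c hcP hc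
  rw [← hcd', hc1, one_mul]
  exact hd

end Cfsg.Agent.Helper92
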