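import Mathlib
import Cfsg.Agent.Helper1.C9Defs
import Cfsg.Agent.S1403
import Cfsg.Agent.S1426
import Cfsg.Agent.S1358
import Cfsg.Agent.Helper22.BG10b
import Cfsg.Agent.Helper22.BG12b
import Cfsg.Agent.Helper21.PRank
import Cfsg.Agent.Helper25.CN

/-!
# CALL S1376, piece BETA (helper92, double)
-/

set_option autoImplicit false

namespace Cfsg.Agent.Helper92

open Cfsg Subgroup
open Cfsg.Agent.Helper1 (C9)

universe u

variable {G : Type u} [Group G] [Finite G]

/-- BETA. In the setting `C9` with `M_σ` nilpotent, no prime divisor of `|M|` lies in `β(M)`. -/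
theorem c9_beta (hG : IsMinSimpleOddOrder G) {M N K U L : Subgroup G} {x : G}
    (h : C9 M N K U L x) (hnil : Group.IsNilpotent ↥(sigmaCore M)) :
    ∀ s : ℕ, s.Prime → s ∣ Nat.card M → s ∉ beta M := by
  have hUq : Cfsg.Agent.Helper22.BGUniq G :=
    fun K hK h1 h2 => Cfsg.Agent.S1403.result hG K hK h1 h2
  intro s hs hsM hβ
  have hα : s ∈ alpha M := hβ.1
  have hsσ : s ∈ sigma M := Cfsg.Agent.Helper22.bg10_alpha_sub_sigma hG hUq h.hM hα
  have hσM : sigmaCore M ≤ M := by
    unfold sigmaCore
    rintro _ ⟨w, -, rfl⟩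
    exact w.2
  by_cases hsx : s ∣ orderOf x
  · -- `s ∣ orderOf x`
    obtain ⟨g, hgC, hgM⟩ := SetLike.not_le_iff_exists.mp h.hxM
    have hgx : g * x = x * g := by
      have := Subgroup.mem_centralizer_iff.mp hgC x (Set.mem_singleton x)
      exact this.symm
    have hx2 : x ∈ sigmaCore M ⊓ M.map (MulAut.conj g).toMonoidHom := by
      refine ⟨h.hx, ⟨x, hσM h.hx, ?_⟩⟩
      change g * x * g⁻¹ = x
      rw [hgx]; group
    have hdvd : s ∣ Nat.card ↥(sigmaCore M ⊓ M.map (MulAut.conj g).toMonoidHom) :=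
      hsx.trans (Subgroup.orderOf_dvd_natCard _ hx2)
    exact ((Cfsg.Agent.S1426.result hG M h.hM (M ⊓ L) h.hE).2.2 g hgM).2.1 s hs hdvd hβ
  · -- `s ∤ orderOf x`
    apply hα.2
    intro A hA hAs
    set B : Subgroup G := A.map M.subtype with hB
    have hBM : B ≤ M := by
      rintro _ ⟨a, -, rfl⟩
      exact a.2
    have hBs : ∀ b ∈ B, b ^ s = 1 := by
      rintro _ ⟨a, ha, rfl⟩
      have := hAs a ha
      simpa using congrArg Subtype.val this
    have hBp : IsPGroup s ↥B := by
      intro b
      refine ⟨1, ?_⟩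
      have := hBs b b.2
      exact Subtype.ext (by simpa using this)
    have hBσ : B ≤ sigmaCore M :=
      Cfsg.Agent.Helper22.bg12_le_sigmaCore hG hUq h.hM hs hsσ hBM hBp
    have hBx : ∀ b ∈ B, b * x = x * b := by
      intro b hb
      have hob : orderOf b ∣ s := orderOf_dvd_of_pow_eq_one (hBs b hb)
      have hcop : (orderOf b).Coprime (orderOf x) := by
        rcases (Nat.dvd_prime hs).mp hob with h1 | h1
        · rw [h1]; exact Nat.coprime_one_left _
        · rw [h1]; exact (Nat.Prime.coprime_iff_not_dvd hs).mpr hsx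
      exact (Cfsg.Agent.Helper25.commute_of_coprime_of_mem_nilpotent (sigmaCore M) hnil
        (hBσ hb) h.hx hcop).eq
    have hBC : B ≤ centralizer ({x} : Set G) := by
      intro b hb
      rw [Subgroup.mem_centralizer_iff]
      intro y hy
      rw [Set.mem_singleton_iff] at hy
      subst hy
      exact (hBx b hb).symm
    have hBUK : B ≤ U ⊔ K := by
      rw [← h.hMN]
      exact le_inf (hBC.trans h.hxN) hBM
    have hKσ : K ⊓ sigmaCore M = ⊥ := by
      have h1 : K ≤ M ⊓ L := by
        refine h.hKF.trans ?_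
        unfold fittingOf
        rintro _ ⟨w, -, rfl⟩
        exact w.2
      have h2 : (M ⊓ L) ⊓ sigmaCore M = ⊥ := h.hE.2.2.1
      exact le_bot_iff.mp (h2 ▸ inf_le_inf_right _ h1)
    have hBU : B ≤ U := by
      intro b hb
      have h1 : b ∈ ((U ⊔ K : Subgroup G) : Set G) := hBUK hb
      rw [Subgroup.coe_mul_of_right_le_normalizer_left U K h.hKU.normal] at h1
      obtain ⟨u, hu, k, hk, huk⟩ := h1
      have huk' : u * k = b := huk
      have hkσ : k ∈ sigmaCore M := by
        have h2 : k = u⁻¹ * b := by rw [← huk']; group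
        rw [h2]
        exact mul_mem (inv_mem (h.hUσ hu)) (hBσ hb)
      have hk1 : k = 1 := by
        have h3 : k ∈ K ⊓ sigmaCore M := ⟨hk, hkσ⟩
        rw [hKσ] at h3
        exact Subgroup.mem_bot.mp h3
      rw [← huk', hk1, mul_one]
      exact hu
    haveI := Fact.mk hs
    obtain ⟨P, hP⟩ := (hBp.comap_subtype (K := U)).exists_le_sylow
    have hS := (Cfsg.Agent.S1358.result hG N h.hN K U h.hKU s hs P).2
    let f : ↥A →* ↥(P : Subgroup ↥U) :=
      (Subgroup.inclusion hP).comp
        ((Subgroup.subgroupOfEquivOfLe hBU).symm.toMonoidHom.comp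
          (A.equivMapOfInjective M.subtype M.subtype_injective).toMonoidHom)
    have hf : Function.Injective f := by
      show Function.Injective ((Subgroup.inclusion hP) ∘
        ((Subgroup.subgroupOfEquivOfLe hBU).symm ∘
          (A.equivMapOfInjective M.subtype M.subtype_injective)))
      exact (Subgroup.inclusion_injective hP).comp
        ((MulEquiv.injective _).comp (MulEquiv.injective _))
    have hrk : PRankLE s 2 ↥A := Cfsg.Agent.Helper21.pRankLE_of_injective f hf hS
    have hc : IsMulCommutative ↥(⊤ : Subgroup ↥A) :=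
      ⟨⟨fun a b => Subtype.ext (hA.is_comm.comm a.1 b.1)⟩⟩
    have h4 := hrk ⊤ hc (fun a _ => Subtype.ext (by simpa using hAs a.1 a.2))
    rwa [Subgroup.card_top] at h4

end Cfsg.Agent.Helper92
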