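import Mathlib
import Cfsg.Agent.Helper1.C9Defs
import Cfsg.Agent.S1403
import Cfsg.Agent.S1417
import Cfsg.Agent.Helper22.BG10b
import Cfsg.Agent.Helper22.BG12b

/-!
# CALL S1376, piece TB (helper92, double)
-/

set_option autoImplicit false

namespace Cfsg.Agent.Helper92

open Cfsg Subgroup
open Cfsg.Agent.Helper1 (C9)

universe u

variable {G : Type u} [Group G] [Finite G]

/-- TB. For `r ∈ τ₂(M)` and `A ≤ M ⊓ L` elementary abelian of order `r²`: `r ∈ σ(L)` and
`A ≤ L_σ`. -/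
theorem c9_sigL (hG : IsMinSimpleOddOrder G) {M N K U L : Subgroup G} {x : G}
    (h : C9 M N K U L x) (hML : M ≠ L) {r : ℕ} (hr : r ∈ tau2 M) {A : Subgroup G}
    (hA : A ≤ M ⊓ L ∧ IsElementaryAbelian r A ∧ Nat.card A = r ^ 2) :
    r ∈ sigma L ∧ A ≤ sigmaCore L := by
  have hUq : Cfsg.Agent.Helper22.BGUniq G :=
    fun K hK h1 h2 => Cfsg.Agent.S1403.result hG K hK h1 h2
  have hrp : r.Prime := hr.1
  haveI := Fact.mk hrp
  have hAL : A ≤ L := hA.1.trans inf_le_right
  have hAM : A ≤ M := hA.1.trans inf_le_left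
  have hAr : IsPGroup r A := IsPGroup.of_card (n := 2) hA.2.2
  have hrσ : r ∈ sigma L := by
    by_contra hrσ
    have hrα : r ∉ alpha L :=
      fun hα => hrσ (Cfsg.Agent.Helper22.bg10_alpha_sub_sigma hG hUq h.hL hα)
    have h2 : PRankLE r 2 ↥L := Cfsg.Agent.Helper22.bg10_pRank_of_not_alpha L r hrp hrα
    have h1 : ¬ PRankLE r 1 ↥L := by
      intro h1
      have hcomm : IsMulCommutative ↥(A.subgroupOf L) := by
        refine ⟨⟨fun a b => ?_⟩⟩
        have h3 := hA.2.1.1.is_comm.comm ⟨((a : ↥L) : G), a.2⟩ ⟨((b : ↥L) : G), b.2⟩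
        have h4 : ((a : ↥L) : G) * ((b : ↥L) : G) = ((b : ↥L) : G) * ((a : ↥L) : G) :=
          congrArg Subtype.val h3
        exact Subtype.ext (Subtype.ext h4)
      have hexp : ∀ a ∈ A.subgroupOf L, a ^ r = 1 := by
        intro a ha
        apply Subtype.ext
        rw [Subgroup.coe_pow]
        exact hA.2.1.2 _ ha
      have hc := h1 (A.subgroupOf L) hcomm hexp
      have hcard : Nat.card ↥(A.subgroupOf L) = r ^ 2 := by
        rw [← hA.2.2]
        exact Nat.card_congr (Subgroup.subgroupOfEquivOfLe hAL).toEquiv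
      rw [hcard, pow_one] at hc
      have h5 : r < r ^ 2 := by
        have := hrp.one_lt
        nlinarith
      omega
    have hτ : r ∈ tau2 L := ⟨hrp, hrσ, h2, h1⟩
    have hS := (Cfsg.Agent.S1417.result hG L h.hL r hτ A ⟨hAL, hA.2.1, hA.2.2⟩).2.2.2.2.1
      M h.hM hML hAM
    have hKσL : K ≤ sigmaCore L := h.hKst.le.trans inf_le_left
    have hKM : K ≤ M := (le_sup_right.trans h.hMN.ge).trans inf_le_right
    exact h.hK1 (le_bot_iff.mp (hS ▸ le_inf hKσL hKM))
  exact ⟨hrσ, Cfsg.Agent.Helper22.bg12_le_sigmaCore hG hUq h.hL hrp hrσ hAL hAr⟩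

end Cfsg.Agent.Helper92
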