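import Cfsg.Agent.Helper92.LeechCo3

/-!
# Matrix certificates for elements of `Co0`

An element `g` of `Co0` is described by the list `M` of its columns, the images of the vectors
`8 e_i` (`IsMat g M`).  Products, actions on explicit vectors and equalities of elements are then
reduced to kernel-checkable list computations.
-/

set_option autoImplicit false

namespace Cfsg.Agent.Helper92.Mat

open Cfsg MulAction
open Cfsg.Agent.Helper7 (idx pt tbl IsTbl setOf)

/-! ### Bounded sums and conjunctions -/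

/-- `∑ j < n, f j` by structural recursion -/
def sumTo : ℕ → (ℕ → ℤ) → ℤ
  | 0, _ => 0
  | n + 1, f => sumTo n f + f n

/-- `∀ j < n, p j` by structural recursion -/
def allTo : ℕ → (ℕ → Bool) → Bool
  | 0, _ => true
  | n + 1, p => allTo n p && p n

theorem sumTo_eq (n : ℕ) (f : ℕ → ℤ) : sumTo n f = ∑ j ∈ Finset.range n, f j := by
  induction n with
  | zero => rfl
  | succ n ih => rw [sumTo, ih, Finset.sum_range_succ]

theorem allTo_iff (n : ℕ) (p : ℕ → Bool) : allTo n p = true ↔ ∀ j < n, p j = true := by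
  induction n with
  | zero => simp [allTo]
  | succ n ih =>
    rw [allTo, Bool.and_eq_true, ih]
    constructor
    · rintro ⟨h1, h2⟩ j hj
      rcases Nat.lt_succ_iff_lt_or_eq.1 hj with h | rfl
      · exact h1 j h
      · exact h2
    · intro h
      exact ⟨fun j hj => h j (Nat.lt_succ_of_lt hj), h n (Nat.lt_succ_self n)⟩

theorem sumTo_congr (n : ℕ) (f g : ℕ → ℤ) (h : ∀ j < n, f j = g j) : sumTo n f = sumTo n g := by
  rw [sumTo_eq, sumTo_eq]
  exact Finset.sum_congr rfl (fun j hj => h j (Finset.mem_range.1 hj))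

theorem sum_golay (f : GolayPt → ℤ) : ∑ p, f p = sumTo 24 (fun j => f (pt j)) := by
  rw [sumTo_eq]
  refine Finset.sum_nbij' (fun p => idx p) (fun i => pt i) ?_ ?_ ?_ ?_ ?_
  · intro p _; exact Finset.mem_range.2 (Cfsg.Agent.Helper7.idx_lt p)
  · intro i _; exact Finset.mem_univ _
  · intro p _; exact Cfsg.Agent.Helper7.pt_idx p
  · intro i hi; exact Cfsg.Agent.Helper7.idx_pt (Finset.mem_range.1 hi)
  · intro p _; rw [Cfsg.Agent.Helper7.pt_idx]

/-! ### List matrices -/

/-- entry of a list matrix (`i`: column, `k`: row) -/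
def ent (M : List (List ℤ)) (i k : ℕ) : ℤ := (M.getD i []).getD k 0

/-- the matrix with given entries -/
def mk (f : ℕ → ℕ → ℤ) : List (List ℤ) :=
  (List.range 24).map fun i => (List.range 24).map fun k => f i k

theorem getD_map_range {α : Type*} (f : ℕ → α) (d : α) {i : ℕ} (hi : i < 24) :
    ((List.range 24).map f).getD i d = f i := by
  rw [List.getD_eq_getElem?_getD, List.getElem?_map, List.getElem?_range hi]
  rfl

theorem ent_mk (f : ℕ → ℕ → ℤ) {i k : ℕ} (hi : i < 24) (hk : k < 24) : ent (mk f) i k = f i k := by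
  unfold ent mk
  rw [getD_map_range _ _ hi, getD_map_range _ _ hk]

/-- `M` is the matrix of `g`: its `i`-th column is the image of `8 e_i` -/
def IsMat (g : Co0) (M : List (List ℤ)) : Prop :=
  ∀ i k : GolayPt, ((g • P i i : leechLattice) : GolayPt → ℤ) k = ent M (idx i) (idx k)

theorem eight_zsmul (x : leechLattice) : (8 : ℤ) • x = ∑ i : GolayPt, (x : GolayPt → ℤ) i • P i i := by
  apply Subtype.ext
  funext k
  rw [AddSubgroup.coe_zsmul, AddSubgroup.val_finsetSum, Finset.sum_apply]
  have : ∀ i : GolayPt, (((x : GolayPt → ℤ) i • P i i : leechLattice) : GolayPt → ℤ) k =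
      if k = i then 8 * (x : GolayPt → ℤ) i else 0 := by
    intro i
    rw [AddSubgroup.coe_zsmul]
    show (x : GolayPt → ℤ) i * (e4 i k + e4 i k) = _
    rw [e4_apply]
    split_ifs <;> ring
  simp only [this]
  rw [Finset.sum_ite_eq Finset.univ k]
  simp

/-- the action of `g` on a lattice vector in terms of the columns of `g` -/
theorem eight_smul (g : Co0) (x : leechLattice) (k : GolayPt) :
    8 * ((g • x : leechLattice) : GolayPt → ℤ) k =
      ∑ i : GolayPt, (x : GolayPt → ℤ) i * ((g • P i i : leechLattice) : GolayPt → ℤ) k := by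
  have h1 : (8 : ℤ) • (g • x) = ∑ i : GolayPt, (x : GolayPt → ℤ) i • (g • P i i) := by
    rw [← co0_zsmul, eight_zsmul x, co0_sum]
    exact Finset.sum_congr rfl (fun i _ => co0_zsmul g _ _)
  have h2 := congrArg (fun y : leechLattice => (y : GolayPt → ℤ) k) h1
  simp only [AddSubgroup.coe_zsmul, AddSubgroup.val_finsetSum, Finset.sum_apply, Pi.smul_apply,
    smul_eq_mul] at h2
  exact h2

theorem IsMat.apply {g : Co0} {M : List (List ℤ)} (hg : IsMat g M) (x : leechLattice)
    (k : GolayPt) : 8 * ((g • x : leechLattice) : GolayPt → ℤ) k =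
      sumTo 24 (fun j => (x : GolayPt → ℤ) (pt j) * ent M j (idx k)) := by
  rw [eight_smul, sum_golay]
  apply sumTo_congr
  intro j hj
  rw [hg, Cfsg.Agent.Helper7.idx_pt hj]

/-! ### Products -/

/-- check that `R` is the matrix product (`8 R = M S` with the column convention) -/
def mulChk (M S R : List (List ℤ)) : Bool :=
  allTo 24 fun i => allTo 24 fun k =>
    decide (8 * ent R i k = sumTo 24 fun j => ent S i j * ent M j k)

theorem IsMat.mul {g h : Co0} {M S R : List (List ℤ)} (hg : IsMat g M) (hh : IsMat h S)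
    (hR : mulChk M S R = true) : IsMat (g * h) R := by
  intro i k
  have h1 := hg.apply (h • P i i) k
  have h2 : sumTo 24 (fun j => ((h • P i i : leechLattice) : GolayPt → ℤ) (pt j) * ent M j (idx k)) =
      sumTo 24 (fun j => ent S (idx i) j * ent M j (idx k)) := by
    apply sumTo_congr
    intro j hj
    rw [hh, Cfsg.Agent.Helper7.idx_pt hj]
  rw [h2] at h1
  have h3 := (allTo_iff _ _).1 ((allTo_iff _ _).1 hR (idx i) (Cfsg.Agent.Helper7.idx_lt i))
    (idx k) (Cfsg.Agent.Helper7.idx_lt k)
  have h4 := of_decide_eq_true h3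
  rw [mul_smul]
  omega

/-- the computed product matrix -/
def mmul (M S : List (List ℤ)) : List (List ℤ) :=
  mk fun i k => (sumTo 24 fun j => ent S i j * ent M j k) / 8

/-- divisibility check for the computed product -/
def divChk (M S : List (List ℤ)) : Bool :=
  allTo 24 fun i => allTo 24 fun k =>
    decide ((sumTo 24 fun j => ent S i j * ent M j k) % 8 = 0)

theorem mulChk_mmul {M S : List (List ℤ)} (h : divChk M S = true) : mulChk M S (mmul M S) = true := by
  rw [mulChk, allTo_iff]
  intro i hi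
  rw [allTo_iff]
  intro k hk
  have h3 := of_decide_eq_true ((allTo_iff _ _).1 ((allTo_iff _ _).1 h i hi) k hk)
  apply decide_eq_true
  rw [mmul, ent_mk _ hi hk]
  omega

theorem IsMat.mul' {g h : Co0} {M S : List (List ℤ)} (hg : IsMat g M) (hh : IsMat h S)
    (hR : divChk M S = true) : IsMat (g * h) (mmul M S) :=
  hg.mul hh (mulChk_mmul hR)

/-! ### Uniqueness -/

theorem IsMat.ext {g g' : Co0} {M : List (List ℤ)} (hg : IsMat g M) (hg' : IsMat g' M) :
    g = g' := by
  apply co0_eq_of_F_eq
  intro i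
  apply Subtype.ext
  funext k
  rw [hg, hg']

/-- equality check of two matrices -/
def eqChk (M M' : List (List ℤ)) : Bool :=
  allTo 24 fun i => allTo 24 fun k => decide (ent M i k = ent M' i k)

theorem IsMat.eqChk {g : Co0} {M M' : List (List ℤ)} (hg : IsMat g M) (hg' : IsMat g M') :
    eqChk M M' = true := by
  rw [Mat.eqChk, allTo_iff]
  intro i hi
  rw [allTo_iff]
  intro k hk
  apply decide_eq_true
  have h1 := hg (pt i) (pt k)
  have h2 := hg' (pt i) (pt k)
  rw [Cfsg.Agent.Helper7.idx_pt hi, Cfsg.Agent.Helper7.idx_pt hk] at h1 h2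
  rw [← h1, ← h2]

theorem IsMat.of_eqChk {g : Co0} {M M' : List (List ℤ)} (hg : IsMat g M)
    (h : Mat.eqChk M M' = true) : IsMat g M' := by
  intro i k
  rw [hg]
  exact of_decide_eq_true ((allTo_iff _ _).1 ((allTo_iff _ _).1 h (idx i)
    (Cfsg.Agent.Helper7.idx_lt i)) (idx k) (Cfsg.Agent.Helper7.idx_lt k))

/-! ### Action on explicit vectors -/

theorem idx26 (p : GolayPt) : Cfsg.Agent.Helper26.idx p = idx p := by
  cases p <;> rfl

theorem vecL_pt (l : List ℤ) {j : ℕ} (hj : j < 24) : vecL l (pt j) = l.getD j 0 := by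
  unfold vecL
  rw [idx26, Cfsg.Agent.Helper7.idx_pt hj]

/-- check that `l'` is the image of `l` under the matrix `M` -/
def vecChk (M : List (List ℤ)) (l l' : List ℤ) : Bool :=
  allTo 24 fun k => decide (8 * l'.getD k 0 = sumTo 24 fun j => l.getD j 0 * ent M j k)

theorem IsMat.vec {g : Co0} {M : List (List ℤ)} (hg : IsMat g M) {x : leechLattice} {l l' : List ℤ}
    (hx : (x : GolayPt → ℤ) = vecL l) (h : vecChk M l l' = true) :
    ((g • x : leechLattice) : GolayPt → ℤ) = vecL l' := by
  funext k
  have h1 := hg.apply x k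
  have h2 : sumTo 24 (fun j => (x : GolayPt → ℤ) (pt j) * ent M j (idx k)) =
      sumTo 24 (fun j => l.getD j 0 * ent M j (idx k)) := by
    apply sumTo_congr
    intro j hj
    rw [hx, vecL_pt l hj]
  rw [h2] at h1
  have h3 := of_decide_eq_true ((allTo_iff _ _).1 h (idx k) (Cfsg.Agent.Helper7.idx_lt k))
  have h4 : vecL l' k = l'.getD (idx k) 0 := by
    unfold vecL
    rw [idx26]
  rw [h4]
  omega

/-! ### Basic matrices -/

/-- the identity matrix -/
def idM : List (List ℤ) := mk fun i k => if k = i then 8 else 0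

theorem idx_eq_iff (k i : GolayPt) : idx k = idx i ↔ k = i :=
  Cfsg.Agent.Helper7.idx_injective.eq_iff

theorem P_diag_apply (i k : GolayPt) : ((P i i : leechLattice) : GolayPt → ℤ) k =
    if k = i then 8 else 0 := by
  show e4 i k + e4 i k = _
  rw [e4_apply]
  split_ifs <;> rfl

theorem isMat_one : IsMat 1 idM := by
  intro i k
  rw [one_smul, idM, ent_mk _ (Cfsg.Agent.Helper7.idx_lt i) (Cfsg.Agent.Helper7.idx_lt k),
    P_diag_apply]
  simp only [idx_eq_iff]

/-- the matrix of a coordinate permutation with table code `c` -/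
def permM (c : ℕ) : List (List ℤ) := mk fun i k => if k = tbl c i then 8 else 0

theorem isMat_perm {σ : Equiv.Perm GolayPt} {c : ℕ} (hσ : IsTbl σ c) (hM : σ ∈ M24) :
    IsMat (permAut σ hM) (permM c) := by
  intro i k
  rw [permAut_smul, permFun_apply, P_diag_apply, permM,
    ent_mk _ (Cfsg.Agent.Helper7.idx_lt i) (Cfsg.Agent.Helper7.idx_lt k)]
  have e : idx k = tbl c (idx i) ↔ σ.symm k = i := by
    rw [← hσ i, idx_eq_iff, Equiv.symm_apply_eq]
  simp only [e]

/-- the matrix of the sign change on the set with mask `m` -/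
def signM (m : ℕ) : List (List ℤ) :=
  mk fun i k => if k = i then (if m.testBit i then -8 else 8) else 0

theorem isMat_sign (m : ℕ) (hm : setOf m ∈ supports (golayCode : Set (GolayPt → ZMod 2))) :
    IsMat (signAut (setOf m) hm) (signM m) := by
  intro i k
  rw [signAut_smul, signFun_apply, P_diag_apply, signM,
    ent_mk _ (Cfsg.Agent.Helper7.idx_lt i) (Cfsg.Agent.Helper7.idx_lt k)]
  simp only [idx_eq_iff, Cfsg.Agent.Helper7.mem_setOf]
  by_cases hki : k = i
  · subst hki
    simp only [if_true]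
  · simp only [if_neg hki]
    split_ifs <;> rfl

theorem setOf_mem_supports {m : ℕ} (h : Cfsg.Agent.Helper7.inCode m = true) :
    setOf m ∈ supports (golayCode : Set (GolayPt → ZMod 2)) :=
  ⟨Cfsg.Agent.Helper7.wordOf m, Cfsg.Agent.Helper7.wordOf_mem_of_inCode h,
    Cfsg.Agent.Helper7.support_wordOf m⟩

/-! ### The element `ξ` -/

/-- the sign of `ξ` at an index -/
def sgZ (k : ℕ) : ℤ := if tauL.getD k 0 = 0 then -1 else 1

/-- the matrix of `ξ` -/
def xiM : List (List ℤ) :=
  mk fun i k => sgZ k * ((if k = i then 8 else 0) - (if tauL.getD k 0 = tauL.getD i 0 then 4 else 0))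

/-- the matrix of `ξ⁻¹` -/
def xiInvM : List (List ℤ) :=
  mk fun i k => sgZ i * ((if k = i then 8 else 0) - (if tauL.getD k 0 = tauL.getD i 0 then 4 else 0))

theorem xi_inv_eq_of (x : leechLattice) (w : GolayPt → ℤ) (h : ∀ p, xi2' x.1 p = 2 * w p) :
    ((xi⁻¹ • x : leechLattice) : GolayPt → ℤ) = w := by
  apply two_smul_inj
  rw [xi_inv_smul, two_xiFun']
  funext p
  exact h p

theorem xiM_check : ∀ i p : GolayPt, xi2 (e4 i + e4 i) p = 2 * ent xiM (idx i) (idx p) := by
  decide +kernel

theorem xiInvM_check : ∀ i p : GolayPt, xi2' (e4 i + e4 i) p = 2 * ent xiInvM (idx i) (idx p) := by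
  decide +kernel

theorem isMat_xi : IsMat xi xiM := by
  intro i k
  have h := xi_eq_of (P i i) (fun p => ent xiM (idx i) (idx p)) (xiM_check i)
  rw [h]

theorem isMat_xiInv : IsMat xi⁻¹ xiInvM := by
  intro i k
  have h := xi_inv_eq_of (P i i) (fun p => ent xiInvM (idx i) (idx p)) (xiInvM_check i)
  rw [h]

end Cfsg.Agent.Helper92.Mat
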