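import Cfsg.Agent.Helper92.Co0Word

/-!
# Packed evaluation of words of `Co0`

A vector with small coordinates is packed into one integer (base `2^32`, signed digits), a matrix
into the list of its packed columns.  The action of an element on a vector then costs 24 long
multiplications, which the kernel performs with its built-in arithmetic on natural numbers.
-/

set_option autoImplicit false

namespace Cfsg.Agent.Helper92.Mat

open Cfsg MulAction
open Cfsg.Agent.Helper7 (idx pt)

/-- the packed code of a list of integers, in base `2^32` -/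
def encL : List ℤ → ℤ
  | [] => 0
  | a :: as => a + 4294967296 * encL as

theorem encL_addL : ∀ as bs : List ℤ, encL (addL as bs) = encL as + encL bs
  | [], bs => by simp [addL, encL]
  | a :: as, [] => by simp [addL, encL]
  | a :: as, b :: bs => by
    simp only [addL, encL, encL_addL as bs]
    ring

theorem encL_map_mul (a : ℤ) : ∀ c : List ℤ, encL (c.map (a * ·)) = a * encL c
  | [] => by simp [encL]
  | b :: c => by
    simp only [List.map_cons, encL, encL_map_mul a c]
    ring

/-- dot product of a list with a list of packed columns -/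
def dotP : List ℤ → List ℤ → ℤ
  | a :: as, C :: Cs => a * C + dotP as Cs
  | [], _ => 0
  | _ :: _, [] => 0

theorem dotP_enc : ∀ (l : List ℤ) (M : List (List ℤ)), dotP l (M.map encL) = encL (comb l M)
  | [], M => by cases M <;> simp [dotP, comb, encL]
  | a :: as, [] => by simp [dotP, comb, encL]
  | a :: as, c :: cs => by
    simp only [List.map_cons, dotP, comb, encL_addL, encL_map_mul, dotP_enc as cs]

theorem sumTo_mul_left (c : ℤ) (n : ℕ) (f : ℕ → ℤ) :
    c * sumTo n f = sumTo n (fun j => c * f j) := by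
  induction n with
  | zero => simp [sumTo]
  | succ n ih => rw [sumTo, sumTo, mul_add, ih]

theorem encL_eq_sumTo : ∀ (L : List ℤ) (n : ℕ), L.length ≤ n →
    encL L = sumTo n (fun k => L.getD k 0 * 4294967296 ^ k)
  | [], n, _ => by
    rw [sumTo_eq_zero]
    · rfl
    · intro j; simp
  | a :: as, 0, h => by simp at h
  | a :: as, n + 1, h => by
    have h' : as.length ≤ n := by simpa using h
    rw [encL, encL_eq_sumTo as n h', sumTo_succ_front, sumTo_mul_left]
    simp only [List.getD_cons_zero, pow_zero, mul_one, List.getD_cons_succ]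
    congr 1
    apply sumTo_congr
    intro j _
    ring

theorem length_addL : ∀ as bs : List ℤ, (addL as bs).length = max as.length bs.length
  | [], bs => by simp [addL]
  | a :: as, [] => by simp [addL]
  | a :: as, b :: bs => by
    simp only [addL, List.length_cons, length_addL as bs]
    omega

theorem length_comb_le (n : ℕ) : ∀ (l : List ℤ) (M : List (List ℤ)),
    (∀ c ∈ M, c.length ≤ n) → (comb l M).length ≤ n
  | [], M, _ => by cases M <;> simp [comb]
  | a :: as, [], _ => by simp [comb]
  | a :: as, c :: cs, h => by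
    rw [comb, length_addL, List.length_map]
    exact max_le (h c (List.mem_cons_self ..))
      (length_comb_le n as cs (fun c' hc' => h c' (List.mem_cons_of_mem _ hc')))

/-- the bias added to the digits before they are extracted -/
def biasP : ℤ := encL (List.replicate 24 1024)

/-- the fold over the packed columns: `X` is the biased packed vector -/
def pfold : List ℤ → ℤ → ℤ → ℤ
  | [], _, L => L
  | C :: Cs, X, L => pfold Cs (X / 4294967296) (L + (X % 4294967296 - 1024) * C)

theorem pfold_eq : ∀ (Cs ds : List ℤ) (L : ℤ), (∀ d ∈ ds, -1024 ≤ d ∧ d ≤ 1024) →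
    Cs.length ≤ ds.length → pfold Cs (encL (ds.map (· + 1024))) L = L + dotP ds Cs
  | [], ds, L, _, _ => by cases ds <;> simp [pfold, dotP]
  | C :: Cs, [], L, _, h => by simp at h
  | C :: Cs, d :: ds, L, hb, h => by
    have hd := hb d (List.mem_cons_self ..)
    have e1 : encL ((d :: ds).map (· + 1024)) % 4294967296 = d + 1024 := by
      rw [List.map_cons, encL]
      omega
    have e2 : encL ((d :: ds).map (· + 1024)) / 4294967296 = encL (ds.map (· + 1024)) := by
      rw [List.map_cons, encL]
      omega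
    rw [pfold, e1, e2, pfold_eq Cs ds _ (fun d' hd' => hb d' (List.mem_cons_of_mem _ hd'))
      (by simpa using h), dotP]
    ring

theorem encL_map_add (b : ℤ) : ∀ ds : List ℤ,
    encL (ds.map (· + b)) = encL ds + encL (List.replicate ds.length b)
  | [] => by simp [encL]
  | d :: ds => by
    simp only [List.map_cons, encL, List.length_cons, List.replicate_succ, encL_map_add b ds]
    ring

/-- the packed code of the all-ones vector -/
def onesP : ℤ := encL (List.replicate 24 1)

/-- the fold over the biased packed columns, in natural numbers: `L` accumulates the linear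
combination, `s` the digit sum, `r` the sum of the columns and `n` their number -/
def nfold : List ℕ → ℕ → ℕ → ℕ → ℕ → ℕ → ℤ
  | [], _, L, s, r, n =>
    (L : ℤ) + ((8192 * n : ℕ) : ℤ) * onesP - ((8 * s : ℕ) : ℤ) * onesP - ((1024 * r : ℕ) : ℤ)
  | C :: Cs, X, L, s, r, n =>
    nfold Cs (X / 4294967296) (L + (X % 4294967296) * C) (s + X % 4294967296) (r + C) (n + 1)

theorem nfold_eq_pfold : ∀ (Cn : List ℕ) (X L s r n : ℕ),
    nfold Cn X L s r n = pfold (Cn.map (fun c : ℕ => (c : ℤ) - 8 * onesP)) (X : ℤ)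
      ((L : ℤ) + 8192 * n * onesP - 8 * s * onesP - 1024 * r)
  | [], X, L, s, r, n => by
    rw [nfold, List.map_nil, pfold]
    push_cast
    ring
  | C :: Cs, X, L, s, r, n => by
    rw [nfold, nfold_eq_pfold Cs, List.map_cons, pfold]
    congr 1
    push_cast
    ring

/-- the list of the coordinates of an integer vector -/
def digs (w : GolayPt → ℤ) : List ℤ := (List.range 24).map fun k => w (pt k)

theorem length_digs (w : GolayPt → ℤ) : (digs w).length = 24 := by simp [digs]

theorem getD_digs (w : GolayPt → ℤ) {k : ℕ} (hk : k < 24) : (digs w).getD k 0 = w (pt k) :=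
  getD_map_range _ _ hk

theorem mem_digs {w : GolayPt → ℤ} {d : ℤ} (h : d ∈ digs w) : ∃ p : GolayPt, d = w p := by
  rw [digs, List.mem_map] at h
  obtain ⟨k, -, rfl⟩ := h
  exact ⟨_, rfl⟩

/-- the packed code of an integer vector -/
def pkV (w : GolayPt → ℤ) : ℤ := encL (digs w)

theorem pkV_eq_sumTo (w : GolayPt → ℤ) :
    pkV w = sumTo 24 (fun k => w (pt k) * 4294967296 ^ k) := by
  rw [pkV, encL_eq_sumTo _ 24 (le_of_eq (length_digs w))]
  apply sumTo_congr
  intro k hk
  rw [getD_digs w hk]

/-- the image of a packed vector under a packed matrix (signed columns) -/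
def pmvZ (Cs : List ℤ) (X : ℤ) : ℤ := pfold Cs (X + biasP) 0 / 8

/-- well-formedness of a list matrix: 24 columns of length 24 -/
def wfM (M : List (List ℤ)) : Bool :=
  decide (M.length = 24) && M.all (fun c => decide (c.length = 24))

theorem IsMat.pmvZ {g : Co0} {M : List (List ℤ)} (hg : IsMat g M) (hwf : wfM M = true)
    (x : leechLattice) (hb : ∀ p : GolayPt, -1024 ≤ (x : GolayPt → ℤ) p ∧ (x : GolayPt → ℤ) p ≤ 1024) :
    Mat.pmvZ (M.map encL) (pkV (x : GolayPt → ℤ)) = pkV ((g • x : leechLattice) : GolayPt → ℤ) := by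
  rw [wfM, Bool.and_eq_true] at hwf
  have hlen : M.length = 24 := of_decide_eq_true hwf.1
  have hcols : ∀ c ∈ M, c.length ≤ 24 := fun c hc =>
    le_of_eq (of_decide_eq_true (List.all_eq_true.1 hwf.2 c hc))
  have e1 : pkV (x : GolayPt → ℤ) + biasP = encL ((digs (x : GolayPt → ℤ)).map (· + 1024)) := by
    rw [encL_map_add, length_digs]
    rfl
  have e2 : pfold (M.map encL) (encL ((digs (x : GolayPt → ℤ)).map (· + 1024))) 0 =
      0 + dotP (digs (x : GolayPt → ℤ)) (M.map encL) := by
    apply pfold_eq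
    · intro d hd
      obtain ⟨p, rfl⟩ := mem_digs hd
      exact hb p
    · rw [List.length_map, hlen, length_digs]
  have e3 : encL (comb (digs (x : GolayPt → ℤ)) M) =
      8 * pkV ((g • x : leechLattice) : GolayPt → ℤ) := by
    rw [encL_eq_sumTo _ 24 (length_comb_le 24 _ _ hcols), pkV_eq_sumTo, sumTo_mul_left]
    apply sumTo_congr
    intro k hk
    rw [getD_comb _ M 24 (le_of_eq (length_digs _)) k]
    have h1 := hg.apply x (pt k)
    rw [Cfsg.Agent.Helper7.idx_pt hk] at h1
    have h2 : sumTo 24 (fun j => (digs (x : GolayPt → ℤ)).getD j 0 * ent M j k) =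
        sumTo 24 (fun j => (x : GolayPt → ℤ) (pt j) * ent M j k) := by
      apply sumTo_congr
      intro j hj
      rw [getD_digs _ hj]
    rw [h2, ← h1]
    ring
  rw [Mat.pmvZ, e1, e2, zero_add, dotP_enc, e3]
  exact Int.mul_ediv_cancel_left _ (by norm_num)

theorem encL_nonneg : ∀ ds : List ℤ, (∀ d ∈ ds, 0 ≤ d) → 0 ≤ encL ds
  | [], _ => le_refl _
  | d :: ds, h => by
    have h1 := h d (List.mem_cons_self ..)
    have h2 := encL_nonneg ds (fun d' hd' => h d' (List.mem_cons_of_mem _ hd'))
    rw [encL]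
    positivity

/-- the image of a packed vector under a packed matrix (biased columns, natural numbers) -/
def pmv (Cn : List ℕ) (X : ℤ) : ℤ := nfold Cn (X + biasP).toNat 0 0 0 0 / 8

/-- `Cn` is the list of the biased packed columns of the matrix `M` -/
def pkChk (M : List (List ℤ)) (Cn : List ℕ) : Bool :=
  wfM M && decide (Cn.map (fun c : ℕ => (c : ℤ) - 8 * onesP) = M.map encL)

theorem IsMat.pmv {g : Co0} {M : List (List ℤ)} (hg : IsMat g M) {Cn : List ℕ}
    (hC : pkChk M Cn = true) (x : leechLattice)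
    (hb : ∀ p : GolayPt, -1024 ≤ (x : GolayPt → ℤ) p ∧ (x : GolayPt → ℤ) p ≤ 1024) :
    Mat.pmv Cn (pkV (x : GolayPt → ℤ)) = pkV ((g • x : leechLattice) : GolayPt → ℤ) := by
  rw [pkChk, Bool.and_eq_true] at hC
  have hmap := of_decide_eq_true hC.2
  have e1 : pkV (x : GolayPt → ℤ) + biasP = encL ((digs (x : GolayPt → ℤ)).map (· + 1024)) := by
    rw [encL_map_add, length_digs]
    rfl
  have hnn : 0 ≤ pkV (x : GolayPt → ℤ) + biasP := by
    rw [e1]
    apply encL_nonneg
    intro d hd
    rw [List.mem_map] at hd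
    obtain ⟨d', hd', rfl⟩ := hd
    obtain ⟨p, rfl⟩ := mem_digs hd'
    have := hb p
    omega
  rw [Mat.pmv, nfold_eq_pfold, hmap, Int.toNat_of_nonneg hnn, ← hg.pmvZ hC.1 x hb, Mat.pmvZ]
  norm_num

theorem bound_of_sqNorm (x : leechLattice) (h : sqNorm (x : GolayPt → ℤ) ≤ 1024) (p : GolayPt) :
    -1024 ≤ (x : GolayPt → ℤ) p ∧ (x : GolayPt → ℤ) p ≤ 1024 := by
  have h1 : (x : GolayPt → ℤ) p ^ 2 ≤ sqNorm (x : GolayPt → ℤ) := by
    unfold sqNorm
    exact Finset.single_le_sum (f := fun i => (x : GolayPt → ℤ) i ^ 2)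
      (fun i _ => sq_nonneg _) (Finset.mem_univ p)
  constructor <;> nlinarith

/-- `C` is the list of the biased packed columns of a matrix of `g` -/
def IsPk (g : Co0) (C : List ℕ) : Prop :=
  ∃ M : List (List ℤ), IsMat g M ∧ pkChk M C = true

theorem IsMat.isPk {g : Co0} {M : List (List ℤ)} (hg : IsMat g M) {C : List ℕ}
    (h : pkChk M C = true) : IsPk g C := ⟨M, hg, h⟩

theorem IsPk.apply {g : Co0} {C : List ℕ} (h : IsPk g C) (x : leechLattice)
    (hn : sqNorm (x : GolayPt → ℤ) ≤ 1024) :
    pkV ((g • x : leechLattice) : GolayPt → ℤ) = pmv C (pkV (x : GolayPt → ℤ)) := by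
  obtain ⟨M, hg, hC⟩ := h
  exact (hg.pmv hC x (bound_of_sqNorm x hn)).symm

/-- the image of a packed vector under a word -/
def pmvs : List (List ℕ) → ℤ → ℤ
  | [], X => X
  | C :: Cs, X => pmv C (pmvs Cs X)

theorem pk_prod {gs : List Co0} {Cs : List (List ℕ)} (h : List.Forall₂ IsPk gs Cs)
    (x : leechLattice) (hn : sqNorm (x : GolayPt → ℤ) ≤ 1024) :
    pkV ((gs.prod • x : leechLattice) : GolayPt → ℤ) = pmvs Cs (pkV (x : GolayPt → ℤ)) := by
  induction h with
  | nil => rw [List.prod_nil, one_smul, pmvs]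
  | @cons g C gs' Cs' hg _ ih =>
    rw [List.prod_cons, mul_smul, pmvs, ← ih]
    exact hg.apply _ (by rw [co0_sqNorm]; exact hn)

/-- the image of a packed vector under a power of a word -/
def pitv (Cs : List (List ℕ)) : ℕ → ℤ → ℤ
  | 0, X => X
  | n + 1, X => pmvs Cs (pitv Cs n X)

theorem pk_pow {gs : List Co0} {Cs : List (List ℕ)} (h : List.Forall₂ IsPk gs Cs)
    (x : leechLattice) (hn : sqNorm (x : GolayPt → ℤ) ≤ 1024) :
    ∀ n : ℕ, pkV ((gs.prod ^ n • x : leechLattice) : GolayPt → ℤ) =
      pitv Cs n (pkV (x : GolayPt → ℤ))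
  | 0 => by rw [pow_zero, one_smul, pitv]
  | n + 1 => by
    rw [pow_succ', mul_smul, pitv, ← pk_pow h x hn n]
    exact pk_prod h _ (by rw [co0_sqNorm]; exact hn)

/-- the norm bound for an explicit vector -/
def normOk (l : List ℤ) : Bool := decide (sumTo 24 (fun j => l.getD j 0 * l.getD j 0) ≤ 1024)

theorem sqNorm_le_of_normOk {x : leechLattice} {l : List ℤ} (hx : (x : GolayPt → ℤ) = vecL l)
    (h : normOk l = true) : sqNorm (x : GolayPt → ℤ) ≤ 1024 := by
  have h1 := of_decide_eq_true h
  have h2 : sqNorm (x : GolayPt → ℤ) = sumTo 24 (fun j => l.getD j 0 * l.getD j 0) := by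
    unfold sqNorm
    rw [sum_golay]
    apply sumTo_congr
    intro j hj
    rw [hx, vecL_pt l hj, sq]
  rw [h2]
  exact h1

/-- the packed code of an explicit vector -/
def pkL (l : List ℤ) : ℤ := encL ((List.range 24).map fun k => l.getD k 0)

theorem pkV_vecL (l : List ℤ) : pkV (vecL l) = pkL l := by
  rw [pkV, pkL, digs]
  exact congrArg encL (List.map_congr_left (fun k hk => vecL_pt l (List.mem_range.1 hk)))

/-- **A power of a word that moves an explicit vector is not the identity** (packed version). -/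
theorem pow_ne_one_pk {gs : List Co0} {Cs : List (List ℕ)} (h : List.Forall₂ IsPk gs Cs)
    {x : leechLattice} {l : List ℤ} (hx : (x : GolayPt → ℤ) = vecL l) (n : ℕ)
    (hm : (normOk l && decide (pitv Cs n (pkL l) ≠ pkL l)) = true) : gs.prod ^ n ≠ 1 := by
  rw [Bool.and_eq_true] at hm
  intro e
  have h1 := pk_pow h x (sqNorm_le_of_normOk hx hm.1) n
  rw [e, one_smul, hx, pkV_vecL] at h1
  exact (of_decide_eq_true hm.2) h1.symm

theorem encL_inj : ∀ ds ds' : List ℤ, ds.length = ds'.length →
    (∀ d ∈ ds, -1024 ≤ d ∧ d ≤ 1024) → (∀ d ∈ ds', -1024 ≤ d ∧ d ≤ 1024) →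
    encL ds = encL ds' → ds = ds'
  | [], [], _, _, _, _ => rfl
  | [], _ :: _, h, _, _, _ => by simp at h
  | _ :: _, [], h, _, _, _ => by simp at h
  | a :: as, b :: bs, h, hb, hb', he => by
    have ha := hb a (List.mem_cons_self ..)
    have hb0 := hb' b (List.mem_cons_self ..)
    rw [encL, encL] at he
    have e1 : a = b := by omega
    have e2 : encL as = encL bs := by omega
    rw [e1, encL_inj as bs (by simpa using h) (fun d hd => hb d (List.mem_cons_of_mem _ hd))
      (fun d hd => hb' d (List.mem_cons_of_mem _ hd)) e2]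

theorem pkV_inj (x y : leechLattice) (hx : sqNorm (x : GolayPt → ℤ) ≤ 1024)
    (hy : sqNorm (y : GolayPt → ℤ) ≤ 1024)
    (h : pkV (x : GolayPt → ℤ) = pkV (y : GolayPt → ℤ)) : x = y := by
  have h1 : digs (x : GolayPt → ℤ) = digs (y : GolayPt → ℤ) := by
    apply encL_inj _ _ (by rw [length_digs, length_digs]) _ _ h
    · intro d hd
      obtain ⟨p, rfl⟩ := mem_digs hd
      exact bound_of_sqNorm x hx p
    · intro d hd
      obtain ⟨p, rfl⟩ := mem_digs hd
      exact bound_of_sqNorm y hy p
  apply Subtype.ext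
  funext p
  have h2 : (digs (x : GolayPt → ℤ)).getD (idx p) 0 = (digs (y : GolayPt → ℤ)).getD (idx p) 0 := by
    rw [h1]
  rw [getD_digs _ (Cfsg.Agent.Helper7.idx_lt p), getD_digs _ (Cfsg.Agent.Helper7.idx_lt p),
    Cfsg.Agent.Helper7.pt_idx] at h2
  exact h2

theorem sqNorm_P (i : GolayPt) : sqNorm ((P i i : leechLattice) : GolayPt → ℤ) ≤ 1024 :=
  sqNorm_le_of_normOk (P_vec i) (by
    have h : ∀ j < 24, normOk (e8L j) = true := by decide +kernel
    exact h _ (Cfsg.Agent.Helper7.idx_lt i))

/-- check that two packed words agree on the 24 vectors `8 e_i` -/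
def wordEqP (Cs Cs' : List (List ℕ)) : Bool :=
  allTo 24 fun i => decide (pmvs Cs (pkL (e8L i)) = pmvs Cs' (pkL (e8L i)))

/-- **Two words that agree on the vectors `8 e_i` are equal** (packed version). -/
theorem prod_eq_pk {gs gs' : List Co0} {Cs Cs' : List (List ℕ)}
    (h : List.Forall₂ IsPk gs Cs) (h' : List.Forall₂ IsPk gs' Cs')
    (hc : wordEqP Cs Cs' = true) : gs.prod = gs'.prod := by
  apply co0_eq_of_F_eq
  intro i
  have h1 := of_decide_eq_true ((allTo_iff _ _).1 hc (idx i) (Cfsg.Agent.Helper7.idx_lt i))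
  apply pkV_inj _ _ (by rw [co0_sqNorm]; exact sqNorm_P i) (by rw [co0_sqNorm]; exact sqNorm_P i)
  rw [pk_prod h _ (sqNorm_P i), pk_prod h' _ (sqNorm_P i), P_vec, pkV_vecL]
  exact h1

/-- check that the `n`-th power of a packed word fixes the 24 vectors `8 e_i` -/
def powFixP (Cs : List (List ℕ)) (n : ℕ) : Bool :=
  allTo 24 fun i => decide (pitv Cs n (pkL (e8L i)) = pkL (e8L i))

theorem pow_eq_one_pk {gs : List Co0} {Cs : List (List ℕ)} (h : List.Forall₂ IsPk gs Cs)
    (n : ℕ) (hc : powFixP Cs n = true) : gs.prod ^ n = 1 := by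
  apply co0_eq_of_F_eq
  intro i
  have h1 := of_decide_eq_true ((allTo_iff _ _).1 hc (idx i) (Cfsg.Agent.Helper7.idx_lt i))
  apply pkV_inj _ _ (by rw [co0_sqNorm]; exact sqNorm_P i) (by rw [one_smul]; exact sqNorm_P i)
  rw [pk_pow h _ (sqNorm_P i) n, one_smul, P_vec, pkV_vecL]
  exact h1

/-- the image of an explicit vector under a word (packed version) -/
theorem vec_prod_pk {gs : List Co0} {Cs : List (List ℕ)} (h : List.Forall₂ IsPk gs Cs)
    {x : leechLattice} {l l' : List ℤ} (hx : (x : GolayPt → ℤ) = vecL l)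
    (hc : (normOk l && normOk l' && decide (pmvs Cs (pkL l) = pkL l')) = true) (y : leechLattice)
    (hy : (y : GolayPt → ℤ) = vecL l') : gs.prod • x = y := by
  rw [Bool.and_eq_true, Bool.and_eq_true] at hc
  have hn := sqNorm_le_of_normOk hx hc.1.1
  apply pkV_inj _ _ (by rw [co0_sqNorm]; exact hn) (sqNorm_le_of_normOk hy hc.1.2)
  rw [pk_prod h x hn, hx, hy, pkV_vecL, pkV_vecL]
  exact of_decide_eq_true hc.2

/-- the bound on the entries of an explicit vector -/
def bndOk (l : List ℤ) : Bool :=
  (List.range 24).all fun k => decide (-1024 ≤ l.getD k 0 ∧ l.getD k 0 ≤ 1024)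

/-- a lattice vector is determined by its packed code -/
theorem eq_vecL_of_pk {x : leechLattice} (hn : sqNorm (x : GolayPt → ℤ) ≤ 1024) {l : List ℤ}
    (hl : bndOk l = true) (h : pkV (x : GolayPt → ℤ) = pkL l) : (x : GolayPt → ℤ) = vecL l := by
  have h1 : digs (x : GolayPt → ℤ) = (List.range 24).map fun k => l.getD k 0 := by
    apply encL_inj _ _ (by rw [length_digs]; simp) _ _ h
    · intro d hd
      obtain ⟨p, rfl⟩ := mem_digs hd
      exact bound_of_sqNorm x hn p
    · intro d hd
      rw [List.mem_map] at hd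
      obtain ⟨k, hk, rfl⟩ := hd
      exact of_decide_eq_true (List.all_eq_true.1 hl k hk)
  funext p
  have h2 : (digs (x : GolayPt → ℤ)).getD (idx p) 0 =
      ((List.range 24).map fun k => l.getD k 0).getD (idx p) 0 := by
    rw [h1]
  rw [getD_digs _ (Cfsg.Agent.Helper7.idx_lt p), getD_map_range _ _ (Cfsg.Agent.Helper7.idx_lt p),
    Cfsg.Agent.Helper7.pt_idx] at h2
  unfold vecL
  rw [idx26]
  exact h2

/-- the image of an explicit vector under a word, as an explicit vector (packed version) -/
theorem vec_prod_pk' {gs : List Co0} {Cs : List (List ℕ)} (h : List.Forall₂ IsPk gs Cs)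
    {x : leechLattice} {l l' : List ℤ} (hx : (x : GolayPt → ℤ) = vecL l)
    (hc : (normOk l && bndOk l' && decide (pmvs Cs (pkL l) = pkL l')) = true) :
    ((gs.prod • x : leechLattice) : GolayPt → ℤ) = vecL l' := by
  rw [Bool.and_eq_true, Bool.and_eq_true] at hc
  have hn := sqNorm_le_of_normOk hx hc.1.1
  apply eq_vecL_of_pk (by rw [co0_sqNorm]; exact hn) hc.1.2
  rw [pk_prod h x hn, hx, pkV_vecL]
  exact of_decide_eq_true hc.2

/-- check that the columns of `M` are the images of the vectors `8 e_i` under a packed word -/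
def colsChkP (Cs : List (List ℕ)) (M : List (List ℤ)) : Bool :=
  allTo 24 fun i => bndOk (M.getD i []) && decide (pmvs Cs (pkL (e8L i)) = pkL (M.getD i []))

theorem isMat_prod_pk {gs : List Co0} {Cs : List (List ℕ)} (h : List.Forall₂ IsPk gs Cs)
    {M : List (List ℤ)} (hc : colsChkP Cs M = true) : IsMat gs.prod M := by
  intro i k
  have h1 := (allTo_iff _ _).1 hc (idx i) (Cfsg.Agent.Helper7.idx_lt i)
  rw [Bool.and_eq_true] at h1
  have h2 : ((gs.prod • P i i : leechLattice) : GolayPt → ℤ) = vecL (M.getD (idx i) []) := by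
    apply eq_vecL_of_pk (by rw [co0_sqNorm]; exact sqNorm_P i) h1.1
    rw [pk_prod h _ (sqNorm_P i), P_vec, pkV_vecL]
    exact of_decide_eq_true h1.2
  rw [h2]
  unfold vecL
  rw [idx26]
  rfl

theorem forall2_replicate_pk {g : Co0} {C : List ℕ} (h : IsPk g C) (n : ℕ) :
    List.Forall₂ IsPk (List.replicate n g) (List.replicate n C) := by
  induction n with
  | zero => exact .nil
  | succ n ih => exact .cons h ih

theorem forall2_append_pk {gs gs' : List Co0} {Cs Cs' : List (List ℕ)}
    (h : List.Forall₂ IsPk gs Cs) (h' : List.Forall₂ IsPk gs' Cs') :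
    List.Forall₂ IsPk (gs ++ gs') (Cs ++ Cs') := by
  induction h with
  | nil => exact h'
  | cons hg _ ih => exact .cons hg ih

end Cfsg.Agent.Helper92.Mat
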