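import Cfsg.Agent.Helper92.Co0Mat

/-!
# Fast evaluation of words of `Co0` on explicit vectors

A word is a list of elements of `Co0` together with the list of their matrices.  Its action on an
explicit vector, the non-triviality of its powers, and equalities between words are reduced to
kernel-checkable list computations that avoid positional lookups.
-/

set_option autoImplicit false

namespace Cfsg.Agent.Helper92.Mat

open Cfsg MulAction
open Cfsg.Agent.Helper7 (idx pt)

/-- entrywise sum of two lists (the longer list wins at the end) -/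
def addL : List ℤ → List ℤ → List ℤ
  | [], bs => bs
  | a :: as, [] => a :: as
  | a :: as, b :: bs => (a + b) :: addL as bs

theorem getD_addL : ∀ (as bs : List ℤ) (k : ℕ),
    (addL as bs).getD k 0 = as.getD k 0 + bs.getD k 0
  | [], bs, k => by simp [addL]
  | a :: as, [], k => by simp [addL]
  | a :: as, b :: bs, 0 => by simp [addL]
  | a :: as, b :: bs, k + 1 => by
    simp only [addL, List.getD_cons_succ]
    exact getD_addL as bs k

/-- the linear combination of the columns of `M` with coefficients `l` -/
def comb : List ℤ → List (List ℤ) → List ℤ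
  | a :: as, c :: cs => addL (c.map (a * ·)) (comb as cs)
  | [], _ => []
  | _ :: _, [] => []

theorem sumTo_succ_front (m : ℕ) (f : ℕ → ℤ) :
    sumTo (m + 1) f = f 0 + sumTo m (fun j => f (j + 1)) := by
  induction m with
  | zero => simp [sumTo]
  | succ m ih =>
    rw [sumTo, ih, sumTo]
    ring

theorem sumTo_eq_zero (n : ℕ) (f : ℕ → ℤ) (h : ∀ j, f j = 0) : sumTo n f = 0 := by
  induction n with
  | zero => rfl
  | succ n ih => rw [sumTo, ih, h, add_zero]

theorem getD_map_mul (a : ℤ) (c : List ℤ) (k : ℕ) : (c.map (a * ·)).getD k 0 = a * c.getD k 0 := by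
  induction c generalizing k with
  | nil => simp
  | cons b c ih =>
    cases k with
    | zero => simp
    | succ k => simpa using ih k

theorem getD_comb : ∀ (l : List ℤ) (M : List (List ℤ)) (n : ℕ), l.length ≤ n → ∀ k : ℕ,
    (comb l M).getD k 0 = sumTo n (fun j => l.getD j 0 * ent M j k)
  | [], M, n, _, k => by
    rw [sumTo_eq_zero]
    · cases M <;> simp [comb]
    · intro j; simp
  | a :: as, [], n, _, k => by
    rw [sumTo_eq_zero]
    · simp [comb]
    · intro j; simp [ent]
  | a :: as, c :: cs, 0, h, k => by simp at h
  | a :: as, c :: cs, n + 1, h, k => by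
    have h' : as.length ≤ n := by simpa using h
    rw [comb, getD_addL, getD_map_mul, getD_comb as cs n h' k, sumTo_succ_front]
    rfl

/-- divide all entries by 8, failing if one of them is not divisible -/
def divL : List ℤ → Option (List ℤ)
  | [] => some []
  | a :: as => if a % 8 = 0 then (divL as).map (fun r => a / 8 :: r) else none

theorem getD_divL : ∀ (L L' : List ℤ), divL L = some L' → ∀ k : ℕ, 8 * L'.getD k 0 = L.getD k 0
  | [], L', h, k => by
    rw [divL, Option.some.injEq] at h
    subst h
    simp
  | a :: as, L', h, k => by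
    rw [divL] at h
    split_ifs at h with ha
    rw [Option.map_eq_some_iff] at h
    obtain ⟨r, hr, rfl⟩ := h
    cases k with
    | zero =>
      simp only [List.getD_cons_zero]
      omega
    | succ k =>
      simp only [List.getD_cons_succ]
      exact getD_divL as r hr k

/-- the image of the vector `l` under the matrix `M` (if the entries are integral) -/
def mvO (M : List (List ℤ)) (l : List ℤ) : Option (List ℤ) :=
  if l.length ≤ 24 then divL (comb l M) else none

theorem IsMat.mvO {g : Co0} {M : List (List ℤ)} (hg : IsMat g M) {x : leechLattice} {l l' : List ℤ}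
    (hx : (x : GolayPt → ℤ) = vecL l) (h : Mat.mvO M l = some l') :
    ((g • x : leechLattice) : GolayPt → ℤ) = vecL l' := by
  rw [Mat.mvO] at h
  split_ifs at h with hlen
  funext k
  have h1 := hg.apply x k
  have h2 : sumTo 24 (fun j => (x : GolayPt → ℤ) (pt j) * ent M j (idx k)) =
      sumTo 24 (fun j => l.getD j 0 * ent M j (idx k)) := by
    apply sumTo_congr
    intro j hj
    rw [hx, vecL_pt l hj]
  rw [h2, ← getD_comb l M 24 hlen (idx k), ← getD_divL _ _ h (idx k)] at h1
  have h4 : vecL l' k = l'.getD (idx k) 0 := by
    unfold vecL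
    rw [idx26]
  rw [h4]
  omega

/-- the image of a vector under a word -/
def mvsO : List (List (List ℤ)) → List ℤ → Option (List ℤ)
  | [], l => some l
  | M :: Ms, l => (mvsO Ms l).bind (mvO M)

theorem vec_prod {gs : List Co0} {Ms : List (List (List ℤ))} (h : List.Forall₂ IsMat gs Ms)
    {x : leechLattice} {l l' : List ℤ} (hx : (x : GolayPt → ℤ) = vecL l)
    (hok : mvsO Ms l = some l') :
    ((gs.prod • x : leechLattice) : GolayPt → ℤ) = vecL l' := by
  induction h generalizing l' with
  | nil =>
    rw [mvsO, Option.some.injEq] at hok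
    subst hok
    rw [List.prod_nil, one_smul]
    exact hx
  | cons hg _ ih =>
    rw [mvsO, Option.bind_eq_some_iff] at hok
    obtain ⟨l₁, h1, h2⟩ := hok
    rw [List.prod_cons, mul_smul]
    exact hg.mvO (ih h1) h2

/-- the image of a vector under a power of a word -/
def itvO (Ms : List (List (List ℤ))) : ℕ → List ℤ → Option (List ℤ)
  | 0, l => some l
  | n + 1, l => (itvO Ms n l).bind (mvsO Ms)

theorem vec_pow {gs : List Co0} {Ms : List (List (List ℤ))} (h : List.Forall₂ IsMat gs Ms)
    {x : leechLattice} {l : List ℤ} (hx : (x : GolayPt → ℤ) = vecL l) :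
    ∀ (n : ℕ) (l' : List ℤ), itvO Ms n l = some l' →
      ((gs.prod ^ n • x : leechLattice) : GolayPt → ℤ) = vecL l'
  | 0, l', hok => by
    rw [itvO, Option.some.injEq] at hok
    subst hok
    rw [pow_zero, one_smul]
    exact hx
  | n + 1, l', hok => by
    rw [itvO, Option.bind_eq_some_iff] at hok
    obtain ⟨l₁, h1, h2⟩ := hok
    rw [pow_succ', mul_smul]
    exact vec_prod h (vec_pow h hx n l₁ h1) h2

/-- the two lists differ at some index below 24 -/
def lne (l l' : List ℤ) : Bool :=
  (List.range 24).any fun j => decide (l.getD j 0 ≠ l'.getD j 0)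

theorem vecL_ne {l l' : List ℤ} (h : lne l l' = true) : vecL l ≠ vecL l' := by
  rw [lne, List.any_eq_true] at h
  obtain ⟨j, hj, hne⟩ := h
  intro e
  have h1 := congrFun e (pt j)
  rw [vecL_pt l (List.mem_range.1 hj), vecL_pt l' (List.mem_range.1 hj)] at h1
  exact (of_decide_eq_true hne) h1

/-- the two lists agree at all indices below 24 -/
def leq (l l' : List ℤ) : Bool := allTo 24 fun j => decide (l.getD j 0 = l'.getD j 0)

theorem vecL_eq {l l' : List ℤ} (h : leq l l' = true) : vecL l = vecL l' := by
  funext k
  unfold vecL
  rw [idx26]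
  exact of_decide_eq_true ((allTo_iff _ _).1 h (idx k) (Cfsg.Agent.Helper7.idx_lt k))

/-- the `n`-th power of the word moves the vector `l` -/
def movesB (Ms : List (List (List ℤ))) (n : ℕ) (l : List ℤ) : Bool :=
  match itvO Ms n l with
  | some l' => lne l' l
  | none => false

/-- **A power of a word that moves an explicit vector is not the identity.** -/
theorem pow_ne_one {gs : List Co0} {Ms : List (List (List ℤ))} (h : List.Forall₂ IsMat gs Ms)
    {x : leechLattice} {l : List ℤ} (hx : (x : GolayPt → ℤ) = vecL l) (n : ℕ)
    (hm : movesB Ms n l = true) : gs.prod ^ n ≠ 1 := by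
  intro e
  rw [movesB] at hm
  split at hm
  · rename_i l' hl'
    have h1 := vec_pow h hx n l' hl'
    rw [e, one_smul, hx] at h1
    exact vecL_ne hm h1.symm
  · exact Bool.false_ne_true hm

/-- the list of the vector `8 e_i` -/
def e8L (i : ℕ) : List ℤ := (List.range 24).map fun k => if k = i then 8 else 0

theorem P_vec (i : GolayPt) : ((P i i : leechLattice) : GolayPt → ℤ) = vecL (e8L (idx i)) := by
  funext k
  rw [P_diag_apply]
  unfold vecL
  rw [idx26, e8L, getD_map_range _ _ (Cfsg.Agent.Helper7.idx_lt k)]
  simp only [idx_eq_iff]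

/-- check that the two words agree on the 24 vectors `8 e_i` -/
def wordEq (Ms Ms' : List (List (List ℤ))) : Bool :=
  allTo 24 fun i =>
    match mvsO Ms (e8L i), mvsO Ms' (e8L i) with
    | some a, some b => leq a b
    | _, _ => false

/-- **Two words that agree on the vectors `8 e_i` are equal.** -/
theorem prod_eq {gs gs' : List Co0} {Ms Ms' : List (List (List ℤ))}
    (h : List.Forall₂ IsMat gs Ms) (h' : List.Forall₂ IsMat gs' Ms')
    (hc : wordEq Ms Ms' = true) : gs.prod = gs'.prod := by
  apply co0_eq_of_F_eq
  intro i
  apply Subtype.ext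
  have h1 := (allTo_iff _ _).1 hc (idx i) (Cfsg.Agent.Helper7.idx_lt i)
  split at h1
  · rename_i a b ha hb
    rw [vec_prod h (P_vec i) ha, vec_prod h' (P_vec i) hb]
    exact vecL_eq h1
  · exact absurd h1 Bool.false_ne_true

/-- check that the `n`-th power of a word fixes the 24 vectors `8 e_i` -/
def powFix (Ms : List (List (List ℤ))) (n : ℕ) : Bool :=
  allTo 24 fun i =>
    match itvO Ms n (e8L i) with
    | some a => leq a (e8L i)
    | none => false

theorem pow_eq_one {gs : List Co0} {Ms : List (List (List ℤ))} (h : List.Forall₂ IsMat gs Ms)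
    (n : ℕ) (hc : powFix Ms n = true) : gs.prod ^ n = 1 := by
  apply co0_eq_of_F_eq
  intro i
  apply Subtype.ext
  have h1 := (allTo_iff _ _).1 hc (idx i) (Cfsg.Agent.Helper7.idx_lt i)
  split at h1
  · rename_i a ha
    rw [vec_pow h (P_vec i) n a ha, one_smul, P_vec]
    exact vecL_eq h1
  · exact absurd h1 Bool.false_ne_true

/-- check that the columns of `M` are the images of the vectors `8 e_i` under a word -/
def colsChk (Ms : List (List (List ℤ))) (M : List (List ℤ)) : Bool :=
  allTo 24 fun i =>
    match mvsO Ms (e8L i) with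
    | some a => leq a (M.getD i [])
    | none => false

theorem isMat_prod {gs : List Co0} {Ms : List (List (List ℤ))} (h : List.Forall₂ IsMat gs Ms)
    {M : List (List ℤ)} (hc : colsChk Ms M = true) : IsMat gs.prod M := by
  intro i k
  have h1 := (allTo_iff _ _).1 hc (idx i) (Cfsg.Agent.Helper7.idx_lt i)
  split at h1
  · rename_i a ha
    rw [vec_prod h (P_vec i) ha]
    have h2 := (allTo_iff _ _).1 h1 (idx k) (Cfsg.Agent.Helper7.idx_lt k)
    unfold vecL
    rw [idx26]
    exact of_decide_eq_true h2
  · exact absurd h1 Bool.false_ne_true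

/-- the image of an explicit vector under one element -/
theorem IsMat.mv {g : Co0} {M : List (List ℤ)} (hg : IsMat g M) {x : leechLattice} {l l' : List ℤ}
    (hx : (x : GolayPt → ℤ) = vecL l)
    (h : (match Mat.mvO M l with
      | some a => leq a l'
      | none => false) = true) :
    ((g • x : leechLattice) : GolayPt → ℤ) = vecL l' := by
  split at h
  · rename_i a ha
    rw [hg.mvO hx ha]
    exact vecL_eq h
  · exact absurd h Bool.false_ne_true

theorem forall2_replicate {g : Co0} {M : List (List ℤ)} (h : IsMat g M) (n : ℕ) :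
    List.Forall₂ IsMat (List.replicate n g) (List.replicate n M) := by
  induction n with
  | zero => exact .nil
  | succ n ih => exact .cons h ih

theorem forall2_append {gs gs' : List Co0} {Ms Ms' : List (List (List ℤ))}
    (h : List.Forall₂ IsMat gs Ms) (h' : List.Forall₂ IsMat gs' Ms') :
    List.Forall₂ IsMat (gs ++ gs') (Ms ++ Ms') := by
  induction h with
  | nil => exact h'
  | cons hg _ ih => exact .cons hg ih

end Cfsg.Agent.Helper92.Mat
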