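import Cfsg.Agent.Helper92.LeechNormal

/-!
# Generation of the automorphism group by the monomial group and one further element

`monoXi` is the subgroup generated by the stabiliser of the standard cross and the element `xi`.
The orbit computation of `LeechCong` is repeated keeping track of the group elements used; this
gives `monoXi = ⊤`.
-/

set_option autoImplicit false

namespace Cfsg.Agent.Helper92

open Cfsg
open scoped Pointwise

/-- the subgroup generated by the monomial automorphisms and `xi` -/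
def monoXi : Subgroup Co0 := Subgroup.closure ({g | StabCross g} ∪ {xi})

theorem stabCross_mem_monoXi {g : Co0} (hg : StabCross g) : g ∈ monoXi :=
  Subgroup.subset_closure (Or.inl hg)

theorem xi_mem_monoXi : xi ∈ monoXi := Subgroup.subset_closure (Or.inr rfl)

theorem permAut_mem_monoXi (g : Equiv.Perm GolayPt) (hg : g ∈ M24) : permAut g hg ∈ monoXi :=
  stabCross_mem_monoXi (stabCross_permAut g hg)

theorem signAut_mem_monoXi (C : Finset GolayPt)
    (hC : C ∈ supports (golayCode : Set (GolayPt → ZMod 2))) : signAut C hC ∈ monoXi := by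
  apply stabCross_mem_monoXi
  have h := stabCross_monomial C hC 1 (one_mem _)
  rwa [permAut_one, mul_one] at h

/-- some element of `monoXi` carries `x` to a vector congruent to `y` modulo twice the lattice -/
def TOrb (x y : leechLattice) : Prop := ∃ g ∈ monoXi, Cong (g • x) y

theorem TOrb.refl (x : leechLattice) : TOrb x x :=
  ⟨1, one_mem _, by rw [one_smul]; exact Cong.refl x⟩

theorem TOrb.of_cong {x y : leechLattice} (h : Cong x y) : TOrb x y :=
  ⟨1, one_mem _, by rw [one_smul]; exact h⟩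

theorem TOrb.of_mem {g : Co0} (hg : g ∈ monoXi) (x : leechLattice) : TOrb x (g • x) :=
  ⟨g, hg, Cong.refl _⟩

theorem TOrb.trans {x y w : leechLattice} (h1 : TOrb x y) (h2 : TOrb y w) : TOrb x w := by
  obtain ⟨g, hgm, hg⟩ := h1
  obtain ⟨h, hhm, hh⟩ := h2
  exact ⟨h * g, mul_mem hhm hgm, by rw [mul_smul]; exact (hg.smul h).trans hh⟩

theorem TOrb.symm {x y : leechLattice} (h : TOrb x y) : TOrb y x := by
  obtain ⟨g, hgm, hg⟩ := h
  refine ⟨g⁻¹, inv_mem hgm, ?_⟩
  have := (hg.symm).smul g⁻¹
  rwa [inv_smul_smul] at this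

theorem TOrb.toOrb {x y : leechLattice} (h : TOrb x y) : Orb x y := by
  obtain ⟨g, -, hg⟩ := h
  exact ⟨g, hg⟩

theorem TOrb.sqNorm_eq {x u : leechLattice} (h : TOrb x u)
    (hx : sqNorm (x : GolayPt → ℤ) ≤ 64) (hu : sqNorm (u : GolayPt → ℤ) ≤ 64) :
    sqNorm (x : GolayPt → ℤ) = sqNorm (u : GolayPt → ℤ) := h.toOrb.sqNorm_eq hx hu

theorem TOrb.of_perm (g : Equiv.Perm GolayPt) (hg : g ∈ M24) (x : leechLattice) :
    TOrb x (permAut g hg • x) := TOrb.of_mem (permAut_mem_monoXi g hg) x

theorem TOrb.of_sign (C : Finset GolayPt)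
    (hC : C ∈ supports (golayCode : Set (GolayPt → ZMod 2))) (x : leechLattice) :
    TOrb x (signAut C hC • x) := TOrb.of_mem (signAut_mem_monoXi C hC) x

theorem TOrb.of_xi (x : leechLattice) : TOrb x (xi • x) := TOrb.of_mem xi_mem_monoXi x

theorem TOrb.of_xi' (x : leechLattice) : TOrb (xi • x) x := (TOrb.of_xi x).symm

theorem torb_P {i j : GolayPt} (hij : i ≠ j) : TOrb (P i j) Cfsg.Spor.leechU := by
  obtain ⟨g, hg, h1, h2⟩ := Cfsg.Agent.Helper7.m24_trans2 (p := i) (q := j) (p' := none)
    (q' := some 0) hij (by decide)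
  have := TOrb.of_perm g hg (P i j)
  rwa [permAut_P, h1, h2, ← leechU_eq] at this

theorem torb_Pm {i j : GolayPt} (hij : i ≠ j) : TOrb (P i j - P j j) Cfsg.Spor.leechU := by
  obtain ⟨C, hC, hjC, hiC⟩ := exists_sep i j hij
  have h : signAut C hC • (P i j - P j j) = P i j := by
    apply Subtype.ext
    funext k
    show signFun C ((e4 i + e4 j) - (e4 j + e4 j)) k = e4 i k + e4 j k
    rw [signFun_apply]
    simp only [Pi.sub_apply, Pi.add_apply, e4_apply]
    by_cases hki : k = i
    · subst hki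
      rw [if_neg hiC]
      simp [hij]
    · by_cases hkj : k = j
      · subst hkj
        rw [if_pos hjC]
        simp [hki]
      · simp [hki, hkj]
  have := TOrb.of_sign C hC (P i j - P j j)
  rw [h] at this
  exact this.trans (torb_P hij)

theorem torb_Q1 : TOrb (Q0 - P none none) U4 := by
  rw [← xi_U4]
  exact TOrb.of_xi' U4

theorem torb_Q0 : TOrb Q0 U4 := by
  have h1 := TOrb.of_sign oct oct_mem Q0
  rw [signAut_Q0] at h1
  exact h1.trans ((TOrb.of_cong (Cong.neg_self _)).trans torb_Q1)

theorem torb_Q0' : TOrb (Q0 + P none none) U4 := by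
  have : Cong (Q0 + P none none) (Q0 - P none none) := ⟨P none none, by abel⟩
  exact (TOrb.of_cong this).trans torb_Q1

/-- **Vectors with all coordinates divisible by 4** lie in the orbits of `0`, `(4,4,0^22)`,
`(8,0^23)` modulo twice the lattice. -/
theorem torb_of_four_dvd (x : leechLattice) (h4 : ∀ i, (x : GolayPt → ℤ) i % 4 = 0) :
    TOrb x 0 ∨ TOrb x Cfsg.Spor.leechU ∨ TOrb x U4 := by
  obtain ⟨y, hxy, hy4, hyc⟩ := descent 0 (Or.inl rfl) _ x h4 le_rfl
  suffices h : TOrb y 0 ∨ TOrb y Cfsg.Spor.leechU ∨ TOrb y U4 by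
    rcases h with h | h | h
    · exact Or.inl ((TOrb.of_cong hxy).trans h)
    · exact Or.inr (Or.inl ((TOrb.of_cong hxy).trans h))
    · exact Or.inr (Or.inr ((TOrb.of_cong hxy).trans h))
  have hsum := sum_mod_hi 0 (Or.inl rfl) y hy4
  have hy' := (mem_leechLattice_iff _).1 y.2
  rw [mem_leechSet_iff] at hy'
  obtain ⟨m, p1, p2, -⟩ := hy'
  have hm : (y : GolayPt → ℤ) none % 2 = m % 2 := p1 none
  have p2' : (∑ i, (y : GolayPt → ℤ) i) % 8 = (4 * m) % 8 := p2
  have h4n := hy4 none
  have hmem : ∀ k, k ∈ hi 0 y ↔ (y : GolayPt → ℤ) k % 8 = 4 := by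
    intro k; rw [mem_hi]; norm_num
  have hcard : (hi 0 y).card = 0 ∨ (hi 0 y).card = 2 ∨ (hi 0 y).card = 4 := by omega
  rcases hcard with hc | hc | hc
  · -- all coordinates divisible by 8
    rw [Finset.card_eq_zero] at hc
    have h8 : ∀ k, ((y : GolayPt → ℤ) k - ((0 : leechLattice) : GolayPt → ℤ) k) % 8 = 0 := by
      intro k
      have h1 : k ∉ hi 0 y := by rw [hc]; exact Finset.notMem_empty k
      rw [hmem] at h1
      have := hy4 k
      show ((y : GolayPt → ℤ) k - 0) % 8 = 0
      omega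
    rcases cong_or_of_eight h8 none with h | h
    · exact Or.inl (TOrb.of_cong h)
    · rw [zero_add] at h
      exact Or.inr (Or.inr (TOrb.of_cong h))
  · -- two coordinates congruent to 4 modulo 8
    obtain ⟨i, j, hij, hset⟩ := Finset.card_eq_two.1 hc
    have h8 : ∀ k, ((y : GolayPt → ℤ) k - ((P i j : leechLattice) : GolayPt → ℤ) k) % 8 = 0 := by
      intro k
      rw [P_apply]
      have h1 := hmem k
      rw [hset, Finset.mem_insert, Finset.mem_singleton] at h1
      have := hy4 k
      by_cases hki : k = i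
      · have hkj : k ≠ j := fun h => hij (hki ▸ h)
        have := h1.1 (Or.inl hki)
        rw [if_pos hki, if_neg hkj]
        omega
      · by_cases hkj : k = j
        · have := h1.1 (Or.inr hkj)
          rw [if_neg hki, if_pos hkj]
          omega
        · have : ¬ (y : GolayPt → ℤ) k % 8 = 4 := fun h => by
            rcases h1.2 h with h | h
            · exact hki h
            · exact hkj h
          rw [if_neg hki, if_neg hkj]
          omega
    right; left
    rcases cong_or_of_eight h8 j with h | h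
    · exact (TOrb.of_cong h).trans (torb_P hij)
    · have h' : Cong (P i j + P j j) (P i j - P j j) := ⟨P j j, by abel⟩
      exact (TOrb.of_cong (h.trans h')).trans (torb_Pm hij)
  · -- four coordinates congruent to 4 modulo 8
    have hpos : 0 < (hi 0 y).card := by omega
    obtain ⟨i, hi1⟩ := Finset.card_pos.1 hpos
    have hc3 : ((hi 0 y).erase i).card = 3 := by rw [Finset.card_erase_of_mem hi1, hc]
    obtain ⟨j, k, l, hjk, hjl, hkl, hset⟩ := Finset.card_eq_three.1 hc3
    have hmem' : ∀ a, (y : GolayPt → ℤ) a % 8 = 4 ↔ a = i ∨ a = j ∨ a = k ∨ a = l := by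
      intro a
      rw [← hmem]
      by_cases hai : a = i
      · subst hai
        simp [hi1]
      · have : a ∈ (hi 0 y).erase i ↔ a ∈ hi 0 y := by
          rw [Finset.mem_erase]; simp [hai]
        rw [← this, hset]
        simp [hai]
    have hij : i ≠ j := by
      intro h
      have : j ∈ (hi 0 y).erase i := by rw [hset]; simp
      rw [← h] at this
      exact (Finset.notMem_erase i _) this
    have hik : i ≠ k := by
      intro h
      have : k ∈ (hi 0 y).erase i := by rw [hset]; simp
      rw [← h] at this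
      exact (Finset.notMem_erase i _) this
    have hil : i ≠ l := by
      intro h
      have : l ∈ (hi 0 y).erase i := by rw [hset]; simp
      rw [← h] at this
      exact (Finset.notMem_erase i _) this
    have h8 : ∀ a, ((y : GolayPt → ℤ) a - ((P i j + P k l : leechLattice) : GolayPt → ℤ) a) % 8 = 0 := by
      intro a
      show ((y : GolayPt → ℤ) a - (((P i j : leechLattice) : GolayPt → ℤ) a +
        ((P k l : leechLattice) : GolayPt → ℤ) a)) % 8 = 0
      rw [P_apply, P_apply]
      have h1 := hmem' a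
      have := hy4 a
      by_cases hai : a = i
      · subst hai
        have := h1.2 (Or.inl rfl)
        rw [if_pos rfl, if_neg hij, if_neg hik, if_neg hil]
        omega
      · by_cases haj : a = j
        · subst haj
          have := h1.2 (Or.inr (Or.inl rfl))
          rw [if_neg hai, if_pos rfl, if_neg hjk, if_neg hjl]
          omega
        · by_cases hak : a = k
          · subst hak
            have := h1.2 (Or.inr (Or.inr (Or.inl rfl)))
            rw [if_neg hai, if_neg haj, if_pos rfl, if_neg hkl]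
            omega
          · by_cases hal : a = l
            · subst hal
              have := h1.2 (Or.inr (Or.inr (Or.inr rfl)))
              rw [if_neg hai, if_neg haj, if_neg hak, if_pos rfl]
              omega
            · have : ¬ (y : GolayPt → ℤ) a % 8 = 4 := fun h => by
                rcases h1.1 h with h | h | h | h
                · exact hai h
                · exact haj h
                · exact hak h
                · exact hal h
              rw [if_neg hai, if_neg haj, if_neg hak, if_neg hal]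
              omega
    obtain ⟨g, hg, g1, g2, g3, g4⟩ := m24_trans4 (p := i) (q := j) (r := k) (s := l)
      (p' := none) (q' := some 0) (r' := some 1) (s' := some 7)
      (by simp [hij, hik, hil, hjk, hjl, hkl]) (by decide)
    have e1 : permAut g hg • (P i j + P k l) = Q0 := by
      rw [co0_add, permAut_P, permAut_P, g1, g2, g3, g4]
      rfl
    have e2 : permAut g hg • (P i j + P k l + P i i) = Q0 + P none none := by
      rw [co0_add, e1, permAut_P, g1]
    right; right
    rcases cong_or_of_eight h8 i with h | h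
    · have h2 := TOrb.of_perm g hg (P i j + P k l)
      rw [e1] at h2
      exact (TOrb.of_cong h).trans (h2.trans torb_Q0)
    · have h2 := TOrb.of_perm g hg (P i j + P k l + P i i)
      rw [e2] at h2
      exact (TOrb.of_cong h).trans (h2.trans torb_Q0')

/-- the chain `(-3, 1^23) → (2^8) → (4, -4)` -/
theorem torb_O2 : TOrb O2 Cfsg.Spor.leechU := by
  have e1 : ((signAut oct1 oct1_mem • O2 : leechLattice) : GolayPt → ℤ) =
      vecL [1, 1, 1, -1, -1, -1, -1, -1, 1, 1, -1, 1, 1, -1, 1, -1, 1, 1, 1, 1, 1, 1, 1, -3] := by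
    funext k
    show signFun oct1 (ov {none}) k = _
    revert k
    decide
  have e2 : ((xi • (signAut oct1 oct1_mem • O2) : leechLattice) : GolayPt → ℤ) =
      vecL [-2, -2, 0, -2, 0, 0, -2, 0, 2, 0, -2, 0, 0, -2, 0, 0, 0, 0, 0, 0, 0, 0, 0, 2] := by
    apply xi_eq_of
    rw [e1]
    decide
  have e3 : ((permAut cubeTwist Cfsg.Agent.Helper7.cubeTwist_mem •
      (xi • (signAut oct1 oct1_mem • O2)) : leechLattice) : GolayPt → ℤ) =
      vecL [-2, -2, 0, -2, 0, 0, 0, -2, 0, -2, 0, 0, 0, 0, 0, 0, 2, 0, -2, 0, 0, 0, 0, 2] := by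
    rw [permAut_smul]
    apply permFun_eq_of
    rw [e2]
    decide
  have e4 : ((xi • (permAut cubeTwist Cfsg.Agent.Helper7.cubeTwist_mem •
      (xi • (signAut oct1 oct1_mem • O2))) : leechLattice) : GolayPt → ℤ) =
      vecL [0, 0, 0, 0, 0, 0, 0, 0, 0, 0, 0, 0, 0, 0, 0, 0, 4, 0, 0, 0, 0, 0, 0, -4] := by
    apply xi_eq_of
    rw [e3]
    decide
  have horb : TOrb O2 (xi • (permAut cubeTwist Cfsg.Agent.Helper7.cubeTwist_mem •
      (xi • (signAut oct1 oct1_mem • O2)))) :=
    ((TOrb.of_sign _ _ _).trans (TOrb.of_xi _)).trans ((TOrb.of_perm _ _ _).trans (TOrb.of_xi _))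
  have hn : sqNorm ((xi • (permAut cubeTwist Cfsg.Agent.Helper7.cubeTwist_mem •
      (xi • (signAut oct1 oct1_mem • O2))) : leechLattice) : GolayPt → ℤ) = 32 := by
    rw [co0_sqNorm, co0_sqNorm, co0_sqNorm, co0_sqNorm, sqNorm_O2]
  have h4 : ∀ i, ((xi • (permAut cubeTwist Cfsg.Agent.Helper7.cubeTwist_mem •
      (xi • (signAut oct1 oct1_mem • O2))) : leechLattice) : GolayPt → ℤ) i % 4 = 0 := by
    rw [e4]
    decide
  rcases torb_of_four_dvd _ h4 with h | h | h
  · have := h.sqNorm_eq (by rw [hn]; norm_num) (by rw [sqNorm_zero']; norm_num)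
    rw [hn, sqNorm_zero'] at this
    omega
  · exact horb.trans h
  · have := h.sqNorm_eq (by rw [hn]; norm_num) (by rw [sqNorm_U4])
    rw [hn, sqNorm_U4] at this
    omega

theorem torb_O3a : TOrb (O2 + P none none) Cfsg.Spor.leechV := by
  have h : O2 + P none none = -Cfsg.Spor.leechV := by
    apply Subtype.ext
    funext k
    show ov {none} k + (e4 none k + e4 none k) = -Cfsg.Spor.vecV k
    simp only [e4_apply]
    revert k
    decide
  rw [h]
  exact TOrb.of_cong (Cong.neg_self _)

theorem torb_O3b : TOrb O3b Cfsg.Spor.leechV := by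
  have e1 : ((xi • O3b : leechLattice) : GolayPt → ℤ) = fun j => if j = some 7 then -5 else -1 := by
    apply xi_eq_of
    show ∀ p, xi2 (ov {none, some 0, some 1}) p = 2 * (if p = some 7 then -5 else -1)
    decide
  obtain ⟨g, hg, h1⟩ := Cfsg.Agent.Helper7.m24_trans1 (some 7) none
  have e2 : permAut g hg • (xi • O3b) = Cfsg.Spor.leechV := by
    apply Subtype.ext
    rw [permAut_smul]
    apply permFun_eq_of
    rw [e1]
    intro j
    show (if j = some 7 then (-5 : ℤ) else -1) = if g j = none then -5 else -1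
    by_cases hj : j = some 7
    · rw [if_pos hj, hj, h1, if_pos rfl]
    · have : g j ≠ none := fun h => hj (g.injective (h.trans h1.symm))
      rw [if_neg hj, if_neg this]
  have := (TOrb.of_xi O3b).trans (TOrb.of_perm g hg (xi • O3b))
  rwa [e2] at this

/-- the chain `(5, -3, -3, 1^21) → (6, 2^7) → (4^4)` -/
theorem torb_O4 : TOrb (O3b + P none none) U4 := by
  have e1 : ((signAut oct1 oct1_mem • (O3b + P none none) : leechLattice) : GolayPt → ℤ) =
      vecL [-3, -3, 1, -1, -1, -1, -1, -1, 1, 1, -1, 1, 1, -1, 1, -1, 1, 1, 1, 1, 1, 1, 1, 5] := by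
    funext k
    show signFun oct1 (ov {none, some 0, some 1} + (e4 none + e4 none)) k = _
    simp only [signFun_apply, Pi.add_apply, e4_apply]
    revert k
    decide
  have e2 : ((xi • (signAut oct1 oct1_mem • (O3b + P none none)) : leechLattice) : GolayPt → ℤ) =
      vecL [2, 2, 0, -2, 0, 0, -2, 0, 2, 0, -2, 0, 0, -2, 0, 0, 0, 0, 0, 0, 0, 0, 0, -6] := by
    apply xi_eq_of
    rw [e1]
    decide
  have e3 : ((permAut cubeTwist Cfsg.Agent.Helper7.cubeTwist_mem •
      (xi • (signAut oct1 oct1_mem • (O3b + P none none))) : leechLattice) : GolayPt → ℤ) =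
      vecL [2, -2, 0, -2, 0, 0, 0, -2, 0, -2, 0, 0, 0, 0, 0, 0, 2, 0, 2, 0, 0, 0, 0, -6] := by
    rw [permAut_smul]
    apply permFun_eq_of
    rw [e2]
    decide
  have e4 : ((signAut oct oct_mem • (permAut cubeTwist Cfsg.Agent.Helper7.cubeTwist_mem •
      (xi • (signAut oct1 oct1_mem • (O3b + P none none)))) : leechLattice) : GolayPt → ℤ) =
      vecL [-2, 2, 0, 2, 0, 0, 0, 2, 0, -2, 0, 0, 0, 0, 0, 0, 2, 0, 2, 0, 0, 0, 0, -6] := by
    rw [signAut_smul, e3]
    funext k
    simp only [signFun_apply, mem_oct_iff]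
    revert k
    decide
  have e5 : ((xi • (signAut oct oct_mem • (permAut cubeTwist Cfsg.Agent.Helper7.cubeTwist_mem •
      (xi • (signAut oct1 oct1_mem • (O3b + P none none))))) : leechLattice) : GolayPt → ℤ) =
      vecL [0, -4, 0, 0, 0, 0, 0, -4, 0, -4, 0, 0, 0, 0, 0, 0, 0, 0, 0, 0, 0, 0, 0, 4] := by
    apply xi_eq_of
    rw [e4]
    decide
  have horb : TOrb (O3b + P none none) (xi • (signAut oct oct_mem •
      (permAut cubeTwist Cfsg.Agent.Helper7.cubeTwist_mem •
        (xi • (signAut oct1 oct1_mem • (O3b + P none none)))))) :=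
    ((TOrb.of_sign _ _ _).trans (TOrb.of_xi _)).trans
      ((TOrb.of_perm _ _ _).trans ((TOrb.of_sign _ _ _).trans (TOrb.of_xi _)))
  have hn0 : sqNorm ((O3b + P none none : leechLattice) : GolayPt → ℤ) = 64 := by decide
  have hn : sqNorm ((xi • (signAut oct oct_mem •
      (permAut cubeTwist Cfsg.Agent.Helper7.cubeTwist_mem •
        (xi • (signAut oct1 oct1_mem • (O3b + P none none))))) : leechLattice) : GolayPt → ℤ) = 64 := by
    rw [co0_sqNorm, co0_sqNorm, co0_sqNorm, co0_sqNorm, co0_sqNorm, hn0]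
  have h4 : ∀ i, ((xi • (signAut oct oct_mem •
      (permAut cubeTwist Cfsg.Agent.Helper7.cubeTwist_mem •
        (xi • (signAut oct1 oct1_mem • (O3b + P none none))))) : leechLattice) : GolayPt → ℤ) i % 4 = 0 := by
    rw [e5]
    decide
  rcases torb_of_four_dvd _ h4 with h | h | h
  · have := h.sqNorm_eq (by rw [hn]) (by rw [sqNorm_zero']; norm_num)
    rw [hn, sqNorm_zero'] at this
    omega
  · have := h.sqNorm_eq (by rw [hn]) (by rw [sqNorm_leechU]; norm_num)
    rw [hn, sqNorm_leechU] at this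
    omega
  · exact horb.trans h

theorem texists_sign_one_mod (x : leechLattice) (ho : (x : GolayPt → ℤ) none % 2 = 1) :
    ∃ g ∈ monoXi, ∀ i, ((g • x : leechLattice) : GolayPt → ℤ) i % 4 = 1 := by
  have hx' := (mem_leechLattice_iff _).1 x.2
  obtain ⟨m, h1, -, h3⟩ := hx'
  refine ⟨signAut _ (h3 3), signAut_mem_monoXi _ _, fun i => ?_⟩
  rw [signAut_smul, signFun_apply]
  have hi : (x : GolayPt → ℤ) i % 2 = m % 2 := h1 i
  have hn : (x : GolayPt → ℤ) none % 2 = m % 2 := h1 none
  by_cases hc : i ∈ Finset.univ.filter fun i => (x : GolayPt → ℤ) i ≡ 3 [ZMOD 4]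
  · rw [if_pos hc]
    rw [Finset.mem_filter] at hc
    have : (x : GolayPt → ℤ) i % 4 = 3 % 4 := hc.2
    omega
  · rw [if_neg hc]
    rw [Finset.mem_filter] at hc
    have : ¬ (x : GolayPt → ℤ) i % 4 = 3 % 4 := fun h => hc ⟨Finset.mem_univ _, h⟩
    omega

/-- **Odd vectors** lie in the orbits of `(4,4,0^22)`, `(-5,-1^23)`, `(8,0^23)` modulo twice the
lattice. -/
theorem torb_of_odd (x : leechLattice) (ho : (x : GolayPt → ℤ) none % 2 = 1) :
    TOrb x Cfsg.Spor.leechU ∨ TOrb x Cfsg.Spor.leechV ∨ TOrb x U4 := by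
  obtain ⟨g, hgm, hg⟩ := texists_sign_one_mod x ho
  obtain ⟨y, hxy, hy1, hyc⟩ := descent 1 (Or.inr rfl) _ (g • x) hg le_rfl
  have hxy' : TOrb x y := (TOrb.of_mem hgm x).trans (TOrb.of_cong hxy)
  suffices h : TOrb y Cfsg.Spor.leechU ∨ TOrb y Cfsg.Spor.leechV ∨ TOrb y U4 by
    rcases h with h | h | h
    · exact Or.inl (hxy'.trans h)
    · exact Or.inr (Or.inl (hxy'.trans h))
    · exact Or.inr (Or.inr (hxy'.trans h))
  have hsum := sum_mod_hi 1 (Or.inr rfl) y hy1
  have hy' := (mem_leechLattice_iff _).1 y.2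
  rw [mem_leechSet_iff] at hy'
  obtain ⟨m, p1, p2, -⟩ := hy'
  have hm : (y : GolayPt → ℤ) none % 2 = m % 2 := p1 none
  have p2' : (∑ i, (y : GolayPt → ℤ) i) % 8 = (4 * m) % 8 := p2
  have h1n := hy1 none
  have hodd : (hi 1 y).card % 2 = 1 := by omega
  have hmem : ∀ k, k ∈ hi 1 y ↔ (y : GolayPt → ℤ) k % 8 = 5 := by
    intro k; rw [mem_hi]; norm_num
  have h8 : ∀ k, ((y : GolayPt → ℤ) k - ((ovL (hi 1 y) hodd : leechLattice) : GolayPt → ℤ) k) % 8 = 0 := by
    intro k
    show ((y : GolayPt → ℤ) k - ov (hi 1 y) k) % 8 = 0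
    unfold ov
    have := hy1 k
    by_cases hk : k ∈ hi 1 y
    · rw [if_pos hk]
      rw [hmem] at hk
      omega
    · rw [if_neg hk]
      rw [hmem] at hk
      omega
  have hcard : (hi 1 y).card = 1 ∨ (hi 1 y).card = 3 := by omega
  rcases hcard with hc | hc
  · obtain ⟨p, hset⟩ := Finset.card_eq_one.1 hc
    obtain ⟨σ, hσ, hσp⟩ := Cfsg.Agent.Helper7.m24_trans1 p none
    have e1 := permAut_ovL_one σ hσ p (hi 1 y) hodd hset hσp
    rcases cong_or_of_eight h8 p with h | h
    · left
      have h2 := TOrb.of_perm σ hσ (ovL (hi 1 y) hodd)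
      rw [e1] at h2
      exact (TOrb.of_cong h).trans (h2.trans torb_O2)
    · right; left
      have h2 := TOrb.of_perm σ hσ (ovL (hi 1 y) hodd + P p p)
      rw [co0_add, e1, permAut_P, hσp] at h2
      exact (TOrb.of_cong h).trans (h2.trans torb_O3a)
  · obtain ⟨p, q, r, hpq, hpr, hqr, hset⟩ := Finset.card_eq_three.1 hc
    obtain ⟨σ, hσ, hσp, hσq, hσr⟩ := Cfsg.Agent.Helper7.m24_trans3 (p := p) (q := q) (r := r)
      (p' := none) (q' := some 0) (r' := some 1) hpq hpr hqr (by decide) (by decide) (by decide)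
    have e1 := permAut_ovL_three σ hσ p q r (hi 1 y) hodd hset hσp hσq hσr
    rcases cong_or_of_eight h8 p with h | h
    · right; left
      have h2 := TOrb.of_perm σ hσ (ovL (hi 1 y) hodd)
      rw [e1] at h2
      exact (TOrb.of_cong h).trans (h2.trans torb_O3b)
    · right; right
      have h2 := TOrb.of_perm σ hσ (ovL (hi 1 y) hodd + P p p)
      rw [co0_add, e1, permAut_P, hσp] at h2
      exact (TOrb.of_cong h).trans (h2.trans torb_O4)

theorem torb_of_even_aux (x : leechLattice) (he : ∀ i, (x : GolayPt → ℤ) i % 2 = 0)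
    (g : Equiv.Perm GolayPt) (hg : g ∈ M24)
    (h : ((x : GolayPt → ℤ) (g none) + (x : GolayPt → ℤ) (g (some 0)) +
      (x : GolayPt → ℤ) (g (some 1)) + (x : GolayPt → ℤ) (g (some 7))) % 4 = 2) :
    TOrb x Cfsg.Spor.leechU ∨ TOrb x Cfsg.Spor.leechV ∨ TOrb x U4 := by
  have hval : ∀ i, ((permAut g⁻¹ (inv_mem hg) • x : leechLattice) : GolayPt → ℤ) i =
      (x : GolayPt → ℤ) (g i) := fun i => rfl
  have ho := xi_odd (permAut g⁻¹ (inv_mem hg) • x) (by rw [hval]; exact he _)
    (by rw [hval, hval, hval, hval]; exact h)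
  have horb : TOrb x (xi • (permAut g⁻¹ (inv_mem hg) • x)) :=
    (TOrb.of_perm _ _ _).trans (TOrb.of_xi _)
  rcases torb_of_odd _ ho with h | h | h
  · exact Or.inl (horb.trans h)
  · exact Or.inr (Or.inl (horb.trans h))
  · exact Or.inr (Or.inr (horb.trans h))

/-- **Orbits of the automorphism group on the lattice modulo twice the lattice**: every lattice
vector is carried by an automorphism to a vector congruent to `0`, `(4,4,0^22)`, `(-5,-1^23)` or
`(8,0^23)`. -/
theorem torb_cases (x : leechLattice) :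
    TOrb x 0 ∨ TOrb x Cfsg.Spor.leechU ∨ TOrb x Cfsg.Spor.leechV ∨ TOrb x U4 := by
  by_cases hpar : (x : GolayPt → ℤ) none % 2 = 0
  swap
  · rcases torb_of_odd x (by omega) with h | h | h
    · exact Or.inr (Or.inl h)
    · exact Or.inr (Or.inr (Or.inl h))
    · exact Or.inr (Or.inr (Or.inr h))
  have hx' := (mem_leechLattice_iff _).1 x.2
  obtain ⟨m, h1, -, h3⟩ := hx'
  have he : ∀ i, (x : GolayPt → ℤ) i % 2 = 0 := by
    intro i
    have hi : (x : GolayPt → ℤ) i % 2 = m % 2 := h1 i
    have hn : (x : GolayPt → ℤ) none % 2 = m % 2 := h1 none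
    omega
  have hc2 := h3 2
  have hmem : ∀ i, i ∈ (Finset.univ.filter fun i => (x : GolayPt → ℤ) i ≡ 2 [ZMOD 4]) ↔
      (x : GolayPt → ℤ) i % 4 = 2 := by
    intro i
    rw [Finset.mem_filter]
    simp only [Finset.mem_univ, true_and]
    exact Iff.rfl
  have aux3 : ∀ T : Prop, (TOrb x Cfsg.Spor.leechU ∨ TOrb x Cfsg.Spor.leechV ∨ TOrb x U4) →
      (TOrb x 0 ∨ TOrb x Cfsg.Spor.leechU ∨ TOrb x Cfsg.Spor.leechV ∨ TOrb x U4) := fun _ h => Or.inr h
  rcases Cfsg.Agent.Helper26.card_of_mem_supports hc2 with h | h | h | h | h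
  · -- all coordinates divisible by 4
    rw [Finset.card_eq_zero] at h
    have h4 : ∀ i, (x : GolayPt → ℤ) i % 4 = 0 := by
      intro i
      have h1 : i ∉ (Finset.univ.filter fun i => (x : GolayPt → ℤ) i ≡ 2 [ZMOD 4]) := by
        rw [h]; exact Finset.notMem_empty i
      rw [hmem] at h1
      have := he i
      omega
    rcases torb_of_four_dvd x h4 with h | h | h
    · exact Or.inl h
    · exact Or.inr (Or.inl h)
    · exact Or.inr (Or.inr (Or.inr h))
  · -- an octad
    obtain ⟨g, hg, hgo⟩ := Cfsg.Agent.Helper7.octad_eq_smul_O0 (o := _) ⟨hc2, h⟩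
    have hin : ∀ i, (x : GolayPt → ℤ) (g i) % 4 = 2 ↔ i ∈ oct := by
      intro i
      rw [← hmem, ← hgo, apply_mem_smul_iff]
      rfl
    apply aux3 True
    apply torb_of_even_aux x he g hg
    have a0 : ¬ (x : GolayPt → ℤ) (g none) % 4 = 2 := fun h => none_not_mem_oct ((hin _).1 h)
    have a1 := (hin (some 0)).2 ((mem_oct_iff _).2 (by decide))
    have a2 := (hin (some 1)).2 ((mem_oct_iff _).2 (by decide))
    have a3 := (hin (some 7)).2 ((mem_oct_iff _).2 (by decide))
    have := he (g none)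
    omega
  · -- a dodecad
    obtain ⟨g, hg, hgo⟩ := Cfsg.Agent.Helper7.dodecad_eq_smul_D1 (d := _) ⟨hc2, h⟩
    have hin : ∀ i, (x : GolayPt → ℤ) (g i) % 4 = 2 ↔
        i ∈ Cfsg.Agent.Helper7.setOf Cfsg.Agent.Helper7.D1 := by
      intro i
      rw [← hmem, ← hgo, apply_mem_smul_iff]
    apply aux3 True
    apply torb_of_even_aux x he g hg
    have a0 := (hin none).2 (by decide)
    have a1 := (hin (some 0)).2 (by decide)
    have a2 := (hin (some 1)).2 (by decide)
    have a3 : ¬ (x : GolayPt → ℤ) (g (some 7)) % 4 = 2 := fun h => by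
      have := (hin _).1 h
      revert this
      decide
    have := he (g (some 7))
    omega
  · -- the complement of an octad
    have hcc : ((Finset.univ.filter fun i => (x : GolayPt → ℤ) i ≡ 2 [ZMOD 4])ᶜ).card = 8 := by
      rw [Finset.card_compl, h, card_golayPt]
    obtain ⟨g, hg, hgo⟩ := Cfsg.Agent.Helper7.octad_eq_smul_O0 (o := _)
      ⟨Cfsg.Agent.Helper26.supports_compl hc2, hcc⟩
    have hin : ∀ i, (x : GolayPt → ℤ) (g i) % 4 = 2 ↔ i ∉ oct := by
      intro i
      rw [← hmem]
      have : g i ∈ (Finset.univ.filter fun i => (x : GolayPt → ℤ) i ≡ 2 [ZMOD 4])ᶜ ↔ i ∈ oct := by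
        rw [← hgo, apply_mem_smul_iff]
        rfl
      rw [Finset.mem_compl] at this
      tauto
    apply aux3 True
    apply torb_of_even_aux x he g hg
    have a0 := (hin none).2 none_not_mem_oct
    have a1 : ¬ (x : GolayPt → ℤ) (g (some 0)) % 4 = 2 :=
      fun h => (hin _).1 h ((mem_oct_iff _).2 (by decide))
    have a2 : ¬ (x : GolayPt → ℤ) (g (some 1)) % 4 = 2 :=
      fun h => (hin _).1 h ((mem_oct_iff _).2 (by decide))
    have a3 : ¬ (x : GolayPt → ℤ) (g (some 7)) % 4 = 2 :=
      fun h => (hin _).1 h ((mem_oct_iff _).2 (by decide))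
    have b1 := he (g (some 0))
    have b2 := he (g (some 1))
    have b3 := he (g (some 7))
    omega
  · -- all coordinates congruent to 2 modulo 4
    have h2 : ∀ i, (x : GolayPt → ℤ) i % 4 = 2 := by
      intro i
      rw [← hmem]
      have : (Finset.univ.filter fun i => (x : GolayPt → ℤ) i ≡ 2 [ZMOD 4]) = Finset.univ := by
        apply Finset.eq_univ_of_card
        rw [h, card_golayPt]
      rw [this]
      exact Finset.mem_univ i
    have hc := cong_sub_double x Cfsg.Spor.leechV
    have h4 : ∀ i, ((x - (Cfsg.Spor.leechV + Cfsg.Spor.leechV) : leechLattice) : GolayPt → ℤ) i % 4 = 0 := by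
      intro i
      show ((x : GolayPt → ℤ) i - (Cfsg.Spor.vecV i + Cfsg.Spor.vecV i)) % 4 = 0
      have := h2 i
      have := vecV_odd i
      omega
    rcases torb_of_four_dvd _ h4 with h | h | h
    · exact Or.inl ((TOrb.of_cong hc).trans h)
    · exact Or.inr (Or.inl ((TOrb.of_cong hc).trans h))
    · exact Or.inr (Or.inr (Or.inr ((TOrb.of_cong hc).trans h)))

/-- every vector of squared length 64 is carried by `monoXi` into the class of `(8,0^23)` -/
theorem torb_U4_of_norm (v : leechLattice) (hv : sqNorm (v : GolayPt → ℤ) = 64) :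
    TOrb v U4 := by
  rcases torb_cases v with h | h | h | h
  · have := h.sqNorm_eq hv.le (by rw [sqNorm_zero']; norm_num)
    rw [hv, sqNorm_zero'] at this
    omega
  · have := h.sqNorm_eq hv.le (by rw [sqNorm_leechU]; norm_num)
    rw [hv, sqNorm_leechU] at this
    omega
  · have := h.sqNorm_eq hv.le (by rw [sqNorm_leechV]; norm_num)
    rw [hv, sqNorm_leechV] at this
    omega
  · exact h

/-- **The automorphism group is generated by the monomial group and `xi`.** -/
theorem monoXi_eq_top : monoXi = ⊤ := by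
  rw [eq_top_iff]
  intro γ _
  have hn : sqNorm ((γ • U4 : leechLattice) : GolayPt → ℤ) = 64 := by
    rw [co0_sqNorm, sqNorm_U4]
  obtain ⟨h, hm, hc⟩ := torb_U4_of_norm (γ • U4) hn
  rw [← mul_smul] at hc
  have h1 : h * γ ∈ monoXi := stabCross_mem_monoXi (stabCross_of_cong hc)
  have h2 : γ = h⁻¹ * (h * γ) := by group
  rw [h2]
  exact mul_mem (inv_mem hm) h1

end Cfsg.Agent.Helper92
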