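import Cfsg.Agent.Helper92.Co1Elts
import Cfsg.Agent.Helper92.LeechGen

/-!
# Generation of the automorphism group of the Leech lattice

`Co0` is generated by the coordinate permutations `pA`, `pS`, `pW` (which generate the image of
`M24`), the involution `tE` and the element `xE` of order 6.
-/

set_option autoImplicit false

namespace Cfsg.Agent.Helper92.Co1Out

open Cfsg MulAction Cfsg.Agent.Helper92.Mat Cfsg.Agent.Helper92.Co3Out
  Cfsg.Agent.Helper92.McLOut
open Cfsg.Agent.Helper7 (gA gDbl gA_mem gDbl_mem cubeTwist_mem isTbl_gA isTbl_gDbl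
  isTbl_cubeTwist cA cDbl cC cB projInv_mem isTbl_projInv permOf codeM24 inCode powC tbl
  IsTbl setOf isTbl_pow idx pt)

/-- every coordinate permutation lies in a subgroup containing `pA`, `pS` and `pW` -/
theorem permHom_mem (K : Subgroup Co0) (hA : pA ∈ K) (hS : pS ∈ K) (hW : pW ∈ K) (π : M24) :
    permHom π ∈ K := by
  let ι : M24 →* Equiv.Perm GolayPt := Subgroup.subtype M24
  have h1 : π.1 ∈ Subgroup.closure ({gA, projInv, cubeTwist} : Set (Equiv.Perm GolayPt)) :=
    Cfsg.Agent.Helper7.M24_le_G3 π.2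
  have h2 : ({gA, projInv, cubeTwist} : Set (Equiv.Perm GolayPt)) =
      ι '' ({mA, mS, mW} : Set M24) := by
    rw [Set.image_insert_eq, Set.image_pair]
    rfl
  rw [h2, ← MonoidHom.map_closure] at h1
  obtain ⟨π', hπ', he⟩ := h1
  have h3 : π' = π := Subtype.ext he
  rw [← h3]
  have h4 : Subgroup.closure ({mA, mS, mW} : Set M24) ≤ K.comap permHom := by
    rw [Subgroup.closure_le]
    rintro x (rfl | rfl | rfl)
    · exact hA
    · exact hS
    · exact hW
  exact h4 hπ'

/-- the subgroup of all sign changes -/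
def sgnAll : Subgroup Co0 where
  carrier := {γ | ∃ c, ∃ hc : c ∈ supports (golayCode : Set (GolayPt → ZMod 2)), γ = signAut c hc}
  one_mem' := ⟨∅, Cfsg.Agent.Helper26.supports_empty, signAut_empty.symm⟩
  mul_mem' := by
    rintro _ _ ⟨c, hc, rfl⟩ ⟨c', hc', rfl⟩
    exact ⟨symmDiff c c', _, signAut_mul c c' hc hc'⟩
  inv_mem' := by
    rintro _ ⟨c, hc, rfl⟩
    exact ⟨c, hc, signAut_inv c hc⟩

theorem signAut_comm (c c' : Finset GolayPt)
    (hc : c ∈ supports (golayCode : Set (GolayPt → ZMod 2)))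
    (hc' : c' ∈ supports (golayCode : Set (GolayPt → ZMod 2))) :
    signAut c hc * signAut c' hc' = signAut c' hc' * signAut c hc := by
  rw [signAut_mul, signAut_mul]
  exact signAut_congr (symmDiff_comm c c') _ _

/-- **The automorphism group of the lattice is generated by `pA`, `pS`, `pW`, `tE`, `xE`.** -/
theorem closure_co0 : Subgroup.closure ({pA, pS, pW, tE, xE} : Set Co0) = ⊤ := by
  set K := Subgroup.closure ({pA, pS, pW, tE, xE} : Set Co0) with hK
  have hA : pA ∈ K := Subgroup.subset_closure (by simp)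
  have hS : pS ∈ K := Subgroup.subset_closure (by simp)
  have hW : pW ∈ K := Subgroup.subset_closure (by simp)
  have hT : tE ∈ K := Subgroup.subset_closure (by simp)
  have hX : xE ∈ K := Subgroup.subset_closure (by simp)
  have hE : eE ∈ K := by
    rw [← tE_mul_xE]
    exact mul_mem hT hX
  have hperm : ∀ (σ : Equiv.Perm GolayPt) (hσ : σ ∈ M24), permAut σ hσ ∈ K :=
    fun σ hσ => permHom_mem K hA hS hW ⟨σ, hσ⟩
  -- the sign changes
  have hnorm : ∀ σ : Co0, StabCross σ → ∀ γ ∈ K ⊓ sgnAll, σ * γ * σ⁻¹ ∈ K ⊓ sgnAll := by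
    intro σ hσ γ hγ
    obtain ⟨c, hc, π, hπ, rfl⟩ := stabCross_eq hσ
    obtain ⟨hγK, c', hc', rfl⟩ := Subgroup.mem_inf.1 hγ
    have e : signAut c hc * permAut π hπ * signAut c' hc' * (signAut c hc * permAut π hπ)⁻¹ =
        permAut π hπ * signAut c' hc' * (permAut π hπ)⁻¹ := by
      have e1 : signAut c hc * permAut π hπ * signAut c' hc' * (signAut c hc * permAut π hπ)⁻¹ =
          signAut c hc * (permAut π hπ * signAut c' hc' * (permAut π hπ)⁻¹) *
            (signAut c hc)⁻¹ := by group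
      rw [e1, permAut_conj_signAut, signAut_comm, mul_inv_cancel_right]
    rw [e]
    refine Subgroup.mem_inf.2 ⟨mul_mem (mul_mem (hperm π hπ) hγK) (inv_mem (hperm π hπ)), ?_⟩
    rw [permAut_conj_signAut]
    exact ⟨_, _, rfl⟩
  have hsign : ∀ (c : Finset GolayPt) (hc : c ∈ supports (golayCode : Set (GolayPt → ZMod 2))),
      signAut c hc ∈ K := by
    intro c hc
    have h0 : signAut (setOf 0x5335f) (setOf_mem_supports eE_ok) ∈ K ⊓ sgnAll :=
      Subgroup.mem_inf.2 ⟨hE, _, _, rfl⟩
    exact (Subgroup.mem_inf.1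
      (sign_mem_of_sign (K ⊓ sgnAll) hnorm _ _ h0 (by decide) (by decide) c hc)).1
  have hmono : ∀ g : Co0, StabCross g → g ∈ K := by
    intro g hg
    obtain ⟨c, hc, π, hπ, rfl⟩ := stabCross_eq hg
    exact mul_mem (hsign c hc) (hperm π hπ)
  have hxi : xi ∈ K := by
    rw [xi_word]
    have hsc : ∀ (m : ℕ) (h : inCode m = true), sc m h ∈ K := fun m h => hsign _ _
    have hpc : ∀ (c : ℕ) (h : codeM24 c = true), pc c h ∈ K := fun c h => hperm _ _
    exact mul_mem (mul_mem (mul_mem (mul_mem (mul_mem (mul_mem (mul_mem (hsc _ _) (hpc _ _)) hT)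
      (hsc _ _)) (hpc _ _)) hT) (hsc _ _)) (hpc _ _)
  rw [eq_top_iff, ← monoXi_eq_top, monoXi, Subgroup.closure_le]
  rintro g (hg | hg)
  · exact hmono g hg
  · rw [Set.mem_singleton_iff] at hg
    rw [hg]
    exact hxi

end Cfsg.Agent.Helper92.Co1Out
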