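import Cfsg.Agent.Helper92.Co1Cent
import Cfsg.Agent.Helper92.Co1Gen

/-!
# Every automorphism of `Co1` is inner

`Co1` is the quotient of the automorphism group of the Leech lattice by `{1, -1}`.  An
automorphism is normalised on the Frobenius group `23:11` generated by the images of the
coordinate permutations `pA` and `pB`.  The images of the remaining generators `pW`, `pS`
(which normalise `⟨pB⟩`) and `tE`, `xE` (which centralise `pB`) lie in explicit cosets of the
centraliser `11 × S3` of the image of `pB`, and all possibilities but the identity are excluded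
by relations with `pA`.
-/

set_option autoImplicit false

namespace Cfsg.Agent.Helper92.Co1Out

open Cfsg MulAction Cfsg.Agent.Helper92.Mat Cfsg.Agent.Helper92.Co3Out
  Cfsg.Agent.Helper92.McLOut
open Cfsg.Agent.Helper7 (gA gDbl gA_mem gDbl_mem cubeTwist_mem isTbl_gA isTbl_gDbl
  isTbl_cubeTwist cA cDbl cC cB projInv_mem isTbl_projInv permOf codeM24 inCode powC tbl
  IsTbl setOf isTbl_pow idx pt)

/-! ### Fingerprints in the automorphism group of the lattice -/

/-- the packed word of `xE ^ k * (tE ^ m * pB ^ j)` -/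
def cwP (k m j : ℕ) : List (List ℕ) :=
  List.replicate k xP ++ (List.replicate m tP ++ [bPw.getD j []])

/-- the word `xE ^ k * (tE ^ m * pB ^ j)` -/
noncomputable def cwG (k m j : ℕ) : List Co0 :=
  List.replicate k xE ++ (List.replicate m tE ++ [pB ^ j])

theorem cwG_prod (k m j : ℕ) : (cwG k m j).prod = xE ^ k * (tE ^ m * pB ^ j) := by
  rw [cwG, List.prod_append, List.prod_append, List.prod_replicate, List.prod_replicate,
    List.prod_singleton]

theorem isPk_cw (k m j : ℕ) (hj : j < 11) : List.Forall₂ IsPk (cwG k m j) (cwP k m j) :=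
  forall2_append_pk (forall2_replicate_pk isPk_x k)
    (forall2_append_pk (forall2_replicate_pk isPk_t m) (.cons (isPk_bpow j hj) .nil))

/-- the `n`-th power of a packed word moves the test vector to neither itself nor its negative -/
def mvChk (Cs : List (List ℕ)) (n : ℕ) : Bool :=
  normOk tvL && decide ((pitv Cs n (pkL tvL)).natAbs ≠ (pkL tvL).natAbs)

theorem not_pm_of_mvChk {gs : List Co0} {Cs : List (List ℕ)} (h : List.Forall₂ IsPk gs Cs)
    (n : ℕ) (hm : mvChk Cs n = true) {g : Co0} (e : gs.prod = g)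
    (hg : g ^ n = 1 ∨ g ^ n = negAut) : False := by
  have h1 := pow_ne_pm_pk h tv_vec n hm
  rw [e] at h1
  rcases hg with hg | hg
  · exact h1.1 hg
  · exact h1.2 hg

/-- the checks for the image of `pW` -/
def chkW1 (k m j : ℕ) : Bool := mvChk ([wP] ++ cwP k m j) 5

def chkW2 (ap : List ℕ) (k m j : ℕ) : Bool :=
  mvChk ([ap] ++ (([wP] ++ cwP k m j) ++ ([wP] ++ cwP k m j))) 5

theorem fpW_gen {a : Co0} {ap : List ℕ} (ha : IsPk a ap) (k m j : ℕ) (hj : j < 11)
    (h : (chkW1 k m j || chkW2 ap k m j) = true)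
    (h1 : (pW * (xE ^ k * (tE ^ m * pB ^ j))) ^ 5 = 1 ∨
      (pW * (xE ^ k * (tE ^ m * pB ^ j))) ^ 5 = negAut)
    (h2 : (a * (pW * (xE ^ k * (tE ^ m * pB ^ j)) * (pW * (xE ^ k * (tE ^ m * pB ^ j))))) ^ 5 = 1 ∨
      (a * (pW * (xE ^ k * (tE ^ m * pB ^ j)) * (pW * (xE ^ k * (tE ^ m * pB ^ j))))) ^ 5 =
        negAut) : False := by
  have hw : List.Forall₂ IsPk ([pW] ++ cwG k m j) ([wP] ++ cwP k m j) :=
    forall2_append_pk (.cons isPk_w .nil) (isPk_cw k m j hj)
  have ew : ([pW] ++ cwG k m j).prod = pW * (xE ^ k * (tE ^ m * pB ^ j)) := by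
    rw [List.prod_append, List.prod_singleton, cwG_prod]
  rw [Bool.or_eq_true] at h
  rcases h with h | h
  · exact not_pm_of_mvChk hw 5 h ew h1
  · have hF : List.Forall₂ IsPk ([a] ++ (([pW] ++ cwG k m j) ++ ([pW] ++ cwG k m j)))
        ([ap] ++ (([wP] ++ cwP k m j) ++ ([wP] ++ cwP k m j))) :=
      forall2_append_pk (.cons ha .nil) (forall2_append_pk hw hw)
    have e : ([a] ++ (([pW] ++ cwG k m j) ++ ([pW] ++ cwG k m j))).prod =
        a * (pW * (xE ^ k * (tE ^ m * pB ^ j)) * (pW * (xE ^ k * (tE ^ m * pB ^ j)))) := by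
      rw [List.prod_append, List.prod_append, ew, List.prod_singleton]
    exact not_pm_of_mvChk hF 5 h e h2

theorem chkW_all : (List.range 3).all (fun k => (List.range 2).all fun m =>
    (List.range 11).all fun j => (chkW1 k m j || chkW2 aiP k m j) &&
      ((k == 0 && (m == 0 && j == 0)) || (chkW1 k m j || chkW2 aP k m j))) = true := by
  decide +kernel

/-- **The first fingerprint**: the images of `pA` and `pW`. -/
theorem fpW (ε k m j : ℕ) (hε : ε = 1 ∨ ε = 22) (hk : k < 3) (hm : m < 2) (hj : j < 11)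
    (h1 : (pW * (xE ^ k * (tE ^ m * pB ^ j))) ^ 5 = 1 ∨
      (pW * (xE ^ k * (tE ^ m * pB ^ j))) ^ 5 = negAut)
    (h2 : (pA ^ ε * (pW * (xE ^ k * (tE ^ m * pB ^ j)) *
        (pW * (xE ^ k * (tE ^ m * pB ^ j))))) ^ 5 = 1 ∨
      (pA ^ ε * (pW * (xE ^ k * (tE ^ m * pB ^ j)) *
        (pW * (xE ^ k * (tE ^ m * pB ^ j))))) ^ 5 = negAut) :
    ε = 1 ∧ k = 0 ∧ m = 0 ∧ j = 0 := by
  have hall := List.all_eq_true.1 (List.all_eq_true.1 (List.all_eq_true.1 chkW_all k
    (List.mem_range.2 hk)) m (List.mem_range.2 hm)) j (List.mem_range.2 hj)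
  rw [Bool.and_eq_true] at hall
  rcases hε with rfl | rfl
  · rw [pow_one] at h2
    have h3 := hall.2
    rw [Bool.or_eq_true] at h3
    rcases h3 with h3 | h3
    · rw [Bool.and_eq_true, Bool.and_eq_true] at h3
      exact ⟨rfl, eq_of_beq h3.1, eq_of_beq h3.2.1, eq_of_beq h3.2.2⟩
    · exact (fpW_gen isPk_a k m j hj h3 h1 h2).elim
  · rw [← pA22_eq] at h2
    exact (fpW_gen isPk_ai k m j hj hall.1 h1 h2).elim

/-- the check for the image of `tE` -/
def chkT (k m j : ℕ) : Bool := mvChk (cwP k m j) 2 || mvChk ([aP] ++ cwP k m j) 12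

theorem chkT_all : (List.range 3).all (fun k => (List.range 2).all fun m =>
    (List.range 11).all fun j => (k == 0 && (m == 1 && j == 0)) || chkT k m j) = true := by
  decide +kernel

theorem ea_cw (k m j : ℕ) : ([pA] ++ cwG k m j).prod = pA * (xE ^ k * (tE ^ m * pB ^ j)) := by
  rw [List.prod_append, List.prod_singleton, cwG_prod]

theorem isPk_a_cw (k m j : ℕ) (hj : j < 11) :
    List.Forall₂ IsPk ([pA] ++ cwG k m j) ([aP] ++ cwP k m j) :=
  forall2_append_pk (.cons isPk_a .nil) (isPk_cw k m j hj)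

/-- **The second fingerprint**: the image of `tE`. -/
theorem fpT (k m j : ℕ) (hk : k < 3) (hm : m < 2) (hj : j < 11)
    (h1 : (xE ^ k * (tE ^ m * pB ^ j)) ^ 2 = 1 ∨ (xE ^ k * (tE ^ m * pB ^ j)) ^ 2 = negAut)
    (h2 : (pA * (xE ^ k * (tE ^ m * pB ^ j))) ^ 12 = 1 ∨
      (pA * (xE ^ k * (tE ^ m * pB ^ j))) ^ 12 = negAut) :
    k = 0 ∧ m = 1 ∧ j = 0 := by
  have hall := List.all_eq_true.1 (List.all_eq_true.1 (List.all_eq_true.1 chkT_all k
    (List.mem_range.2 hk)) m (List.mem_range.2 hm)) j (List.mem_range.2 hj)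
  rw [Bool.or_eq_true] at hall
  rcases hall with h3 | h3
  · rw [Bool.and_eq_true, Bool.and_eq_true] at h3
    exact ⟨eq_of_beq h3.1, eq_of_beq h3.2.1, eq_of_beq h3.2.2⟩
  · exfalso
    rw [chkT, Bool.or_eq_true] at h3
    rcases h3 with h3 | h3
    · exact not_pm_of_mvChk (isPk_cw k m j hj) 2 h3 (cwG_prod k m j) h1
    · exact not_pm_of_mvChk (isPk_a_cw k m j hj) 12 h3 (ea_cw k m j) h2

/-- the check for the image of `xE` -/
def chkX (k m j : ℕ) : Bool := mvChk (cwP k m j) 3 || mvChk ([aP] ++ cwP k m j) 15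

theorem chkX_all : (List.range 3).all (fun k => (List.range 2).all fun m =>
    (List.range 11).all fun j => (m == 0 && (j == 0 && (k == 0 || k == 1))) || chkX k m j) =
      true := by
  decide +kernel

/-- **The third fingerprint**: the image of `xE`. -/
theorem fpX (k m j : ℕ) (hk : k < 3) (hm : m < 2) (hj : j < 11)
    (h1 : (xE ^ k * (tE ^ m * pB ^ j)) ^ 3 = 1 ∨ (xE ^ k * (tE ^ m * pB ^ j)) ^ 3 = negAut)
    (h2 : (pA * (xE ^ k * (tE ^ m * pB ^ j))) ^ 15 = 1 ∨
      (pA * (xE ^ k * (tE ^ m * pB ^ j))) ^ 15 = negAut) :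
    m = 0 ∧ j = 0 ∧ (k = 0 ∨ k = 1) := by
  have hall := List.all_eq_true.1 (List.all_eq_true.1 (List.all_eq_true.1 chkX_all k
    (List.mem_range.2 hk)) m (List.mem_range.2 hm)) j (List.mem_range.2 hj)
  rw [Bool.or_eq_true] at hall
  rcases hall with h3 | h3
  · rw [Bool.and_eq_true, Bool.and_eq_true, Bool.or_eq_true] at h3
    refine ⟨eq_of_beq h3.1, eq_of_beq h3.2.1, ?_⟩
    rcases h3.2.2 with h4 | h4
    · exact Or.inl (eq_of_beq h4)
    · exact Or.inr (eq_of_beq h4)
  · exfalso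
    rw [chkX, Bool.or_eq_true] at h3
    rcases h3 with h3 | h3
    · exact not_pm_of_mvChk (isPk_cw k m j hj) 3 h3 (cwG_prod k m j) h1
    · exact not_pm_of_mvChk (isPk_a_cw k m j hj) 15 h3 (ea_cw k m j) h2

/-- the check for the image of `pS` -/
def chkS (k m j : ℕ) : Bool :=
  mvChk ([sP] ++ cwP k m j) 2 || (mvChk ([aP] ++ ([sP] ++ cwP k m j)) 3 ||
    mvChk ([tP] ++ ([aP] ++ ([sP] ++ cwP k m j))) 21)

theorem chkS_all : (List.range 3).all (fun k => (List.range 2).all fun m =>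
    (List.range 11).all fun j => (k == 0 && (m == 0 && j == 0)) || chkS k m j) = true := by
  decide +kernel

/-- **The fourth fingerprint**: the image of `pS`. -/
theorem fpS (k m j : ℕ) (hk : k < 3) (hm : m < 2) (hj : j < 11)
    (h1 : (pS * (xE ^ k * (tE ^ m * pB ^ j))) ^ 2 = 1 ∨
      (pS * (xE ^ k * (tE ^ m * pB ^ j))) ^ 2 = negAut)
    (h2 : (pA * (pS * (xE ^ k * (tE ^ m * pB ^ j)))) ^ 3 = 1 ∨
      (pA * (pS * (xE ^ k * (tE ^ m * pB ^ j)))) ^ 3 = negAut)
    (h3 : (tE * (pA * (pS * (xE ^ k * (tE ^ m * pB ^ j))))) ^ 21 = 1 ∨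
      (tE * (pA * (pS * (xE ^ k * (tE ^ m * pB ^ j))))) ^ 21 = negAut) :
    k = 0 ∧ m = 0 ∧ j = 0 := by
  have hall := List.all_eq_true.1 (List.all_eq_true.1 (List.all_eq_true.1 chkS_all k
    (List.mem_range.2 hk)) m (List.mem_range.2 hm)) j (List.mem_range.2 hj)
  rw [Bool.or_eq_true] at hall
  rcases hall with h4 | h4
  · rw [Bool.and_eq_true, Bool.and_eq_true] at h4
    exact ⟨eq_of_beq h4.1, eq_of_beq h4.2.1, eq_of_beq h4.2.2⟩
  · exfalso
    have hs : List.Forall₂ IsPk ([pS] ++ cwG k m j) ([sP] ++ cwP k m j) :=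
      forall2_append_pk (.cons isPk_s .nil) (isPk_cw k m j hj)
    have es : ([pS] ++ cwG k m j).prod = pS * (xE ^ k * (tE ^ m * pB ^ j)) := by
      rw [List.prod_append, List.prod_singleton, cwG_prod]
    have has : List.Forall₂ IsPk ([pA] ++ ([pS] ++ cwG k m j)) ([aP] ++ ([sP] ++ cwP k m j)) :=
      forall2_append_pk (.cons isPk_a .nil) hs
    have eas : ([pA] ++ ([pS] ++ cwG k m j)).prod = pA * (pS * (xE ^ k * (tE ^ m * pB ^ j))) := by
      rw [List.prod_append, List.prod_singleton, es]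
    rw [chkS, Bool.or_eq_true, Bool.or_eq_true] at h4
    rcases h4 with h4 | h4 | h4
    · exact not_pm_of_mvChk hs 2 h4 es h1
    · exact not_pm_of_mvChk has 3 h4 eas h2
    · have hF : List.Forall₂ IsPk ([tE] ++ ([pA] ++ ([pS] ++ cwG k m j)))
          ([tP] ++ ([aP] ++ ([sP] ++ cwP k m j))) :=
        forall2_append_pk (.cons isPk_t .nil) has
      have e : ([tE] ++ ([pA] ++ ([pS] ++ cwG k m j))).prod =
          tE * (pA * (pS * (xE ^ k * (tE ^ m * pB ^ j)))) := by
        rw [List.prod_append, List.prod_singleton, eas]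
      exact not_pm_of_mvChk hF 21 h4 e h3

theorem pA_ne : pA ≠ 1 ∧ pA ≠ negAut := by
  have h := pow_ne_pm_pk (gs := [pA]) (.cons isPk_a .nil) tv_vec 1 (by decide +kernel)
  simpa only [List.prod_cons, List.prod_nil, mul_one, pow_one] using h

theorem xE_ne : xE ≠ 1 ∧ xE ≠ negAut := by
  have h := pow_ne_pm_pk (gs := [xE]) (.cons isPk_x .nil) tv_vec 1 (by decide +kernel)
  simpa only [List.prod_cons, List.prod_nil, mul_one, pow_one] using h

theorem pA_pow23 : pA ^ 23 = 1 := t23_pow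

/-! ### The quotient -/

/-- the quotient map onto `Co1` -/
noncomputable def q : Co0 →* Spor.Co1 := QuotientGroup.mk' (Subgroup.center Co0)

theorem q_surj : Function.Surjective q := QuotientGroup.mk'_surjective _

theorem q_eq_one_iff (g : Co0) : q g = 1 ↔ g = 1 ∨ g = negAut := by
  rw [q, QuotientGroup.mk'_apply, QuotientGroup.eq_one_iff]
  constructor
  · exact center_eq
  · rintro (rfl | rfl)
    · exact one_mem _
    · exact negAut_mem_center

theorem q_neg : q negAut = 1 := (q_eq_one_iff _).2 (Or.inr rfl)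

instance finite_co1 : Finite Spor.Co1 := Finite.of_surjective q q_surj

theorem card_co1 : Nat.card Spor.Co1 = 4157776806543360000 := by
  have h := Subgroup.card_eq_card_quotient_mul_card_subgroup (Subgroup.center Co0)
  rw [card_co0, card_center] at h
  have h1 : Nat.card Spor.Co1 * 2 = 4157776806543360000 * 2 := by rw [← h]
  exact Nat.eq_of_mul_eq_mul_right (by norm_num) h1

theorem negAut_pow_odd (n : ℕ) (hn : Odd n) : negAut ^ n = negAut := by
  obtain ⟨k, rfl⟩ := hn
  rw [pow_succ, pow_mul, pow_two, negAut_mul_self, one_pow, one_mul]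

/-- commutation with an element of odd order lifts from `Co1` -/
theorem comm_lift (g a : Co0) (n : ℕ) (hn : Odd n) (ha : a ^ n = 1)
    (h : q g * q a = q a * q g) : g * a = a * g := by
  have h1 : q ((a * g)⁻¹ * (g * a)) = 1 := by
    rw [map_mul, map_inv, map_mul, map_mul, h, inv_mul_cancel]
  rcases (q_eq_one_iff _).1 h1 with h2 | h2
  · exact (inv_mul_eq_one.1 h2).symm
  · exfalso
    have h3 : g * a = a * g * negAut := by rw [← h2, mul_inv_cancel_left]
    have h4 : a = g⁻¹ * a * g * negAut := by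
      calc a = g⁻¹ * (g * a) := by rw [inv_mul_cancel_left]
        _ = g⁻¹ * (a * g * negAut) := by rw [h3]
        _ = g⁻¹ * a * g * negAut := by simp only [mul_assoc]
    have hc : Commute (g⁻¹ * a * g) negAut := (negAut_comm _).symm
    have hcn : (g⁻¹ * a * g) ^ n = 1 := by
      have h6 := conj_pow (a := g⁻¹) (b := a) (i := n)
      rw [inv_inv] at h6
      rw [h6, ha, mul_one, inv_mul_cancel]
    have h5 : a ^ n = negAut := by
      conv_lhs => rw [h4]
      rw [hc.mul_pow, hcn, one_mul, negAut_pow_odd n hn]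
    rw [ha] at h5
    exact negAut_ne_one h5.symm

/-- the images of the generators -/
noncomputable def qA : Spor.Co1 := q pA
noncomputable def qB : Spor.Co1 := q pB
noncomputable def qW : Spor.Co1 := q pW
noncomputable def qS : Spor.Co1 := q pS
noncomputable def qT : Spor.Co1 := q tE
noncomputable def qX : Spor.Co1 := q xE

theorem orderOf_qA : orderOf qA = 23 := by
  have : Fact (Nat.Prime 23) := ⟨by norm_num⟩
  apply orderOf_eq_prime
  · rw [qA, ← map_pow, pA_pow23, map_one]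
  · intro h
    rcases (q_eq_one_iff _).1 h with h1 | h1
    · exact pA_ne.1 h1
    · exact pA_ne.2 h1

theorem rel_qBA : qB * qA * qB⁻¹ = qA ^ 2 := by
  have h := congrArg q rel_BA
  rwa [map_mul, map_mul, map_inv, map_pow] at h

theorem rel_qWB : qW * qB * qW⁻¹ = qB ^ 3 := by
  have h := congrArg q rel_WB
  rwa [map_mul, map_mul, map_inv, map_pow] at h

theorem rel_qSB : qS * qB * qS⁻¹ = qB ^ 10 := by
  have h := congrArg q rel_SB
  rwa [map_mul, map_mul, map_inv, map_pow] at h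

theorem cent_qA (y : Spor.Co1) (hy : y * qA = qA * y) : ∃ i : ℕ, y = qA ^ i := by
  obtain ⟨g, rfl⟩ := q_surj y
  have hc := comm_lift g pA 23 (by decide) pA_pow23 hy
  obtain ⟨i, h | h⟩ := cent_pA0 g hc
  · exact ⟨i, by rw [h, map_pow]; rfl⟩
  · exact ⟨i, by rw [h, map_mul, q_neg, one_mul, map_pow]; rfl⟩

theorem qX_pow3 : qX ^ 3 = 1 := by
  have h := congrArg q rel_X3
  rwa [map_pow, map_mul, q_neg, mul_one, map_one] at h

theorem cent_qB (y : Spor.Co1) (hy : y * qB = qB * y) :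
    ∃ k < 3, ∃ m < 2, ∃ j < 11, y = qX ^ k * (qT ^ m * qB ^ j) := by
  obtain ⟨g, rfl⟩ := q_surj y
  have hc := comm_lift g pB 11 (by decide) pB_pow11 hy
  obtain ⟨k, -, m, hm, j, hj, h⟩ := cent_pB0 g hc
  refine ⟨k % 3, Nat.mod_lt _ (by norm_num), m, hm, j, hj, ?_⟩
  rw [h, map_mul, map_mul, map_pow, map_pow, map_pow, ← pow_eq_pow_mod k qX_pow3]
  rfl

theorem qW_pow5 : qW ^ 5 = 1 := by
  rw [qW, ← map_pow, pW_pow5, map_one]

theorem rel_qAWW : (qA * (qW * qW)) ^ 5 = 1 := by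
  have h := congrArg q rel_AWW
  rwa [map_pow, map_mul, map_mul, map_one] at h

theorem qT_sq : qT ^ 2 = 1 := by
  rw [qT, ← map_pow, pow_two, tE_sq, map_one]

theorem rel_qAT : (qA * qT) ^ 12 = 1 := by
  have h := congrArg q rel_AT
  rwa [map_pow, map_mul, map_one] at h

theorem rel_qAX : (qA * qX) ^ 15 = 1 := by
  have h := congrArg q rel_AX
  rwa [map_pow, map_mul, map_one] at h

theorem qS_sq : qS ^ 2 = 1 := by
  rw [qS, ← map_pow, pow_two, pS_sq, map_one]

theorem rel_qAS : (qA * qS) ^ 3 = 1 := by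
  have h := congrArg q rel_AS
  rwa [map_pow, map_mul, map_one] at h

theorem rel_qTAS : (qT * (qA * qS)) ^ 21 = 1 := by
  have h := congrArg q rel_TAS
  rwa [map_pow, map_mul, map_mul, map_mul, q_neg, mul_one, map_one] at h

theorem qT_comm_qB : qT * qB = qB * qT := by
  have h := congrArg q tE_comm_pB
  rwa [map_mul, map_mul] at h

theorem qX_comm_qB : qX * qB = qB * qX := by
  have h := congrArg q xE_comm_pB
  rwa [map_mul, map_mul] at h

theorem qX_ne_one : qX ≠ 1 := by
  intro h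
  rcases (q_eq_one_iff _).1 h with h1 | h1
  · exact xE_ne.1 h1
  · exact xE_ne.2 h1

theorem closure_co1 : Subgroup.closure ({qA, qS, qW, qT, qX} : Set Spor.Co1) = ⊤ := by
  have h := congrArg (Subgroup.map q) closure_co0
  rw [MonoidHom.map_closure, Subgroup.map_top_of_surjective q q_surj] at h
  rw [← h]
  congr 1
  simp only [Set.image_insert_eq, Set.image_singleton]
  rfl

/-! ### The fingerprints in `Co1` -/

theorem fpW_q (ε k m j : ℕ) (hε : ε = 1 ∨ ε = 22) (hk : k < 3) (hm : m < 2) (hj : j < 11)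
    (h1 : (qW * (qX ^ k * (qT ^ m * qB ^ j))) ^ 5 = 1)
    (h2 : (qA ^ ε * (qW * (qX ^ k * (qT ^ m * qB ^ j)) *
      (qW * (qX ^ k * (qT ^ m * qB ^ j))))) ^ 5 = 1) :
    ε = 1 ∧ k = 0 ∧ m = 0 ∧ j = 0 := by
  apply fpW ε k m j hε hk hm hj
  · apply (q_eq_one_iff _).1
    simp only [map_pow, map_mul]
    exact h1
  · apply (q_eq_one_iff _).1
    simp only [map_pow, map_mul]
    exact h2

theorem fpT_q (k m j : ℕ) (hk : k < 3) (hm : m < 2) (hj : j < 11)
    (h1 : (qX ^ k * (qT ^ m * qB ^ j)) ^ 2 = 1)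
    (h2 : (qA * (qX ^ k * (qT ^ m * qB ^ j))) ^ 12 = 1) : k = 0 ∧ m = 1 ∧ j = 0 := by
  apply fpT k m j hk hm hj
  · apply (q_eq_one_iff _).1
    simp only [map_pow, map_mul]
    exact h1
  · apply (q_eq_one_iff _).1
    simp only [map_pow, map_mul]
    exact h2

theorem fpX_q (k m j : ℕ) (hk : k < 3) (hm : m < 2) (hj : j < 11)
    (h1 : (qX ^ k * (qT ^ m * qB ^ j)) ^ 3 = 1)
    (h2 : (qA * (qX ^ k * (qT ^ m * qB ^ j))) ^ 15 = 1) : m = 0 ∧ j = 0 ∧ (k = 0 ∨ k = 1) := by
  apply fpX k m j hk hm hj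
  · apply (q_eq_one_iff _).1
    simp only [map_pow, map_mul]
    exact h1
  · apply (q_eq_one_iff _).1
    simp only [map_pow, map_mul]
    exact h2

theorem fpS_q (k m j : ℕ) (hk : k < 3) (hm : m < 2) (hj : j < 11)
    (h1 : (qS * (qX ^ k * (qT ^ m * qB ^ j))) ^ 2 = 1)
    (h2 : (qA * (qS * (qX ^ k * (qT ^ m * qB ^ j)))) ^ 3 = 1)
    (h3 : (qT * (qA * (qS * (qX ^ k * (qT ^ m * qB ^ j))))) ^ 21 = 1) :
    k = 0 ∧ m = 0 ∧ j = 0 := by
  apply fpS k m j hk hm hj
  · apply (q_eq_one_iff _).1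
    simp only [map_pow, map_mul]
    exact h1
  · apply (q_eq_one_iff _).1
    simp only [map_pow, map_mul]
    exact h2
  · apply (q_eq_one_iff _).1
    simp only [map_pow, map_mul]
    exact h3

/-! ### The automorphisms -/

/-- **Every automorphism of `Co1` is inner.** -/
theorem aut_co1_inner (α : MulAut Spor.Co1) : α ∈ Inn Spor.Co1 := by
  have : Fact (Nat.Prime 23) := ⟨by norm_num⟩
  have hp2 : ¬ 23 ^ 2 ∣ Nat.card Spor.Co1 := by
    rw [card_co1]
    norm_num
  obtain ⟨β, hβ, ε, hε, hγA, hγB⟩ :=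
    Cfsg.Agent.Helper7.normalize_frob hp2 orderOf_qA rel_qBA cent_qA [1, 22] (by decide)
      (by decide) α
  set γ : MulAut Spor.Co1 := β * α with hγ
  have hε' : ε = 1 ∨ ε = 22 := by simpa using hε
  -- the image of `qW`
  have hcW := Cfsg.Agent.Helper7.tied_commute γ (S := qB) (S' := qB ^ 3) (U := qW) hγB
    (by rw [map_pow, hγB]) rel_qWB
  obtain ⟨k, hk, m, hm, j, hj, hW⟩ := cent_qB _ hcW
  have hγW : γ qW = qW * (qX ^ k * (qT ^ m * qB ^ j)) := by rw [← hW]; group
  have h1 : (qW * (qX ^ k * (qT ^ m * qB ^ j))) ^ 5 = 1 := by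
    rw [← hγW, ← map_pow, qW_pow5, map_one]
  have h2 : (qA ^ ε * (qW * (qX ^ k * (qT ^ m * qB ^ j)) *
      (qW * (qX ^ k * (qT ^ m * qB ^ j))))) ^ 5 = 1 := by
    have h := congrArg γ rel_qAWW
    rw [map_pow, map_mul, map_mul, hγA, hγW, map_one] at h
    exact h
  obtain ⟨rfl, rfl, rfl, rfl⟩ := fpW_q ε k m j hε' hk hm hj h1 h2
  rw [pow_one] at hγA
  rw [pow_zero, pow_zero, pow_zero, mul_one, mul_one, mul_one] at hγW
  clear h1 h2 hW hcW hk hm hj
  -- the image of `qT`
  have hcT : γ qT * qB = qB * γ qT := by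
    have h := congrArg γ qT_comm_qB
    rwa [map_mul, map_mul, hγB] at h
  obtain ⟨k, hk, m, hm, j, hj, hT⟩ := cent_qB _ hcT
  have h1 : (qX ^ k * (qT ^ m * qB ^ j)) ^ 2 = 1 := by
    rw [← hT, ← map_pow, qT_sq, map_one]
  have h2 : (qA * (qX ^ k * (qT ^ m * qB ^ j))) ^ 12 = 1 := by
    have h := congrArg γ rel_qAT
    rw [map_pow, map_mul, hγA, hT, map_one] at h
    exact h
  obtain ⟨rfl, rfl, rfl⟩ := fpT_q k m j hk hm hj h1 h2
  rw [pow_zero, pow_one, pow_zero, one_mul, mul_one] at hT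
  clear h1 h2 hcT hk hm hj
  -- the image of `qX`
  have hcX : γ qX * qB = qB * γ qX := by
    have h := congrArg γ qX_comm_qB
    rwa [map_mul, map_mul, hγB] at h
  obtain ⟨k, hk, m, hm, j, hj, hX⟩ := cent_qB _ hcX
  have h1 : (qX ^ k * (qT ^ m * qB ^ j)) ^ 3 = 1 := by
    rw [← hX, ← map_pow, qX_pow3, map_one]
  have h2 : (qA * (qX ^ k * (qT ^ m * qB ^ j))) ^ 15 = 1 := by
    have h := congrArg γ rel_qAX
    rw [map_pow, map_mul, hγA, hX, map_one] at h
    exact h
  obtain ⟨rfl, rfl, hk'⟩ := fpX_q k m j hk hm hj h1 h2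
  rw [pow_zero, pow_zero, mul_one, mul_one] at hX
  have hγX : γ qX = qX := by
    rcases hk' with rfl | rfl
    · exfalso
      rw [pow_zero] at hX
      have h3 : γ qX = γ 1 := by rw [hX, map_one]
      exact qX_ne_one (γ.injective h3)
    · rw [hX, pow_one]
  clear h1 h2 hcX hk hm hj hX
  -- the image of `qS`
  have hcS := Cfsg.Agent.Helper7.tied_commute γ (S := qB) (S' := qB ^ 10) (U := qS) hγB
    (by rw [map_pow, hγB]) rel_qSB
  obtain ⟨k, hk, m, hm, j, hj, hS⟩ := cent_qB _ hcS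
  have hγS : γ qS = qS * (qX ^ k * (qT ^ m * qB ^ j)) := by rw [← hS]; group
  have h1 : (qS * (qX ^ k * (qT ^ m * qB ^ j))) ^ 2 = 1 := by
    rw [← hγS, ← map_pow, qS_sq, map_one]
  have h2 : (qA * (qS * (qX ^ k * (qT ^ m * qB ^ j)))) ^ 3 = 1 := by
    have h := congrArg γ rel_qAS
    rw [map_pow, map_mul, hγA, hγS, map_one] at h
    exact h
  have h3 : (qT * (qA * (qS * (qX ^ k * (qT ^ m * qB ^ j))))) ^ 21 = 1 := by
    have h := congrArg γ rel_qTAS
    rw [map_pow, map_mul, map_mul, hT, hγA, hγS, map_one] at h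
    exact h
  obtain ⟨rfl, rfl, rfl⟩ := fpS_q k m j hk hm hj h1 h2 h3
  rw [pow_zero, pow_zero, pow_zero, mul_one, mul_one, mul_one] at hγS
  have hγ1 : γ = 1 := by
    apply generated_of_fix closure_co1
    intro x hx
    simp only [Set.mem_insert_iff, Set.mem_singleton_iff] at hx
    rcases hx with rfl | rfl | rfl | rfl | rfl
    exacts [hγA, hγS, hγW, hT, hγX]
  exact Cfsg.Agent.Helper7.inn_of_mul hβ (by rw [← hγ, hγ1]; exact Subgroup.one_mem _)

/-- **The outer automorphism group of `Co1` is trivial.** -/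
theorem card_out_co1 : Nat.card (Out Spor.Co1) = 1 :=
  Cfsg.Agent.Helper7.card_out_eq_one aut_co1_inner

end Cfsg.Agent.Helper92.Co1Out
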