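import Cfsg.Agent.Helper92.McLElts

/-!
# Centralisers in `McL` of the elements `pB` (of order 11) and `pW` (of order 5)
-/

set_option autoImplicit false

namespace Cfsg.Agent.Helper92.McLOut

open Cfsg MulAction Cfsg.Agent.Helper92.Mat Cfsg.Agent.Helper92.Co3Out
open Cfsg.Agent.Helper7 (gA gDbl gA_mem gDbl_mem cubeTwist_mem isTbl_gA isTbl_gDbl
  isTbl_cubeTwist cA cDbl cC cU22 gU22 gU22_mem isTbl_gU22 permOf codeM24 inCode powC tbl IsTbl
  setOf isTbl_pow idx pt)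

theorem dot_vecL_right (w : GolayPt → ℤ) (l : List ℤ) :
    dotInt w (vecL l) = sumTo 24 (fun j => w (pt j) * l.getD j 0) := by
  unfold dotInt
  rw [sum_golay]
  apply sumTo_congr
  intro j hj
  rw [vecL_pt _ hj]

/-- the cycle pattern of `pW` -/
def patW : List ℕ := [0, 1, 1, 3, 1, 5, 1, 5, 8, 8, 5, 11, 8, 8, 11, 15, 8, 11, 1, 11, 5, 5, 11, 23]

set_option synthInstance.maxHeartbeats 0 in
set_option synthInstance.maxSize 4096 in
set_option maxRecDepth 4096 in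
theorem arith_W_aux : ∀ a ∈ Finset.Icc (0 : ℤ) 8, ∀ c ∈ Finset.Icc (-5 : ℤ) 5,
    ∀ d ∈ Finset.Icc (-5 : ℤ) 5, ∀ s ∈ Finset.Icc (-8 : ℤ) 8, 5 * s = 32 - 4 * a - c - d →
    ∀ e1 ∈ Finset.Icc (-2 : ℤ) 2, ∀ e2 ∈ Finset.Icc (-2 : ℤ) 2, ∀ e3 ∈ Finset.Icc (-2 : ℤ) 2,
      a * a + (8 - a) * (8 - a) + c * c + d * d + 5 * (e1 * e1 + e2 * e2 + e3 * e3 +
        (s - e1 - e2 - e3) * (s - e1 - e2 - e3)) = 64 →
      (5 * a + 3 * (8 - a) + -1 * c + 3 * d + 5 * e1 + 5 * e2 + 5 * e3 + -5 * (s - e1 - e2 - e3)) % 8 = 0 →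
      (4 * a + -2 * (8 - a) + 2 * c + 0 * d + 10 * e1 + 0 * e2 + 10 * e3 + 0 * (s - e1 - e2 - e3)) % 8 = 0 →
      (5 * a + 3 * (8 - a) + 1 * c + -1 * d + 3 * e1 + 3 * e2 + 5 * e3 + 1 * (s - e1 - e2 - e3)) % 8 = 0 →
      (a = 8 ∧ c = 0 ∧ d = 0 ∧ e1 = 0 ∧ e2 = 0 ∧ e3 = 0 ∧ s = 0) ∨
      (a = 5 ∧ c = 3 ∧ d = -1 ∧ e1 = 1 ∧ e2 = 1 ∧ e3 = 1 ∧ s = 2) ∨
      (a = 6 ∧ c = -2 ∧ d = 0 ∧ e1 = 0 ∧ e2 = 2 ∧ e3 = 0 ∧ s = 2) ∨
      (a = 6 ∧ c = 0 ∧ d = -2 ∧ e1 = 0 ∧ e2 = 0 ∧ e3 = 2 ∧ s = 2) ∨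
      (a = 5 ∧ c = -1 ∧ d = 3 ∧ e1 = 1 ∧ e2 = 1 ∧ e3 = 1 ∧ s = 2) := by
  decide +kernel

set_option maxHeartbeats 4000000 in
theorem arith_W (a b c d e1 e2 e3 e4 : ℤ)
    (h1 : a ^ 2 + b ^ 2 + c ^ 2 + d ^ 2 + 5 * (e1 ^ 2 + e2 ^ 2 + e3 ^ 2 + e4 ^ 2) = 64)
    (h2 : 5 * a + b + c + d + 5 * (e1 + e2 + e3 + e4) = 40) (h3 : a + b = 8)
    (h4 : (5 * a + 3 * b + -1 * c + 3 * d + 5 * e1 + 5 * e2 + 5 * e3 + -5 * e4) % 8 = 0) (h5 : (4 * a + -2 * b + 2 * c + 0 * d + 10 * e1 + 0 * e2 + 10 * e3 + 0 * e4) % 8 = 0) (h6 : (5 * a + 3 * b + 1 * c + -1 * d + 3 * e1 + 3 * e2 + 5 * e3 + 1 * e4) % 8 = 0) :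
    (a = 8 ∧ b = 0 ∧ c = 0 ∧ d = 0 ∧ e1 = 0 ∧ e2 = 0 ∧ e3 = 0 ∧ e4 = 0) ∨
    (a = 5 ∧ b = 3 ∧ c = 3 ∧ d = -1 ∧ e1 = 1 ∧ e2 = 1 ∧ e3 = 1 ∧ e4 = -1) ∨
    (a = 6 ∧ b = 2 ∧ c = -2 ∧ d = 0 ∧ e1 = 0 ∧ e2 = 2 ∧ e3 = 0 ∧ e4 = 0) ∨
    (a = 6 ∧ b = 2 ∧ c = 0 ∧ d = -2 ∧ e1 = 0 ∧ e2 = 0 ∧ e3 = 2 ∧ e4 = 0) ∨
    (a = 5 ∧ b = 3 ∧ c = -1 ∧ d = 3 ∧ e1 = 1 ∧ e2 = 1 ∧ e3 = 1 ∧ e4 = -1) := by
  have hb : b = 8 - a := by linarith
  subst hb
  have ha : a ∈ Finset.Icc (0 : ℤ) 8 := by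
    rw [Finset.mem_Icc]
    constructor <;> nlinarith [sq_nonneg c, sq_nonneg d, sq_nonneg e1, sq_nonneg e2, sq_nonneg e3,
      sq_nonneg e4]
  have hab : 32 ≤ a ^ 2 + (8 - a) ^ 2 := by nlinarith [sq_nonneg (a - 4)]
  have hc : c ∈ Finset.Icc (-5 : ℤ) 5 := by
    rw [Finset.mem_Icc]
    constructor <;> nlinarith [sq_nonneg d, sq_nonneg e1, sq_nonneg e2, sq_nonneg e3, sq_nonneg e4]
  have hd : d ∈ Finset.Icc (-5 : ℤ) 5 := by
    rw [Finset.mem_Icc]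
    constructor <;> nlinarith [sq_nonneg c, sq_nonneg e1, sq_nonneg e2, sq_nonneg e3, sq_nonneg e4]
  have he1 : e1 ∈ Finset.Icc (-2 : ℤ) 2 := by
    rw [Finset.mem_Icc]
    constructor <;> nlinarith [sq_nonneg c, sq_nonneg d, sq_nonneg e2, sq_nonneg e3, sq_nonneg e4]
  have he2 : e2 ∈ Finset.Icc (-2 : ℤ) 2 := by
    rw [Finset.mem_Icc]
    constructor <;> nlinarith [sq_nonneg c, sq_nonneg d, sq_nonneg e1, sq_nonneg e3, sq_nonneg e4]
  have he3 : e3 ∈ Finset.Icc (-2 : ℤ) 2 := by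
    rw [Finset.mem_Icc]
    constructor <;> nlinarith [sq_nonneg c, sq_nonneg d, sq_nonneg e1, sq_nonneg e2, sq_nonneg e4]
  have he4 : -2 ≤ e4 ∧ e4 ≤ 2 := by
    constructor <;> nlinarith [sq_nonneg c, sq_nonneg d, sq_nonneg e1, sq_nonneg e2, sq_nonneg e3]
  rw [Finset.mem_Icc] at he1 he2 he3
  have hs : e1 + e2 + e3 + e4 ∈ Finset.Icc (-8 : ℤ) 8 := by
    rw [Finset.mem_Icc]
    constructor <;> linarith [he1.1, he1.2, he2.1, he2.2, he3.1, he3.2, he4.1, he4.2]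
  have e4eq : e4 = (e1 + e2 + e3 + e4) - e1 - e2 - e3 := by ring
  have key := arith_W_aux a ha c hc d hd (e1 + e2 + e3 + e4) hs (by linarith) e1
    (Finset.mem_Icc.2 he1) e2 (Finset.mem_Icc.2 he2) e3 (Finset.mem_Icc.2 he3)
    (by rw [← e4eq]; linarith) (by rw [← e4eq]; exact h4) (by rw [← e4eq]; exact h5)
    (by rw [← e4eq]; exact h6)
  rcases key with ⟨r1, r2, r3, r4, r5, r6, r7⟩ | ⟨r1, r2, r3, r4, r5, r6, r7⟩ |
    ⟨r1, r2, r3, r4, r5, r6, r7⟩ | ⟨r1, r2, r3, r4, r5, r6, r7⟩ | ⟨r1, r2, r3, r4, r5, r6, r7⟩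
  · left
    refine ⟨r1, by linarith, r2, r3, r4, r5, r6, by linarith⟩
  · right; left
    refine ⟨r1, by linarith, r2, r3, r4, r5, r6, by linarith⟩
  · right; right; left
    refine ⟨r1, by linarith, r2, r3, r4, r5, r6, by linarith⟩
  · right; right; right; left
    refine ⟨r1, by linarith, r2, r3, r4, r5, r6, by linarith⟩
  · right; right; right; right
    refine ⟨r1, by linarith, r2, r3, r4, r5, r6, by linarith⟩

set_option maxHeartbeats 4000000 in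
/-- a lattice vector of the type of `(8, 0^23)` fixed by `pW`, with the inner products of
`(8, 0^23)` with `V` and `U`, is one of the five images of `(8, 0^23)` under the powers of `yE` -/
theorem fixed_W (w : leechLattice) (hw : pW • w = w) (hn : sqNorm (w : GolayPt → ℤ) = 64)
    (hdV : dotInt (w : GolayPt → ℤ) (Spor.leechV : GolayPt → ℤ) = -40)
    (hdU : dotInt (w : GolayPt → ℤ) (Spor.leechU : GolayPt → ℤ) = 32) :
    w = U4 ∨ w = yv1 ∨ w = yv2 ∨ w = yv3 ∨ w = yv4 := by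
  have hj := inv_pattern isTbl_cubeTwist cubeTwist_mem w hw patW (by decide +kernel)
  have e1 : sumTo 24 (fun j => (w : GolayPt → ℤ) (pt j) ^ 2) =
      sumTo 24 (fun j => (w : GolayPt → ℤ) (pt (patW.getD j 0)) ^ 2) :=
    sumTo_congr _ _ _ (fun j hj' => by rw [← hj j hj'])
  have e2 : sumTo 24 (fun j => (w : GolayPt → ℤ) (pt j)) =
      sumTo 24 (fun j => (w : GolayPt → ℤ) (pt (patW.getD j 0))) :=
    sumTo_congr _ _ _ (fun j hj' => by rw [← hj j hj'])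
  have e3 : ∀ l : List ℤ, sumTo 24 (fun j => (w : GolayPt → ℤ) (pt j) * l.getD j 0) =
      sumTo 24 (fun j => (w : GolayPt → ℤ) (pt (patW.getD j 0)) * l.getD j 0) :=
    fun l => sumTo_congr _ _ _ (fun j hj' => by rw [← hj j hj'])
  rw [sqNorm_pt, e1] at hn
  rw [dotV_pt, e2] at hdV
  rw [Co2Out.leechU_vec, dot_vecL_right, e3] at hdU
  have t1 := leech_eight_dvd_dotInt w.2 yv4.2
  rw [yv4_vec, dot_vecL_right, e3] at t1
  have t2 := leech_eight_dvd_dotInt w.2 Z1.2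
  rw [Z1_vec, dot_vecL_right, e3] at t2
  have t3 := leech_eight_dvd_dotInt w.2 byv4.2
  rw [byv4_vec, dot_vecL_right, e3] at t3
  simp only [sumTo, patW, List.getD_cons_succ, List.getD_cons_zero] at hn hdV hdU t1 t2 t3
  have key : ∀ tgt : List ℤ, (w : GolayPt → ℤ) (pt 0) = tgt.getD 0 0 →
      (w : GolayPt → ℤ) (pt 3) = tgt.getD 3 0 → (w : GolayPt → ℤ) (pt 15) = tgt.getD 15 0 →
      (w : GolayPt → ℤ) (pt 23) = tgt.getD 23 0 → (w : GolayPt → ℤ) (pt 1) = tgt.getD 1 0 →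
      (w : GolayPt → ℤ) (pt 5) = tgt.getD 5 0 → (w : GolayPt → ℤ) (pt 8) = tgt.getD 8 0 →
      (w : GolayPt → ℤ) (pt 11) = tgt.getD 11 0 →
      allTo 24 (fun j => [0, 3, 15, 23, 1, 5, 8, 11].contains (patW.getD j 0) &&
        decide (tgt.getD j 0 = tgt.getD (patW.getD j 0) 0)) = true →
      (w : GolayPt → ℤ) = vecL tgt := by
    intro tgt h0 h3 h15 h23 h1 h5 h8 h11 hchk
    refine eq_vecL_of_pattern w patW tgt [0, 3, 15, 23, 1, 5, 8, 11] hj ?_ hchk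
    intro r hr
    simp only [List.mem_cons, List.not_mem_nil, or_false] at hr
    rcases hr with rfl | rfl | rfl | rfl | rfl | rfl | rfl | rfl
    exacts [h0, h3, h15, h23, h1, h5, h8, h11]
  rcases arith_W ((w : GolayPt → ℤ) (pt 23)) ((w : GolayPt → ℤ) (pt 0))
    ((w : GolayPt → ℤ) (pt 3)) ((w : GolayPt → ℤ) (pt 15)) ((w : GolayPt → ℤ) (pt 1))
    ((w : GolayPt → ℤ) (pt 5)) ((w : GolayPt → ℤ) (pt 8)) ((w : GolayPt → ℤ) (pt 11))
    (by linarith) (by linarith) (by linarith) (by omega) (by omega) (by omega) with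
    ⟨ha, hb, hc, hd', h1', h2', h3', h4'⟩ | ⟨ha, hb, hc, hd', h1', h2', h3', h4'⟩ |
    ⟨ha, hb, hc, hd', h1', h2', h3', h4'⟩ | ⟨ha, hb, hc, hd', h1', h2', h3', h4'⟩ |
    ⟨ha, hb, hc, hd', h1', h2', h3', h4'⟩
  · left
    apply Subtype.ext
    rw [U4_vec]
    exact key _ (by rw [hb]; rfl) (by rw [hc]; rfl) (by rw [hd']; rfl) (by rw [ha]; rfl)
      (by rw [h1']; rfl) (by rw [h2']; rfl) (by rw [h3']; rfl) (by rw [h4']; rfl)
      (by decide +kernel)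
  · right; left
    apply Subtype.ext
    rw [yv1_vec]
    exact key _ (by rw [hb]; rfl) (by rw [hc]; rfl) (by rw [hd']; rfl) (by rw [ha]; rfl)
      (by rw [h1']; rfl) (by rw [h2']; rfl) (by rw [h3']; rfl) (by rw [h4']; rfl)
      (by decide +kernel)
  · right; right; left
    apply Subtype.ext
    rw [yv2_vec]
    exact key _ (by rw [hb]; rfl) (by rw [hc]; rfl) (by rw [hd']; rfl) (by rw [ha]; rfl)
      (by rw [h1']; rfl) (by rw [h2']; rfl) (by rw [h3']; rfl) (by rw [h4']; rfl)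
      (by decide +kernel)
  · right; right; right; left
    apply Subtype.ext
    rw [yv3_vec]
    exact key _ (by rw [hb]; rfl) (by rw [hc]; rfl) (by rw [hd']; rfl) (by rw [ha]; rfl)
      (by rw [h1']; rfl) (by rw [h2']; rfl) (by rw [h3']; rfl) (by rw [h4']; rfl)
      (by decide +kernel)
  · right; right; right; right
    apply Subtype.ext
    rw [yv4_vec]
    exact key _ (by rw [hb]; rfl) (by rw [hc]; rfl) (by rw [hd']; rfl) (by rw [ha]; rfl)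
      (by rw [h1']; rfl) (by rw [h2']; rfl) (by rw [h3']; rfl) (by rw [h4']; rfl)
      (by decide +kernel)

/-! ### Centralisers -/

theorem dot_U4_U : dotInt ((U4 : leechLattice) : GolayPt → ℤ)
    ((Spor.leechU : leechLattice) : GolayPt → ℤ) = 32 := by
  rw [U4_vec, Co2Out.leechU_vec, dotInt_vecL]
  decide +kernel

theorem leechU'_eq : Spor.leechU' = U4 - Spor.leechU := by
  apply Subtype.ext
  funext p
  show Spor.vecU' p = ((U4 : leechLattice) : GolayPt → ℤ) p - Spor.vecU p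
  rw [U4, P_diag_apply]
  revert p
  decide

theorem yE_pow_V (k : ℕ) : yE ^ k • Spor.leechV = Spor.leechV :=
  pow_mem (show yE ∈ stabilizer Co0 Spor.leechV from yE_V) k

theorem yE_pow_U (k : ℕ) : yE ^ k • Spor.leechU = Spor.leechU :=
  pow_mem (show yE ∈ stabilizer Co0 Spor.leechU from yE_U) k

theorem yE_pow_comm (k : ℕ) : yE ^ k * pW = pW * yE ^ k :=
  ((show Commute yE pW from yE_comm_pW).pow_left k).eq

theorem yE_ne_one : yE ≠ 1 := by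
  intro h
  have h1 := yv1_vec
  rw [yv1, h, one_smul, U4_vec] at h1
  have h2 := congrFun h1 (some 0)
  revert h2
  decide

/-- the centraliser of `pW` in the joint stabiliser of `V` and `U` -/
theorem cent_pW (g : Co0) (hV : g • Spor.leechV = Spor.leechV)
    (hU : g • Spor.leechU = Spor.leechU) (hc : g * pW = pW * g) :
    ∃ k < 5, ∃ i < 5, g = yE ^ k * pW ^ i := by
  have hw : pW • (g • U4) = g • U4 := by
    rw [← mul_smul, ← hc, mul_smul, pW_U4]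
  have hn : sqNorm ((g • U4 : leechLattice) : GolayPt → ℤ) = 64 := by
    rw [co0_sqNorm, sqNorm_U4]
  have hdV : dotInt ((g • U4 : leechLattice) : GolayPt → ℤ)
      ((Spor.leechV : leechLattice) : GolayPt → ℤ) = -40 := by
    have h := co0_dotInt g U4 Spor.leechV
    rw [hV] at h
    rw [h, dot_U4_V]
  have hdU : dotInt ((g • U4 : leechLattice) : GolayPt → ℤ)
      ((Spor.leechU : leechLattice) : GolayPt → ℤ) = 32 := by
    have h := co0_dotInt g U4 Spor.leechU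
    rw [hU] at h
    rw [h, dot_U4_U]
  have hk : ∃ k < 5, g • U4 = yE ^ k • U4 := by
    rcases fixed_W (g • U4) hw hn hdV hdU with h | h | h | h | h
    · exact ⟨0, by norm_num, by rw [h, pow_zero, one_smul]⟩
    · exact ⟨1, by norm_num, by rw [h, pow_one]; rfl⟩
    · refine ⟨2, by norm_num, ?_⟩
      rw [h, pow_succ, pow_one, mul_smul]
      rfl
    · refine ⟨3, by norm_num, ?_⟩
      rw [h, pow_succ, pow_succ, pow_one, mul_smul, mul_smul]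
      rfl
    · refine ⟨4, by norm_num, ?_⟩
      rw [h, pow_succ, pow_succ, pow_succ, pow_one, mul_smul, mul_smul, mul_smul]
      rfl
  obtain ⟨k, hk5, hk⟩ := hk
  have h4 : ((yE ^ k)⁻¹ * g) • U4 = U4 := by rw [mul_smul, hk, inv_smul_smul]
  have hV' : ((yE ^ k)⁻¹ * g) • Spor.leechV = Spor.leechV := by
    rw [mul_smul, hV, inv_smul_eq_iff, yE_pow_V]
  have hU' : ((yE ^ k)⁻¹ * g) • Spor.leechU = Spor.leechU := by
    rw [mul_smul, hU, inv_smul_eq_iff, yE_pow_U]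
  have hU'' : ((yE ^ k)⁻¹ * g) • Spor.leechU' = Spor.leechU' := by
    rw [leechU'_eq, co0_sub, h4, hU']
  have hc' : ((yE ^ k)⁻¹ * g) * pW = pW * ((yE ^ k)⁻¹ * g) := by
    have h1 : (yE ^ k)⁻¹ * pW = pW * (yE ^ k)⁻¹ := by
      rw [inv_mul_eq_iff_eq_mul, ← mul_assoc, yE_pow_comm, mul_assoc, mul_inv_cancel, mul_one]
    rw [mul_assoc, hc, ← mul_assoc, h1, mul_assoc]
  obtain ⟨σ, hσ, hn', h0, e⟩ := fix3_eq _ hV' hU'' hU'
  have hcomm : σ * Cfsg.cubeTwist = Cfsg.cubeTwist * σ := by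
    apply permAut_injective _ _ (mul_mem hσ cubeTwist_mem) (mul_mem cubeTwist_mem hσ)
    rw [permAut_mul σ _ hσ cubeTwist_mem, permAut_mul _ σ cubeTwist_mem hσ, ← e]
    exact hc'
  obtain ⟨c, hcmem, hcT⟩ := Cfsg.Agent.Helper7.cent_tw_M22 hσ
    (by rw [Cfsg.Agent.Helper7.pt_23]; exact hn') (by rw [Cfsg.Agent.Helper7.pt_0]; exact h0) hcomm
  obtain ⟨i, hi, hyi⟩ := Cfsg.Agent.Helper7.eq_pow_of_mem_pwTw hcmem hcT
  refine ⟨k, hk5, i, hi, ?_⟩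
  have h1 : (yE ^ k)⁻¹ * g = pW ^ i := by
    rw [e, permAut_congr hyi hσ (mW ^ i).2]
    show permHom (mW ^ i) = _
    rw [map_pow, permHom_W]
  rw [← h1, mul_inv_cancel_left]

theorem tE_U_ne : tE • Spor.leechU ≠ Spor.leechU := by
  intro h
  have h1 := tE_U
  rw [h] at h1
  have h2 := congrArg (fun x : leechLattice => (x : GolayPt → ℤ) none) h1
  revert h2
  decide

/-- the centraliser of `pB` in the joint stabiliser of `V` and `U` -/
theorem cent_pB_mcl (g : Co0) (hV : g • Spor.leechV = Spor.leechV)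
    (hU : g • Spor.leechU = Spor.leechU) (hc : g * pB = pB * g) : ∃ j < 11, g = pB ^ j := by
  obtain ⟨j, hj, h | h⟩ := cent_pB g hV hc
  · exact ⟨j, hj, h⟩
  · exfalso
    have hB : pB ^ j • Spor.leechU = Spor.leechU :=
      pow_mem (show pB ∈ stabilizer Co0 Spor.leechU from
        permAut_leechU _ _ Cfsg.Agent.Helper7.gDbl_none Cfsg.Agent.Helper7.gDbl_zero) j
    rw [h, mul_smul, hB] at hU
    exact tE_U_ne hU

end Cfsg.Agent.Helper92.McLOut
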