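import Cfsg.Agent.Helper92.Co1Elts
import Cfsg.Agent.Helper92.McLCent

/-!
# Centralisers in the automorphism group of the Leech lattice

The centraliser of the element `pA` of order 23 is `⟨pA⟩ × ⟨-1⟩`, and the centraliser of the
element `pB` of order 11 is `⟨pB⟩ × ⟨tE, xE⟩`, of order `11 * 12`.  Both are found from the
vectors of the type of `V = (-5, -1^23)` fixed by the element.
-/

set_option autoImplicit false

namespace Cfsg.Agent.Helper92.Co1Out

open Cfsg MulAction Cfsg.Agent.Helper92.Mat Cfsg.Agent.Helper92.Co3Out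
  Cfsg.Agent.Helper92.McLOut
open Cfsg.Agent.Helper7 (gA gDbl gA_mem gDbl_mem cubeTwist_mem isTbl_gA isTbl_gDbl
  isTbl_cubeTwist cA cDbl cC cB projInv_mem isTbl_projInv permOf codeM24 inCode powC tbl
  IsTbl setOf isTbl_pow idx pt gDbl_none)

/-! ### The element of order 23 -/

theorem arith_A3_aux : ∀ a ∈ Finset.Icc (-6 : ℤ) 6, ∀ y ∈ Finset.Icc (-1 : ℤ) 1,
    a ^ 2 + 23 * y ^ 2 = 48 → (5 * a + 23 * y) % 8 = 0 →
    (a = -5 ∧ y = -1) ∨ (a = 5 ∧ y = 1) := by
  decide +kernel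

theorem arith_A3 (a y : ℤ) (h1 : a ^ 2 + 23 * y ^ 2 = 48) (h2 : (5 * a + 23 * y) % 8 = 0) :
    (a = -5 ∧ y = -1) ∨ (a = 5 ∧ y = 1) := by
  have ha : a ∈ Finset.Icc (-6 : ℤ) 6 := by
    rw [Finset.mem_Icc]
    constructor <;> nlinarith [sq_nonneg y]
  have hy : y ∈ Finset.Icc (-1 : ℤ) 1 := by
    rw [Finset.mem_Icc]
    constructor <;> nlinarith [sq_nonneg a]
  exact arith_A3_aux a ha y hy h1 h2

/-- a lattice vector of the type of `V` fixed by `pA` is `V` or `-V` -/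
theorem fixed_A3 (w : leechLattice) (hw : pA • w = w) (hn : sqNorm (w : GolayPt → ℤ) = 48) :
    w = Spor.leechV ∨ w = -Spor.leechV := by
  have hj := inv_pattern isTbl_gA gA_mem w hw patA (by decide +kernel)
  have e1 : sumTo 24 (fun j => (w : GolayPt → ℤ) (pt j) ^ 2) =
      sumTo 24 (fun j => (w : GolayPt → ℤ) (pt (patA.getD j 0)) ^ 2) :=
    sumTo_congr _ _ _ (fun j hj' => by rw [← hj j hj'])
  have e2 : sumTo 24 (fun j => (w : GolayPt → ℤ) (pt j)) =
      sumTo 24 (fun j => (w : GolayPt → ℤ) (pt (patA.getD j 0))) :=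
    sumTo_congr _ _ _ (fun j hj' => by rw [← hj j hj'])
  rw [sqNorm_pt, e1] at hn
  have t0 := leech_eight_dvd_dotInt w.2 Spor.leechV.2
  rw [dotV_pt, e2] at t0
  simp only [sumTo, patA, List.getD_cons_succ, List.getD_cons_zero] at hn t0
  have key : ∀ tgt : List ℤ, (w : GolayPt → ℤ) (pt 0) = tgt.getD 0 0 →
      (w : GolayPt → ℤ) (pt 23) = tgt.getD 23 0 →
      allTo 24 (fun j => [0, 23].contains (patA.getD j 0) &&
        decide (tgt.getD j 0 = tgt.getD (patA.getD j 0) 0)) = true →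
      (w : GolayPt → ℤ) = vecL tgt := by
    intro tgt h0 h23 hchk
    refine eq_vecL_of_pattern w patA tgt [0, 23] hj ?_ hchk
    intro r hr
    simp only [List.mem_cons, List.not_mem_nil, or_false] at hr
    rcases hr with rfl | rfl
    exacts [h0, h23]
  rcases arith_A3 ((w : GolayPt → ℤ) (pt 23)) ((w : GolayPt → ℤ) (pt 0)) (by linarith)
    (by omega) with ⟨ha, hy⟩ | ⟨ha, hy⟩
  · left
    apply Subtype.ext
    rw [leechV_vec]
    exact key _ (by rw [hy]; rfl) (by rw [ha]; rfl) (by decide +kernel)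
  · right
    apply Subtype.ext
    have hv : ((-Spor.leechV : leechLattice) : GolayPt → ℤ) = vecL [1, 1, 1, 1, 1, 1, 1, 1, 1, 1, 1, 1, 1, 1, 1, 1, 1, 1, 1, 1, 1, 1, 1, 5] := by
      funext p
      show -Spor.vecV p = _
      revert p
      decide
    rw [hv]
    exact key _ (by rw [hy]; rfl) (by rw [ha]; rfl) (by decide +kernel)

/-- **The centraliser of `pA` in the automorphism group of the lattice.** -/
theorem cent_pA0 (g : Co0) (hc : g * pA = pA * g) :
    ∃ i : ℕ, g = pA ^ i ∨ g = negAut * pA ^ i := by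
  have hfix : pA • (g • Spor.leechV) = g • Spor.leechV := by
    rw [← mul_smul, ← hc, mul_smul, pA_V]
  have hn : sqNorm ((g • Spor.leechV : leechLattice) : GolayPt → ℤ) = 48 := by
    rw [co0_sqNorm]
    exact sqNorm_leechV
  rcases fixed_A3 _ hfix hn with h | h
  · obtain ⟨i, hi⟩ := cent_pA g h hc
    exact ⟨i, Or.inl hi⟩
  · have h1 : (negAut * g) • Spor.leechV = Spor.leechV := by
      rw [mul_smul, h, negAut_smul, neg_neg]
    have h2 : (negAut * g) * pA = pA * (negAut * g) := by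
      rw [mul_assoc, hc, ← mul_assoc, negAut_comm pA, mul_assoc]
    obtain ⟨i, hi⟩ := cent_pA _ h1 h2
    refine ⟨i, Or.inr ?_⟩
    rw [← hi, ← mul_assoc, negAut_mul_self, one_mul]

/-! ### The element of order 11 -/

theorem arith_B3_aux : ∀ a ∈ Finset.Icc (-6 : ℤ) 6, ∀ b ∈ Finset.Icc (-6 : ℤ) 6,
    ∀ y ∈ Finset.Icc (-2 : ℤ) 2, ∀ z ∈ Finset.Icc (-2 : ℤ) 2,
    a ^ 2 + b ^ 2 + 11 * y ^ 2 + 11 * z ^ 2 = 48 →
    (5 * a + b + 11 * y + 11 * z) % 8 = 0 → (4 * a - 2 * b + 22 * y) % 8 = 0 →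
    (4 * a + 4 * b) % 8 = 0 →
    ∃ k < 6, ∃ s < 2, a = (fvL k s).getD 23 0 ∧ b = (fvL k s).getD 0 0 ∧
      y = (fvL k s).getD 1 0 ∧ z = (fvL k s).getD 5 0 := by
  decide +kernel

theorem arith_B3 (a b y z : ℤ) (h1 : a ^ 2 + b ^ 2 + 11 * y ^ 2 + 11 * z ^ 2 = 48)
    (h2 : (5 * a + b + 11 * y + 11 * z) % 8 = 0) (h3 : (4 * a - 2 * b + 22 * y) % 8 = 0)
    (h4 : (4 * a + 4 * b) % 8 = 0) :
    ∃ k < 6, ∃ s < 2, a = (fvL k s).getD 23 0 ∧ b = (fvL k s).getD 0 0 ∧
      y = (fvL k s).getD 1 0 ∧ z = (fvL k s).getD 5 0 := by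
  have ha : a ∈ Finset.Icc (-6 : ℤ) 6 := by
    rw [Finset.mem_Icc]
    constructor <;> nlinarith [sq_nonneg b, sq_nonneg y, sq_nonneg z]
  have hb : b ∈ Finset.Icc (-6 : ℤ) 6 := by
    rw [Finset.mem_Icc]
    constructor <;> nlinarith [sq_nonneg a, sq_nonneg y, sq_nonneg z]
  have hy : y ∈ Finset.Icc (-2 : ℤ) 2 := by
    rw [Finset.mem_Icc]
    constructor <;> nlinarith [sq_nonneg a, sq_nonneg b, sq_nonneg z]
  have hz : z ∈ Finset.Icc (-2 : ℤ) 2 := by
    rw [Finset.mem_Icc]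
    constructor <;> nlinarith [sq_nonneg a, sq_nonneg b, sq_nonneg y]
  exact arith_B3_aux a ha b hb y hy z hz h1 h2 h3 h4

theorem fv_pat : ∀ k < 6, ∀ s < 2, allTo 24 (fun j => [0, 1, 5, 23].contains (patB.getD j 0) &&
    decide ((fvL k s).getD j 0 = (fvL k s).getD (patB.getD j 0) 0)) = true := by
  decide +kernel

set_option maxHeartbeats 4000000 in
/-- a lattice vector of the type of `V` fixed by `pB` is one of the twelve images of `V` under
the elements `xE ^ k * pS ^ s` -/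
theorem fixed_B3 (w : leechLattice) (hw : pB • w = w) (hn : sqNorm (w : GolayPt → ℤ) = 48) :
    ∃ k < 6, ∃ s < 2, w = (xE ^ k * pS ^ s) • Spor.leechV := by
  have hj := inv_pattern isTbl_gDbl gDbl_mem w hw patB (by decide +kernel)
  have e1 : sumTo 24 (fun j => (w : GolayPt → ℤ) (pt j) ^ 2) =
      sumTo 24 (fun j => (w : GolayPt → ℤ) (pt (patB.getD j 0)) ^ 2) :=
    sumTo_congr _ _ _ (fun j hj' => by rw [← hj j hj'])
  have e2 : sumTo 24 (fun j => (w : GolayPt → ℤ) (pt j)) =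
      sumTo 24 (fun j => (w : GolayPt → ℤ) (pt (patB.getD j 0))) :=
    sumTo_congr _ _ _ (fun j hj' => by rw [← hj j hj'])
  have e3 : ∀ l : List ℤ, sumTo 24 (fun j => (w : GolayPt → ℤ) (pt j) * l.getD j 0) =
      sumTo 24 (fun j => (w : GolayPt → ℤ) (pt (patB.getD j 0)) * l.getD j 0) :=
    fun l => sumTo_congr _ _ _ (fun j hj' => by rw [← hj j hj'])
  rw [sqNorm_pt, e1] at hn
  have t0 := leech_eight_dvd_dotInt w.2 Spor.leechV.2
  rw [dotV_pt, e2] at t0
  have t1 := leech_eight_dvd_dotInt w.2 Z1.2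
  rw [Z1_vec, dot_vecL_right, e3] at t1
  have t2 := leech_eight_dvd_dotInt w.2 Spor.leechU.2
  rw [Co2Out.leechU_vec, dot_vecL_right, e3] at t2
  simp only [sumTo, patB, List.getD_cons_succ, List.getD_cons_zero] at hn t0 t1 t2
  obtain ⟨k, hk, s, hs, ha, hb, hy, hz⟩ := arith_B3 ((w : GolayPt → ℤ) (pt 23))
    ((w : GolayPt → ℤ) (pt 0)) ((w : GolayPt → ℤ) (pt 1)) ((w : GolayPt → ℤ) (pt 5))
    (by linarith) (by omega) (by omega) (by omega)
  refine ⟨k, hk, s, hs, ?_⟩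
  apply Subtype.ext
  rw [fv_vec k s hk hs]
  refine eq_vecL_of_pattern w patB (fvL k s) [0, 1, 5, 23] hj ?_ (fv_pat k hk s hs)
  intro r hr
  simp only [List.mem_cons, List.not_mem_nil, or_false] at hr
  rcases hr with rfl | rfl | rfl | rfl
  exacts [hb, hy, hz, ha]

theorem pB_pow11 : pB ^ 11 = 1 := by
  have h := pow_eq_one_pk (gs := [pB]) (.cons isPk_b .nil) 11 (by decide +kernel)
  simpa only [List.prod_cons, List.prod_nil, mul_one] using h

theorem projInv_none : projInv none = some 0 := by decide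

/-- **No element of `Co3` inverts `pB`.** -/
theorem no_inv (h : Co0) (hV : h • Spor.leechV = Spor.leechV) (hc : h * pB = pB ^ 10 * h) :
    False := by
  have key : ∀ h : Co0, h • Spor.leechV = Spor.leechV → h • U4 = U4 →
      h * pB = pB ^ 10 * h → False := by
    intro h hV h4 hc
    obtain ⟨σ, hσ, hn, rfl⟩ := fix2_eq h hV h4
    have e1 : permHom (⟨σ, hσ⟩ * mB) = permHom (mB ^ 10 * ⟨σ, hσ⟩) := by
      rw [map_mul, map_mul, map_pow, permHom_B]
      exact hc
    have e2 : σ * gDbl = gDbl ^ 10 * σ := congrArg Subtype.val (permHom_injective e1)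
    have e3 : (σ⁻¹ * projInv) * gDbl = gDbl * (σ⁻¹ * projInv) := by
      have r1 : projInv * gDbl = gDbl ^ 10 * projInv := by
        rw [← Cfsg.Agent.Helper7.rel_inv_dbl, inv_mul_cancel_right]
      have r2 : gDbl * σ⁻¹ = σ⁻¹ * gDbl ^ 10 := by
        rw [eq_inv_mul_iff_mul_eq, ← mul_assoc, e2, mul_inv_cancel_right]
      rw [mul_assoc, r1, ← mul_assoc, ← r2, mul_assoc]
    obtain ⟨e, -, he⟩ := Cfsg.Agent.Helper7.cent_gDbl (mul_mem (inv_mem hσ) projInv_mem) e3
    have e4 : projInv = σ * gDbl ^ e := by rw [← he, mul_inv_cancel_left]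
    have e5 : projInv none = none := by
      rw [e4, Equiv.Perm.mul_apply,
        Equiv.Perm.pow_apply_eq_self_of_apply_eq_self gDbl_none, hn]
    rw [projInv_none] at e5
    exact absurd e5 (by decide)
  have hc' : pB * h = h * pB ^ 10 := by
    calc pB * h = pB * h * (pB * pB ^ 10) := by rw [← pow_succ', pB_pow11, mul_one]
      _ = pB * (h * pB) * pB ^ 10 := by group
      _ = pB * (pB ^ 10 * h) * pB ^ 10 := by rw [hc]
      _ = pB ^ 11 * h * pB ^ 10 := by group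
      _ = h * pB ^ 10 := by rw [pB_pow11, one_mul]
  have h10 : pB ^ 10 • U4 = U4 := pow_mem (show pB ∈ stabilizer Co0 U4 from pB_U4) 10
  have hfix : pB • (h • U4) = h • U4 := by
    rw [← mul_smul, hc', mul_smul, h10]
  have hn : sqNorm ((h • U4 : leechLattice) : GolayPt → ℤ) = 64 := by
    rw [co0_sqNorm]
    exact sqNorm_U4
  have hd : dotInt ((h • U4 : leechLattice) : GolayPt → ℤ)
      ((Spor.leechV : leechLattice) : GolayPt → ℤ) = -40 := by
    have := co0_dotInt h U4 Spor.leechV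
    rw [hV] at this
    rw [this]
    exact dot_U4_V
  rcases fixed_B _ hfix hn hd with h4 | h4
  · exact key h hV h4 hc
  · refine key (tE * h) ?_ ?_ ?_
    · rw [mul_smul, hV, tE_V]
    · rw [mul_smul, h4, Z1, ← mul_smul, tE_sq, one_smul]
    · have hct : Commute tE (pB ^ 10) := (show Commute tE pB from tE_comm_pB).pow_right 10
      rw [mul_assoc, hc, ← mul_assoc, hct.eq, mul_assoc]

/-- **The centraliser of `pB` in the automorphism group of the lattice.** -/
theorem cent_pB0 (g : Co0) (hc : g * pB = pB * g) :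
    ∃ k < 6, ∃ m < 2, ∃ j < 11, g = xE ^ k * (tE ^ m * pB ^ j) := by
  have hfix : pB • (g • Spor.leechV) = g • Spor.leechV := by
    rw [← mul_smul, ← hc, mul_smul, pB_V]
  have hn : sqNorm ((g • Spor.leechV : leechLattice) : GolayPt → ℤ) = 48 := by
    rw [co0_sqNorm]
    exact sqNorm_leechV
  obtain ⟨k, hk, s, hs, hw⟩ := fixed_B3 _ hfix hn
  have hxc : Commute (xE ^ k)⁻¹ pB := ((show Commute xE pB from xE_comm_pB).pow_left k).inv_left
  have hV : ((xE ^ k * pS ^ s)⁻¹ * g) • Spor.leechV = Spor.leechV := by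
    rw [mul_smul, hw, inv_smul_smul]
  have hg : g = xE ^ k * (pS ^ s * ((xE ^ k * pS ^ s)⁻¹ * g)) := by
    rw [← mul_assoc, mul_inv_cancel_left]
  interval_cases s
  · rw [pow_zero, mul_one] at hV
    rw [pow_zero, mul_one, one_mul] at hg
    have hcm : ((xE ^ k)⁻¹ * g) * pB = pB * ((xE ^ k)⁻¹ * g) := by
      rw [mul_assoc, hc, ← mul_assoc, hxc.eq, mul_assoc]
    obtain ⟨j, hj, e | e⟩ := cent_pB _ hV hcm
    · exact ⟨k, hk, 0, by norm_num, j, hj, by rw [pow_zero, one_mul, ← e]; exact hg⟩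
    · exact ⟨k, hk, 1, by norm_num, j, hj, by rw [pow_one, ← e]; exact hg⟩
  · exfalso
    rw [pow_one] at hV
    have hS : pS⁻¹ = pS := inv_eq_of_mul_eq_one_right pS_sq
    have r1 : pS * pB = pB ^ 10 * pS := by
      rw [← rel_SB, inv_mul_cancel_right]
    have hinv : ((xE ^ k * pS)⁻¹ * g) * pB = pB ^ 10 * ((xE ^ k * pS)⁻¹ * g) := by
      rw [mul_inv_rev, hS]
      calc pS * (xE ^ k)⁻¹ * g * pB = pS * ((xE ^ k)⁻¹ * (g * pB)) := by group
        _ = pS * ((xE ^ k)⁻¹ * (pB * g)) := by rw [hc]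
        _ = pS * (((xE ^ k)⁻¹ * pB) * g) := by group
        _ = pS * ((pB * (xE ^ k)⁻¹) * g) := by rw [hxc.eq]
        _ = (pS * pB) * ((xE ^ k)⁻¹ * g) := by group
        _ = (pB ^ 10 * pS) * ((xE ^ k)⁻¹ * g) := by rw [r1]
        _ = pB ^ 10 * (pS * (xE ^ k)⁻¹ * g) := by group
    exact no_inv _ hV hinv

end Cfsg.Agent.Helper92.Co1Out
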