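import Cfsg.Agent.Helper92.LeechCo2Order
import Cfsg.Agent.Helper26.McL2Trans

/-!
# The stabiliser of `(4, 4, 0^22)` in `Co0` is simple

`co2Sub` acts on the 47104 minimal vectors with inner product `-8` with `U`, with point
stabiliser the (simple) joint stabiliser of `V` and `U` and subdegrees
`1, 7128, 15400, 22275, 275, 2025`.

* `isSimpleGroup_co2Sub`: `co2Sub` is simple.
* `isCo2_stabilizer`: the stabiliser of a minimal vector is simple of order `42305421312000`.
-/

set_option autoImplicit false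

namespace Cfsg.Agent.Helper92

open Cfsg MulAction

/-- the five non-trivial suborbits, of sizes 7128, 15400, 22275, 275, 2025 -/
def co2Suborb (i : Fin 5) : Set leechLattice :=
  {y : leechLattice | sqNorm (y : GolayPt → ℤ) = 32 ∧
    Cfsg.Agent.Helper26.clsL2 (Cfsg.Agent.Helper26.pk (y : GolayPt → ℤ)) = (i : ℕ) + 1}

theorem orbit_co2Pt_eq :
    (orbit co2Sub co2Pt : Set leechLattice) = insert co2Pt (⋃ i, co2Suborb i) := by
  rw [orbit_co2Pt]
  ext y
  constructor
  · rintro ⟨hn, hd⟩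
    have h := Cfsg.Agent.Helper26.clsL2_spec _ y.2 hn
    rw [if_pos hd] at h
    have hc : Cfsg.Agent.Helper26.clsL2 (Cfsg.Agent.Helper26.pk (y : GolayPt → ℤ)) = 1 ∨
        Cfsg.Agent.Helper26.clsL2 (Cfsg.Agent.Helper26.pk (y : GolayPt → ℤ)) = 2 ∨
        Cfsg.Agent.Helper26.clsL2 (Cfsg.Agent.Helper26.pk (y : GolayPt → ℤ)) = 3 ∨
        Cfsg.Agent.Helper26.clsL2 (Cfsg.Agent.Helper26.pk (y : GolayPt → ℤ)) = 4 ∨
        Cfsg.Agent.Helper26.clsL2 (Cfsg.Agent.Helper26.pk (y : GolayPt → ℤ)) = 5 ∨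
        Cfsg.Agent.Helper26.clsL2 (Cfsg.Agent.Helper26.pk (y : GolayPt → ℤ)) = 6 := by
      rw [h]
      split_ifs <;> simp
    rcases hc with h1 | h1 | h1 | h1 | h1 | h1
    · exact Set.mem_insert_of_mem _ (Set.mem_iUnion.2 ⟨0, hn, h1⟩)
    · exact Set.mem_insert_of_mem _ (Set.mem_iUnion.2 ⟨1, hn, h1⟩)
    · exact Set.mem_insert_of_mem _ (Set.mem_iUnion.2 ⟨2, hn, h1⟩)
    · exact Set.mem_insert_of_mem _ (Set.mem_iUnion.2 ⟨3, hn, h1⟩)
    · exact Set.mem_insert_of_mem _ (Set.mem_iUnion.2 ⟨4, hn, h1⟩)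
    · exact Set.mem_insert_iff.2 (Or.inl (Cfsg.Agent.Helper26.mcl2_catch y hn h1))
  · rintro (rfl | hy)
    · exact ⟨sqNorm_mclW, dot_U_mclW⟩
    · obtain ⟨i, hn, hc⟩ := Set.mem_iUnion.1 hy
      exact ⟨hn, Cfsg.Agent.Helper26.clsL2_dotU y hn i hc⟩

theorem ncard_co2Suborb (i : Fin 5) :
    (co2Suborb i).ncard = ![7128, 15400, 22275, 275, 2025] i := by
  have h := Cfsg.Agent.Helper26.mcl2_counts
  fin_cases i
  · exact h.1
  · exact h.2.1
  · exact h.2.2.1
  · exact h.2.2.2.1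
  · exact h.2.2.2.2

theorem co2Suborb_finite (i : Fin 5) : (co2Suborb i).Finite := by
  apply Set.finite_of_ncard_ne_zero
  rw [ncard_co2Suborb]
  fin_cases i <;> decide

theorem co2Pt_notMem (i : Fin 5) : co2Pt ∉ co2Suborb i := by
  rintro ⟨-, h⟩
  have h6 : Cfsg.Agent.Helper26.clsL2 (Cfsg.Agent.Helper26.pk (co2Pt : GolayPt → ℤ)) = 6 :=
    Cfsg.Agent.Helper26.clsL2_w0
  rw [h6] at h
  omega

theorem co2Suborb_disjoint (i j : Fin 5) (hij : i ≠ j) :
    Disjoint (co2Suborb i) (co2Suborb j) := by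
  rw [Set.disjoint_left]
  rintro y ⟨-, h1⟩ ⟨-, h2⟩
  apply hij
  apply Fin.ext
  rw [h1] at h2
  omega

theorem co2_suborb_trans (i : Fin 5) (y : leechLattice) (hy : y ∈ co2Suborb i)
    (y' : leechLattice) (hy' : y' ∈ co2Suborb i) :
    ∃ s : co2Sub, s • co2Pt = co2Pt ∧ s • y = y' := by
  obtain ⟨g, hV, hU, hg⟩ :=
    Cfsg.Agent.Helper26.mcl2_trans (i : ℕ) y y' hy.1 hy'.1 hy.2 hy'.2
  refine ⟨⟨g, hU⟩, ?_, hg⟩
  show g • (-Spor.leechV - Spor.leechU) = -Spor.leechV - Spor.leechU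
  rw [co0_sub, co0_neg, hV, hU]

theorem co2_arith_sub : ∀ I : Finset (Fin 5),
    (1 + ∑ i ∈ I, ![7128, 15400, 22275, 275, 2025] i) ∣
      (1 + ∑ i, ![7128, 15400, 22275, 275, 2025] i) → I = ∅ ∨ I = Finset.univ := by
  decide

theorem co2_degree : 1 + ∑ i, ![7128, 15400, 22275, 275, 2025] i = 47104 := by
  decide

/-- a normal subgroup of `co2Sub` is trivial, everything, or of order 47104 -/
theorem co2_trichotomy (K : Subgroup co2Sub) (hK : K.Normal) :
    K = ⊥ ∨ K = ⊤ ∨ Nat.card K = 47104 := by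
  have := isSimpleGroup_mclSub
  have h := normal_trichotomy co2Pt co2Suborb ![7128, 15400, 22275, 275, 2025] orbit_co2Pt_eq
    co2Pt_notMem co2Suborb_disjoint co2Suborb_finite ncard_co2Suborb co2_arith_sub
    co2_suborb_trans ⟨0, by decide⟩ mclHom mclHom_range K hK
  rw [co2_degree] at h
  exact h

/-- **The stabiliser of `(4, 4, 0^22)` is simple.** -/
theorem isSimpleGroup_co2Sub : IsSimpleGroup co2Sub := by
  have hcard := card_co2Sub
  have hnt : Nontrivial co2Sub := by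
    apply (Finite.one_lt_card_iff_nontrivial).1
    rw [hcard]
    norm_num
  refine { exists_pair_ne := hnt.exists_pair_ne, eq_bot_or_eq_top_of_normal := ?_ }
  intro K hK
  rcases co2_trichotomy K hK with h | h | h
  · exact Or.inl h
  · exact Or.inr h
  · exfalso
    obtain ⟨N, hN, hNc⟩ := co2_no_regular K (by rw [h]; norm_num)
    rcases co2_trichotomy N hN with h1 | h1 | h1
    · rw [h1, Subgroup.card_bot] at hNc
      omega
    · rw [h1, Subgroup.card_top, hcard] at hNc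
      omega
    · rw [h1] at hNc
      omega

theorem isCo2_co2Sub : IsCo2 co2Sub := ⟨isSimpleGroup_co2Sub, card_co2Sub⟩

/-- **The stabiliser of a minimal vector is a simple group of order `42305421312000`.** -/
theorem isCo2_stabilizer (v : leechLattice) (hv : sqNorm (v : GolayPt → ℤ) = 32) :
    IsCo2 ↥(stabilizer Co0 v) := by
  obtain ⟨g, h1⟩ := exists_smul_eq_of_norm32 v Spor.leechU hv sqNorm_leechU
  have key : ∀ x : Co0, x ∈ stabilizer Co0 v ↔ g * x * g⁻¹ ∈ co2Sub := by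
    intro x
    rw [mem_stabilizer_iff, mem_co2Sub]
    have e1 : (g * x * g⁻¹) • Spor.leechU = g • x • v := by
      rw [mul_smul, mul_smul, ← h1, inv_smul_smul]
    rw [e1]
    constructor
    · intro a
      rw [a, h1]
    · intro a
      apply MulAction.injective g
      show g • x • v = g • v
      rw [a, h1]
  let e : ↥(stabilizer Co0 v) ≃* co2Sub := conjEquiv g _ _ key
  have := isSimpleGroup_co2Sub
  exact ⟨e.isSimpleGroup, by rw [Nat.card_congr e.toEquiv, card_co2Sub]⟩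

end Cfsg.Agent.Helper92
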