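import Cfsg.Agent.Helper92.Co2Cent
import Cfsg.Agent.Helper92.LeechCo2S

/-!
# Every automorphism of `Co2` is inner

We work in the stabiliser of `W0 = (3, −1^23)`, which is generated by the coordinate permutations
of order 23 and 5 and the involution `zE`.
-/

set_option autoImplicit false

namespace Cfsg.Agent.Helper92

open MulAction

/-- conjugated form of `eq_top_of_stabilizer_le_of_suborbits`, for a subgroup `H` of a group `G`
and a subgroup `K` of `G` containing a conjugate of the point stabiliser in `H` -/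
theorem conj_mem_of_suborbits {G X ι : Type*} [Group G] [MulAction G X] [Fintype ι]
    (H : Subgroup G) (x₀ : X) (A : ι → Set X) (n : ι → ℕ)
    (horb : (orbit H x₀ : Set X) = insert x₀ (⋃ i, A i)) (hx : ∀ i, x₀ ∉ A i)
    (hdisj : ∀ i j, i ≠ j → Disjoint (A i) (A j)) (hfin : ∀ i, (A i).Finite)
    (hn : ∀ i, (A i).ncard = n i)
    (harith : ∀ I : Finset ι, (1 + ∑ i ∈ I, n i) ∣ (1 + ∑ i, n i) → I = ∅ ∨ I = Finset.univ)
    (htrans : ∀ i, ∀ y ∈ A i, ∀ y' ∈ A i, ∃ s : H, s • x₀ = x₀ ∧ s • y = y')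
    (g₀ : G) (K : Subgroup G)
    (h1 : ∀ h : H, h • x₀ = x₀ → g₀⁻¹ * (h : G) * g₀ ∈ K)
    (h2 : ∃ h : H, g₀⁻¹ * (h : G) * g₀ ∈ K ∧ h • x₀ ≠ x₀) (h : H) :
    g₀⁻¹ * (h : G) * g₀ ∈ K := by
  let L : Subgroup H :=
    { carrier := {h | g₀⁻¹ * (h : G) * g₀ ∈ K}
      one_mem' := by
        show g₀⁻¹ * ((1 : H) : G) * g₀ ∈ K
        rw [Subgroup.coe_one, mul_one, inv_mul_cancel]
        exact K.one_mem
      mul_mem' := by
        intro a b ha hb
        show g₀⁻¹ * ((a * b : H) : G) * g₀ ∈ K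
        have e : g₀⁻¹ * ((a * b : H) : G) * g₀ =
            (g₀⁻¹ * (a : G) * g₀) * (g₀⁻¹ * (b : G) * g₀) := by
          rw [Subgroup.coe_mul]; group
        rw [e]
        exact K.mul_mem ha hb
      inv_mem' := by
        intro a ha
        show g₀⁻¹ * ((a⁻¹ : H) : G) * g₀ ∈ K
        have e : g₀⁻¹ * ((a⁻¹ : H) : G) * g₀ = (g₀⁻¹ * (a : G) * g₀)⁻¹ := by
          rw [Subgroup.coe_inv]; group
        rw [e]
        exact K.inv_mem ha }
  have hL : L = ⊤ := by
    apply eq_top_of_stabilizer_le_of_suborbits x₀ A n horb hx hdisj hfin hn harith htrans L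
    · intro s hs
      exact h1 s hs
    · obtain ⟨k, hk, hne⟩ := h2
      exact ⟨k, hk, hne⟩
  have hh : h ∈ L := by rw [hL]; trivial
  exact hh

namespace Co2Out

open Cfsg Cfsg.Agent.Helper92.Mat Cfsg.Agent.Helper92.Co3Out
open Cfsg.Agent.Helper7 (gA gDbl gA_mem gDbl_mem cubeTwist_mem isTbl_gA isTbl_gDbl
  isTbl_cubeTwist cA cDbl cC cB permOf codeM24 inCode powC tbl IsTbl setOf idx pt gA_none
  gDbl_none cubeTwist_none projInv_mem isTbl_projInv)

/-! ### Coordinate permutations -/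

/-- all coordinate permutations fixing `∞` lie in a subgroup containing `pA` and `pW` -/
theorem perm_mem (K : Subgroup Co0) (hA : pA ∈ K) (hW : pW ∈ K) (σ : Equiv.Perm GolayPt)
    (hσ : σ ∈ M24) (hn : σ none = none) : permAut σ hσ ∈ K := by
  have h1 : σ ∈ Subgroup.closure ({gA, cubeTwist} : Set (Equiv.Perm GolayPt)) :=
    Cfsg.Agent.Helper7.M23_le ⟨hσ, hn⟩
  have h2 : ({gA, cubeTwist} : Set (Equiv.Perm GolayPt)) =
      (Subgroup.subtype M24) '' ({mA, mW} : Set M24) := by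
    rw [Set.image_pair]
    rfl
  rw [h2, ← MonoidHom.map_closure] at h1
  obtain ⟨π', hπ', he⟩ := h1
  have h3 : π' = ⟨σ, hσ⟩ := Subtype.ext he
  have h4 : Subgroup.closure ({mA, mW} : Set M24) ≤ K.comap permHom := by
    rw [Subgroup.closure_le]
    rintro x (rfl | rfl)
    · exact hA
    · exact hW
  have h5 := h4 hπ'
  rw [h3] at h5
  exact h5

/-- the coordinate permutation interchanging `∞` and `0` -/
noncomputable def mP : M24 := ⟨projInv, projInv_mem⟩

noncomputable def pP : Co0 := permAut projInv projInv_mem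

theorem permHom_P : permHom mP = pP := rfl

theorem isMat_pP : IsMat pP (permM cB) := isMat_perm isTbl_projInv _

theorem VU_vec : ((Spor.leechV + Spor.leechU : leechLattice) : GolayPt → ℤ) = vecL [3, -1, -1, -1, -1, -1, -1, -1, -1, -1, -1, -1, -1, -1, -1, -1, -1, -1, -1, -1, -1, -1, -1, -1] := by
  funext p
  show Spor.vecV p + Spor.vecU p = _
  revert p
  decide

theorem negU'_vec : ((-Spor.leechU' : leechLattice) : GolayPt → ℤ) = vecL [4, 0, 0, 0, 0, 0, 0, 0, 0, 0, 0, 0, 0, 0, 0, 0, 0, 0, 0, 0, 0, 0, 0, -4] := by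
  funext p
  show -Spor.vecU' p = _
  revert p
  decide

theorem pP_W0 : pP • W0 = Spor.leechV + Spor.leechU :=
  Subtype.ext ((isMat_pP.vec W0_vec (l' := [3, -1, -1, -1, -1, -1, -1, -1, -1, -1, -1, -1, -1, -1, -1, -1, -1, -1, -1, -1, -1, -1, -1, -1]) (by decide +kernel)).trans VU_vec.symm)

theorem pP_U : pP • Spor.leechU = Spor.leechU :=
  Subtype.ext ((isMat_pP.vec leechU_vec (l' := [4, 0, 0, 0, 0, 0, 0, 0, 0, 0, 0, 0, 0, 0, 0, 0, 0, 0, 0, 0, 0, 0, 0, 4]) (by decide +kernel)).trans leechU_vec.symm)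

theorem pP_U' : pP • Spor.leechU' = -Spor.leechU' :=
  Subtype.ext ((isMat_pP.vec leechU'_vec (l' := [4, 0, 0, 0, 0, 0, 0, 0, 0, 0, 0, 0, 0, 0, 0, 0, 0, 0, 0, 0, 0, 0, 0, -4]) (by decide +kernel)).trans negU'_vec.symm)

/-- conjugating the joint stabiliser of `W0` and `U` into `mclSub` -/
theorem conj_mcl (k : Co0) (hW : k • W0 = W0) (hU : k • Spor.leechU = Spor.leechU) :
    pP * k * pP⁻¹ ∈ mclSub := by
  have e1 : pP⁻¹ • Spor.leechU = Spor.leechU := by
    rw [inv_smul_eq_iff, pP_U]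
  have e2 : pP⁻¹ • (Spor.leechV + Spor.leechU) = W0 := by
    rw [inv_smul_eq_iff, pP_W0]
  have e3 : pP⁻¹ • Spor.leechV = W0 - Spor.leechU := by
    rw [co0_add, e1] at e2
    rw [← e2]
    abel
  rw [mem_mclSub]
  constructor
  · rw [mul_smul, mul_smul, e3, co0_sub, hW, hU, co0_sub, pP_W0, pP_U]
    abel
  · rw [mul_smul, mul_smul, e1, hU, pP_U]

/-- **The joint stabiliser of `W0` and `U` lies in every subgroup containing the coordinate
permutations and `hE2`.** -/
theorem stab2_le (K : Subgroup Co0) (hA : pA ∈ K) (hW : pW ∈ K) (hE : hE2 ∈ K) (k : Co0)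
    (hkW : k • W0 = W0) (hkU : k • Spor.leechU = Spor.leechU) : k ∈ K := by
  have hE2W : hE2 • W0 = W0 := by
    have h1 : pc hc1 hc1_ok • W0 = W0 := by
      rw [W0, co0_add, pc, permAut_leechV _ _ hc1_none, permAut_U4 _ _ hc1_none]
    rw [hE2, mul_smul, mul_smul, zE_W0, h1, zE_W0]
  have key := conj_mem_of_suborbits mclSub Spor.leechU' mclSuborb ![330, 462, 1232]
    orbit_mclPt mclPt_notMem mclSuborb_disjoint mclSuborb_finite ncard_mclSuborb mcl_arith_sub
    mcl_suborb_trans pP K ?_ ?_ ⟨pP * k * pP⁻¹, conj_mcl k hkW hkU⟩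
  · have e : pP⁻¹ * (pP * k * pP⁻¹) * pP = k := by group
    rw [← e]
    exact key
  · intro h hh
    obtain ⟨π, rfl⟩ := (m22HomL_range h).1 hh
    show pP⁻¹ * permAut π.1.1 π.1.2 * pP ∈ K
    have e : pP⁻¹ * permAut π.1.1 π.1.2 * pP = permHom (mP⁻¹ * π.1 * mP) := by
      rw [map_mul, map_mul, map_inv, permHom_P]
      rfl
    rw [e]
    refine perm_mem K hA hW _ (mP⁻¹ * π.1 * mP).2 ?_
    show (projInv⁻¹ * π.1.1 * projInv) none = none
    rw [Equiv.Perm.mul_apply, Equiv.Perm.mul_apply, Cfsg.Agent.Helper7.projInv_none,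
      m22Sub_zero π, Equiv.Perm.inv_eq_iff_eq, Cfsg.Agent.Helper7.projInv_none]
  · refine ⟨⟨pP * hE2 * pP⁻¹, conj_mcl hE2 hE2W hE2_U⟩, ?_, ?_⟩
    · have e : pP⁻¹ * (pP * hE2 * pP⁻¹) * pP = hE2 := by group
      show pP⁻¹ * (pP * hE2 * pP⁻¹) * pP ∈ K
      rw [e]
      exact hE
    · intro h
      have h' : (pP * hE2 * pP⁻¹) • Spor.leechU' = Spor.leechU' := h
      have e1 : pP⁻¹ • Spor.leechU' = -Spor.leechU' := by
        rw [inv_smul_eq_iff, co0_neg, pP_U', neg_neg]
      rw [mul_smul, mul_smul, e1, co0_neg, co0_neg] at h'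
      have h2 : pP • (hE2 • Spor.leechU') = pP • Spor.leechU' := by
        rw [pP_U']
        exact neg_eq_iff_eq_neg.1 h'
      exact hE2_U' (MulAction.injective pP h2)

theorem sqNorm_W0 : sqNorm ((W0 : leechLattice) : GolayPt → ℤ) = 32 := by
  rw [W0_vec]
  decide +kernel

theorem dot_W0_negU : dotInt ((W0 : leechLattice) : GolayPt → ℤ)
    ((-Spor.leechU : leechLattice) : GolayPt → ℤ) = -8 := by
  have e : ((-Spor.leechU : leechLattice) : GolayPt → ℤ) = vecL [-4, 0, 0, 0, 0, 0, 0, 0, 0, 0, 0, 0, 0, 0, 0, 0, 0, 0, 0, 0, 0, 0, 0, -4] := by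
    funext p
    show -Spor.vecU p = _
    revert p
    decide
  rw [W0_vec, e, dotInt_vecL]
  decide +kernel

/-- an element of `Co0` carrying `W0` to `U` and `-U` to `co2Pt` -/
theorem exists_conj_co2 : ∃ g : Co0, g • W0 = Spor.leechU ∧ g • (-Spor.leechU) = co2Pt := by
  obtain ⟨g₁, h1⟩ := exists_smul_eq_of_norm32 W0 Spor.leechU sqNorm_W0 sqNorm_leechU
  obtain ⟨g₂, h2, h3⟩ := Cfsg.Agent.Helper26.co2_trans8 (g₁ • (-Spor.leechU))
    (-Spor.leechV - Spor.leechU)
    (by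
      rw [co0_sqNorm]
      decide +kernel) sqNorm_mclW
    (by rw [Cfsg.Agent.Helper26.dot_map g₁ W0 _ h1]; exact dot_W0_negU) dot_U_mclW
  refine ⟨g₂ * g₁, ?_, ?_⟩
  · rw [mul_smul, h1, h2]
  · rw [mul_smul, h3]
    rfl

/-- **The stabiliser of `W0` lies in every subgroup containing the coordinate permutations
and `zE`.** -/
theorem stab_le (K : Subgroup Co0) (hA : pA ∈ K) (hW : pW ∈ K) (hZ : zE ∈ K) (k : Co0)
    (hkW : k • W0 = W0) : k ∈ K := by
  have hE : hE2 ∈ K := K.mul_mem (K.mul_mem hZ (perm_mem K hA hW _ _ hc1_none)) hZ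
  have h2 := stab2_le K hA hW hE
  obtain ⟨g, hg1, hg2⟩ := exists_conj_co2
  have hg1' : g⁻¹ • Spor.leechU = W0 := by rw [inv_smul_eq_iff, hg1]
  have hg2' : g⁻¹ • co2Pt = -Spor.leechU := by rw [inv_smul_eq_iff, hg2]
  have hmem : ∀ x : Co0, x • W0 = W0 → g * x * g⁻¹ ∈ co2Sub := by
    intro x hx
    rw [mem_co2Sub, mul_smul, mul_smul, hg1', hx, hg1]
  have key := conj_mem_of_suborbits co2Sub co2Pt co2Suborb ![7128, 15400, 22275, 275, 2025]
    orbit_co2Pt_eq co2Pt_notMem co2Suborb_disjoint co2Suborb_finite ncard_co2Suborb co2_arith_sub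
    co2_suborb_trans g K ?_ ?_ ⟨g * k * g⁻¹, hmem k hkW⟩
  · have e : g⁻¹ * (g * k * g⁻¹) * g = k := by group
    rw [← e]
    exact key
  · intro h hh
    have hh' : (h : Co0) • co2Pt = co2Pt := hh
    have hU : (h : Co0) • Spor.leechU = Spor.leechU := h.2
    apply h2
    · rw [mul_smul, mul_smul, hg1, hU, hg1']
    · have e : (g⁻¹ * (h : Co0) * g) • (-Spor.leechU) = -Spor.leechU := by
        rw [mul_smul, mul_smul, hg2, hh', hg2']
      rw [co0_neg, neg_inj] at e
      exact e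
  · refine ⟨⟨g * pA * g⁻¹, hmem pA pA_W0⟩, ?_, ?_⟩
    · have e : g⁻¹ * (g * pA * g⁻¹) * g = pA := by group
      show g⁻¹ * (g * pA * g⁻¹) * g ∈ K
      rw [e]
      exact hA
    · intro h
      have h' : (g * pA * g⁻¹) • co2Pt = co2Pt := h
      rw [mul_smul, mul_smul, hg2', ← hg2] at h'
      have h3 := MulAction.injective g h'
      rw [co0_neg, neg_inj] at h3
      exact pA_U h3

/-- **The stabiliser of `W0` is generated by `pA`, `pW` and `zE`.** -/
theorem closure_stabW0 :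
    Subgroup.closure ({pA, pW, zE} : Set Co0) = stabilizer Co0 W0 := by
  apply le_antisymm
  · rw [Subgroup.closure_le]
    rintro x (rfl | rfl | rfl)
    · exact pA_W0
    · exact pW_W0
    · exact zE_W0
  · intro k hk
    exact stab_le _ (Subgroup.subset_closure (by simp)) (Subgroup.subset_closure (by simp))
      (Subgroup.subset_closure (by simp)) k hk

/-! ### The automorphisms -/

/-- the four elements, in the stabiliser of `W0` -/
noncomputable def fA : stabilizer Co0 W0 := ⟨pA, pA_W0⟩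
noncomputable def fB : stabilizer Co0 W0 := ⟨pB, pB_W0⟩
noncomputable def fW : stabilizer Co0 W0 := ⟨pW, pW_W0⟩
noncomputable def fZ : stabilizer Co0 W0 := ⟨zE, zE_W0⟩

theorem closure_co2 : Subgroup.closure ({fA, fW, fZ} : Set (stabilizer Co0 W0)) = ⊤ := by
  apply Subgroup.map_injective (Subgroup.subtype_injective (stabilizer Co0 W0))
  rw [MonoidHom.map_closure, ← MonoidHom.range_eq_map, Subgroup.range_subtype]
  have e : (Subgroup.subtype (stabilizer Co0 W0)) '' ({fA, fW, fZ} : Set (stabilizer Co0 W0)) =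
      ({pA, pW, zE} : Set Co0) := by
    rw [Set.image_insert_eq, Set.image_pair]
    rfl
  rw [e, closure_stabW0]

theorem fZ_sq : fZ * fZ = 1 := Subtype.ext zE_sq

theorem fZ_comm_fW : fZ * fW = fW * fZ := Subtype.ext zE_comm_pW

/-- **Every automorphism of the stabiliser of `W0` is inner.** -/
theorem aut_stabW0_inner (α : MulAut ↥(stabilizer Co0 W0)) : α ∈ Inn ↥(stabilizer Co0 W0) := by
  have : Fact (Nat.Prime 23) := ⟨by norm_num⟩
  have hp2 : ¬ 23 ^ 2 ∣ Nat.card ↥(stabilizer Co0 W0) := by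
    rw [(isCo2_stabilizer W0 sqNorm_W0).2]
    norm_num
  have hfin : Finite ↥(stabilizer Co0 W0) := by
    apply Nat.finite_of_card_ne_zero
    rw [(isCo2_stabilizer W0 sqNorm_W0).2]
    norm_num
  have hA : orderOf fA = 23 := by
    rw [← Subgroup.orderOf_coe]
    exact orderOf_t23
  have hBA : fB * fA * fB⁻¹ = fA ^ 2 := Subtype.ext rel_BA
  have hWB : fW * fB * fW⁻¹ = fB ^ 3 := Subtype.ext rel_WB
  have hZB : fZ * fB * fZ⁻¹ = fB ^ 10 := by
    apply Subtype.ext
    show zE * pB * zE⁻¹ = pB ^ 10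
    rw [zE_pB]
    group
  have hcent : ∀ y : ↥(stabilizer Co0 W0), y * fA = fA * y → ∃ i : ℕ, y = fA ^ i := by
    intro y hy
    obtain ⟨i, hi⟩ := cent2_pA y.1 y.2 (congrArg Subtype.val hy)
    exact ⟨i, Subtype.ext hi⟩
  obtain ⟨β, hβ, ε, hε, hγA, hγB⟩ :=
    Cfsg.Agent.Helper7.normalize_frob hp2 hA hBA hcent [1, 22] (by decide) (by decide) α
  set γ : MulAut ↥(stabilizer Co0 W0) := β * α with hγ
  -- the centraliser of `fB`
  have hcentB : ∀ y : ↥(stabilizer Co0 W0), y * fB = fB * y → ∃ j < 11, y = fB ^ j := by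
    intro y hy
    obtain ⟨j, hj, h⟩ := cent2_pB y.1 y.2 (congrArg Subtype.val hy)
    exact ⟨j, hj, Subtype.ext h⟩
  -- the image of `fW`
  have hc := Cfsg.Agent.Helper7.tied_commute γ (S := fB) (S' := fB ^ 3) (U := fW) hγB
    (by rw [map_pow, hγB]) hWB
  obtain ⟨j, hj, hW⟩ := hcentB _ hc
  have hγW : γ fW = fW * fB ^ j := by rw [← hW]; group
  have key : ε = 1 ∧ j = 0 := by
    have hrel : (fA * (fW * (fW * 1))) ^ 5 = 1 := by
      apply Subtype.ext
      show (pA * (pW * (pW * 1))) ^ 5 = 1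
      have h1 : (mA * (mW * (mW * 1))) ^ 5 = 1 := Subtype.ext perm_rel
      have h2 := congrArg permHom h1
      rwa [map_pow, map_mul, map_mul, map_mul, map_one] at h2
    have h3 := congrArg γ hrel
    rw [map_pow, map_mul, map_mul, map_mul, map_one, hγA, hγW] at h3
    have h4 : (pA ^ ε * ((pW * pB ^ j) * ((pW * pB ^ j) * 1))) ^ 5 = 1 := congrArg Subtype.val h3
    have h5 : permHom ((mA ^ ε * ((mW * mB ^ j) * ((mW * mB ^ j) * 1))) ^ 5) = permHom 1 := by
      simp only [map_pow, map_mul, map_one, permHom_A, permHom_B, permHom_W]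
      exact h4
    have h6 := permHom_injective h5
    have h7 : (gA ^ ε * ((cubeTwist * gDbl ^ j) * ((cubeTwist * gDbl ^ j) * 1))) ^ 5 = 1 :=
      congrArg Subtype.val h6
    exact perm_fingerprint ε j hε hj h7
  obtain ⟨rfl, rfl⟩ := key
  rw [pow_one] at hγA
  rw [pow_zero, mul_one] at hγW
  -- the image of `fZ`
  have hcZ := Cfsg.Agent.Helper7.tied_commute γ (S := fB) (S' := fB ^ 10) (U := fZ) hγB
    (by rw [map_pow, hγB]) hZB
  obtain ⟨j', hj', hZ⟩ := hcentB _ hcZ
  have hγZ' : γ fZ = fZ * fB ^ j' := by rw [← hZ]; group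
  have hγZ : γ fZ = fZ := by
    have h1 : γ fZ * fW = fW * γ fZ := by
      have h := congrArg γ fZ_comm_fW
      rwa [map_mul, map_mul, hγW] at h
    rw [hγZ'] at h1
    have h2 : fB ^ j' * fW = fW * fB ^ j' := by
      have h3 : fZ * (fB ^ j' * fW) = fZ * (fW * fB ^ j') := by
        calc fZ * (fB ^ j' * fW) = fZ * fB ^ j' * fW := by rw [mul_assoc]
          _ = fW * (fZ * fB ^ j') := h1
          _ = (fW * fZ) * fB ^ j' := by rw [mul_assoc]
          _ = (fZ * fW) * fB ^ j' := by rw [fZ_comm_fW]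
          _ = fZ * (fW * fB ^ j') := by rw [mul_assoc]
      exact mul_left_cancel h3
    have h4 : fW * fB ^ j' * fW⁻¹ = (fB ^ 3) ^ j' := by
      rw [← hWB, conj_pow]
    have h5 : fB ^ j' = (fB ^ 3) ^ j' := by
      rw [← h4, ← h2]
      group
    have h6 : fB ^ (2 * j') = 1 := by
      have h7 : (fB ^ 3) ^ j' = fB ^ j' * fB ^ (2 * j') := by
        rw [← pow_mul, ← pow_add]
        congr 1
        ring
      rw [h7] at h5
      have h5' : fB ^ j' * 1 = fB ^ j' * fB ^ (2 * j') := by rw [mul_one]; exact h5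
      exact (mul_left_cancel h5').symm
    have h8 : pB ^ (2 * j') = 1 := congrArg Subtype.val h6
    have h9 := pB_pow_eq_one h8
    have h10 : j' = 0 := by omega
    rw [hγZ', h10, pow_zero, mul_one]
  have hγ1 : γ = 1 := by
    apply generated_of_fix closure_co2
    intro x hx
    simp only [Set.mem_insert_iff, Set.mem_singleton_iff] at hx
    rcases hx with rfl | rfl | rfl
    exacts [hγA, hγW, hγZ]
  exact Cfsg.Agent.Helper7.inn_of_mul hβ (by rw [← hγ, hγ1]; exact Subgroup.one_mem _)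

/-! ### Transfer to `Spor.Co2` -/

/-- `co2Sub` is the group `Spor.Co2` -/
def co2Equiv : ↥co2Sub ≃* ↥Spor.Co2 where
  toFun g := ⟨g.1.1, ⟨g.1.2, g.2⟩⟩
  invFun g := ⟨⟨g.1, g.2.1⟩, g.2.2⟩
  left_inv _ := rfl
  right_inv _ := rfl
  map_mul' _ _ := rfl

theorem card_out_co2 : Nat.card (Out ↥Spor.Co2) = 1 := by
  obtain ⟨g, hg1, -⟩ := exists_conj_co2
  have key : ∀ x : Co0, x ∈ stabilizer Co0 W0 ↔ g * x * g⁻¹ ∈ co2Sub := by
    intro x
    rw [mem_stabilizer_iff, mem_co2Sub]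
    have e1 : (g * x * g⁻¹) • Spor.leechU = g • x • W0 := by
      rw [mul_smul, mul_smul, ← hg1, inv_smul_smul]
    rw [e1]
    constructor
    · intro a
      rw [a, hg1]
    · intro a
      apply MulAction.injective g
      show g • x • W0 = g • W0
      rw [a, hg1]
  let e : ↥(stabilizer Co0 W0) ≃* ↥co2Sub := conjEquiv g _ _ key
  exact Cfsg.Agent.Helper7.card_out_eq_one
    (inner_of_equiv (e.trans co2Equiv) aut_stabW0_inner)

end Co2Out

end Cfsg.Agent.Helper92
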