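import Cfsg.Agent.Helper92.Co2Elts

/-!
# Centralisers in the stabiliser of `(3, −1^23)` of the elements of order 23 and 11
-/

set_option autoImplicit false

namespace Cfsg.Agent.Helper92.Co2Out

open Cfsg MulAction Cfsg.Agent.Helper92.Mat Cfsg.Agent.Helper92.Co3Out
open Cfsg.Agent.Helper7 (gA gDbl gA_mem gDbl_mem cubeTwist_mem isTbl_gA isTbl_gDbl
  isTbl_cubeTwist cA cDbl cC permOf codeM24 inCode powC tbl IsTbl setOf idx pt
  projInv_mem)

theorem dotW0_pt (w : GolayPt → ℤ) :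
    dotInt w (W0 : GolayPt → ℤ) = -(sumTo 24 fun j => w (pt j)) + 4 * w (pt 23) := by
  rw [← sum_golay, Cfsg.Agent.Helper7.pt_23]
  unfold dotInt
  have h : ∀ i : GolayPt, w i * (W0 : GolayPt → ℤ) i =
      -w i + 4 * (if i = none then w i else 0) := by
    intro i
    show w i * (Spor.vecV i + ((U4 : leechLattice) : GolayPt → ℤ) i) = _
    rw [U4, P_diag_apply]
    unfold Spor.vecV
    split_ifs <;> ring
  simp only [h]
  rw [Finset.sum_add_distrib, Finset.sum_neg_distrib, ← Finset.mul_sum,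
    Finset.sum_ite_eq' Finset.univ none]
  simp

theorem arith_A2 (a b : ℤ) (h1 : a ^ 2 + 23 * b ^ 2 = 64) (h2 : 3 * a - 23 * b = 24) :
    a = 8 ∧ b = 0 := by
  have hb : -1 ≤ b ∧ b ≤ 1 := by constructor <;> nlinarith [sq_nonneg a]
  obtain ⟨hb1, hb2⟩ := hb
  interval_cases b <;> omega

theorem fixed_A2 (w : leechLattice) (hw : pA • w = w) (hn : sqNorm (w : GolayPt → ℤ) = 64)
    (hd : dotInt (w : GolayPt → ℤ) (W0 : GolayPt → ℤ) = 24) : w = U4 := by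
  have hj := inv_pattern isTbl_gA gA_mem w hw patA (by decide +kernel)
  have e1 : sumTo 24 (fun j => (w : GolayPt → ℤ) (pt j) ^ 2) =
      sumTo 24 (fun j => (w : GolayPt → ℤ) (pt (patA.getD j 0)) ^ 2) :=
    sumTo_congr _ _ _ (fun j hj' => by rw [← hj j hj'])
  have e2 : sumTo 24 (fun j => (w : GolayPt → ℤ) (pt j)) =
      sumTo 24 (fun j => (w : GolayPt → ℤ) (pt (patA.getD j 0))) :=
    sumTo_congr _ _ _ (fun j hj' => by rw [← hj j hj'])
  rw [sqNorm_pt, e1] at hn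
  rw [dotW0_pt, e2] at hd
  simp only [sumTo, patA, List.getD_cons_succ, List.getD_cons_zero] at hn hd
  obtain ⟨ha, hb⟩ := arith_A2 ((w : GolayPt → ℤ) (pt 23)) ((w : GolayPt → ℤ) (pt 0))
    (by linarith) (by linarith)
  apply Subtype.ext
  rw [U4_vec]
  refine eq_vecL_of_pattern w patA _ [0, 23] hj ?_ (by decide +kernel)
  intro r hr
  simp only [List.mem_cons, List.not_mem_nil, or_false] at hr
  rcases hr with rfl | rfl
  · rw [hb]; rfl
  · rw [ha]; rfl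

theorem arith_B2_aux : ∀ a ∈ Finset.Icc (-8 : ℤ) 8, ∀ c ∈ Finset.Icc (-2 : ℤ) 2,
    ∀ d ∈ Finset.Icc (-2 : ℤ) 2,
      a ^ 2 + (3 * a - 11 * c - 11 * d - 24) ^ 2 + 11 * c ^ 2 + 11 * d ^ 2 = 64 →
        (a = 8 ∧ c = 0 ∧ d = 0) ∨ (a = 2 ∧ c = 0 ∧ d = -2) ∨ (a = -3 ∧ c = -2 ∧ d = -1) ∨
        (a = -3 ∧ c = -1 ∧ d = -2) ∨ (a = 2 ∧ c = -1 ∧ d = 0) ∨ (a = 2 ∧ c = 0 ∧ d = -1) ∨
        (a = 2 ∧ c = -2 ∧ d = 0) := by
  decide +kernel

theorem arith_B2 (a b c d : ℤ) (h1 : a ^ 2 + b ^ 2 + 11 * c ^ 2 + 11 * d ^ 2 = 64)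
    (h2 : 3 * a - b - 11 * c - 11 * d = 24) :
    (a = 8 ∧ b = 0 ∧ c = 0 ∧ d = 0) ∨ (a = 2 ∧ b = 4 ∧ c = 0 ∧ d = -2) ∨
    (a = -3 ∧ b = 0 ∧ c = -2 ∧ d = -1) ∨ (a = -3 ∧ b = 0 ∧ c = -1 ∧ d = -2) ∨
    (a = 2 ∧ b = -7 ∧ c = -1 ∧ d = 0) ∨ (a = 2 ∧ b = -7 ∧ c = 0 ∧ d = -1) ∨
    (a = 2 ∧ b = 4 ∧ c = -2 ∧ d = 0) := by
  have hb : b = 3 * a - 11 * c - 11 * d - 24 := by linarith
  subst hb
  have ha : a ∈ Finset.Icc (-8 : ℤ) 8 := by
    rw [Finset.mem_Icc]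
    constructor <;> nlinarith [sq_nonneg (3 * a - 11 * c - 11 * d - 24), sq_nonneg c, sq_nonneg d]
  have hc : c ∈ Finset.Icc (-2 : ℤ) 2 := by
    rw [Finset.mem_Icc]
    constructor <;> nlinarith [sq_nonneg (3 * a - 11 * c - 11 * d - 24), sq_nonneg a, sq_nonneg d]
  have hd : d ∈ Finset.Icc (-2 : ℤ) 2 := by
    rw [Finset.mem_Icc]
    constructor <;> nlinarith [sq_nonneg (3 * a - 11 * c - 11 * d - 24), sq_nonneg a, sq_nonneg c]
  rcases arith_B2_aux a ha c hc d hd h1 with ⟨rfl, rfl, rfl⟩ | ⟨rfl, rfl, rfl⟩ | ⟨rfl, rfl, rfl⟩ |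
    ⟨rfl, rfl, rfl⟩ | ⟨rfl, rfl, rfl⟩ | ⟨rfl, rfl, rfl⟩ | ⟨rfl, rfl, rfl⟩
  · left; norm_num
  · right; left; norm_num
  · right; right; left; norm_num
  · right; right; right; left; norm_num
  · right; right; right; right; left; norm_num
  · right; right; right; right; right; left; norm_num
  · right; right; right; right; right; right; norm_num

/-- a lattice vector of the type of `(8, 0^23)` fixed by `pB` is `(8, 0^23)` or its image
under `zE` -/
theorem fixed_B2 (w : leechLattice) (hw : pB • w = w) (hn : sqNorm (w : GolayPt → ℤ) = 64)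
    (hd : dotInt (w : GolayPt → ℤ) (W0 : GolayPt → ℤ) = 24) : w = U4 ∨ w = Z2 := by
  have hj := inv_pattern isTbl_gDbl gDbl_mem w hw patB (by decide +kernel)
  have e1 : sumTo 24 (fun j => (w : GolayPt → ℤ) (pt j) ^ 2) =
      sumTo 24 (fun j => (w : GolayPt → ℤ) (pt (patB.getD j 0)) ^ 2) :=
    sumTo_congr _ _ _ (fun j hj' => by rw [← hj j hj'])
  have e2 : sumTo 24 (fun j => (w : GolayPt → ℤ) (pt j)) =
      sumTo 24 (fun j => (w : GolayPt → ℤ) (pt (patB.getD j 0))) :=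
    sumTo_congr _ _ _ (fun j hj' => by rw [← hj j hj'])
  rw [sqNorm_pt, e1] at hn
  rw [dotW0_pt, e2] at hd
  simp only [sumTo, patB, List.getD_cons_succ, List.getD_cons_zero] at hn hd
  have key : ∀ tgt : List ℤ, (w : GolayPt → ℤ) (pt 0) = tgt.getD 0 0 →
      (w : GolayPt → ℤ) (pt 1) = tgt.getD 1 0 → (w : GolayPt → ℤ) (pt 5) = tgt.getD 5 0 →
      (w : GolayPt → ℤ) (pt 23) = tgt.getD 23 0 →
      allTo 24 (fun j => [0, 1, 5, 23].contains (patB.getD j 0) &&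
        decide (tgt.getD j 0 = tgt.getD (patB.getD j 0) 0)) = true →
      (w : GolayPt → ℤ) = vecL tgt := by
    intro tgt h0 h1 h5 h23 hchk
    refine eq_vecL_of_pattern w patB tgt [0, 1, 5, 23] hj ?_ hchk
    intro r hr
    simp only [List.mem_cons, List.not_mem_nil, or_false] at hr
    rcases hr with rfl | rfl | rfl | rfl
    exacts [h0, h1, h5, h23]
  have bad : ∀ tgt : List ℤ, (w : GolayPt → ℤ) = vecL tgt →
      (¬ (8 : ℤ) ∣ sumTo 24 (fun j => tgt.getD j 0 *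
        ([4, 0, 0, 0, 0, 0, 0, 0, 0, 0, 0, 0, 0, 0, 0, 0, 0, 0, 0, 0, 0, 0, 0, 4] : List ℤ).getD j 0) ∨
       ¬ (8 : ℤ) ∣ sumTo 24 (fun j => tgt.getD j 0 *
        ([4, 0, 0, 0, 0, -2, 0, -2, 0, 0, -2, -2, 0, 0, -2, -2, 0, -2, 0, -2, -2, -2, -2, 2] : List ℤ).getD j 0)) → False := by
    intro tgt hv h
    rcases h with h | h
    · have h8 := leech_eight_dvd_dotInt w.2 Spor.leechU.2
      rw [hv, leechU_vec, dotInt_vecL] at h8
      exact h h8
    · have h8 := leech_eight_dvd_dotInt w.2 Z2.2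
      rw [hv, Z2_vec, dotInt_vecL] at h8
      exact h h8
  rcases arith_B2 ((w : GolayPt → ℤ) (pt 23)) ((w : GolayPt → ℤ) (pt 0))
    ((w : GolayPt → ℤ) (pt 1)) ((w : GolayPt → ℤ) (pt 5)) (by linarith) (by linarith) with
    ⟨ha, hb, hc, hd'⟩ | ⟨ha, hb, hc, hd'⟩ | ⟨ha, hb, hc, hd'⟩ | ⟨ha, hb, hc, hd'⟩ |
    ⟨ha, hb, hc, hd'⟩ | ⟨ha, hb, hc, hd'⟩ | ⟨ha, hb, hc, hd'⟩
  · left
    apply Subtype.ext
    rw [U4_vec]
    exact key _ (by rw [hb]; rfl) (by rw [hc]; rfl) (by rw [hd']; rfl) (by rw [ha]; rfl)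
      (by decide +kernel)
  · right
    apply Subtype.ext
    rw [Z2_vec]
    exact key _ (by rw [hb]; rfl) (by rw [hc]; rfl) (by rw [hd']; rfl) (by rw [ha]; rfl)
      (by decide +kernel)
  · exfalso
    exact bad [0, -2, -2, -2, -2, -1, -2, -1, -2, -2, -1, -1, -2, -2, -1, -1, -2, -1, -2, -1, -1, -1, -1, -3]
      (key _ (by rw [hb]; rfl) (by rw [hc]; rfl) (by rw [hd']; rfl) (by rw [ha]; rfl)
        (by decide +kernel)) (by decide +kernel)
  · exfalso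
    exact bad [0, -1, -1, -1, -1, -2, -1, -2, -1, -1, -2, -2, -1, -1, -2, -2, -1, -2, -1, -2, -2, -2, -2, -3]
      (key _ (by rw [hb]; rfl) (by rw [hc]; rfl) (by rw [hd']; rfl) (by rw [ha]; rfl)
        (by decide +kernel)) (by decide +kernel)
  · exfalso
    exact bad [-7, -1, -1, -1, -1, 0, -1, 0, -1, -1, 0, 0, -1, -1, 0, 0, -1, 0, -1, 0, 0, 0, 0, 2]
      (key _ (by rw [hb]; rfl) (by rw [hc]; rfl) (by rw [hd']; rfl) (by rw [ha]; rfl)
        (by decide +kernel)) (by decide +kernel)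
  · exfalso
    exact bad [-7, 0, 0, 0, 0, -1, 0, -1, 0, 0, -1, -1, 0, 0, -1, -1, 0, -1, 0, -1, -1, -1, -1, 2]
      (key _ (by rw [hb]; rfl) (by rw [hc]; rfl) (by rw [hd']; rfl) (by rw [ha]; rfl)
        (by decide +kernel)) (by decide +kernel)
  · exfalso
    exact bad [4, -2, -2, -2, -2, 0, -2, 0, -2, -2, 0, 0, -2, -2, 0, 0, -2, 0, -2, 0, 0, 0, 0, 2]
      (key _ (by rw [hb]; rfl) (by rw [hc]; rfl) (by rw [hd']; rfl) (by rw [ha]; rfl)
        (by decide +kernel)) (by decide +kernel)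

/-! ### Centralisers -/

theorem dot_U4_W0 : dotInt ((U4 : leechLattice) : GolayPt → ℤ)
    ((W0 : leechLattice) : GolayPt → ℤ) = 24 := by
  rw [U4_vec, W0_vec, dotInt_vecL]
  decide +kernel

theorem fixV_of_fix {g : Co0} (hW : g • W0 = W0) (h4 : g • U4 = U4) :
    g • Spor.leechV = Spor.leechV := by
  have h : Spor.leechV = W0 - U4 := by rw [W0]; abel
  rw [h, co0_sub, hW, h4]

theorem pA_W0 : pA • W0 = W0 := by rw [W0, co0_add, pA_V, pA_U4]

theorem pB_W0 : pB • W0 = W0 := by rw [W0, co0_add, pB_V, pB_U4]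

theorem pW_W0 : pW • W0 = W0 := by rw [W0, co0_add, pW_V, pW_U4]

theorem cent2_pA (g : Co0) (hW : g • W0 = W0) (hc : g * pA = pA * g) :
    ∃ i : ℕ, g = pA ^ i := by
  have hw : pA • (g • U4) = g • U4 := by
    rw [← mul_smul, ← hc, mul_smul, pA_U4]
  have hn : sqNorm ((g • U4 : leechLattice) : GolayPt → ℤ) = 64 := by
    rw [co0_sqNorm, sqNorm_U4]
  have hd : dotInt ((g • U4 : leechLattice) : GolayPt → ℤ)
      ((W0 : leechLattice) : GolayPt → ℤ) = 24 := by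
    have h := co0_dotInt g U4 W0
    rw [hW] at h
    rw [h, dot_U4_W0]
  exact cent_pA g (fixV_of_fix hW (fixed_A2 (g • U4) hw hn hd)) hc

/-- no coordinate permutation fixing `∞` inverts the element of order 11 -/
theorem no_invert (σ : Equiv.Perm GolayPt) (hσ : σ ∈ M24) (hn : σ none = none)
    (h : σ * gDbl = gDbl ^ 10 * σ) : False := by
  have hrel := Cfsg.Agent.Helper7.rel_inv_dbl
  have h1 : gDbl * projInv⁻¹ = projInv⁻¹ * gDbl ^ 10 := by
    rw [← hrel]; group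
  have hc : (σ * projInv⁻¹) * gDbl ^ 10 = gDbl ^ 10 * (σ * projInv⁻¹) := by
    calc (σ * projInv⁻¹) * gDbl ^ 10 = σ * (projInv⁻¹ * gDbl ^ 10) := by group
      _ = σ * (gDbl * projInv⁻¹) := by rw [h1]
      _ = (σ * gDbl) * projInv⁻¹ := by group
      _ = gDbl ^ 10 * σ * projInv⁻¹ := by rw [h]
      _ = gDbl ^ 10 * (σ * projInv⁻¹) := by group
  have h100 : (gDbl ^ 10) ^ 10 = gDbl := by
    rw [← pow_mul]
    have := pow_mod_orderOf gDbl 100
    rw [Cfsg.Agent.Helper7.orderOf_gDbl] at this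
    rw [← this]
    norm_num
  have hc' : (σ * projInv⁻¹) * gDbl = gDbl * (σ * projInv⁻¹) := by
    have := (show Commute (σ * projInv⁻¹) (gDbl ^ 10) from hc).pow_right 10
    rw [h100] at this
    exact this
  obtain ⟨e, -, he⟩ := Cfsg.Agent.Helper7.cent_gDbl (mul_mem hσ (inv_mem projInv_mem)) hc'
  have h2 : σ = gDbl ^ e * projInv := by rw [← he]; group
  have h3 : ∀ n : ℕ, (gDbl ^ n) (some 0) = some 0 := by
    intro n
    induction n with
    | zero => rfl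
    | succ n ih => rw [pow_succ, Equiv.Perm.mul_apply, Cfsg.Agent.Helper7.gDbl_zero, ih]
  rw [h2, Equiv.Perm.mul_apply, Cfsg.Agent.Helper7.projInv_none, h3] at hn
  exact absurd hn (by decide)

theorem cent2_pB (g : Co0) (hW : g • W0 = W0) (hc : g * pB = pB * g) :
    ∃ j < 11, g = pB ^ j := by
  have hw : pB • (g • U4) = g • U4 := by
    rw [← mul_smul, ← hc, mul_smul, pB_U4]
  have hn : sqNorm ((g • U4 : leechLattice) : GolayPt → ℤ) = 64 := by
    rw [co0_sqNorm, sqNorm_U4]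
  have hd : dotInt ((g • U4 : leechLattice) : GolayPt → ℤ)
      ((W0 : leechLattice) : GolayPt → ℤ) = 24 := by
    have h := co0_dotInt g U4 W0
    rw [hW] at h
    rw [h, dot_U4_W0]
  rcases fixed_B2 (g • U4) hw hn hd with h4 | h4
  · exact cent_pB_aux g (fixV_of_fix hW h4) hc h4
  · exfalso
    have h4' : (zE * g) • U4 = U4 := by
      rw [mul_smul, h4, Z2, ← mul_smul, zE_sq, one_smul]
    have hW' : (zE * g) • W0 = W0 := by rw [mul_smul, hW, zE_W0]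
    obtain ⟨σ, hσ, hn', e⟩ := fix2_eq (zE * g) (fixV_of_fix hW' h4') h4'
    have hc' : (zE * g) * pB = pB ^ 10 * (zE * g) := by
      rw [mul_assoc, hc, ← mul_assoc, zE_pB, mul_assoc]
    rw [e] at hc'
    have h5 : permHom (⟨σ, hσ⟩ * mB) = permHom (mB ^ 10 * ⟨σ, hσ⟩) := by
      rw [map_mul, map_mul, map_pow, permHom_B]
      exact hc'
    have h6 := permHom_injective h5
    exact no_invert σ hσ hn' (congrArg Subtype.val h6)

end Cfsg.Agent.Helper92.Co2Out
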