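import Cfsg.Agent.Helper92.Co3Aut

/-!
# Explicit elements of `Co2` for the computation of its automorphism group

We work in the stabiliser of `W0 = (3, −1^23)`, a conjugate of `Co2` containing the coordinate
permutations fixing `∞`.  `zE` is a non-monomial involution of this group inverting `pB` and
commuting with `pW`.
-/

set_option autoImplicit false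

namespace Cfsg.Agent.Helper92.Co2Out

open Cfsg MulAction Cfsg.Agent.Helper92.Mat Cfsg.Agent.Helper92.Co3Out
open Cfsg.Agent.Helper7 (gA gDbl gA_mem gDbl_mem cubeTwist_mem isTbl_gA isTbl_gDbl
  isTbl_cubeTwist cA cDbl cC permOf codeM24 inCode powC tbl IsTbl setOf)

def zc1 : ℕ := 0x8512b8dcf633cb31a04e2494c0d5a0

theorem zc1_ok : codeM24 zc1 = true := by decide +kernel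

def zm1 : ℕ := 0xca32f8

theorem zm1_ok : inCode zm1 = true := by decide +kernel

def zc2 : ℕ := 0xbd68082ac57b10b4c5a6138833cc32

theorem zc2_ok : codeM24 zc2 = true := by decide +kernel

def zm2 : ℕ := 0xefd175

theorem zm2_ok : inCode zm2 = true := by decide +kernel

def zc3 : ℕ := 0x3d6cd1b1212228a03a068966b149f7

theorem zc3_ok : codeM24 zc3 = true := by decide +kernel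

def zm3 : ℕ := 0x3ecb77

theorem zm3_ok : inCode zm3 = true := by decide +kernel

def zm4 : ℕ := 0x4f0dd2

theorem zm4_ok : inCode zm4 = true := by decide +kernel

def zc4 : ℕ := 0x496b433a4c6bc4144473540875d817

theorem zc4_ok : codeM24 zc4 = true := by decide +kernel

/-- the involution inverting `pB` -/
noncomputable def zE : Co0 :=
  pc zc1 zc1_ok * sc zm1 zm1_ok * xi⁻¹ * pc zc2 zc2_ok * sc zm2 zm2_ok * xi⁻¹ * pc zc3 zc3_ok * sc zm3 zm3_ok * xi⁻¹ * sc zm4 zm4_ok * pc zc4 zc4_ok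

/-- partial product matrix -/
def zP2 : List (List ℤ) :=
  [[8, 0, 0, 0, 0, 0, 0, 0, 0, 0, 0, 0, 0, 0, 0, 0, 0, 0, 0, 0, 0, 0, 0, 0],
  [0, 0, 0, 0, 0, 0, 0, 0, 0, 0, 0, 0, 0, 8, 0, 0, 0, 0, 0, 0, 0, 0, 0, 0],
  [0, 0, 0, 0, 0, 0, 0, 0, 0, 0, 0, 0, 0, 0, 0, 0, 0, 0, 0, 0, 0, 8, 0, 0],
  [0, -8, 0, 0, 0, 0, 0, 0, 0, 0, 0, 0, 0, 0, 0, 0, 0, 0, 0, 0, 0, 0, 0, 0],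
  [0, 0, 0, 0, 0, 0, 0, 0, 0, 0, 0, 0, -8, 0, 0, 0, 0, 0, 0, 0, 0, 0, 0, 0],
  [0, 0, 0, 0, 0, 0, 0, 0, 0, 0, -8, 0, 0, 0, 0, 0, 0, 0, 0, 0, 0, 0, 0, 0],
  [0, 0, 0, 0, 0, 0, 0, 0, 0, 0, 0, 0, 0, 0, 0, 0, 0, 0, -8, 0, 0, 0, 0, 0],
  [0, 0, 0, 0, -8, 0, 0, 0, 0, 0, 0, 0, 0, 0, 0, 0, 0, 0, 0, 0, 0, 0, 0, 0],
  [0, 0, 0, 0, 0, 0, 0, 0, 0, 0, 0, 0, 0, 0, 8, 0, 0, 0, 0, 0, 0, 0, 0, 0],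
  [0, 0, -8, 0, 0, 0, 0, 0, 0, 0, 0, 0, 0, 0, 0, 0, 0, 0, 0, 0, 0, 0, 0, 0],
  [0, 0, 0, 0, 0, 0, 0, 0, 8, 0, 0, 0, 0, 0, 0, 0, 0, 0, 0, 0, 0, 0, 0, 0],
  [0, 0, 0, 8, 0, 0, 0, 0, 0, 0, 0, 0, 0, 0, 0, 0, 0, 0, 0, 0, 0, 0, 0, 0],
  [0, 0, 0, 0, 0, 0, 0, 0, 0, 0, 0, 0, 0, 0, 0, 0, 0, 0, 0, -8, 0, 0, 0, 0],
  [0, 0, 0, 0, 0, -8, 0, 0, 0, 0, 0, 0, 0, 0, 0, 0, 0, 0, 0, 0, 0, 0, 0, 0],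
  [0, 0, 0, 0, 0, 0, 0, 0, 0, 0, 0, 0, 0, 0, 0, 8, 0, 0, 0, 0, 0, 0, 0, 0],
  [0, 0, 0, 0, 0, 0, 8, 0, 0, 0, 0, 0, 0, 0, 0, 0, 0, 0, 0, 0, 0, 0, 0, 0],
  [0, 0, 0, 0, 0, 0, 0, 0, 0, 0, 0, 0, 0, 0, 0, 0, 0, 0, 0, 0, 0, 0, 8, 0],
  [0, 0, 0, 0, 0, 0, 0, -8, 0, 0, 0, 0, 0, 0, 0, 0, 0, 0, 0, 0, 0, 0, 0, 0],
  [0, 0, 0, 0, 0, 0, 0, 0, 0, 0, 0, 0, 0, 0, 0, 0, 0, 0, 0, 0, 0, 0, 0, 8],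
  [0, 0, 0, 0, 0, 0, 0, 0, 0, 0, 0, 0, 0, 0, 0, 0, 0, -8, 0, 0, 0, 0, 0, 0],
  [0, 0, 0, 0, 0, 0, 0, 0, 0, 0, 0, 8, 0, 0, 0, 0, 0, 0, 0, 0, 0, 0, 0, 0],
  [0, 0, 0, 0, 0, 0, 0, 0, 0, 8, 0, 0, 0, 0, 0, 0, 0, 0, 0, 0, 0, 0, 0, 0],
  [0, 0, 0, 0, 0, 0, 0, 0, 0, 0, 0, 0, 0, 0, 0, 0, 0, 0, 0, 0, -8, 0, 0, 0],
  [0, 0, 0, 0, 0, 0, 0, 0, 0, 0, 0, 0, 0, 0, 0, 0, -8, 0, 0, 0, 0, 0, 0, 0]]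

/-- partial product matrix -/
def zP3 : List (List ℤ) :=
  [[-4, 0, 0, 0, -4, 0, 0, 0, 0, 0, 0, 0, 0, 4, 0, 0, -4, 0, 0, 0, 0, 0, 0, 0],
  [4, 0, 0, 0, -4, 0, 0, 0, 0, 0, 0, 0, 0, -4, 0, 0, -4, 0, 0, 0, 0, 0, 0, 0],
  [0, 0, 0, 0, 0, 0, 0, 0, 0, -4, 0, 0, 0, 0, 0, 0, 0, 4, 4, 0, 0, 4, 0, 0],
  [0, -4, 4, 0, 0, 0, 0, 0, 0, 0, 0, 0, 0, 0, 0, 0, 0, 0, 0, 0, 0, 0, -4, -4],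
  [0, 0, 0, 0, 0, 0, -4, 0, 0, 0, 4, 0, -4, 0, -4, 0, 0, 0, 0, 0, 0, 0, 0, 0],
  [0, 0, 0, 0, 0, 0, -4, 0, 0, 0, -4, 0, 4, 0, -4, 0, 0, 0, 0, 0, 0, 0, 0, 0],
  [0, 0, 0, 0, 0, 0, 0, 0, 0, -4, 0, 0, 0, 0, 0, 0, 0, 4, -4, 0, 0, -4, 0, 0],
  [4, 0, 0, 0, 4, 0, 0, 0, 0, 0, 0, 0, 0, 4, 0, 0, -4, 0, 0, 0, 0, 0, 0, 0],
  [0, 0, 0, 0, 0, 0, -4, 0, 0, 0, 4, 0, 4, 0, 4, 0, 0, 0, 0, 0, 0, 0, 0, 0],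
  [0, 4, -4, 0, 0, 0, 0, 0, 0, 0, 0, 0, 0, 0, 0, 0, 0, 0, 0, 0, 0, 0, -4, -4],
  [0, 0, 0, -4, 0, 0, 0, 4, 4, 0, 0, 0, 0, 0, 0, 0, 0, 0, 0, 0, 4, 0, 0, 0],
  [0, 0, 0, 4, 0, 0, 0, 4, -4, 0, 0, 0, 0, 0, 0, 0, 0, 0, 0, 0, 4, 0, 0, 0],
  [0, 0, 0, 0, 0, 4, 0, 0, 0, 0, 0, -4, 0, 0, 0, -4, 0, 0, 0, -4, 0, 0, 0, 0],
  [0, 0, 0, 0, 0, -4, 0, 0, 0, 0, 0, -4, 0, 0, 0, -4, 0, 0, 0, 4, 0, 0, 0, 0],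
  [0, 0, 0, 0, 0, 4, 0, 0, 0, 0, 0, -4, 0, 0, 0, 4, 0, 0, 0, 4, 0, 0, 0, 0],
  [0, 0, 0, 0, 0, 0, 4, 0, 0, 0, 4, 0, 4, 0, -4, 0, 0, 0, 0, 0, 0, 0, 0, 0],
  [0, 4, 4, 0, 0, 0, 0, 0, 0, 0, 0, 0, 0, 0, 0, 0, 0, 0, 0, 0, 0, 0, 4, -4],
  [0, 0, 0, -4, 0, 0, 0, -4, -4, 0, 0, 0, 0, 0, 0, 0, 0, 0, 0, 0, 4, 0, 0, 0],
  [0, 4, 4, 0, 0, 0, 0, 0, 0, 0, 0, 0, 0, 0, 0, 0, 0, 0, 0, 0, 0, 0, -4, 4],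
  [0, 0, 0, 0, 0, 0, 0, 0, 0, -4, 0, 0, 0, 0, 0, 0, 0, -4, 4, 0, 0, -4, 0, 0],
  [0, 0, 0, 0, 0, 4, 0, 0, 0, 0, 0, 4, 0, 0, 0, -4, 0, 0, 0, 4, 0, 0, 0, 0],
  [0, 0, 0, 0, 0, 0, 0, 0, 0, 4, 0, 0, 0, 0, 0, 0, 0, 4, 4, 0, 0, -4, 0, 0],
  [0, 0, 0, -4, 0, 0, 0, 4, -4, 0, 0, 0, 0, 0, 0, 0, 0, 0, 0, 0, -4, 0, 0, 0],
  [4, 0, 0, 0, -4, 0, 0, 0, 0, 0, 0, 0, 0, 4, 0, 0, 4, 0, 0, 0, 0, 0, 0, 0]]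

/-- partial product matrix -/
def zP4 : List (List ℤ) :=
  [[0, 4, 4, 0, 0, 0, 0, 0, 0, 0, 0, 0, 0, 0, 0, 0, 0, 0, 0, 0, 0, 0, -4, 4],
  [4, 0, 0, 0, -4, 0, 0, 0, 0, 0, 0, 0, 0, -4, 0, 0, -4, 0, 0, 0, 0, 0, 0, 0],
  [0, 0, 0, 0, 0, 0, 0, 0, 0, -4, 0, 0, 0, 0, 0, 0, 0, -4, 4, 0, 0, -4, 0, 0],
  [4, 0, 0, 0, 4, 0, 0, 0, 0, 0, 0, 0, 0, 4, 0, 0, -4, 0, 0, 0, 0, 0, 0, 0],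
  [0, -4, 4, 0, 0, 0, 0, 0, 0, 0, 0, 0, 0, 0, 0, 0, 0, 0, 0, 0, 0, 0, -4, -4],
  [0, 0, 0, 0, 0, 0, -4, 0, 0, 0, 4, 0, -4, 0, -4, 0, 0, 0, 0, 0, 0, 0, 0, 0],
  [0, 0, 0, 0, 0, 4, 0, 0, 0, 0, 0, -4, 0, 0, 0, 4, 0, 0, 0, 4, 0, 0, 0, 0],
  [0, 0, 0, 0, 0, 0, 0, 0, 0, -4, 0, 0, 0, 0, 0, 0, 0, 4, 4, 0, 0, 4, 0, 0],
  [0, 0, 0, 0, 0, 0, 0, 0, 0, -4, 0, 0, 0, 0, 0, 0, 0, 4, -4, 0, 0, -4, 0, 0],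
  [0, 0, 0, 0, 0, -4, 0, 0, 0, 0, 0, -4, 0, 0, 0, -4, 0, 0, 0, 4, 0, 0, 0, 0],
  [0, 0, 0, -4, 0, 0, 0, -4, -4, 0, 0, 0, 0, 0, 0, 0, 0, 0, 0, 0, 4, 0, 0, 0],
  [0, 4, -4, 0, 0, 0, 0, 0, 0, 0, 0, 0, 0, 0, 0, 0, 0, 0, 0, 0, 0, 0, -4, -4],
  [0, 0, 0, 4, 0, 0, 0, 4, -4, 0, 0, 0, 0, 0, 0, 0, 0, 0, 0, 0, 4, 0, 0, 0],
  [0, 0, 0, 0, 0, 0, -4, 0, 0, 0, 4, 0, 4, 0, 4, 0, 0, 0, 0, 0, 0, 0, 0, 0],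
  [0, 0, 0, 0, 0, 4, 0, 0, 0, 0, 0, -4, 0, 0, 0, -4, 0, 0, 0, -4, 0, 0, 0, 0],
  [0, 0, 0, 0, 0, 0, 4, 0, 0, 0, 4, 0, 4, 0, -4, 0, 0, 0, 0, 0, 0, 0, 0, 0],
  [0, 0, 0, 0, 0, 0, -4, 0, 0, 0, -4, 0, 4, 0, -4, 0, 0, 0, 0, 0, 0, 0, 0, 0],
  [0, 0, 0, -4, 0, 0, 0, 4, -4, 0, 0, 0, 0, 0, 0, 0, 0, 0, 0, 0, -4, 0, 0, 0],
  [0, 0, 0, -4, 0, 0, 0, 4, 4, 0, 0, 0, 0, 0, 0, 0, 0, 0, 0, 0, 4, 0, 0, 0],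
  [0, 4, 4, 0, 0, 0, 0, 0, 0, 0, 0, 0, 0, 0, 0, 0, 0, 0, 0, 0, 0, 0, 4, -4],
  [-4, 0, 0, 0, -4, 0, 0, 0, 0, 0, 0, 0, 0, 4, 0, 0, -4, 0, 0, 0, 0, 0, 0, 0],
  [0, 0, 0, 0, 0, 4, 0, 0, 0, 0, 0, 4, 0, 0, 0, -4, 0, 0, 0, 4, 0, 0, 0, 0],
  [0, 0, 0, 0, 0, 0, 0, 0, 0, 4, 0, 0, 0, 0, 0, 0, 0, 4, 4, 0, 0, -4, 0, 0],
  [4, 0, 0, 0, -4, 0, 0, 0, 0, 0, 0, 0, 0, 4, 0, 0, 4, 0, 0, 0, 0, 0, 0, 0]]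

/-- partial product matrix -/
def zP5 : List (List ℤ) :=
  [[0, -4, -4, 0, 0, 0, 0, 0, 0, 0, 0, 0, 0, 0, 0, 0, 0, 0, 0, 0, 0, 0, 4, -4],
  [4, 0, 0, 0, -4, 0, 0, 0, 0, 0, 0, 0, 0, -4, 0, 0, -4, 0, 0, 0, 0, 0, 0, 0],
  [0, 0, 0, 0, 0, 0, 0, 0, 0, 4, 0, 0, 0, 0, 0, 0, 0, 4, -4, 0, 0, 4, 0, 0],
  [4, 0, 0, 0, 4, 0, 0, 0, 0, 0, 0, 0, 0, 4, 0, 0, -4, 0, 0, 0, 0, 0, 0, 0],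
  [0, 4, -4, 0, 0, 0, 0, 0, 0, 0, 0, 0, 0, 0, 0, 0, 0, 0, 0, 0, 0, 0, 4, 4],
  [0, 0, 0, 0, 0, 0, 4, 0, 0, 0, -4, 0, 4, 0, 4, 0, 0, 0, 0, 0, 0, 0, 0, 0],
  [0, 0, 0, 0, 0, -4, 0, 0, 0, 0, 0, 4, 0, 0, 0, -4, 0, 0, 0, -4, 0, 0, 0, 0],
  [0, 0, 0, 0, 0, 0, 0, 0, 0, -4, 0, 0, 0, 0, 0, 0, 0, 4, 4, 0, 0, 4, 0, 0],
  [0, 0, 0, 0, 0, 0, 0, 0, 0, 4, 0, 0, 0, 0, 0, 0, 0, -4, 4, 0, 0, 4, 0, 0],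
  [0, 0, 0, 0, 0, -4, 0, 0, 0, 0, 0, -4, 0, 0, 0, -4, 0, 0, 0, 4, 0, 0, 0, 0],
  [0, 0, 0, -4, 0, 0, 0, -4, -4, 0, 0, 0, 0, 0, 0, 0, 0, 0, 0, 0, 4, 0, 0, 0],
  [0, 4, -4, 0, 0, 0, 0, 0, 0, 0, 0, 0, 0, 0, 0, 0, 0, 0, 0, 0, 0, 0, -4, -4],
  [0, 0, 0, -4, 0, 0, 0, -4, 4, 0, 0, 0, 0, 0, 0, 0, 0, 0, 0, 0, -4, 0, 0, 0],
  [0, 0, 0, 0, 0, 0, -4, 0, 0, 0, 4, 0, 4, 0, 4, 0, 0, 0, 0, 0, 0, 0, 0, 0],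
  [0, 0, 0, 0, 0, -4, 0, 0, 0, 0, 0, 4, 0, 0, 0, 4, 0, 0, 0, 4, 0, 0, 0, 0],
  [0, 0, 0, 0, 0, 0, -4, 0, 0, 0, -4, 0, -4, 0, 4, 0, 0, 0, 0, 0, 0, 0, 0, 0],
  [0, 0, 0, 0, 0, 0, 4, 0, 0, 0, 4, 0, -4, 0, 4, 0, 0, 0, 0, 0, 0, 0, 0, 0],
  [0, 0, 0, 4, 0, 0, 0, -4, 4, 0, 0, 0, 0, 0, 0, 0, 0, 0, 0, 0, 4, 0, 0, 0],
  [0, 0, 0, 4, 0, 0, 0, -4, -4, 0, 0, 0, 0, 0, 0, 0, 0, 0, 0, 0, -4, 0, 0, 0],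
  [0, -4, -4, 0, 0, 0, 0, 0, 0, 0, 0, 0, 0, 0, 0, 0, 0, 0, 0, 0, 0, 0, -4, 4],
  [-4, 0, 0, 0, -4, 0, 0, 0, 0, 0, 0, 0, 0, 4, 0, 0, -4, 0, 0, 0, 0, 0, 0, 0],
  [0, 0, 0, 0, 0, -4, 0, 0, 0, 0, 0, -4, 0, 0, 0, 4, 0, 0, 0, -4, 0, 0, 0, 0],
  [0, 0, 0, 0, 0, 0, 0, 0, 0, -4, 0, 0, 0, 0, 0, 0, 0, -4, -4, 0, 0, 4, 0, 0],
  [-4, 0, 0, 0, 4, 0, 0, 0, 0, 0, 0, 0, 0, -4, 0, 0, -4, 0, 0, 0, 0, 0, 0, 0]]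

/-- partial product matrix -/
def zP6 : List (List ℤ) :=
  [[0, 2, 2, 0, 0, 0, 0, 0, 0, -2, 0, 0, 0, -4, 0, 0, -4, 2, 2, 0, 0, 2, -2, 2],
  [-4, -2, -2, 0, 4, 0, 0, 0, 0, -2, 0, 0, 0, 0, 0, 0, 0, 2, 2, 0, 0, 2, 2, -2],
  [0, 2, 2, 0, 0, 4, 0, 0, 0, 2, 0, 0, 0, 0, 0, 0, 0, 2, -2, 4, 0, 2, 2, -2],
  [2, 0, 0, -2, 2, 2, -2, 2, 2, 0, -2, 2, 2, 2, -2, 2, -2, 0, 0, -2, 2, 0, 0, 0],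
  [0, 2, -2, 0, 0, 0, 0, 0, 0, -2, 4, 0, 0, 0, -4, 0, 0, 2, -2, 0, 0, -2, 2, 2],
  [0, -2, 2, 0, 0, 0, 4, 0, 0, -2, 0, 0, 4, 0, 0, 0, 0, 2, -2, 0, 0, -2, -2, -2],
  [0, 2, 2, 0, 0, 0, 0, 0, 0, -2, 0, 4, 0, 0, 0, -4, 0, -2, 2, 0, 0, -2, 2, -2],
  [0, -2, -2, 0, 0, 0, 0, 0, 0, 2, 0, 0, 0, -4, 0, 0, -4, -2, -2, 0, 0, -2, 2, -2],
  [0, -2, 2, 0, 0, 0, 0, 0, 0, 2, 4, 0, 0, 0, -4, 0, 0, -2, 2, 0, 0, 2, -2, -2],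
  [-2, 0, 0, -2, -2, -2, -2, 2, 2, 0, -2, -2, 2, -2, -2, -2, 2, 0, 0, 2, 2, 0, 0, 0],
  [0, -2, 2, -4, 0, 0, 0, 0, -4, 2, 0, 0, 0, 0, 0, 0, 0, 2, 2, 0, 0, -2, 2, 2],
  [0, 2, -2, 0, 0, 0, 0, 4, 0, 2, 0, 0, 0, 0, 0, 0, 0, 2, 2, 0, -4, -2, -2, -2],
  [2, 0, 0, -2, 2, 2, 2, -2, 2, 0, -2, -2, -2, -2, -2, -2, 2, 0, 0, -2, -2, 0, 0, 0],
  [2, 0, 0, 2, 2, 2, -2, 2, -2, 0, 2, -2, 2, -2, 2, -2, 2, 0, 0, -2, 2, 0, 0, 0],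
  [2, 0, 0, 2, 2, -2, 2, 2, -2, 0, -2, 2, -2, -2, -2, 2, 2, 0, 0, 2, 2, 0, 0, 0],
  [0, -2, 2, 0, 0, 0, -4, 0, 0, -2, 0, 0, -4, 0, 0, 0, 0, 2, -2, 0, 0, -2, -2, -2],
  [-2, 0, 0, -2, -2, 2, 2, 2, 2, 0, 2, 2, -2, -2, 2, 2, 2, 0, 0, -2, 2, 0, 0, 0],
  [0, -2, 2, 4, 0, 0, 0, 0, 4, 2, 0, 0, 0, 0, 0, 0, 0, 2, 2, 0, 0, -2, 2, 2],
  [-2, 0, 0, 2, -2, 2, -2, -2, -2, 0, -2, 2, 2, -2, -2, 2, 2, 0, 0, -2, -2, 0, 0, 0],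
  [0, -2, -2, 0, 0, 4, 0, 0, 0, -2, 0, 0, 0, 0, 0, 0, 0, -2, 2, 4, 0, -2, -2, 2],
  [-2, 0, 0, 2, -2, 2, 2, 2, -2, 0, -2, -2, -2, 2, -2, -2, -2, 0, 0, -2, 2, 0, 0, 0],
  [0, 2, 2, 0, 0, 0, 0, 0, 0, -2, 0, -4, 0, 0, 0, 4, 0, -2, 2, 0, 0, -2, 2, -2],
  [0, -2, 2, 0, 0, 0, 0, 4, 0, -2, 0, 0, 0, 0, 0, 0, 0, -2, -2, 0, -4, 2, 2, 2],
  [4, -2, -2, 0, -4, 0, 0, 0, 0, -2, 0, 0, 0, 0, 0, 0, 0, 2, 2, 0, 0, 2, 2, -2]]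

/-- partial product matrix -/
def zP7 : List (List ℤ) :=
  [[4, -2, -2, 0, -4, 0, 0, 0, 0, -2, 0, 0, 0, 0, 0, 0, 0, 2, 2, 0, 0, 2, 2, -2],
  [0, -2, 2, 0, 0, 0, -4, 0, 0, -2, 0, 0, -4, 0, 0, 0, 0, 2, -2, 0, 0, -2, -2, -2],
  [-2, 0, 0, 2, -2, 2, -2, -2, -2, 0, -2, 2, 2, -2, -2, 2, 2, 0, 0, -2, -2, 0, 0, 0],
  [0, 2, 2, 0, 0, 4, 0, 0, 0, 2, 0, 0, 0, 0, 0, 0, 0, 2, -2, 4, 0, 2, 2, -2],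
  [0, 2, -2, 0, 0, 0, 0, 4, 0, 2, 0, 0, 0, 0, 0, 0, 0, 2, 2, 0, -4, -2, -2, -2],
  [0, -2, -2, 0, 0, 4, 0, 0, 0, -2, 0, 0, 0, 0, 0, 0, 0, -2, 2, 4, 0, -2, -2, 2],
  [0, -2, 2, 0, 0, 0, 4, 0, 0, -2, 0, 0, 4, 0, 0, 0, 0, 2, -2, 0, 0, -2, -2, -2],
  [0, -2, 2, 4, 0, 0, 0, 0, 4, 2, 0, 0, 0, 0, 0, 0, 0, 2, 2, 0, 0, -2, 2, 2],
  [0, 2, 2, 0, 0, 0, 0, 0, 0, -2, 0, 4, 0, 0, 0, -4, 0, -2, 2, 0, 0, -2, 2, -2],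
  [-2, 0, 0, -2, -2, 2, 2, 2, 2, 0, 2, 2, -2, -2, 2, 2, 2, 0, 0, -2, 2, 0, 0, 0],
  [2, 0, 0, 2, 2, -2, 2, 2, -2, 0, -2, 2, -2, -2, -2, 2, 2, 0, 0, 2, 2, 0, 0, 0],
  [0, 2, 2, 0, 0, 0, 0, 0, 0, -2, 0, 0, 0, -4, 0, 0, -4, 2, 2, 0, 0, 2, -2, 2],
  [0, -2, 2, -4, 0, 0, 0, 0, -4, 2, 0, 0, 0, 0, 0, 0, 0, 2, 2, 0, 0, -2, 2, 2],
  [-2, 0, 0, 2, -2, 2, 2, 2, -2, 0, -2, -2, -2, 2, -2, -2, -2, 0, 0, -2, 2, 0, 0, 0],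
  [0, -2, 2, 0, 0, 0, 0, 0, 0, 2, 4, 0, 0, 0, -4, 0, 0, -2, 2, 0, 0, 2, -2, -2],
  [0, 2, -2, 0, 0, 0, 0, 0, 0, -2, 4, 0, 0, 0, -4, 0, 0, 2, -2, 0, 0, -2, 2, 2],
  [-4, -2, -2, 0, 4, 0, 0, 0, 0, -2, 0, 0, 0, 0, 0, 0, 0, 2, 2, 0, 0, 2, 2, -2],
  [-2, 0, 0, -2, -2, -2, -2, 2, 2, 0, -2, -2, 2, -2, -2, -2, 2, 0, 0, 2, 2, 0, 0, 0],
  [2, 0, 0, -2, 2, 2, 2, -2, 2, 0, -2, -2, -2, -2, -2, -2, 2, 0, 0, -2, -2, 0, 0, 0],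
  [2, 0, 0, -2, 2, 2, -2, 2, 2, 0, -2, 2, 2, 2, -2, 2, -2, 0, 0, -2, 2, 0, 0, 0],
  [2, 0, 0, 2, 2, 2, -2, 2, -2, 0, 2, -2, 2, -2, 2, -2, 2, 0, 0, -2, 2, 0, 0, 0],
  [0, -2, 2, 0, 0, 0, 0, 4, 0, -2, 0, 0, 0, 0, 0, 0, 0, -2, -2, 0, -4, 2, 2, 2],
  [0, 2, 2, 0, 0, 0, 0, 0, 0, -2, 0, -4, 0, 0, 0, 4, 0, -2, 2, 0, 0, -2, 2, -2],
  [0, -2, -2, 0, 0, 0, 0, 0, 0, 2, 0, 0, 0, -4, 0, 0, -4, -2, -2, 0, 0, -2, 2, -2]]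

/-- partial product matrix -/
def zP8 : List (List ℤ) :=
  [[-4, 2, 2, 0, 4, 0, 0, 0, 0, 2, 0, 0, 0, 0, 0, 0, 0, -2, -2, 0, 0, -2, -2, 2],
  [0, 2, -2, 0, 0, 0, 4, 0, 0, 2, 0, 0, 4, 0, 0, 0, 0, -2, 2, 0, 0, 2, 2, 2],
  [2, 0, 0, -2, 2, -2, 2, 2, 2, 0, 2, -2, -2, 2, 2, -2, -2, 0, 0, 2, 2, 0, 0, 0],
  [0, 2, 2, 0, 0, 4, 0, 0, 0, 2, 0, 0, 0, 0, 0, 0, 0, 2, -2, 4, 0, 2, 2, -2],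
  [0, -2, 2, 0, 0, 0, 0, -4, 0, -2, 0, 0, 0, 0, 0, 0, 0, -2, -2, 0, 4, 2, 2, 2],
  [0, 2, 2, 0, 0, -4, 0, 0, 0, 2, 0, 0, 0, 0, 0, 0, 0, 2, -2, -4, 0, 2, 2, -2],
  [0, 2, -2, 0, 0, 0, -4, 0, 0, 2, 0, 0, -4, 0, 0, 0, 0, -2, 2, 0, 0, 2, 2, 2],
  [0, -2, 2, 4, 0, 0, 0, 0, 4, 2, 0, 0, 0, 0, 0, 0, 0, 2, 2, 0, 0, -2, 2, 2],
  [0, -2, -2, 0, 0, 0, 0, 0, 0, 2, 0, -4, 0, 0, 0, 4, 0, 2, -2, 0, 0, 2, -2, 2],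
  [2, 0, 0, 2, 2, -2, -2, -2, -2, 0, -2, -2, 2, 2, -2, -2, -2, 0, 0, 2, -2, 0, 0, 0],
  [2, 0, 0, 2, 2, -2, 2, 2, -2, 0, -2, 2, -2, -2, -2, 2, 2, 0, 0, 2, 2, 0, 0, 0],
  [0, -2, -2, 0, 0, 0, 0, 0, 0, 2, 0, 0, 0, 4, 0, 0, 4, -2, -2, 0, 0, -2, 2, -2],
  [0, -2, 2, -4, 0, 0, 0, 0, -4, 2, 0, 0, 0, 0, 0, 0, 0, 2, 2, 0, 0, -2, 2, 2],
  [-2, 0, 0, 2, -2, 2, 2, 2, -2, 0, -2, -2, -2, 2, -2, -2, -2, 0, 0, -2, 2, 0, 0, 0],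
  [0, 2, -2, 0, 0, 0, 0, 0, 0, -2, -4, 0, 0, 0, 4, 0, 0, 2, -2, 0, 0, -2, 2, 2],
  [0, -2, 2, 0, 0, 0, 0, 0, 0, 2, -4, 0, 0, 0, 4, 0, 0, -2, 2, 0, 0, 2, -2, -2],
  [-4, -2, -2, 0, 4, 0, 0, 0, 0, -2, 0, 0, 0, 0, 0, 0, 0, 2, 2, 0, 0, 2, 2, -2],
  [2, 0, 0, 2, 2, 2, 2, -2, -2, 0, 2, 2, -2, 2, 2, 2, -2, 0, 0, -2, -2, 0, 0, 0],
  [-2, 0, 0, 2, -2, -2, -2, 2, -2, 0, 2, 2, 2, 2, 2, 2, -2, 0, 0, 2, 2, 0, 0, 0],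
  [-2, 0, 0, 2, -2, -2, 2, -2, -2, 0, 2, -2, -2, -2, 2, -2, 2, 0, 0, 2, -2, 0, 0, 0],
  [-2, 0, 0, -2, -2, -2, 2, -2, 2, 0, -2, 2, -2, 2, -2, 2, -2, 0, 0, 2, -2, 0, 0, 0],
  [0, 2, -2, 0, 0, 0, 0, -4, 0, 2, 0, 0, 0, 0, 0, 0, 0, 2, 2, 0, 4, -2, -2, -2],
  [0, 2, 2, 0, 0, 0, 0, 0, 0, -2, 0, -4, 0, 0, 0, 4, 0, -2, 2, 0, 0, -2, 2, -2],
  [0, -2, -2, 0, 0, 0, 0, 0, 0, 2, 0, 0, 0, -4, 0, 0, -4, -2, -2, 0, 0, -2, 2, -2]]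

/-- partial product matrix -/
def zP9 : List (List ℤ) :=
  [[2, -2, -2, 2, -2, 0, 2, 0, 2, 2, 0, 0, 2, -2, 0, 0, -2, 0, 2, 0, 0, 0, 4, 0],
  [-2, -2, 2, 2, 2, 0, -2, 0, 2, 2, 0, 0, -2, -2, 0, 0, -2, 0, -2, 0, 0, -4, 0, 0],
  [2, -2, 2, -2, 2, 0, 2, 4, 2, -2, 0, 0, 2, 2, 0, 0, -2, 0, -2, 0, 0, 0, 0, 0],
  [2, 2, 2, -2, -2, 4, 2, 0, 2, 2, 0, 0, -2, -2, 0, 0, 2, 0, -2, 0, 0, 0, 0, 0],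
  [0, 0, 0, 0, 0, 2, 0, -2, 0, -4, 2, 2, 0, 0, -2, -2, 0, -2, 0, 2, 2, -2, 2, 2],
  [0, 4, 0, 0, 0, -2, 0, 2, 0, 0, 2, 2, 0, 0, -2, -2, 0, 2, 0, -2, -2, -2, 2, -2],
  [0, 0, 0, 0, 0, 2, -4, 2, 0, 0, -2, 2, 0, 0, -2, 2, 0, -2, 0, -2, -2, 2, 2, 2],
  [-2, 2, -2, -2, 2, 0, 2, 0, -2, 2, 0, 0, 2, -2, 0, 0, -2, -4, -2, 0, 0, 0, 0, 0],
  [0, 0, -4, 0, 0, 2, 0, 2, 0, 0, 2, -2, 0, 0, -2, 2, 0, 2, 0, 2, -2, -2, -2, 2],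
  [4, 0, 0, 0, 0, -2, 0, -2, 0, 0, -2, -2, 0, 0, -2, -2, 0, -2, 0, -2, -2, -2, -2, 2],
  [0, 0, 0, 0, 0, -2, 0, 2, 0, 0, -2, 2, 0, -4, -2, -2, 0, 2, 0, 2, 2, 2, -2, 2],
  [-2, -2, -2, -2, -2, 0, -2, 0, 2, 2, 0, 0, 2, 2, 0, -4, 2, 0, -2, 0, 0, 0, 0, 0],
  [2, -2, 2, -2, 2, 0, -2, 0, -2, 2, 4, 0, 2, -2, 0, 0, 2, 0, 2, 0, 0, 0, 0, 0],
  [0, 0, 0, 4, 0, 2, 0, 2, 0, 0, 2, -2, 0, 0, -2, -2, 0, -2, 0, -2, 2, 2, -2, -2],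
  [2, 2, -2, 2, 2, 0, -2, 0, 2, -2, 0, 0, 2, -2, 4, 0, 2, 0, -2, 0, 0, 0, 0, 0],
  [0, 0, 0, 0, 0, 2, 0, 2, 0, 0, -2, 2, 0, 0, 2, -2, 0, -2, 4, 2, -2, -2, -2, -2],
  [-2, -2, -2, -2, 2, 0, 2, 0, 2, -2, 0, 0, -2, -2, 0, 0, 2, 0, 2, -4, 0, 0, 0, 0],
  [0, 0, 0, 0, 0, 2, 0, -2, 0, 0, 2, 2, 0, 0, 2, -2, -4, 2, 0, -2, -2, 2, -2, 2],
  [0, 0, 0, 0, -4, -2, 0, 2, 0, 0, 2, 2, 0, 0, 2, 2, 0, -2, 0, -2, 2, -2, -2, 2],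
  [-2, -2, 2, 2, -2, 0, 2, 0, -2, -2, 0, 0, 2, -2, 0, 0, 2, 0, -2, 0, -4, 0, 0, 0],
  [0, 0, 0, 0, 0, -2, 0, -2, 4, 0, 2, 2, 0, 0, -2, 2, 0, -2, 0, 2, -2, 2, -2, -2],
  [0, 0, 0, 0, 0, 2, 0, -2, 0, 0, -2, 2, 4, 0, -2, 2, 0, 2, 0, -2, 2, -2, -2, -2],
  [-2, 2, 2, -2, -2, 0, -2, 0, 2, -2, 0, -4, 2, -2, 0, 0, -2, 0, 2, 0, 0, 0, 0, 0],
  [-2, 2, 2, 2, 2, 0, 2, 0, 2, 2, 0, 0, 2, 2, 0, 0, 2, 0, 2, 0, 0, 0, 0, 4]]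

/-- partial product matrix -/
def zP10 : List (List ℤ) :=
  [[2, -2, -2, 2, -2, 0, 2, 0, 2, 2, 0, 0, 2, -2, 0, 0, -2, 0, 2, 0, 0, 0, 4, 0],
  [2, 2, -2, -2, -2, 0, 2, 0, -2, -2, 0, 0, 2, 2, 0, 0, 2, 0, 2, 0, 0, 4, 0, 0],
  [2, -2, 2, -2, 2, 0, 2, 4, 2, -2, 0, 0, 2, 2, 0, 0, -2, 0, -2, 0, 0, 0, 0, 0],
  [2, 2, 2, -2, -2, 4, 2, 0, 2, 2, 0, 0, -2, -2, 0, 0, 2, 0, -2, 0, 0, 0, 0, 0],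
  [0, 0, 0, 0, 0, -2, 0, 2, 0, 4, -2, -2, 0, 0, 2, 2, 0, 2, 0, -2, -2, 2, -2, -2],
  [0, 4, 0, 0, 0, -2, 0, 2, 0, 0, 2, 2, 0, 0, -2, -2, 0, 2, 0, -2, -2, -2, 2, -2],
  [0, 0, 0, 0, 0, -2, 4, -2, 0, 0, 2, -2, 0, 0, 2, -2, 0, 2, 0, 2, 2, -2, -2, -2],
  [2, -2, 2, 2, -2, 0, -2, 0, 2, -2, 0, 0, -2, 2, 0, 0, 2, 4, 2, 0, 0, 0, 0, 0],
  [0, 0, 4, 0, 0, -2, 0, -2, 0, 0, -2, 2, 0, 0, 2, -2, 0, -2, 0, -2, 2, 2, 2, -2],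
  [4, 0, 0, 0, 0, -2, 0, -2, 0, 0, -2, -2, 0, 0, -2, -2, 0, -2, 0, -2, -2, -2, -2, 2],
  [0, 0, 0, 0, 0, 2, 0, -2, 0, 0, 2, -2, 0, 4, 2, 2, 0, -2, 0, -2, -2, -2, 2, -2],
  [2, 2, 2, 2, 2, 0, 2, 0, -2, -2, 0, 0, -2, -2, 0, 4, -2, 0, 2, 0, 0, 0, 0, 0],
  [2, -2, 2, -2, 2, 0, -2, 0, -2, 2, 4, 0, 2, -2, 0, 0, 2, 0, 2, 0, 0, 0, 0, 0],
  [0, 0, 0, 4, 0, 2, 0, 2, 0, 0, 2, -2, 0, 0, -2, -2, 0, -2, 0, -2, 2, 2, -2, -2],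
  [2, 2, -2, 2, 2, 0, -2, 0, 2, -2, 0, 0, 2, -2, 4, 0, 2, 0, -2, 0, 0, 0, 0, 0],
  [0, 0, 0, 0, 0, 2, 0, 2, 0, 0, -2, 2, 0, 0, 2, -2, 0, -2, 4, 2, -2, -2, -2, -2],
  [2, 2, 2, 2, -2, 0, -2, 0, -2, 2, 0, 0, 2, 2, 0, 0, -2, 0, -2, 4, 0, 0, 0, 0],
  [0, 0, 0, 0, 0, -2, 0, 2, 0, 0, -2, -2, 0, 0, -2, 2, 4, -2, 0, 2, 2, -2, 2, -2],
  [0, 0, 0, 0, 4, 2, 0, -2, 0, 0, -2, -2, 0, 0, -2, -2, 0, 2, 0, 2, -2, 2, 2, -2],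
  [2, 2, -2, -2, 2, 0, -2, 0, 2, 2, 0, 0, -2, 2, 0, 0, -2, 0, 2, 0, 4, 0, 0, 0],
  [0, 0, 0, 0, 0, -2, 0, -2, 4, 0, 2, 2, 0, 0, -2, 2, 0, -2, 0, 2, -2, 2, -2, -2],
  [0, 0, 0, 0, 0, 2, 0, -2, 0, 0, -2, 2, 4, 0, -2, 2, 0, 2, 0, -2, 2, -2, -2, -2],
  [2, -2, -2, 2, 2, 0, 2, 0, -2, 2, 0, 4, -2, 2, 0, 0, 2, 0, -2, 0, 0, 0, 0, 0],
  [-2, 2, 2, 2, 2, 0, 2, 0, 2, 2, 0, 0, 2, 2, 0, 0, 2, 0, 2, 0, 0, 0, 0, 4]]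

/-- partial product matrix -/
def zM : List (List ℤ) :=
  [[-2, 2, 2, 2, 2, 0, 2, 0, 2, 2, 0, 0, 2, 2, 0, 0, 2, 0, 2, 0, 0, 0, 0, 4],
  [2, -2, -2, 2, -2, 0, 2, 0, 2, 2, 0, 0, 2, -2, 0, 0, -2, 0, 2, 0, 0, 0, 4, 0],
  [2, -2, -2, 2, 2, 0, 2, 0, -2, 2, 0, 4, -2, 2, 0, 0, 2, 0, -2, 0, 0, 0, 0, 0],
  [2, 2, 2, 2, 2, 0, 2, 0, -2, -2, 0, 0, -2, -2, 0, 4, -2, 0, 2, 0, 0, 0, 0, 0],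
  [2, -2, 2, 2, -2, 0, -2, 0, 2, -2, 0, 0, -2, 2, 0, 0, 2, 4, 2, 0, 0, 0, 0, 0],
  [0, 0, 0, 0, 0, -2, 0, 2, 0, 4, -2, -2, 0, 0, 2, 2, 0, 2, 0, -2, -2, 2, -2, -2],
  [2, 2, 2, 2, -2, 0, -2, 0, -2, 2, 0, 0, 2, 2, 0, 0, -2, 0, -2, 4, 0, 0, 0, 0],
  [0, 0, 0, 0, 0, 2, 0, -2, 0, 0, 2, -2, 0, 4, 2, 2, 0, -2, 0, -2, -2, -2, 2, -2],
  [2, 2, -2, -2, 2, 0, -2, 0, 2, 2, 0, 0, -2, 2, 0, 0, -2, 0, 2, 0, 4, 0, 0, 0],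
  [2, 2, 2, -2, -2, 4, 2, 0, 2, 2, 0, 0, -2, -2, 0, 0, 2, 0, -2, 0, 0, 0, 0, 0],
  [0, 0, 0, 0, 0, -2, 0, 2, 0, 0, -2, -2, 0, 0, -2, 2, 4, -2, 0, 2, 2, -2, 2, -2],
  [0, 0, 4, 0, 0, -2, 0, -2, 0, 0, -2, 2, 0, 0, 2, -2, 0, -2, 0, -2, 2, 2, 2, -2],
  [2, 2, -2, -2, -2, 0, 2, 0, -2, -2, 0, 0, 2, 2, 0, 0, 2, 0, 2, 0, 0, 4, 0, 0],
  [2, -2, 2, -2, 2, 0, 2, 4, 2, -2, 0, 0, 2, 2, 0, 0, -2, 0, -2, 0, 0, 0, 0, 0],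
  [0, 0, 0, 0, 0, 2, 0, 2, 0, 0, -2, 2, 0, 0, 2, -2, 0, -2, 4, 2, -2, -2, -2, -2],
  [0, 0, 0, 4, 0, 2, 0, 2, 0, 0, 2, -2, 0, 0, -2, -2, 0, -2, 0, -2, 2, 2, -2, -2],
  [2, -2, 2, -2, 2, 0, -2, 0, -2, 2, 4, 0, 2, -2, 0, 0, 2, 0, 2, 0, 0, 0, 0, 0],
  [0, 0, 0, 0, 4, 2, 0, -2, 0, 0, -2, -2, 0, 0, -2, -2, 0, 2, 0, 2, -2, 2, 2, -2],
  [2, 2, -2, 2, 2, 0, -2, 0, 2, -2, 0, 0, 2, -2, 4, 0, 2, 0, -2, 0, 0, 0, 0, 0],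
  [0, 0, 0, 0, 0, -2, 4, -2, 0, 0, 2, -2, 0, 0, 2, -2, 0, 2, 0, 2, 2, -2, -2, -2],
  [0, 0, 0, 0, 0, -2, 0, -2, 4, 0, 2, 2, 0, 0, -2, 2, 0, -2, 0, 2, -2, 2, -2, -2],
  [0, 0, 0, 0, 0, 2, 0, -2, 0, 0, -2, 2, 4, 0, -2, 2, 0, 2, 0, -2, 2, -2, -2, -2],
  [0, 4, 0, 0, 0, -2, 0, 2, 0, 0, 2, 2, 0, 0, -2, -2, 0, 2, 0, -2, -2, -2, 2, -2],
  [4, 0, 0, 0, 0, -2, 0, -2, 0, 0, -2, -2, 0, 0, -2, -2, 0, -2, 0, -2, -2, -2, -2, 2]]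

theorem isMat_zE : IsMat zE zM := by
  have h1 := isMat_pc zc1 zc1_ok
  have h2 := h1.mul (isMat_sc zm1 zm1_ok) (R := zP2) (by decide +kernel)
  have h3 := h2.mul (isMat_xiInv) (R := zP3) (by decide +kernel)
  have h4 := h3.mul (isMat_pc zc2 zc2_ok) (R := zP4) (by decide +kernel)
  have h5 := h4.mul (isMat_sc zm2 zm2_ok) (R := zP5) (by decide +kernel)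
  have h6 := h5.mul (isMat_xiInv) (R := zP6) (by decide +kernel)
  have h7 := h6.mul (isMat_pc zc3 zc3_ok) (R := zP7) (by decide +kernel)
  have h8 := h7.mul (isMat_sc zm3 zm3_ok) (R := zP8) (by decide +kernel)
  have h9 := h8.mul (isMat_xiInv) (R := zP9) (by decide +kernel)
  have h10 := h9.mul (isMat_sc zm4 zm4_ok) (R := zP10) (by decide +kernel)
  have h11 := h10.mul (isMat_pc zc4 zc4_ok) (R := zM) (by decide +kernel)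
  exact h11

/-- the vector `(3, −1^23)` -/
def W0 : leechLattice := Spor.leechV + U4

theorem W0_vec : ((W0 : leechLattice) : GolayPt → ℤ) = vecL [-1, -1, -1, -1, -1, -1, -1, -1, -1, -1, -1, -1, -1, -1, -1, -1, -1, -1, -1, -1, -1, -1, -1, 3] := by
  funext p
  show Spor.vecV p + ((U4 : leechLattice) : GolayPt → ℤ) p = _
  rw [U4, P_diag_apply]
  revert p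
  decide

theorem leechU_vec : ((Spor.leechU : leechLattice) : GolayPt → ℤ) = vecL [4, 0, 0, 0, 0, 0, 0, 0, 0, 0, 0, 0, 0, 0, 0, 0, 0, 0, 0, 0, 0, 0, 0, 4] := by
  funext p
  show Spor.vecU p = _
  revert p
  decide

theorem zE_W0 : zE • W0 = W0 :=
  Subtype.ext ((isMat_zE.vec W0_vec (l' := [-1, -1, -1, -1, -1, -1, -1, -1, -1, -1, -1, -1, -1, -1, -1, -1, -1, -1, -1, -1, -1, -1, -1, 3]) (by decide +kernel)).trans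
    W0_vec.symm)

/-- the image of `(8, 0^23)` under `zE` -/
noncomputable def Z2 : leechLattice := zE • U4

theorem Z2_vec : ((Z2 : leechLattice) : GolayPt → ℤ) = vecL [4, 0, 0, 0, 0, -2, 0, -2, 0, 0, -2, -2, 0, 0, -2, -2, 0, -2, 0, -2, -2, -2, -2, 2] :=
  isMat_zE.vec U4_vec (by decide +kernel)

theorem zE_sq : zE * zE = 1 :=
  ((isMat_zE.mul' isMat_zE (by decide +kernel)).of_eqChk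
    (by decide +kernel : eqChk (mmul zM zM) idM = true)).ext isMat_one

/-- `pB ^ 10` -/
noncomputable def pBi : Co0 := permAut (gDbl ^ 10) (pow_mem gDbl_mem 10)

theorem isMat_pBi : IsMat pBi (permM (powC cDbl 10)) :=
  isMat_perm (Cfsg.Agent.Helper7.isTbl_pow isTbl_gDbl 10) _

theorem pBi_eq : pBi = pB ^ 10 := by
  have h : pBi = permHom (mB ^ 10) := rfl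
  rw [h, map_pow, permHom_B]

theorem zE_pB : zE * pB = pB ^ 10 * zE := by
  rw [← pBi_eq]
  exact ((isMat_zE.mul' isMat_pB (by decide +kernel)).of_eqChk
    (by decide +kernel : eqChk (mmul zM (permM cDbl)) (mmul (permM (powC cDbl 10)) zM) = true)).ext
    (isMat_pBi.mul' isMat_zE (by decide +kernel))

theorem zE_comm_pW : zE * pW = pW * zE :=
  ((isMat_zE.mul' isMat_pW (by decide +kernel)).of_eqChk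
    (by decide +kernel : eqChk (mmul zM (permM cC)) (mmul (permM cC) zM) = true)).ext
    (isMat_pW.mul' isMat_zE (by decide +kernel))

/-- a non-monomial element fixing `(3, −1^23)` and `(4, 4, 0^22)` -/
noncomputable def hE2 : Co0 := zE * pc hc1 hc1_ok * zE

theorem hE2_U : hE2 • Spor.leechU = Spor.leechU := by
  have e1 := isMat_zE.vec leechU_vec (l' := [1, 1, 1, 1, 1, -1, 1, -1, 1, 1, -1, -1, 1, 1, -1, -1, 1, -1, 1, -1, -1, -1, -1, 3]) (by decide +kernel)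
  have e2 := (isMat_pc hc1 hc1_ok).vec e1 (l' := [1, 1, 1, 1, 1, -1, 1, -1, 1, 1, -1, -1, 1, 1, -1, -1, 1, -1, 1, -1, -1, -1, -1, 3]) (by decide +kernel)
  have e3 := isMat_zE.vec e2 (l' := [4, 0, 0, 0, 0, 0, 0, 0, 0, 0, 0, 0, 0, 0, 0, 0, 0, 0, 0, 0, 0, 0, 0, 4]) (by decide +kernel)
  apply Subtype.ext
  rw [hE2, mul_smul, mul_smul, e3, leechU_vec]

theorem hE2_U' : hE2 • Spor.leechU' ≠ Spor.leechU' := by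
  have e1 := isMat_zE.vec leechU'_vec (l' := [3, -1, -1, -1, -1, -1, -1, -1, -1, -1, -1, -1, -1, -1, -1, -1, -1, -1, -1, -1, -1, -1, -1, -1]) (by decide +kernel)
  have e2 := (isMat_pc hc1 hc1_ok).vec e1 (l' := [-1, -1, -1, 3, -1, -1, -1, -1, -1, -1, -1, -1, -1, -1, -1, -1, -1, -1, -1, -1, -1, -1, -1, -1]) (by decide +kernel)
  have e3 := isMat_zE.vec e2 (l' := [-2, 0, 0, 0, 0, 0, 0, 0, -2, -2, 0, 0, -2, -2, 0, 2, -2, 0, 0, 0, 0, 0, 0, 2]) (by decide +kernel)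
  intro h
  have h1 : ((hE2 • Spor.leechU' : leechLattice) : GolayPt → ℤ) = vecL [-2, 0, 0, 0, 0, 0, 0, 0, -2, -2, 0, 0, -2, -2, 0, 2, -2, 0, 0, 0, 0, 0, 0, 2] := by
    rw [hE2, mul_smul, mul_smul, e3]
  rw [h, leechU'_vec] at h1
  have h2 := congrFun h1 (Cfsg.Agent.Helper7.pt 0)
  revert h2
  decide

theorem pA_U : pA • Spor.leechU ≠ Spor.leechU := by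
  intro h
  have e1 := isMat_pA.vec leechU_vec (l' := [0, 4, 0, 0, 0, 0, 0, 0, 0, 0, 0, 0, 0, 0, 0, 0, 0, 0, 0, 0, 0, 0, 0, 4]) (by decide +kernel)
  rw [h, leechU_vec] at e1
  have h2 := congrFun e1 (some 0)
  revert h2
  decide

end Cfsg.Agent.Helper92.Co2Out
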