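import Cfsg.Agent.Helper92.Co2InvDefs
import Cfsg.Agent.Helper92.McLCent
import Cfsg.Agent.Helper92.Co2Elts

/-!
# The sublattice of the vectors supported on the octad `OO`

The lattice vectors supported on `OO` form a copy of `√2 E8` containing `leechU`.  We fix eight of
them, `fV 0, …, fV 7` (six roots orthogonal to `leechU` forming a symplectic basis modulo 2, then
`leechU` and one more root), spanning a sublattice of index 3, and lattice vectors `hV k` such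
that `3 x = ∑ k, cf k x • fV k` for every supported `x`, where `cf k x = ⟨x, hV k⟩ / 8`.
-/

set_option autoImplicit false

namespace Cfsg.Agent.Helper92.Co2Inv

open Cfsg MulAction Cfsg.Agent.Helper92.Mat Cfsg.Agent.Helper92.Co3Out
  Cfsg.Agent.Helper92.McLOut
open Cfsg.Agent.Helper7 (inCode setOf idx pt)

/-! ### The vectors -/

/-- coordinates of the eight vectors `fV k` -/
def fL : Fin 8 → List ℤ
  | 0 => [0, 0, 0, 0, 0, 0, 0, 0, 0, 0, 0, 0, 0, 0, 0, 0, 0, 0, 0, 4, 0, -4, 0, 0]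
  | 1 => [0, 4, 4, 0, 0, 0, 0, 0, 0, 0, 0, 0, 0, 0, 0, 0, 0, 0, 0, 0, 0, 0, 0, 0]
  | 2 => [4, 0, 0, 0, 0, 0, 0, 0, 0, 0, 0, 0, 0, 0, 0, 0, 0, 0, 0, 0, 0, 0, 0, -4]
  | 3 => [0, 0, 0, 0, 0, 0, 0, 4, 0, 0, 0, 0, 0, 0, 0, 0, 0, 0, 0, -4, 0, 0, 0, 0]
  | 4 => [0, 0, 4, 0, 0, 0, -4, 0, 0, 0, 0, 0, 0, 0, 0, 0, 0, 0, 0, 0, 0, 0, 0, 0]
  | 5 => [2, -2, 2, 0, 0, 0, 2, 2, 0, 0, 0, 0, 0, 0, 0, 0, 0, 0, 0, 2, 0, 2, 0, -2]
  | 6 => [4, 0, 0, 0, 0, 0, 0, 0, 0, 0, 0, 0, 0, 0, 0, 0, 0, 0, 0, 0, 0, 0, 0, 4]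
  | 7 => [4, 4, 0, 0, 0, 0, 0, 0, 0, 0, 0, 0, 0, 0, 0, 0, 0, 0, 0, 0, 0, 0, 0, 0]

/-- coordinates of the eight vectors `hV k` -/
def hL : Fin 8 → List ℤ
  | 0 => [0, 0, 0, 2, 2, 4, 0, 2, 0, 0, 0, 2, 2, 2, 2, 0, 0, 0, 0, 2, 0, -4, 0, 0]
  | 1 => [0, 0, 6, 2, 2, 2, 6, -4, 4, 2, 0, 0, 2, 0, 2, 0, 0, 0, 0, -4, 0, -4, 0, 0]
  | 2 => [3, -3, 3, -3, -1, 1, 3, -5, 1, 1, -1, -1, -1, -1, 1, -1, 1, 1, 1, -5, 1, -5, 1, -3]
  | 3 => [0, 0, 0, 2, 4, 0, 0, 4, 2, 2, 0, 0, 2, 0, 2, 2, 0, 0, 0, -2, 0, -2, 0, 0]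
  | 4 => [0, 0, 0, 0, 2, 2, -6, 2, 2, 2, 2, 0, 2, 2, 2, 0, 0, 0, 0, 2, 0, 2, 0, 0]
  | 5 => [0, 0, 0, 4, 0, 0, 0, 4, 0, 0, 0, 0, 0, 0, 0, 0, 0, 0, 0, 4, 0, 4, 0, 0]
  | 6 => [3, -3, 3, -3, -1, -1, 3, -3, 1, 1, -1, -1, 1, 1, 1, 1, 1, 1, 1, -3, 1, -3, 1, 3]
  | 7 => [0, 6, -6, 2, 0, 0, -6, 6, 0, 2, 2, 2, 2, 0, 2, 0, 0, 0, 0, 6, 0, 6, 0, 0]

theorem fL_mem : ∀ k : Fin 8, vecL (fL k) ∈ leechLattice := by
  intro k
  fin_cases k <;> exact mem_of_leechB (by decide +kernel)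

theorem hL_mem : ∀ k : Fin 8, vecL (hL k) ∈ leechLattice := by
  intro k
  fin_cases k <;> exact mem_of_leechB (by decide +kernel)

/-- the eight vectors: six roots orthogonal to `leechU`, then `leechU`, then one more root -/
def fV (k : Fin 8) : leechLattice := ⟨vecL (fL k), fL_mem k⟩

/-- the vectors defining the coefficient functionals -/
def hV (k : Fin 8) : leechLattice := ⟨vecL (hL k), hL_mem k⟩

theorem fV_six : fV 6 = Spor.leechU := Subtype.ext (Co2Out.leechU_vec).symm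

/-! ### The coefficient functionals -/

theorem dotInt_add_left (x y z : GolayPt → ℤ) : dotInt (x + y) z = dotInt x z + dotInt y z := by
  unfold dotInt
  rw [← Finset.sum_add_distrib]
  apply Finset.sum_congr rfl
  intro i _
  rw [Pi.add_apply, add_mul]

/-- the `k`-th coefficient functional -/
def cf (k : Fin 8) (x : leechLattice) : ℤ := dotInt (x : GolayPt → ℤ) (vecL (hL k)) / 8

theorem cf_spec (k : Fin 8) (x : leechLattice) :
    8 * cf k x = dotInt (x : GolayPt → ℤ) (vecL (hL k)) :=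
  Int.mul_ediv_cancel' (leech_eight_dvd_dotInt x.2 (hL_mem k))

/-- the coefficient functionals are additive -/
def cfHom (k : Fin 8) : leechLattice →+ ℤ where
  toFun := cf k
  map_zero' := by
    have h := cf_spec k 0
    have h0 : dotInt ((0 : leechLattice) : GolayPt → ℤ) (vecL (hL k)) = 0 := by
      unfold dotInt
      apply Finset.sum_eq_zero
      intro i _
      show (0 : ℤ) * _ = 0
      rw [zero_mul]
    omega
  map_add' x y := by
    have h1 := cf_spec k x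
    have h2 := cf_spec k y
    have h3 := cf_spec k (x + y)
    have h4 : ((x + y : leechLattice) : GolayPt → ℤ) = (x : GolayPt → ℤ) + (y : GolayPt → ℤ) := rfl
    rw [h4, dotInt_add_left] at h3
    omega

theorem cfHom_apply (k : Fin 8) (x : leechLattice) : cfHom k x = cf k x := rfl

/-- lattice vectors supported on the octad -/
def Supp (x : leechLattice) : Prop := ∀ p : GolayPt, p ∉ OO → (x : GolayPt → ℤ) p = 0

theorem Supp.pt {x : leechLattice} (hx : Supp x) (j : ℕ) (hj : j < 24)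
    (hb : oM.testBit j = false) : (x : GolayPt → ℤ) (pt j) = 0 := by
  apply hx
  intro h
  rw [OO, Cfsg.Agent.Helper7.mem_setOf, Cfsg.Agent.Helper7.idx_pt hj, hb] at h
  exact absurd h (by simp)

/-- the coefficient functionals in coordinates -/
theorem cf_eqs (x : leechLattice) (hx : Supp x) :
    (8 * cf 0 x = 2 * (x : GolayPt → ℤ) (pt 7) + 2 * (x : GolayPt → ℤ) (pt 19) + -4 * (x : GolayPt → ℤ) (pt 21)) ∧
    (8 * cf 1 x = 6 * (x : GolayPt → ℤ) (pt 2) + 6 * (x : GolayPt → ℤ) (pt 6) + -4 * (x : GolayPt → ℤ) (pt 7) + -4 * (x : GolayPt → ℤ) (pt 19) + -4 * (x : GolayPt → ℤ) (pt 21)) ∧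
    (8 * cf 2 x = 3 * (x : GolayPt → ℤ) (pt 0) + -3 * (x : GolayPt → ℤ) (pt 1) + 3 * (x : GolayPt → ℤ) (pt 2) + 3 * (x : GolayPt → ℤ) (pt 6) + -5 * (x : GolayPt → ℤ) (pt 7) + -5 * (x : GolayPt → ℤ) (pt 19) + -5 * (x : GolayPt → ℤ) (pt 21) + -3 * (x : GolayPt → ℤ) (pt 23)) ∧
    (8 * cf 3 x = 4 * (x : GolayPt → ℤ) (pt 7) + -2 * (x : GolayPt → ℤ) (pt 19) + -2 * (x : GolayPt → ℤ) (pt 21)) ∧
    (8 * cf 4 x = -6 * (x : GolayPt → ℤ) (pt 6) + 2 * (x : GolayPt → ℤ) (pt 7) + 2 * (x : GolayPt → ℤ) (pt 19) + 2 * (x : GolayPt → ℤ) (pt 21)) ∧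
    (8 * cf 5 x = 4 * (x : GolayPt → ℤ) (pt 7) + 4 * (x : GolayPt → ℤ) (pt 19) + 4 * (x : GolayPt → ℤ) (pt 21)) ∧
    (8 * cf 6 x = 3 * (x : GolayPt → ℤ) (pt 0) + -3 * (x : GolayPt → ℤ) (pt 1) + 3 * (x : GolayPt → ℤ) (pt 2) + 3 * (x : GolayPt → ℤ) (pt 6) + -3 * (x : GolayPt → ℤ) (pt 7) + -3 * (x : GolayPt → ℤ) (pt 19) + -3 * (x : GolayPt → ℤ) (pt 21) + 3 * (x : GolayPt → ℤ) (pt 23)) ∧
    (8 * cf 7 x = 6 * (x : GolayPt → ℤ) (pt 1) + -6 * (x : GolayPt → ℤ) (pt 2) + -6 * (x : GolayPt → ℤ) (pt 6) + 6 * (x : GolayPt → ℤ) (pt 7) + 6 * (x : GolayPt → ℤ) (pt 19) + 6 * (x : GolayPt → ℤ) (pt 21)) := by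
  have z3 := hx.pt 3 (by norm_num) (by decide)
  have z4 := hx.pt 4 (by norm_num) (by decide)
  have z5 := hx.pt 5 (by norm_num) (by decide)
  have z8 := hx.pt 8 (by norm_num) (by decide)
  have z9 := hx.pt 9 (by norm_num) (by decide)
  have z10 := hx.pt 10 (by norm_num) (by decide)
  have z11 := hx.pt 11 (by norm_num) (by decide)
  have z12 := hx.pt 12 (by norm_num) (by decide)
  have z13 := hx.pt 13 (by norm_num) (by decide)
  have z14 := hx.pt 14 (by norm_num) (by decide)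
  have z15 := hx.pt 15 (by norm_num) (by decide)
  have z16 := hx.pt 16 (by norm_num) (by decide)
  have z17 := hx.pt 17 (by norm_num) (by decide)
  have z18 := hx.pt 18 (by norm_num) (by decide)
  have z20 := hx.pt 20 (by norm_num) (by decide)
  have z22 := hx.pt 22 (by norm_num) (by decide)
  have e0 := cf_spec 0 x
  have e1 := cf_spec 1 x
  have e2 := cf_spec 2 x
  have e3 := cf_spec 3 x
  have e4 := cf_spec 4 x
  have e5 := cf_spec 5 x
  have e6 := cf_spec 6 x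
  have e7 := cf_spec 7 x
  rw [dot_vecL_right] at e0 e1 e2 e3 e4 e5 e6 e7
  simp only [sumTo, hL, List.getD_cons_succ, List.getD_cons_zero, z3, z4, z5, z8, z9, z10, z11, z12, z13, z14, z15, z16, z17, z18, z20, z22] at e0 e1 e2 e3 e4 e5 e6 e7
  refine ⟨?_, ?_, ?_, ?_, ?_, ?_, ?_, ?_⟩ <;> linarith

/-! ### Completeness -/

theorem supp_fV : ∀ k : Fin 8, Supp (fV k) := by
  intro k
  fin_cases k <;> (intro p; revert p; decide +kernel)

theorem coe_sum8 (c : Fin 8 → ℤ) (j : ℕ) (hj : j < 24) :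
    ((∑ k : Fin 8, c k • fV k : leechLattice) : GolayPt → ℤ) (pt j) =
      ∑ k : Fin 8, c k * (fL k).getD j 0 := by
  have h : ((∑ k : Fin 8, c k • fV k : leechLattice) : GolayPt → ℤ) =
      ∑ k : Fin 8, c k • (fV k : GolayPt → ℤ) :=
    map_sum (leechLattice.subtype) (fun k => c k • fV k) Finset.univ
  rw [h, Finset.sum_apply]
  apply Finset.sum_congr rfl
  intro k _
  rw [Pi.smul_apply, smul_eq_mul]
  show c k * vecL (fL k) (pt j) = _
  rw [vecL_pt _ hj]

set_option maxHeartbeats 4000000 in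
/-- **Completeness**: three times a supported vector is the combination of the `fV k` with
coefficients `cf k`. -/
theorem complete (x : leechLattice) (hx : Supp x) :
    (3 : ℤ) • x = ∑ k : Fin 8, cf k x • fV k := by
  obtain ⟨e0, e1, e2, e3, e4, e5, e6, e7⟩ := cf_eqs x hx
  apply Subtype.ext
  funext p
  rw [← Cfsg.Agent.Helper7.pt_idx p]
  have hlt := Cfsg.Agent.Helper7.idx_lt p
  generalize idx p = j at hlt
  rw [coe_sum8 _ j hlt, Fin.sum_univ_eight]
  have hl : (((3 : ℤ) • x : leechLattice) : GolayPt → ℤ) (pt j) = 3 * (x : GolayPt → ℤ) (pt j) := by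
    show ((3 : ℤ) • (x : GolayPt → ℤ)) (pt j) = _
    rw [Pi.smul_apply, smul_eq_mul]
  rw [hl]
  have z3 := hx.pt 3 (by norm_num) (by decide)
  have z4 := hx.pt 4 (by norm_num) (by decide)
  have z5 := hx.pt 5 (by norm_num) (by decide)
  have z8 := hx.pt 8 (by norm_num) (by decide)
  have z9 := hx.pt 9 (by norm_num) (by decide)
  have z10 := hx.pt 10 (by norm_num) (by decide)
  have z11 := hx.pt 11 (by norm_num) (by decide)
  have z12 := hx.pt 12 (by norm_num) (by decide)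
  have z13 := hx.pt 13 (by norm_num) (by decide)
  have z14 := hx.pt 14 (by norm_num) (by decide)
  have z15 := hx.pt 15 (by norm_num) (by decide)
  have z16 := hx.pt 16 (by norm_num) (by decide)
  have z17 := hx.pt 17 (by norm_num) (by decide)
  have z18 := hx.pt 18 (by norm_num) (by decide)
  have z20 := hx.pt 20 (by norm_num) (by decide)
  have z22 := hx.pt 22 (by norm_num) (by decide)
  interval_cases j <;> simp only [fL, List.getD_cons_succ, List.getD_cons_zero] <;> omega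

/-- the inner product of explicit vectors -/
def dotL (l l' : List ℤ) : ℤ := sumTo 24 fun j => l.getD j 0 * l'.getD j 0

theorem dotInt_vecL (l l' : List ℤ) : dotInt (vecL l) (vecL l') = dotL l l' := by
  rw [dot_vecL_right]
  apply sumTo_congr
  intro j hj
  rw [vecL_pt _ hj]

theorem cf_fV : ∀ k j : Fin 8, cf k (fV j) = if k = j then 3 else 0 := by
  have h : ∀ k j : Fin 8, dotL (fL j) (hL k) / 8 = if k = j then 3 else 0 := by decide +kernel
  intro k j
  rw [← h k j]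
  show dotInt (vecL (fL j)) (vecL (hL k)) / 8 = _
  rw [dotInt_vecL]

/-! ### The centraliser -/

theorem mem_ocM : ∀ p : GolayPt, p ∈ setOf ocM ↔ p ∉ OO := by decide +kernel

theorem supp_iff (x : leechLattice) : Supp x ↔ t0 • x = x := by
  constructor
  · intro h
    apply Subtype.ext
    funext p
    show signFun (setOf ocM) x.1 p = x.1 p
    rw [signFun_apply]
    split_ifs with hp
    · rw [h p ((mem_ocM p).1 hp)]; rfl
    · rfl
  · intro h p hp
    have h1 := congrArg (fun v : leechLattice => (v : GolayPt → ℤ) p) h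
    have h2 : signFun (setOf ocM) x.1 p = x.1 p := h1
    rw [signFun_apply, if_pos ((mem_ocM p).2 hp)] at h2
    omega

/-- the centraliser of `t0` in the stabiliser of `leechU` -/
def CC : Subgroup Co0 := stabilizer Co0 Spor.leechU ⊓ Subgroup.centralizer {t0}

theorem mem_CC {g : Co0} : g ∈ CC ↔ g • Spor.leechU = Spor.leechU ∧ g * t0 = t0 * g := by
  rw [CC, Subgroup.mem_inf, mem_stabilizer_iff, Subgroup.mem_centralizer_iff]
  constructor
  · rintro ⟨h1, h2⟩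
    exact ⟨h1, (h2 t0 rfl).symm⟩
  · rintro ⟨h1, h2⟩
    refine ⟨h1, fun h hh => ?_⟩
    rw [Set.mem_singleton_iff.1 hh]
    exact h2.symm

theorem supp_smul {g : Co0} (hg : g ∈ CC) {x : leechLattice} (hx : Supp x) : Supp (g • x) := by
  rw [supp_iff] at hx ⊢
  rw [← mul_smul, ← (mem_CC.1 hg).2, mul_smul, hx]

theorem dotU_smul {g : Co0} (hg : g ∈ CC) (x : leechLattice) :
    dotInt ((g • x : leechLattice) : GolayPt → ℤ) (Spor.leechU : GolayPt → ℤ) =
      dotInt (x : GolayPt → ℤ) (Spor.leechU : GolayPt → ℤ) := by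
  have h := co0_dotInt g x Spor.leechU
  rw [(mem_CC.1 hg).1] at h
  exact h

/-- the expansion of the coefficients of an image -/
theorem cf_smul_expand (g : Co0) (x : leechLattice) (hx : Supp x) (i : Fin 8) :
    3 * cf i (g • x) = ∑ k : Fin 8, cf k x * cf i (g • fV k) := by
  have h := congrArg (fun v => cfHom i (g • v)) (complete x hx)
  simp only [co0_zsmul, map_zsmul, co0_sum, map_sum, smul_eq_mul, cfHom_apply] at h
  exact h

/-- for a supported vector orthogonal to `leechU` the last coefficient is even -/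
theorem cf7_even (x : leechLattice) (hx : Supp x)
    (hU : dotInt (x : GolayPt → ℤ) (Spor.leechU : GolayPt → ℤ) = 0) : cf 7 x = -2 * cf 6 x := by
  obtain ⟨e0, e1, e2, e3, e4, e5, e6, e7⟩ := cf_eqs x hx
  have z3 := hx.pt 3 (by norm_num) (by decide)
  have z4 := hx.pt 4 (by norm_num) (by decide)
  have z5 := hx.pt 5 (by norm_num) (by decide)
  have z8 := hx.pt 8 (by norm_num) (by decide)
  have z9 := hx.pt 9 (by norm_num) (by decide)
  have z10 := hx.pt 10 (by norm_num) (by decide)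
  have z11 := hx.pt 11 (by norm_num) (by decide)
  have z12 := hx.pt 12 (by norm_num) (by decide)
  have z13 := hx.pt 13 (by norm_num) (by decide)
  have z14 := hx.pt 14 (by norm_num) (by decide)
  have z15 := hx.pt 15 (by norm_num) (by decide)
  have z16 := hx.pt 16 (by norm_num) (by decide)
  have z17 := hx.pt 17 (by norm_num) (by decide)
  have z18 := hx.pt 18 (by norm_num) (by decide)
  have z20 := hx.pt 20 (by norm_num) (by decide)
  have z22 := hx.pt 22 (by norm_num) (by decide)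
  rw [Co2Out.leechU_vec, dot_vecL_right] at hU
  simp only [sumTo, List.getD_cons_succ, List.getD_cons_zero] at hU
  omega


/-! ### The matrix of an automorphism -/

/-- the index of the symplectic basis among the eight vectors -/
def ix : Fin 3 ⊕ Fin 3 → Fin 8
  | Sum.inl 0 => 0
  | Sum.inl 1 => 1
  | Sum.inl 2 => 2
  | Sum.inr 0 => 3
  | Sum.inr 1 => 4
  | Sum.inr 2 => 5

theorem dot_fV_U : ∀ j : Fin 3 ⊕ Fin 3,
    dotInt (fV (ix j) : GolayPt → ℤ) (Spor.leechU : GolayPt → ℤ) = 0 := by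
  have h : ∀ j : Fin 3 ⊕ Fin 3, dotL (fL (ix j)) (fL 6) = 0 := by decide +kernel
  intro j
  rw [← h j, ← dotInt_vecL, ← fV_six]
  rfl

theorem ix_ne_six : ∀ i : Fin 3 ⊕ Fin 3, ix i ≠ 6 := by decide

/-- the coordinate vector modulo 2 of a lattice vector -/
def cvec (x : leechLattice) : Fin 3 ⊕ Fin 3 → ZMod 2 := fun i => ((cf (ix i) x : ℤ) : ZMod 2)

/-- the matrix of an automorphism on the symplectic space -/
def mat (g : Co0) : Matrix (Fin 3 ⊕ Fin 3) (Fin 3 ⊕ Fin 3) (ZMod 2) :=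
  fun i j => cvec (g • fV (ix j)) i

theorem three_zmod : ((3 : ℤ) : ZMod 2) = 1 := by decide

theorem two_zmod : ((2 : ℤ) : ZMod 2) = 0 := by decide

/-- **The coordinate vector of an image**, for supported vectors orthogonal to `leechU`. -/
theorem cvec_smul {g : Co0} (hg : g ∈ CC) (x : leechLattice) (hx : Supp x)
    (hU : dotInt (x : GolayPt → ℤ) (Spor.leechU : GolayPt → ℤ) = 0) :
    cvec (g • x) = (mat g).mulVec (cvec x) := by
  funext i
  have e := cf_smul_expand g x hx (ix i)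
  rw [Fin.sum_univ_eight, cf7_even x hx hU] at e
  have e6 : cf (ix i) (g • fV 6) = 0 := by
    rw [fV_six, (mem_CC.1 hg).1, ← fV_six, cf_fV, if_neg (ix_ne_six i)]
  rw [e6] at e
  have e' := congrArg (Int.cast : ℤ → ZMod 2) e
  simp only [Int.cast_mul, Int.cast_add, Int.cast_neg, three_zmod, two_zmod, Int.cast_zero,
    mul_zero, neg_zero, zero_mul, add_zero, one_mul] at e'
  rw [Matrix.mulVec, dotProduct, Fintype.sum_sum_type, Fin.sum_univ_three, Fin.sum_univ_three]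
  show ((cf (ix i) (g • x) : ℤ) : ZMod 2) = _
  rw [e']
  simp only [mat, cvec, ix]
  ring

theorem mat_one : mat 1 = 1 := by
  ext i j
  show ((cf (ix i) ((1 : Co0) • fV (ix j)) : ℤ) : ZMod 2) = _
  rw [one_smul, cf_fV, Matrix.one_apply]
  have hinj : ∀ i j : Fin 3 ⊕ Fin 3, ix i = ix j ↔ i = j := by decide
  by_cases h : i = j
  · rw [if_pos ((hinj i j).2 h), if_pos h]
    exact three_zmod
  · rw [if_neg (fun h' => h ((hinj i j).1 h')), if_neg h]
    rfl

theorem mat_mul {g h : Co0} (hg : g ∈ CC) (hh : h ∈ CC) : mat (g * h) = mat g * mat h := by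
  ext i j
  have h1 := cvec_smul hg (h • fV (ix j)) (supp_smul hh (supp_fV _))
    (by rw [dotU_smul hh]; exact dot_fV_U j)
  have h2 := congrFun h1 i
  rw [← mul_smul] at h2
  rw [Matrix.mul_apply]
  exact h2

/-! ### The symplectic form -/

/-- the standard symplectic form on coordinate vectors -/
def bf (v v' : Fin 3 ⊕ Fin 3 → ZMod 2) : ZMod 2 :=
  v (Sum.inl 0) * v' (Sum.inr 0) + v (Sum.inr 0) * v' (Sum.inl 0) +
  (v (Sum.inl 1) * v' (Sum.inr 1) + v (Sum.inr 1) * v' (Sum.inl 1)) +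
  (v (Sum.inl 2) * v' (Sum.inr 2) + v (Sum.inr 2) * v' (Sum.inl 2))

/-- the inner product with a fixed vector, as an additive map -/
def dotHom (y : leechLattice) : leechLattice →+ ℤ where
  toFun x := dotInt (x : GolayPt → ℤ) (y : GolayPt → ℤ)
  map_zero' := by
    show dotInt ((0 : leechLattice) : GolayPt → ℤ) (y : GolayPt → ℤ) = 0
    unfold dotInt
    apply Finset.sum_eq_zero
    intro i _
    show (0 : ℤ) * _ = 0
    rw [zero_mul]
  map_add' a b := dotInt_add_left _ _ _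

theorem dotHom_apply (y x : leechLattice) :
    dotHom y x = dotInt (x : GolayPt → ℤ) (y : GolayPt → ℤ) := rfl


set_option maxHeartbeats 4000000 in
/-- inner products with the eight vectors, in terms of the coefficients -/
theorem dot_fV_eqs (y : leechLattice) (hy : Supp y)
    (hU : dotInt (y : GolayPt → ℤ) (Spor.leechU : GolayPt → ℤ) = 0) :
    (∃ q : ℤ, dotInt (fV 0 : GolayPt → ℤ) (y : GolayPt → ℤ) = 16 * cf 3 y + 32 * q) ∧
    (∃ q : ℤ, dotInt (fV 1 : GolayPt → ℤ) (y : GolayPt → ℤ) = 16 * cf 4 y + 32 * q) ∧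
    (∃ q : ℤ, dotInt (fV 2 : GolayPt → ℤ) (y : GolayPt → ℤ) = 16 * cf 5 y + 32 * q) ∧
    (∃ q : ℤ, dotInt (fV 3 : GolayPt → ℤ) (y : GolayPt → ℤ) = 16 * cf 0 y + 32 * q) ∧
    (∃ q : ℤ, dotInt (fV 4 : GolayPt → ℤ) (y : GolayPt → ℤ) = 16 * cf 1 y + 32 * q) ∧
    (∃ q : ℤ, dotInt (fV 5 : GolayPt → ℤ) (y : GolayPt → ℤ) = 16 * cf 2 y + 32 * q) ∧
    dotInt (fV 6 : GolayPt → ℤ) (y : GolayPt → ℤ) = 0 ∧
    (∃ q : ℤ, dotInt (fV 7 : GolayPt → ℤ) (y : GolayPt → ℤ) = 16 * q) := by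
  obtain ⟨e0, e1, e2, e3, e4, e5, e6, e7⟩ := cf_eqs y hy
  have z3 := hy.pt 3 (by norm_num) (by decide)
  have z4 := hy.pt 4 (by norm_num) (by decide)
  have z5 := hy.pt 5 (by norm_num) (by decide)
  have z8 := hy.pt 8 (by norm_num) (by decide)
  have z9 := hy.pt 9 (by norm_num) (by decide)
  have z10 := hy.pt 10 (by norm_num) (by decide)
  have z11 := hy.pt 11 (by norm_num) (by decide)
  have z12 := hy.pt 12 (by norm_num) (by decide)
  have z13 := hy.pt 13 (by norm_num) (by decide)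
  have z14 := hy.pt 14 (by norm_num) (by decide)
  have z15 := hy.pt 15 (by norm_num) (by decide)
  have z16 := hy.pt 16 (by norm_num) (by decide)
  have z17 := hy.pt 17 (by norm_num) (by decide)
  have z18 := hy.pt 18 (by norm_num) (by decide)
  have z20 := hy.pt 20 (by norm_num) (by decide)
  have z22 := hy.pt 22 (by norm_num) (by decide)
  rw [Co2Out.leechU_vec, dot_vecL_right] at hU
  simp only [sumTo, List.getD_cons_succ, List.getD_cons_zero] at hU
  have d : ∀ k : Fin 8, dotInt (fV k : GolayPt → ℤ) (y : GolayPt → ℤ) =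
      sumTo 24 (fun j => (y : GolayPt → ℤ) (pt j) * (fL k).getD j 0) := by
    intro k
    rw [dotInt_comm]
    exact dot_vecL_right _ _
  have d0 := d 0
  have d1 := d 1
  have d2 := d 2
  have d3 := d 3
  have d4 := d 4
  have d5 := d 5
  have d6 := d 6
  have d7 := d 7
  simp only [sumTo, fL, List.getD_cons_succ, List.getD_cons_zero, z3, z4, z5, z8, z9, z10, z11, z12, z13, z14, z15, z16, z17, z18, z20, z22] at d0 d1 d2 d3 d4 d5 d6 d7
  refine ⟨⟨(dotInt (fV 0 : GolayPt → ℤ) (y : GolayPt → ℤ) - 16 * cf 3 y) / 32, ?_⟩,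
    ⟨(dotInt (fV 1 : GolayPt → ℤ) (y : GolayPt → ℤ) - 16 * cf 4 y) / 32, ?_⟩,
    ⟨(dotInt (fV 2 : GolayPt → ℤ) (y : GolayPt → ℤ) - 16 * cf 5 y) / 32, ?_⟩,
    ⟨(dotInt (fV 3 : GolayPt → ℤ) (y : GolayPt → ℤ) - 16 * cf 0 y) / 32, ?_⟩,
    ⟨(dotInt (fV 4 : GolayPt → ℤ) (y : GolayPt → ℤ) - 16 * cf 1 y) / 32, ?_⟩,
    ⟨(dotInt (fV 5 : GolayPt → ℤ) (y : GolayPt → ℤ) - 16 * cf 2 y) / 32, ?_⟩, ?_,
    ⟨dotInt (fV 7 : GolayPt → ℤ) (y : GolayPt → ℤ) / 16, ?_⟩⟩ <;> omega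

/-- **The form in coordinates**: for supported vectors orthogonal to `leechU`, the inner product
divided by 16 is, modulo 2, the standard symplectic form of the coordinate vectors. -/
theorem form_cvec (x y : leechLattice) (hx : Supp x) (hy : Supp y)
    (hxU : dotInt (x : GolayPt → ℤ) (Spor.leechU : GolayPt → ℤ) = 0)
    (hyU : dotInt (y : GolayPt → ℤ) (Spor.leechU : GolayPt → ℤ) = 0) :
    ((dotInt (x : GolayPt → ℤ) (y : GolayPt → ℤ) / 16 : ℤ) : ZMod 2) = bf (cvec x) (cvec y) := by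
  obtain ⟨⟨q0, h0⟩, ⟨q1, h1⟩, ⟨q2, h2⟩, ⟨q3, h3⟩, ⟨q4, h4⟩, ⟨q5, h5⟩, h6, ⟨q7, h7⟩⟩ :=
    dot_fV_eqs y hy hyU
  have e := congrArg (dotHom y) (complete x hx)
  simp only [map_zsmul, map_sum, smul_eq_mul, dotHom_apply] at e
  rw [Fin.sum_univ_eight, h0, h1, h2, h3, h4, h5, h6, h7, cf7_even x hx hxU] at e
  have e2 : 3 * dotInt (x : GolayPt → ℤ) (y : GolayPt → ℤ) =
      16 * (cf 0 x * cf 3 y + cf 3 x * cf 0 y + (cf 1 x * cf 4 y + cf 4 x * cf 1 y) +
        (cf 2 x * cf 5 y + cf 5 x * cf 2 y)) +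
      32 * (cf 0 x * q0 + cf 1 x * q1 + cf 2 x * q2 + cf 3 x * q3 + cf 4 x * q4 + cf 5 x * q5 -
        cf 6 x * q7) := by
    rw [e]; ring
  have key : dotInt (x : GolayPt → ℤ) (y : GolayPt → ℤ) / 16 ≡
      (cf 0 x * cf 3 y + cf 3 x * cf 0 y + (cf 1 x * cf 4 y + cf 4 x * cf 1 y) +
        (cf 2 x * cf 5 y + cf 5 x * cf 2 y)) [ZMOD 2] := by
    generalize (cf 0 x * cf 3 y + cf 3 x * cf 0 y + (cf 1 x * cf 4 y + cf 4 x * cf 1 y) +
        (cf 2 x * cf 5 y + cf 5 x * cf 2 y)) = S at e2 ⊢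
    generalize (cf 0 x * q0 + cf 1 x * q1 + cf 2 x * q2 + cf 3 x * q3 + cf 4 x * q4 + cf 5 x * q5 -
        cf 6 x * q7) = R at e2
    unfold Int.ModEq
    omega
  rw [(ZMod.intCast_eq_intCast_iff _ _ 2).2 key]
  push_cast
  simp only [bf, cvec, ix]

theorem bf_mat (A : Matrix (Fin 3 ⊕ Fin 3) (Fin 3 ⊕ Fin 3) (ZMod 2)) (i j : Fin 3 ⊕ Fin 3) :
    (A.transpose * Matrix.J (Fin 3) (ZMod 2) * A) i j = bf (fun k => A k i) (fun k => A k j) := by
  have hneg : ∀ a : ZMod 2, -a = a := by decide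
  simp only [Matrix.mul_apply, Matrix.transpose_apply, Fintype.sum_sum_type, Fin.sum_univ_three,
    Matrix.J, Matrix.fromBlocks_apply₁₁, Matrix.fromBlocks_apply₁₂, Matrix.fromBlocks_apply₂₁,
    Matrix.fromBlocks_apply₂₂, Matrix.zero_apply, Matrix.neg_apply, Matrix.one_apply, bf, hneg]
  simp
  ring

theorem gram_J : ∀ i j : Fin 3 ⊕ Fin 3,
    ((dotL (fL (ix i)) (fL (ix j)) / 16 : ℤ) : ZMod 2) = Matrix.J (Fin 3) (ZMod 2) i j := by
  intro i j
  rcases i with i | i <;> rcases j with j | j <;> fin_cases i <;> fin_cases j <;> decide +kernel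

theorem mat_symp {g : Co0} (hg : g ∈ CC) : mat g ∈ Matrix.symplecticGroup (Fin 3) (ZMod 2) := by
  rw [SymplecticGroup.mem_iff']
  ext i j
  rw [bf_mat]
  have h := form_cvec (g • fV (ix i)) (g • fV (ix j)) (supp_smul hg (supp_fV _))
    (supp_smul hg (supp_fV _)) (by rw [dotU_smul hg]; exact dot_fV_U i)
    (by rw [dotU_smul hg]; exact dot_fV_U j)
  rw [co0_dotInt] at h
  have h' : bf (fun k => mat g k i) (fun k => mat g k j) =
      bf (cvec (g • fV (ix i))) (cvec (g • fV (ix j))) := rfl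
  rw [h', ← h, ← gram_J i j, ← dotInt_vecL]
  rfl

/-- **The action of the centraliser on the symplectic space.** -/
noncomputable def rhoCC : ↥CC →* Matrix.symplecticGroup (Fin 3) (ZMod 2) where
  toFun g := ⟨mat g.1, mat_symp g.2⟩
  map_one' := Subtype.ext mat_one
  map_mul' g h := Subtype.ext (mat_mul g.2 h.2)

theorem rhoCC_coe (g : ↥CC) :
    ((rhoCC g : Matrix.symplecticGroup (Fin 3) (ZMod 2)) :
      Matrix (Fin 3 ⊕ Fin 3) (Fin 3 ⊕ Fin 3) (ZMod 2)) = mat g.1 := rfl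


end Cfsg.Agent.Helper92.Co2Inv
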