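import Cfsg.Agent.Helper92.Co3Gen
import Cfsg.Prelude.Def_KGroupFacts

/-!
# Every automorphism of `Co3` is inner

Following the method of `Helper7/OutM23`: an automorphism is normalised on the Frobenius group
`23:11` of coordinate permutations; the images of the remaining generators are then confined to
cosets of the centraliser of the element of order 11, which is `⟨pB⟩ × ⟨tE⟩`.
-/

set_option autoImplicit false

namespace Cfsg.Agent.Helper92.Co3Out

open Cfsg MulAction Cfsg.Agent.Helper92.Mat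
open Cfsg.Agent.Helper7 (gA gDbl gA_mem gDbl_mem cubeTwist_mem isTbl_gA isTbl_gDbl
  isTbl_cubeTwist cA cDbl cC permOf codeM24 inCode powC tbl IsTbl setOf idx pt gA_none gDbl_none
  cubeTwist_none)

/-! ### Coordinate permutations -/

/-- the elements of `M24` -/
def mA : M24 := ⟨gA, gA_mem⟩
noncomputable def mB : M24 := ⟨gDbl, gDbl_mem⟩
noncomputable def mW : M24 := ⟨cubeTwist, cubeTwist_mem⟩

theorem permHom_A : permHom mA = pA := rfl
theorem permHom_B : permHom mB = pB := rfl
theorem permHom_W : permHom mW = pW := rfl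

theorem permHom_injective : Function.Injective permHom := by
  intro a b h
  exact Subtype.ext (permAut_injective _ _ a.2 b.2 h)

theorem permHom_U4 (π : M24) (h : π.1 none = none) : permHom π • U4 = U4 :=
  permAut_U4 π.1 π.2 h

theorem pA_U4 : pA • U4 = U4 := permAut_U4 _ _ gA_none
theorem pB_U4 : pB • U4 = U4 := permAut_U4 _ _ gDbl_none
theorem pW_U4 : pW • U4 = U4 := permAut_U4 _ _ cubeTwist_none

theorem dot_U4_V : dotInt ((U4 : leechLattice) : GolayPt → ℤ)
    ((Spor.leechV : leechLattice) : GolayPt → ℤ) = -40 := by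
  rw [U4_vec, leechV_vec, dotInt_vecL]
  decide +kernel

theorem Z1_ne_U4 : Z1 ≠ U4 := by
  intro h
  have h1 := Z1_vec
  rw [h, U4_vec] at h1
  have h2 := congrFun h1 none
  revert h2
  decide

/-! ### Centralisers -/

theorem cent_pA (g : Co0) (hV : g • Spor.leechV = Spor.leechV) (hc : g * pA = pA * g) :
    ∃ i : ℕ, g = pA ^ i := by
  have hw : pA • (g • U4) = g • U4 := by
    rw [← mul_smul, ← hc, mul_smul, pA_U4]
  have hn : sqNorm ((g • U4 : leechLattice) : GolayPt → ℤ) = 64 := by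
    rw [co0_sqNorm, sqNorm_U4]
  have hd : dotInt ((g • U4 : leechLattice) : GolayPt → ℤ)
      ((Spor.leechV : leechLattice) : GolayPt → ℤ) = -40 := by
    have h := co0_dotInt g U4 Spor.leechV
    rw [hV] at h
    rw [h, dot_U4_V]
  have h4 := fixed_A (g • U4) hw hn hd
  obtain ⟨σ, hσ, -, rfl⟩ := fix2_eq g hV h4
  have hcomm : σ * gA = gA * σ := by
    apply permAut_injective _ _ (mul_mem hσ gA_mem) (mul_mem gA_mem hσ)
    rw [permAut_mul, permAut_mul]
    exact hc
  obtain ⟨e, -, he⟩ := Cfsg.Agent.Helper7.cent_gA hcomm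
  refine ⟨e, ?_⟩
  have h1 : permAut σ hσ = permHom (mA ^ e) := permAut_congr he hσ (mA ^ e).2
  rw [h1, map_pow, permHom_A]

theorem cent_pB_aux (g : Co0) (hV : g • Spor.leechV = Spor.leechV) (hc : g * pB = pB * g)
    (h4 : g • U4 = U4) : ∃ j < 11, g = pB ^ j := by
  obtain ⟨σ, hσ, -, rfl⟩ := fix2_eq g hV h4
  have hcomm : σ * gDbl = gDbl * σ := by
    apply permAut_injective _ _ (mul_mem hσ gDbl_mem) (mul_mem gDbl_mem hσ)
    rw [permAut_mul, permAut_mul]
    exact hc
  obtain ⟨e, he, he'⟩ := Cfsg.Agent.Helper7.cent_gDbl hσ hcomm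
  refine ⟨e, he, ?_⟩
  have h1 : permAut σ hσ = permHom (mB ^ e) := permAut_congr he' hσ (mB ^ e).2
  rw [h1, map_pow, permHom_B]

theorem cent_pB (g : Co0) (hV : g • Spor.leechV = Spor.leechV) (hc : g * pB = pB * g) :
    ∃ j < 11, g = pB ^ j ∨ g = tE * pB ^ j := by
  have hw : pB • (g • U4) = g • U4 := by
    rw [← mul_smul, ← hc, mul_smul, pB_U4]
  have hn : sqNorm ((g • U4 : leechLattice) : GolayPt → ℤ) = 64 := by
    rw [co0_sqNorm, sqNorm_U4]
  have hd : dotInt ((g • U4 : leechLattice) : GolayPt → ℤ)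
      ((Spor.leechV : leechLattice) : GolayPt → ℤ) = -40 := by
    have h := co0_dotInt g U4 Spor.leechV
    rw [hV] at h
    rw [h, dot_U4_V]
  rcases fixed_B (g • U4) hw hn hd with h4 | h4
  · obtain ⟨j, hj, e⟩ := cent_pB_aux g hV hc h4
    exact ⟨j, hj, Or.inl e⟩
  · have h4' : (tE * g) • U4 = U4 := by
      rw [mul_smul, h4, Z1, ← mul_smul, tE_sq, one_smul]
    have hV' : (tE * g) • Spor.leechV = Spor.leechV := by
      rw [mul_smul, hV, tE_V]
    have hc' : (tE * g) * pB = pB * (tE * g) := by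
      rw [mul_assoc, hc, ← mul_assoc, tE_comm_pB, mul_assoc]
    obtain ⟨j, hj, e⟩ := cent_pB_aux _ hV' hc' h4'
    refine ⟨j, hj, Or.inr ?_⟩
    rw [← e, ← mul_assoc, tE_sq, one_mul]

/-! ### Relations -/

theorem rel_BA : pB * pA * pB⁻¹ = pA ^ 2 := by
  have h : mB * mA * mB⁻¹ = mA ^ 2 := Subtype.ext Cfsg.Agent.Helper7.rel_dbl_A
  have h2 := congrArg permHom h
  rwa [map_mul, map_mul, map_inv, map_pow] at h2

theorem rel_WB : pW * pB * pW⁻¹ = pB ^ 3 := by
  have h : mW * mB * mW⁻¹ = mB ^ 3 := Subtype.ext Cfsg.Agent.Helper7.rel_tw_dbl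
  have h2 := congrArg permHom h
  rwa [map_mul, map_mul, map_inv, map_pow] at h2

theorem pB_pow_eq_one {n : ℕ} (h : pB ^ n = 1) : 11 ∣ n := by
  have h1 : permHom (mB ^ n) = permHom 1 := by rw [map_pow, permHom_B, h, map_one]
  have h2 : mB ^ n = 1 := permHom_injective h1
  have h3 : gDbl ^ n = 1 := congrArg Subtype.val h2
  rw [← Cfsg.Agent.Helper7.orderOf_gDbl]
  exact orderOf_dvd_of_pow_eq_one h3

/-! ### Fingerprints in `M23` -/

open Cfsg.Agent.Helper7 in
theorem perm_rel : (gA * (cubeTwist * (cubeTwist * 1))) ^ 5 = 1 := by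
  have h0 : List.Forall₂ IsTbl [gA, gDbl, cubeTwist] codes23 :=
    .cons isTbl_gA (.cons isTbl_gDbl (.cons isTbl_cubeTwist .nil))
  have h1 := isTbl_pow (isTbl_evalW h0 [0, 2, 2]) 5
  have h2 : powC (evalC codes23 [0, 2, 2]) 5 = idCode := by decide +kernel
  rw [h2] at h1
  exact h1.eq IsTbl.one

open Cfsg.Agent.Helper7 in
theorem perm_fingerprint (ε j : ℕ) (hε : ε ∈ [1, 22]) (hj : j < 11)
    (h : (gA ^ ε * ((cubeTwist * gDbl ^ j) * ((cubeTwist * gDbl ^ j) * 1))) ^ 5 = 1) :
    ε = 1 ∧ j = 0 := by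
  have hε23 : ε < 23 := by
    simp only [List.mem_cons, List.not_mem_nil, or_false] at hε
    omega
  have hfp : fp23 ε j = true := by
    have h1 := List.all_eq_true.mp fp23_all ε hε
    exact List.all_eq_true.mp h1 j (List.mem_range.mpr hj)
  rw [fp23, Bool.or_eq_true] at hfp
  rcases hfp with hfp | hfp
  · rw [Bool.and_eq_true] at hfp
    exact ⟨Nat.eq_of_beq_eq_true hfp.1, Nat.eq_of_beq_eq_true hfp.2⟩
  · exfalso
    rw [List.any_eq_true] at hfp
    obtain ⟨wn, hwn, hmv⟩ := hfp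
    have hwn' : wn = ([0, 2, 2], 5) := by
      simpa [words23] using hwn
    subst hwn'
    have h' : List.Forall₂ IsTbl [gA ^ ε, gDbl, cubeTwist * gDbl ^ j] (cand23 ε j) := by
      refine .cons ?_ (.cons isTbl_gDbl (.cons ?_ .nil))
      · rw [pwA_eq, getD_powList hε23]
        exact isTbl_pow isTbl_gA ε
      · rw [pwDbl_eq, getD_powList hj]
        exact isTbl_cubeTwist.mul (isTbl_pow isTbl_gDbl j)
    exact ne_one_of_moves (isTbl_pow (isTbl_evalW h' [0, 2, 2]) 5) hmv h

/-! ### The automorphisms -/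

theorem coe_eA : (eA : Co0) = pA := rfl
theorem coe_eB : (eB : Co0) = pB := rfl
theorem coe_eW : (eW : Co0) = pW := rfl
theorem coe_eT : (eT : Co0) = tE := rfl

theorem eT_sq : eT * eT = 1 := Subtype.ext tE_sq

theorem eT_comm_eB : eT * eB = eB * eT := Subtype.ext tE_comm_pB

theorem eT_comm_eW : eT * eW = eW * eT := Subtype.ext tE_comm_pW

theorem tE_U4 : tE • U4 ≠ U4 := Z1_ne_U4

/-- `tE` is not a product of coordinate permutations fixing `∞` -/
theorem tE_notMem_stab : tE ∉ stabilizer Co0 U4 := tE_U4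

theorem generated_of_fix {G : Type*} [Group G] {S : Set G} (hS : Subgroup.closure S = ⊤)
    (γ : MulAut G) (h : ∀ x ∈ S, γ x = x) : γ = 1 := by
  have key : ∀ x ∈ Subgroup.closure S, γ x = x := by
    intro x hx
    induction hx using Subgroup.closure_induction with
    | mem x hx => exact h x hx
    | one => exact map_one γ
    | mul x y _ _ ihx ihy => rw [map_mul, ihx, ihy]
    | inv x _ ih => rw [map_inv, ih]
  ext x
  rw [MulAut.one_apply]
  exact key x (by rw [hS]; trivial)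

/-- **Every automorphism of `Co3` is inner.** -/
theorem aut_co3Sub_inner (α : MulAut ↥co3Sub) : α ∈ Inn ↥co3Sub := by
  have : Fact (Nat.Prime 23) := ⟨by norm_num⟩
  have hp2 : ¬ 23 ^ 2 ∣ Nat.card ↥co3Sub := by
    rw [card_co3Sub]
    norm_num
  have hA : orderOf eA = 23 := by
    rw [← Subgroup.orderOf_coe]
    exact orderOf_t23
  have hBA : eB * eA * eB⁻¹ = eA ^ 2 := Subtype.ext rel_BA
  have hWB : eW * eB * eW⁻¹ = eB ^ 3 := Subtype.ext rel_WB
  have hcent : ∀ y : ↥co3Sub, y * eA = eA * y → ∃ i : ℕ, y = eA ^ i := by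
    intro y hy
    obtain ⟨i, hi⟩ := cent_pA y.1 y.2 (congrArg Subtype.val hy)
    exact ⟨i, Subtype.ext hi⟩
  obtain ⟨β, hβ, ε, hε, hγA, hγB⟩ :=
    Cfsg.Agent.Helper7.normalize_frob hp2 hA hBA hcent [1, 22] (by decide) (by decide) α
  set γ : MulAut ↥co3Sub := β * α with hγ
  -- the centraliser of `eB`
  have hcentB : ∀ y : ↥co3Sub, y * eB = eB * y → ∃ j < 11, y = eB ^ j ∨ y = eT * eB ^ j := by
    intro y hy
    obtain ⟨j, hj, h | h⟩ := cent_pB y.1 y.2 (congrArg Subtype.val hy)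
    · exact ⟨j, hj, Or.inl (Subtype.ext h)⟩
    · exact ⟨j, hj, Or.inr (Subtype.ext h)⟩
  have hpowU4 : ∀ j : ℕ, (eB ^ j : ↥co3Sub).1 • U4 = U4 := by
    intro j
    have h1 : pB ^ j ∈ stabilizer Co0 U4 := pow_mem (show pB ∈ stabilizer Co0 U4 from pB_U4) j
    exact h1
  have hTne : ∀ j : ℕ, eT ≠ eB ^ j := by
    intro j h
    have h1 := hpowU4 j
    rw [← h] at h1
    exact tE_U4 h1
  -- the image of `eT`
  have hγT : γ eT = eT := by
    have h1 : γ eT * eB = eB * γ eT := by
      have h := congrArg γ eT_comm_eB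
      rwa [map_mul, map_mul, hγB] at h
    obtain ⟨j, hj, h | h⟩ := hcentB _ h1
    · exfalso
      have h2 : γ eT = γ (eB ^ j) := by rw [map_pow, hγB, h]
      exact hTne j (γ.injective h2)
    · have h2 : γ eT * γ eT = 1 := by rw [← map_mul, eT_sq, map_one]
      have hc : Commute eT (eB ^ j) := (show Commute eT eB from eT_comm_eB).pow_right j
      have h3 : (eT * eB ^ j) * (eT * eB ^ j) = eB ^ (2 * j) := by
        calc (eT * eB ^ j) * (eT * eB ^ j) = (eT * eT) * (eB ^ j * eB ^ j) := by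
              rw [mul_assoc, ← mul_assoc (eB ^ j), ← hc.eq, mul_assoc, ← mul_assoc]
          _ = eB ^ (2 * j) := by rw [eT_sq, one_mul, ← pow_add, two_mul]
      rw [h, h3] at h2
      have h4 : pB ^ (2 * j) = 1 := congrArg Subtype.val h2
      have h5 := pB_pow_eq_one h4
      have h6 : j = 0 := by omega
      rw [h, h6, pow_zero, mul_one]
  -- the image of `eW`
  have hc := Cfsg.Agent.Helper7.tied_commute γ (S := eB) (S' := eB ^ 3) (U := eW) hγB
    (by rw [map_pow, hγB]) hWB
  obtain ⟨j, hj, hW⟩ := hcentB _ hc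
  have hW5 : eW ^ 5 = 1 := by
    apply Subtype.ext
    show pW ^ 5 = 1
    have h1 : cubeTwist ^ 5 = 1 := by
      have h2 := Cfsg.Agent.Helper7.isTbl_pow isTbl_cubeTwist 5
      have h3 : powC cC 5 = Cfsg.Agent.Helper7.idCode := by decide +kernel
      rw [h3] at h2
      exact h2.eq Cfsg.Agent.Helper7.IsTbl.one
    have h4 : mW ^ 5 = 1 := Subtype.ext h1
    rw [← permHom_W, ← map_pow, h4, map_one]
  have key : ε = 1 ∧ γ eW = eW := by
    rcases hW with hW | hW
    · -- candidates inside the coordinate permutations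
      have hγW : γ eW = eW * eB ^ j := by rw [← hW]; group
      have hrel : (eA * (eW * (eW * 1))) ^ 5 = 1 := by
        apply Subtype.ext
        show (pA * (pW * (pW * 1))) ^ 5 = 1
        have h1 : (mA * (mW * (mW * 1))) ^ 5 = 1 := Subtype.ext perm_rel
        have h2 := congrArg permHom h1
        rwa [map_pow, map_mul, map_mul, map_mul, map_one] at h2
      have h3 := congrArg γ hrel
      rw [map_pow, map_mul, map_mul, map_mul, map_one, hγA, hγW] at h3
      have h4 : (pA ^ ε * ((pW * pB ^ j) * ((pW * pB ^ j) * 1))) ^ 5 = 1 := congrArg Subtype.val h3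
      have h5 : permHom ((mA ^ ε * ((mW * mB ^ j) * ((mW * mB ^ j) * 1))) ^ 5) = permHom 1 := by
        simp only [map_pow, map_mul, map_one, permHom_A, permHom_B, permHom_W]
        exact h4
      have h6 := permHom_injective h5
      have h7 : (gA ^ ε * ((cubeTwist * gDbl ^ j) * ((cubeTwist * gDbl ^ j) * 1))) ^ 5 = 1 :=
        congrArg Subtype.val h6
      obtain ⟨h8, h9⟩ := perm_fingerprint ε j hε hj h7
      exact ⟨h8, by rw [hγW, h9, pow_zero, mul_one]⟩
    · -- candidates involving `eT`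
      exfalso
      have hγW : γ eW = eW * (eT * eB ^ j) := by rw [← hW]; group
      have h1 : γ eW ^ 5 = 1 := by rw [← map_pow, hW5, map_one]
      have hcW : Commute eT eW := eT_comm_eW
      have hcB : Commute eT (eB ^ j) := (show Commute eT eB from eT_comm_eB).pow_right j
      have hcY : Commute eT (eW * eB ^ j) := hcW.mul_right hcB
      have h2 : eW * (eT * eB ^ j) = eT * (eW * eB ^ j) := by
        rw [← mul_assoc, ← hcW.eq, mul_assoc]
      rw [hγW, h2, hcY.mul_pow] at h1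
      have h3 : eT ^ 5 = eT := by
        have h2' : eT ^ 2 = 1 := by rw [pow_two, eT_sq]
        calc eT ^ 5 = (eT ^ 2) ^ 2 * eT := by rw [← pow_mul, ← pow_succ]
          _ = eT := by rw [h2', one_pow, one_mul]
      rw [h3] at h1
      have h4 : eT = ((eW * eB ^ j) ^ 5)⁻¹ := eq_inv_of_mul_eq_one_left h1
      have h5 : ((eW * eB ^ j) ^ 5)⁻¹.1 ∈ stabilizer Co0 U4 := by
        have hW' : pW ∈ stabilizer Co0 U4 := pW_U4
        have hB' : pB ∈ stabilizer Co0 U4 := pB_U4
        exact inv_mem (pow_mem (mul_mem hW' (pow_mem hB' j)) 5)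
      rw [← h4] at h5
      exact tE_notMem_stab h5
  obtain ⟨rfl, hγW⟩ := key
  rw [pow_one] at hγA
  have hγ1 : γ = 1 := by
    apply generated_of_fix closure_co3
    intro x hx
    simp only [Set.mem_insert_iff, Set.mem_singleton_iff] at hx
    rcases hx with rfl | rfl | rfl
    exacts [hγA, hγW, hγT]
  exact Cfsg.Agent.Helper7.inn_of_mul hβ (by rw [← hγ, hγ1]; exact Subgroup.one_mem _)

/-! ### Transfer to `Spor.Co3` -/

theorem inner_of_equiv {G H : Type*} [Group G] [Group H] (e : G ≃* H)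
    (h : ∀ α : MulAut G, α ∈ Inn G) (α : MulAut H) : α ∈ Inn H := by
  obtain ⟨g, hg⟩ := h ((e.trans α).trans e.symm)
  refine ⟨e g, ?_⟩
  ext x
  have h1 := congrArg (fun f : MulAut G => e (f (e.symm x))) hg
  simp only [MulAut.conj_apply, map_mul, map_inv, MulEquiv.apply_symm_apply] at h1
  rw [MulAut.conj_apply, h1]
  simp

/-- `co3Sub` is the group `Spor.Co3` -/
def co3Equiv : ↥co3Sub ≃* ↥Spor.Co3 where
  toFun g := ⟨g.1.1, ⟨g.1.2, g.2⟩⟩
  invFun g := ⟨⟨g.1, g.2.1⟩, g.2.2⟩
  left_inv _ := rfl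
  right_inv _ := rfl
  map_mul' _ _ := rfl

theorem card_out_co3 : Nat.card (Out ↥Spor.Co3) = 1 :=
  Cfsg.Agent.Helper7.card_out_eq_one (inner_of_equiv co3Equiv aut_co3Sub_inner)

end Cfsg.Agent.Helper92.Co3Out
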