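import Cfsg.Agent.Helper92.Co3Elts

/-!
# Centralisers in `Co3` of the elements of order 23 and 11

An automorphism of the lattice fixing `(−5, −1^23)` and commuting with the coordinate permutation
`pA` of order 23 is a power of `pA`; one commuting with `pB` (of order 11) is a power of `pB` or
`tE` times such a power.  Both are proved by locating the image of the vector `(8, 0^23)`.
-/

set_option autoImplicit false

namespace Cfsg.Agent.Helper92.Co3Out

open Cfsg MulAction Cfsg.Agent.Helper92.Mat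
open Cfsg.Agent.Helper7 (gA gDbl gA_mem gDbl_mem cubeTwist_mem isTbl_gA isTbl_gDbl
  isTbl_cubeTwist cA cDbl cC permOf codeM24 inCode powC tbl IsTbl setOf idx pt)

theorem permAut_U4 (σ : Equiv.Perm GolayPt) (hσ : σ ∈ M24) (h : σ none = none) :
    permAut σ hσ • U4 = U4 := by
  apply Subtype.ext
  funext i
  rw [permAut_smul, permFun_apply, U4, P_diag_apply, P_diag_apply]
  have : σ.symm i = none ↔ i = none := by rw [Equiv.symm_apply_eq, h]
  simp only [this]

/-! ### Vectors fixed by a coordinate permutation -/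

theorem inv_step {σ : Equiv.Perm GolayPt} (hM : σ ∈ M24) (w : leechLattice)
    (hw : permAut σ hM • w = w) (p : GolayPt) :
    (w : GolayPt → ℤ) (σ p) = (w : GolayPt → ℤ) p := by
  have h := congrFun (congrArg Subtype.val hw) (σ p)
  rw [permAut_smul, permFun_apply, Equiv.symm_apply_apply] at h
  exact h.symm

/-- iterates of the table map -/
def itT (c : ℕ) : ℕ → ℕ → ℕ
  | 0, j => j
  | n + 1, j => tbl c (itT c n j)

theorem inv_iter {σ : Equiv.Perm GolayPt} {c : ℕ} (hσ : IsTbl σ c) (hM : σ ∈ M24)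
    (w : leechLattice) (hw : permAut σ hM • w = w) (n j : ℕ) (hj : j < 24) :
    itT c n j < 24 ∧ (w : GolayPt → ℤ) (pt (itT c n j)) = (w : GolayPt → ℤ) (pt j) := by
  induction n with
  | zero => exact ⟨hj, rfl⟩
  | succ n ih =>
    obtain ⟨h1, h2⟩ := ih
    have h3 : σ (pt (itT c n j)) = pt (tbl c (itT c n j)) := hσ.apply_pt h1
    constructor
    · show tbl c (itT c n j) < 24
      have h4 := hσ (pt (itT c n j))
      rw [Cfsg.Agent.Helper7.idx_pt h1] at h4
      rw [← h4]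
      exact Cfsg.Agent.Helper7.idx_lt _
    · show (w : GolayPt → ℤ) (pt (tbl c (itT c n j))) = _
      rw [← h3, inv_step hM w hw, h2]

/-- check that every index is joined to its pattern representative by the table map -/
def patChk (c : ℕ) (pat : List ℕ) : Bool :=
  allTo 24 fun j => (List.range 24).any fun n => Nat.beq (itT c n j) (pat.getD j 0)

theorem inv_pattern {σ : Equiv.Perm GolayPt} {c : ℕ} (hσ : IsTbl σ c) (hM : σ ∈ M24)
    (w : leechLattice) (hw : permAut σ hM • w = w) (pat : List ℕ) (hpat : patChk c pat = true)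
    (j : ℕ) (hj : j < 24) :
    (w : GolayPt → ℤ) (pt j) = (w : GolayPt → ℤ) (pt (pat.getD j 0)) := by
  have h := (allTo_iff _ _).1 hpat j hj
  rw [List.any_eq_true] at h
  obtain ⟨n, -, hn⟩ := h
  rw [← Nat.eq_of_beq_eq_true hn]
  exact (inv_iter hσ hM w hw n j hj).2.symm

/-- a vector constant along a pattern with prescribed values at the representatives -/
theorem eq_vecL_of_pattern (w : leechLattice) (pat : List ℕ) (tgt : List ℤ) (reps : List ℕ)
    (hj : ∀ j < 24, (w : GolayPt → ℤ) (pt j) = (w : GolayPt → ℤ) (pt (pat.getD j 0)))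
    (hreps : ∀ r ∈ reps, (w : GolayPt → ℤ) (pt r) = tgt.getD r 0)
    (hchk : allTo 24 (fun j => reps.contains (pat.getD j 0) &&
      decide (tgt.getD j 0 = tgt.getD (pat.getD j 0) 0)) = true) :
    (w : GolayPt → ℤ) = vecL tgt := by
  funext p
  rw [← Cfsg.Agent.Helper7.pt_idx p]
  have hlt := Cfsg.Agent.Helper7.idx_lt p
  have h := (allTo_iff _ _).1 hchk (idx p) hlt
  rw [Bool.and_eq_true] at h
  obtain ⟨h1, h2⟩ := h
  have h3 := of_decide_eq_true h2
  rw [List.contains_iff_mem] at h1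
  rw [hj _ hlt, hreps _ h1, vecL_pt _ hlt, h3]

theorem sqNorm_pt (w : GolayPt → ℤ) : sqNorm w = sumTo 24 (fun j => w (pt j) ^ 2) :=
  sum_golay _

theorem dotV_pt (w : GolayPt → ℤ) :
    dotInt w (Spor.leechV : GolayPt → ℤ) = -(sumTo 24 fun j => w (pt j)) - 4 * w (pt 23) := by
  rw [← sum_golay, Cfsg.Agent.Helper7.pt_23]
  unfold dotInt
  have h : ∀ i : GolayPt, w i * (Spor.leechV : GolayPt → ℤ) i =
      -w i - 4 * (if i = none then w i else 0) := by
    intro i
    show w i * Spor.vecV i = _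
    unfold Spor.vecV
    split_ifs <;> ring
  simp only [h]
  rw [Finset.sum_sub_distrib, Finset.sum_neg_distrib, ← Finset.mul_sum,
    Finset.sum_ite_eq' Finset.univ none]
  simp

theorem dotInt_vecL (l l' : List ℤ) :
    dotInt (vecL l) (vecL l') = sumTo 24 (fun j => l.getD j 0 * l'.getD j 0) := by
  unfold dotInt
  rw [sum_golay]
  apply sumTo_congr
  intro j hj
  rw [vecL_pt _ hj, vecL_pt _ hj]

/-! ### The element of order 23 -/

def patA : List ℕ := [0, 0, 0, 0, 0, 0, 0, 0, 0, 0, 0, 0, 0, 0, 0, 0, 0, 0, 0, 0, 0, 0, 0, 23]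

theorem arith_A (a b : ℤ) (h1 : a ^ 2 + 23 * b ^ 2 = 64) (h2 : 5 * a + 23 * b = 40) :
    a = 8 ∧ b = 0 := by
  have hb : -1 ≤ b ∧ b ≤ 1 := by constructor <;> nlinarith [sq_nonneg a]
  obtain ⟨hb1, hb2⟩ := hb
  interval_cases b <;> omega

/-- a lattice vector of the type of `(8, 0^23)` fixed by `pA` is `(8, 0^23)` -/
theorem fixed_A (w : leechLattice) (hw : pA • w = w) (hn : sqNorm (w : GolayPt → ℤ) = 64)
    (hd : dotInt (w : GolayPt → ℤ) (Spor.leechV : GolayPt → ℤ) = -40) : w = U4 := by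
  have hj := inv_pattern isTbl_gA gA_mem w hw patA (by decide +kernel)
  have e1 : sumTo 24 (fun j => (w : GolayPt → ℤ) (pt j) ^ 2) =
      sumTo 24 (fun j => (w : GolayPt → ℤ) (pt (patA.getD j 0)) ^ 2) :=
    sumTo_congr _ _ _ (fun j hj' => by rw [← hj j hj'])
  have e2 : sumTo 24 (fun j => (w : GolayPt → ℤ) (pt j)) =
      sumTo 24 (fun j => (w : GolayPt → ℤ) (pt (patA.getD j 0))) :=
    sumTo_congr _ _ _ (fun j hj' => by rw [← hj j hj'])
  rw [sqNorm_pt, e1] at hn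
  rw [dotV_pt, e2] at hd
  simp only [sumTo, patA, List.getD_cons_succ, List.getD_cons_zero] at hn hd
  obtain ⟨ha, hb⟩ := arith_A ((w : GolayPt → ℤ) (pt 23)) ((w : GolayPt → ℤ) (pt 0))
    (by linarith) (by linarith)
  apply Subtype.ext
  rw [U4_vec]
  refine eq_vecL_of_pattern w patA _ [0, 23] hj ?_ (by decide +kernel)
  intro r hr
  simp only [List.mem_cons, List.not_mem_nil, or_false] at hr
  rcases hr with rfl | rfl
  · rw [hb]; rfl
  · rw [ha]; rfl

/-! ### The element of order 11 -/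

def patB : List ℕ := [0, 1, 1, 1, 1, 5, 1, 5, 1, 1, 5, 5, 1, 1, 5, 5, 1, 5, 1, 5, 5, 5, 5, 23]

theorem arith_B_aux : ∀ a ∈ Finset.Icc (-8 : ℤ) 8, ∀ c ∈ Finset.Icc (-2 : ℤ) 2,
    ∀ d ∈ Finset.Icc (-2 : ℤ) 2,
      a ^ 2 + (40 - 5 * a - 11 * c - 11 * d) ^ 2 + 11 * c ^ 2 + 11 * d ^ 2 = 64 →
        (a = 8 ∧ c = 0 ∧ d = 0) ∨ (a = 4 ∧ c = 2 ∧ d = 0) ∨ (a = 4 ∧ c = 0 ∧ d = 2) := by
  decide +kernel

theorem arith_B (a b c d : ℤ) (h1 : a ^ 2 + b ^ 2 + 11 * c ^ 2 + 11 * d ^ 2 = 64)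
    (h2 : 5 * a + b + 11 * c + 11 * d = 40) :
    (a = 8 ∧ b = 0 ∧ c = 0 ∧ d = 0) ∨ (a = 4 ∧ b = -2 ∧ c = 2 ∧ d = 0) ∨
      (a = 4 ∧ b = -2 ∧ c = 0 ∧ d = 2) := by
  have hb : b = 40 - 5 * a - 11 * c - 11 * d := by linarith
  subst hb
  have ha : a ∈ Finset.Icc (-8 : ℤ) 8 := by
    rw [Finset.mem_Icc]
    constructor <;> nlinarith [sq_nonneg (40 - 5 * a - 11 * c - 11 * d), sq_nonneg c, sq_nonneg d]
  have hc : c ∈ Finset.Icc (-2 : ℤ) 2 := by
    rw [Finset.mem_Icc]
    constructor <;> nlinarith [sq_nonneg (40 - 5 * a - 11 * c - 11 * d), sq_nonneg a, sq_nonneg d]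
  have hd : d ∈ Finset.Icc (-2 : ℤ) 2 := by
    rw [Finset.mem_Icc]
    constructor <;> nlinarith [sq_nonneg (40 - 5 * a - 11 * c - 11 * d), sq_nonneg a, sq_nonneg c]
  rcases arith_B_aux a ha c hc d hd h1 with ⟨rfl, rfl, rfl⟩ | ⟨rfl, rfl, rfl⟩ | ⟨rfl, rfl, rfl⟩
  · left; norm_num
  · right; left; norm_num
  · right; right; norm_num

/-- a lattice vector of the type of `(8, 0^23)` fixed by `pB` is `(8, 0^23)` or its image
under `tE` -/
theorem fixed_B (w : leechLattice) (hw : pB • w = w) (hn : sqNorm (w : GolayPt → ℤ) = 64)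
    (hd : dotInt (w : GolayPt → ℤ) (Spor.leechV : GolayPt → ℤ) = -40) : w = U4 ∨ w = Z1 := by
  have hj := inv_pattern isTbl_gDbl gDbl_mem w hw patB (by decide +kernel)
  have e1 : sumTo 24 (fun j => (w : GolayPt → ℤ) (pt j) ^ 2) =
      sumTo 24 (fun j => (w : GolayPt → ℤ) (pt (patB.getD j 0)) ^ 2) :=
    sumTo_congr _ _ _ (fun j hj' => by rw [← hj j hj'])
  have e2 : sumTo 24 (fun j => (w : GolayPt → ℤ) (pt j)) =
      sumTo 24 (fun j => (w : GolayPt → ℤ) (pt (patB.getD j 0))) :=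
    sumTo_congr _ _ _ (fun j hj' => by rw [← hj j hj'])
  rw [sqNorm_pt, e1] at hn
  rw [dotV_pt, e2] at hd
  simp only [sumTo, patB, List.getD_cons_succ, List.getD_cons_zero] at hn hd
  have key : ∀ tgt : List ℤ, (w : GolayPt → ℤ) (pt 0) = tgt.getD 0 0 →
      (w : GolayPt → ℤ) (pt 1) = tgt.getD 1 0 → (w : GolayPt → ℤ) (pt 5) = tgt.getD 5 0 →
      (w : GolayPt → ℤ) (pt 23) = tgt.getD 23 0 →
      allTo 24 (fun j => [0, 1, 5, 23].contains (patB.getD j 0) &&
        decide (tgt.getD j 0 = tgt.getD (patB.getD j 0) 0)) = true →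
      (w : GolayPt → ℤ) = vecL tgt := by
    intro tgt h0 h1 h5 h23 hchk
    refine eq_vecL_of_pattern w patB tgt [0, 1, 5, 23] hj ?_ hchk
    intro r hr
    simp only [List.mem_cons, List.not_mem_nil, or_false] at hr
    rcases hr with rfl | rfl | rfl | rfl
    exacts [h0, h1, h5, h23]
  rcases arith_B ((w : GolayPt → ℤ) (pt 23)) ((w : GolayPt → ℤ) (pt 0))
    ((w : GolayPt → ℤ) (pt 1)) ((w : GolayPt → ℤ) (pt 5)) (by linarith) (by linarith) with
    ⟨ha, hb, hc, hd'⟩ | ⟨ha, hb, hc, hd'⟩ | ⟨ha, hb, hc, hd'⟩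
  · left
    apply Subtype.ext
    rw [U4_vec]
    exact key _ (by rw [hb]; rfl) (by rw [hc]; rfl) (by rw [hd']; rfl) (by rw [ha]; rfl)
      (by decide +kernel)
  · right
    apply Subtype.ext
    rw [Z1_vec]
    exact key _ (by rw [hb]; rfl) (by rw [hc]; rfl) (by rw [hd']; rfl) (by rw [ha]; rfl)
      (by decide +kernel)
  · exfalso
    have hv : (w : GolayPt → ℤ) = vecL [-2, 0, 0, 0, 0, 2, 0, 2, 0, 0, 2, 2, 0, 0, 2, 2, 0, 2, 0, 2, 2, 2, 2, 4] :=
      key _ (by rw [hb]; rfl) (by rw [hc]; rfl) (by rw [hd']; rfl) (by rw [ha]; rfl)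
        (by decide +kernel)
    have h8 := leech_eight_dvd_dotInt w.2 Z1.2
    rw [hv, Z1_vec, dotInt_vecL] at h8
    revert h8
    decide +kernel

end Cfsg.Agent.Helper92.Co3Out
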