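import Cfsg.Agent.Helper92.Co0Mat

/-!
# Explicit elements of `Co3` for the computation of its automorphism group

The coordinate permutations `pA` (of order 23), `pB` (of order 11), `pW` (the cube twist), and a
non-monomial involution `tE` commuting with `pB`, given as a word in coordinate permutations, sign
changes and `ξ⁻¹`, together with its matrix.
-/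

set_option autoImplicit false

namespace Cfsg.Agent.Helper92.Co3Out

open Cfsg MulAction Cfsg.Agent.Helper92.Mat
open Cfsg.Agent.Helper7 (gA gDbl gA_mem gDbl_mem cubeTwist_mem isTbl_gA isTbl_gDbl
  isTbl_cubeTwist cA cDbl cC permOf codeM24 inCode powC tbl IsTbl setOf)

/-- the coordinate permutation with table code `c` -/
noncomputable def pc (c : ℕ) (h : codeM24 c = true) : Co0 :=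
  permAut (permOf c) (Cfsg.Agent.Helper7.permOf_mem_M24 h)

theorem isMat_pc (c : ℕ) (h : codeM24 c = true) : IsMat (pc c h) (permM c) := by
  have h' := h
  rw [codeM24, Bool.and_eq_true] at h'
  exact isMat_perm (Cfsg.Agent.Helper7.isTbl_permOf h'.1) _

/-- the sign change on the code word with mask `m` -/
noncomputable def sc (m : ℕ) (h : inCode m = true) : Co0 :=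
  signAut (setOf m) (setOf_mem_supports h)

theorem isMat_sc (m : ℕ) (h : inCode m = true) : IsMat (sc m h) (signM m) := isMat_sign m _

def tc1 : ℕ := 0x595093419171c73929e0b9054686b6

theorem tc1_ok : codeM24 tc1 = true := by decide +kernel

def tm1 : ℕ := 0x121992

theorem tm1_ok : inCode tm1 = true := by decide +kernel

def tc2 : ℕ := 0xc8d552e2eba4f440d8d24e022bec0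

theorem tc2_ok : codeM24 tc2 = true := by decide +kernel

def tm2 : ℕ := 0xbc9fc7

theorem tm2_ok : inCode tm2 = true := by decide +kernel

def tc3 : ℕ := 0x5340b29ad19c904830411d5cf4d0f7

theorem tc3_ok : codeM24 tc3 = true := by decide +kernel

def tm3 : ℕ := 0xee1543

theorem tm3_ok : inCode tm3 = true := by decide +kernel

def tm4 : ℕ := 0xc069e7

theorem tm4_ok : inCode tm4 = true := by decide +kernel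

def tc4 : ℕ := 0x254d0a1e2d58d972a54f70a53b0101

theorem tc4_ok : codeM24 tc4 = true := by decide +kernel

/-- the involution of `Co3` centralising `pB` -/
noncomputable def tE : Co0 :=
  pc tc1 tc1_ok * sc tm1 tm1_ok * xi⁻¹ * pc tc2 tc2_ok * sc tm2 tm2_ok * xi⁻¹ * pc tc3 tc3_ok * sc tm3 tm3_ok * xi⁻¹ * sc tm4 tm4_ok * pc tc4 tc4_ok

/-- partial product matrix -/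
def tP2 : List (List ℤ) :=
  [[0, 0, 0, 0, 0, 0, 0, 0, 0, 0, 0, 0, 0, 0, 0, 0, 0, 0, 0, 0, 0, 0, 8, 0],
  [0, 0, 0, 0, 0, 0, 0, 0, 0, 0, 0, 0, 0, 0, 0, 0, 0, 0, 0, 0, 0, -8, 0, 0],
  [0, 8, 0, 0, 0, 0, 0, 0, 0, 0, 0, 0, 0, 0, 0, 0, 0, 0, 0, 0, 0, 0, 0, 0],
  [0, 0, 0, 0, 0, 0, 0, 0, 0, 0, 0, 0, 0, 8, 0, 0, 0, 0, 0, 0, 0, 0, 0, 0],
  [0, 0, 0, 0, 0, 0, 0, 0, 0, 0, 0, 0, 0, 0, 0, 0, 0, 0, 0, 0, -8, 0, 0, 0],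
  [0, 0, 8, 0, 0, 0, 0, 0, 0, 0, 0, 0, 0, 0, 0, 0, 0, 0, 0, 0, 0, 0, 0, 0],
  [0, 0, 0, 0, 8, 0, 0, 0, 0, 0, 0, 0, 0, 0, 0, 0, 0, 0, 0, 0, 0, 0, 0, 0],
  [0, 0, 0, 0, 0, 0, 0, 0, 0, 0, 0, 0, 0, 0, 0, 0, 0, 0, 0, 0, 0, 0, 0, -8],
  [-8, 0, 0, 0, 0, 0, 0, 0, 0, 0, 0, 0, 0, 0, 0, 0, 0, 0, 0, 0, 0, 0, 0, 0],
  [0, 0, 0, 0, 0, 0, 0, 0, 0, 0, 0, 0, 0, 0, 0, 8, 0, 0, 0, 0, 0, 0, 0, 0],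
  [0, 0, 0, 0, 0, 0, 0, 0, 0, 0, 8, 0, 0, 0, 0, 0, 0, 0, 0, 0, 0, 0, 0, 0],
  [0, 0, 0, 0, 0, 0, 0, 0, 0, 0, 0, 0, 0, 0, 0, 0, 0, 0, -8, 0, 0, 0, 0, 0],
  [0, 0, 0, 0, 0, 0, 0, 0, 0, 0, 0, 0, 0, 0, 0, 0, 0, 0, 0, -8, 0, 0, 0, 0],
  [0, 0, 0, 8, 0, 0, 0, 0, 0, 0, 0, 0, 0, 0, 0, 0, 0, 0, 0, 0, 0, 0, 0, 0],
  [0, 0, 0, 0, 0, 0, 0, 8, 0, 0, 0, 0, 0, 0, 0, 0, 0, 0, 0, 0, 0, 0, 0, 0],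
  [0, 0, 0, 0, 0, 0, 0, 0, 0, 0, 0, 0, 0, 0, 8, 0, 0, 0, 0, 0, 0, 0, 0, 0],
  [0, 0, 0, 0, 0, 0, 0, 0, 0, 0, 0, 0, 0, 0, 0, 0, 0, 8, 0, 0, 0, 0, 0, 0],
  [0, 0, 0, 0, 0, 0, 0, 0, 0, 0, 0, 0, -8, 0, 0, 0, 0, 0, 0, 0, 0, 0, 0, 0],
  [0, 0, 0, 0, 0, 0, 0, 0, 0, 0, 0, 0, 0, 0, 0, 0, 8, 0, 0, 0, 0, 0, 0, 0],
  [0, 0, 0, 0, 0, 0, 8, 0, 0, 0, 0, 0, 0, 0, 0, 0, 0, 0, 0, 0, 0, 0, 0, 0],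
  [0, 0, 0, 0, 0, 0, 0, 0, 0, -8, 0, 0, 0, 0, 0, 0, 0, 0, 0, 0, 0, 0, 0, 0],
  [0, 0, 0, 0, 0, 0, 0, 0, 8, 0, 0, 0, 0, 0, 0, 0, 0, 0, 0, 0, 0, 0, 0, 0],
  [0, 0, 0, 0, 0, 8, 0, 0, 0, 0, 0, 0, 0, 0, 0, 0, 0, 0, 0, 0, 0, 0, 0, 0],
  [0, 0, 0, 0, 0, 0, 0, 0, 0, 0, 0, 8, 0, 0, 0, 0, 0, 0, 0, 0, 0, 0, 0, 0]]

/-- partial product matrix -/
def tP3 : List (List ℤ) :=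
  [[0, 0, 0, 0, 0, 0, 0, 0, 0, 0, 0, 4, 0, 0, 0, 0, 0, 0, 0, 0, 0, -4, -4, -4],
  [0, 0, 0, 0, 0, 0, 0, 0, 0, 0, 0, 4, 0, 0, 0, 0, 0, 0, 0, 0, 0, 4, 4, -4],
  [0, 4, 0, 0, -4, 0, -4, 0, -4, 0, 0, 0, 0, 0, 0, 0, 0, 0, 0, 0, 0, 0, 0, 0],
  [0, 0, 0, 0, 0, 0, 0, 0, 0, 0, 0, 0, 0, 4, 0, -4, -4, -4, 0, 0, 0, 0, 0, 0],
  [4, 0, -4, 0, 0, 0, 0, 0, 0, 0, 0, 0, 0, 0, -4, 0, 0, 0, 0, 0, -4, 0, 0, 0],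
  [4, 0, 4, 0, 0, 0, 0, 0, 0, 0, 0, 0, 0, 0, -4, 0, 0, 0, 0, 0, 4, 0, 0, 0],
  [0, -4, 0, 0, 4, 0, -4, 0, -4, 0, 0, 0, 0, 0, 0, 0, 0, 0, 0, 0, 0, 0, 0, 0],
  [0, 0, 0, 0, 0, 0, 0, 0, 0, 0, 0, 4, 0, 0, 0, 0, 0, 0, 0, 0, 0, -4, 4, 4],
  [-4, 0, -4, 0, 0, 0, 0, 0, 0, 0, 0, 0, 0, 0, -4, 0, 0, 0, 0, 0, 4, 0, 0, 0],
  [0, 0, 0, 0, 0, 0, 0, 0, 0, 0, 0, 0, 0, -4, 0, 4, -4, -4, 0, 0, 0, 0, 0, 0],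
  [0, 0, 0, 0, 0, -4, 0, 0, 0, 0, 4, 0, 4, 0, 0, 0, 0, 0, 4, 0, 0, 0, 0, 0],
  [0, 0, 0, 0, 0, -4, 0, 0, 0, 0, -4, 0, 4, 0, 0, 0, 0, 0, -4, 0, 0, 0, 0, 0],
  [0, 0, 0, -4, 0, 0, 0, -4, 0, 4, 0, 0, 0, 0, 0, 0, 0, 0, 0, -4, 0, 0, 0, 0],
  [0, 0, 0, 4, 0, 0, 0, -4, 0, 4, 0, 0, 0, 0, 0, 0, 0, 0, 0, 4, 0, 0, 0, 0],
  [0, 0, 0, -4, 0, 0, 0, 4, 0, 4, 0, 0, 0, 0, 0, 0, 0, 0, 0, 4, 0, 0, 0, 0],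
  [4, 0, -4, 0, 0, 0, 0, 0, 0, 0, 0, 0, 0, 0, 4, 0, 0, 0, 0, 0, 4, 0, 0, 0],
  [0, 0, 0, 0, 0, 0, 0, 0, 0, 0, 0, 0, 0, -4, 0, -4, -4, 4, 0, 0, 0, 0, 0, 0],
  [0, 0, 0, 0, 0, -4, 0, 0, 0, 0, -4, 0, -4, 0, 0, 0, 0, 0, 4, 0, 0, 0, 0, 0],
  [0, 0, 0, 0, 0, 0, 0, 0, 0, 0, 0, 0, 0, -4, 0, -4, 4, -4, 0, 0, 0, 0, 0, 0],
  [0, -4, 0, 0, -4, 0, 4, 0, -4, 0, 0, 0, 0, 0, 0, 0, 0, 0, 0, 0, 0, 0, 0, 0],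
  [0, 0, 0, -4, 0, 0, 0, -4, 0, -4, 0, 0, 0, 0, 0, 0, 0, 0, 0, 4, 0, 0, 0, 0],
  [0, -4, 0, 0, -4, 0, -4, 0, 4, 0, 0, 0, 0, 0, 0, 0, 0, 0, 0, 0, 0, 0, 0, 0],
  [0, 0, 0, 0, 0, 4, 0, 0, 0, 0, -4, 0, 4, 0, 0, 0, 0, 0, 4, 0, 0, 0, 0, 0],
  [0, 0, 0, 0, 0, 0, 0, 0, 0, 0, 0, -4, 0, 0, 0, 0, 0, 0, 0, 0, 0, -4, 4, -4]]

/-- partial product matrix -/
def tP4 : List (List ℤ) :=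
  [[0, 0, 0, 0, 0, 0, 0, 0, 0, 0, 0, 4, 0, 0, 0, 0, 0, 0, 0, 0, 0, -4, -4, -4],
  [0, 0, 0, 0, 0, 4, 0, 0, 0, 0, -4, 0, 4, 0, 0, 0, 0, 0, 4, 0, 0, 0, 0, 0],
  [4, 0, -4, 0, 0, 0, 0, 0, 0, 0, 0, 0, 0, 0, 4, 0, 0, 0, 0, 0, 4, 0, 0, 0],
  [4, 0, 4, 0, 0, 0, 0, 0, 0, 0, 0, 0, 0, 0, -4, 0, 0, 0, 0, 0, 4, 0, 0, 0],
  [0, 4, 0, 0, -4, 0, -4, 0, -4, 0, 0, 0, 0, 0, 0, 0, 0, 0, 0, 0, 0, 0, 0, 0],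
  [0, 0, 0, 0, 0, 0, 0, 0, 0, 0, 0, 0, 0, -4, 0, -4, -4, 4, 0, 0, 0, 0, 0, 0],
  [0, -4, 0, 0, -4, 0, 4, 0, -4, 0, 0, 0, 0, 0, 0, 0, 0, 0, 0, 0, 0, 0, 0, 0],
  [4, 0, -4, 0, 0, 0, 0, 0, 0, 0, 0, 0, 0, 0, -4, 0, 0, 0, 0, 0, -4, 0, 0, 0],
  [0, 0, 0, 4, 0, 0, 0, -4, 0, 4, 0, 0, 0, 0, 0, 0, 0, 0, 0, 4, 0, 0, 0, 0],
  [0, 0, 0, -4, 0, 0, 0, -4, 0, 4, 0, 0, 0, 0, 0, 0, 0, 0, 0, -4, 0, 0, 0, 0],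
  [0, 0, 0, 0, 0, 0, 0, 0, 0, 0, 0, 0, 0, 4, 0, -4, -4, -4, 0, 0, 0, 0, 0, 0],
  [-4, 0, -4, 0, 0, 0, 0, 0, 0, 0, 0, 0, 0, 0, -4, 0, 0, 0, 0, 0, 4, 0, 0, 0],
  [0, 0, 0, -4, 0, 0, 0, -4, 0, -4, 0, 0, 0, 0, 0, 0, 0, 0, 0, 4, 0, 0, 0, 0],
  [0, 0, 0, 0, 0, 0, 0, 0, 0, 0, 0, 4, 0, 0, 0, 0, 0, 0, 0, 0, 0, -4, 4, 4],
  [0, 0, 0, 0, 0, 0, 0, 0, 0, 0, 0, 0, 0, -4, 0, 4, -4, -4, 0, 0, 0, 0, 0, 0],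
  [0, 0, 0, 0, 0, 0, 0, 0, 0, 0, 0, -4, 0, 0, 0, 0, 0, 0, 0, 0, 0, -4, 4, -4],
  [0, 0, 0, -4, 0, 0, 0, 4, 0, 4, 0, 0, 0, 0, 0, 0, 0, 0, 0, 4, 0, 0, 0, 0],
  [0, 0, 0, 0, 0, -4, 0, 0, 0, 0, -4, 0, -4, 0, 0, 0, 0, 0, 4, 0, 0, 0, 0, 0],
  [0, 0, 0, 0, 0, -4, 0, 0, 0, 0, -4, 0, 4, 0, 0, 0, 0, 0, -4, 0, 0, 0, 0, 0],
  [0, 0, 0, 0, 0, -4, 0, 0, 0, 0, 4, 0, 4, 0, 0, 0, 0, 0, 4, 0, 0, 0, 0, 0],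
  [0, -4, 0, 0, -4, 0, -4, 0, 4, 0, 0, 0, 0, 0, 0, 0, 0, 0, 0, 0, 0, 0, 0, 0],
  [0, -4, 0, 0, 4, 0, -4, 0, -4, 0, 0, 0, 0, 0, 0, 0, 0, 0, 0, 0, 0, 0, 0, 0],
  [0, 0, 0, 0, 0, 0, 0, 0, 0, 0, 0, 0, 0, -4, 0, -4, 4, -4, 0, 0, 0, 0, 0, 0],
  [0, 0, 0, 0, 0, 0, 0, 0, 0, 0, 0, 4, 0, 0, 0, 0, 0, 0, 0, 0, 0, 4, 4, -4]]

/-- partial product matrix -/
def tP5 : List (List ℤ) :=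
  [[0, 0, 0, 0, 0, 0, 0, 0, 0, 0, 0, -4, 0, 0, 0, 0, 0, 0, 0, 0, 0, 4, 4, 4],
  [0, 0, 0, 0, 0, -4, 0, 0, 0, 0, 4, 0, -4, 0, 0, 0, 0, 0, -4, 0, 0, 0, 0, 0],
  [-4, 0, 4, 0, 0, 0, 0, 0, 0, 0, 0, 0, 0, 0, -4, 0, 0, 0, 0, 0, -4, 0, 0, 0],
  [4, 0, 4, 0, 0, 0, 0, 0, 0, 0, 0, 0, 0, 0, -4, 0, 0, 0, 0, 0, 4, 0, 0, 0],
  [0, 4, 0, 0, -4, 0, -4, 0, -4, 0, 0, 0, 0, 0, 0, 0, 0, 0, 0, 0, 0, 0, 0, 0],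
  [0, 0, 0, 0, 0, 0, 0, 0, 0, 0, 0, 0, 0, -4, 0, -4, -4, 4, 0, 0, 0, 0, 0, 0],
  [0, 4, 0, 0, 4, 0, -4, 0, 4, 0, 0, 0, 0, 0, 0, 0, 0, 0, 0, 0, 0, 0, 0, 0],
  [-4, 0, 4, 0, 0, 0, 0, 0, 0, 0, 0, 0, 0, 0, 4, 0, 0, 0, 0, 0, 4, 0, 0, 0],
  [0, 0, 0, -4, 0, 0, 0, 4, 0, -4, 0, 0, 0, 0, 0, 0, 0, 0, 0, -4, 0, 0, 0, 0],
  [0, 0, 0, 4, 0, 0, 0, 4, 0, -4, 0, 0, 0, 0, 0, 0, 0, 0, 0, 4, 0, 0, 0, 0],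
  [0, 0, 0, 0, 0, 0, 0, 0, 0, 0, 0, 0, 0, -4, 0, 4, 4, 4, 0, 0, 0, 0, 0, 0],
  [4, 0, 4, 0, 0, 0, 0, 0, 0, 0, 0, 0, 0, 0, 4, 0, 0, 0, 0, 0, -4, 0, 0, 0],
  [0, 0, 0, 4, 0, 0, 0, 4, 0, 4, 0, 0, 0, 0, 0, 0, 0, 0, 0, -4, 0, 0, 0, 0],
  [0, 0, 0, 0, 0, 0, 0, 0, 0, 0, 0, 4, 0, 0, 0, 0, 0, 0, 0, 0, 0, -4, 4, 4],
  [0, 0, 0, 0, 0, 0, 0, 0, 0, 0, 0, 0, 0, -4, 0, 4, -4, -4, 0, 0, 0, 0, 0, 0],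
  [0, 0, 0, 0, 0, 0, 0, 0, 0, 0, 0, 4, 0, 0, 0, 0, 0, 0, 0, 0, 0, 4, -4, 4],
  [0, 0, 0, -4, 0, 0, 0, 4, 0, 4, 0, 0, 0, 0, 0, 0, 0, 0, 0, 4, 0, 0, 0, 0],
  [0, 0, 0, 0, 0, -4, 0, 0, 0, 0, -4, 0, -4, 0, 0, 0, 0, 0, 4, 0, 0, 0, 0, 0],
  [0, 0, 0, 0, 0, 4, 0, 0, 0, 0, 4, 0, -4, 0, 0, 0, 0, 0, 4, 0, 0, 0, 0, 0],
  [0, 0, 0, 0, 0, 4, 0, 0, 0, 0, -4, 0, -4, 0, 0, 0, 0, 0, -4, 0, 0, 0, 0, 0],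
  [0, 4, 0, 0, 4, 0, 4, 0, -4, 0, 0, 0, 0, 0, 0, 0, 0, 0, 0, 0, 0, 0, 0, 0],
  [0, 4, 0, 0, -4, 0, 4, 0, 4, 0, 0, 0, 0, 0, 0, 0, 0, 0, 0, 0, 0, 0, 0, 0],
  [0, 0, 0, 0, 0, 0, 0, 0, 0, 0, 0, 0, 0, -4, 0, -4, 4, -4, 0, 0, 0, 0, 0, 0],
  [0, 0, 0, 0, 0, 0, 0, 0, 0, 0, 0, -4, 0, 0, 0, 0, 0, 0, 0, 0, 0, -4, -4, 4]]

/-- partial product matrix -/
def tP6 : List (List ℤ) :=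
  [[-2, 0, 2, 0, 0, -2, 0, 0, 0, 0, 2, 0, -2, 0, 2, 0, 0, 0, -2, 0, 2, -4, -4, 0],
  [-2, 0, 2, 0, 0, 2, 0, 0, 0, 0, -2, -4, 2, 0, 2, 0, 0, 0, 2, 0, 2, 0, 0, 4],
  [-2, -4, 2, 0, 0, -2, 0, 0, -4, 0, 2, 0, 2, 0, -2, 0, 0, 0, 2, 0, -2, 0, 0, 0],
  [2, 0, 2, 0, 0, -2, 0, -4, 0, 0, -2, 0, 2, 0, -2, 0, 0, 0, -2, -4, 2, 0, 0, 0],
  [0, 2, 0, 2, -2, 0, -2, -2, -2, 2, 0, -2, 0, 2, 0, 2, 2, -2, 0, 2, 0, -2, 2, -2],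
  [0, -2, 0, 2, 2, 0, 2, -2, 2, 2, 0, -2, 0, -2, 0, -2, -2, 2, 0, 2, 0, -2, 2, -2],
  [2, 0, -2, 0, 4, -2, -4, 0, 0, 0, 2, 0, 2, 0, 2, 0, 0, 0, 2, 0, 2, 0, 0, 0],
  [2, 0, -2, 0, 0, -2, 0, 0, 0, 0, 2, -4, -2, 0, -2, 0, 0, 0, -2, 0, -2, 0, 0, 4],
  [0, -2, 0, -2, 2, 0, 2, 2, 2, -2, 0, -2, 0, 2, 0, 2, 2, -2, 0, -2, 0, -2, 2, -2],
  [-2, 0, -2, 4, 0, -2, 0, 0, 0, -4, -2, 0, 2, 0, 2, 0, 0, 0, -2, 0, -2, 0, 0, 0],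
  [-2, 0, -2, 0, 0, 2, 0, 0, 0, 0, 2, 0, 2, 0, -2, 4, 0, 4, -2, 0, 2, 0, 0, 0],
  [2, 0, 2, 0, 0, 2, 0, 0, 0, 0, 2, 0, 2, 4, 2, 0, -4, 0, -2, 0, -2, 0, 0, 0],
  [0, -2, 0, 2, -2, 0, -2, 2, 2, 2, 0, -2, 0, 2, 0, -2, 2, 2, 0, -2, 0, 2, -2, -2],
  [0, -2, 0, -2, -2, 0, -2, -2, 2, -2, 0, 2, 0, 2, 0, -2, 2, 2, 0, 2, 0, -2, 2, 2],
  [0, -2, 0, -2, -2, 0, -2, -2, 2, -2, 0, -2, 0, -2, 0, 2, -2, -2, 0, 2, 0, 2, -2, -2],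
  [0, -2, 0, 2, 2, 0, 2, -2, 2, 2, 0, 2, 0, 2, 0, 2, 2, -2, 0, 2, 0, 2, -2, 2],
  [-2, 0, -2, -4, 0, -2, 0, 0, 0, 4, -2, 0, 2, 0, 2, 0, 0, 0, -2, 0, -2, 0, 0, 0],
  [-2, 0, -2, 0, 0, -2, 0, 0, 0, 0, -2, 0, -2, 4, -2, 0, -4, 0, 2, 0, 2, 0, 0, 0],
  [-2, 0, -2, 0, 0, 2, 0, -4, 0, 0, 2, 0, -2, 0, 2, 0, 0, 0, 2, -4, -2, 0, 0, 0],
  [2, -4, -2, 0, 0, 2, 0, 0, -4, 0, -2, 0, -2, 0, 2, 0, 0, 0, -2, 0, 2, 0, 0, 0],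
  [0, 2, 0, -2, 2, 0, 2, -2, -2, -2, 0, -2, 0, 2, 0, -2, 2, 2, 0, 2, 0, 2, -2, -2],
  [2, 0, -2, 0, -4, -2, 4, 0, 0, 0, 2, 0, 2, 0, 2, 0, 0, 0, 2, 0, 2, 0, 0, 0],
  [-2, 0, -2, 0, 0, 2, 0, 0, 0, 0, 2, 0, 2, 0, -2, -4, 0, -4, -2, 0, 2, 0, 0, 0],
  [-2, 0, 2, 0, 0, -2, 0, 0, 0, 0, 2, 0, -2, 0, 2, 0, 0, 0, -2, 0, 2, 4, 4, 0]]

/-- partial product matrix -/
def tP7 : List (List ℤ) :=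
  [[-2, 0, 2, 0, 0, -2, 0, 0, 0, 0, 2, 0, -2, 0, 2, 0, 0, 0, -2, 0, 2, 4, 4, 0],
  [2, 0, -2, 0, 0, -2, 0, 0, 0, 0, 2, -4, -2, 0, -2, 0, 0, 0, -2, 0, -2, 0, 0, 4],
  [0, 2, 0, -2, 2, 0, 2, -2, -2, -2, 0, -2, 0, 2, 0, -2, 2, 2, 0, 2, 0, 2, -2, -2],
  [-2, 0, -2, 4, 0, -2, 0, 0, 0, -4, -2, 0, 2, 0, 2, 0, 0, 0, -2, 0, -2, 0, 0, 0],
  [0, -2, 0, 2, 2, 0, 2, -2, 2, 2, 0, 2, 0, 2, 0, 2, 2, -2, 0, 2, 0, 2, -2, 2],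
  [0, -2, 0, -2, -2, 0, -2, -2, 2, -2, 0, -2, 0, -2, 0, 2, -2, -2, 0, 2, 0, 2, -2, -2],
  [2, 0, -2, 0, -4, -2, 4, 0, 0, 0, 2, 0, 2, 0, 2, 0, 0, 0, 2, 0, 2, 0, 0, 0],
  [2, 0, 2, 0, 0, -2, 0, -4, 0, 0, -2, 0, 2, 0, -2, 0, 0, 0, -2, -4, 2, 0, 0, 0],
  [-2, 0, 2, 0, 0, 2, 0, 0, 0, 0, -2, -4, 2, 0, 2, 0, 0, 0, 2, 0, 2, 0, 0, 4],
  [-2, -4, 2, 0, 0, -2, 0, 0, -4, 0, 2, 0, 2, 0, -2, 0, 0, 0, 2, 0, -2, 0, 0, 0],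
  [0, -2, 0, 2, -2, 0, -2, 2, 2, 2, 0, -2, 0, 2, 0, -2, 2, 2, 0, -2, 0, 2, -2, -2],
  [-2, 0, -2, -4, 0, -2, 0, 0, 0, 4, -2, 0, 2, 0, 2, 0, 0, 0, -2, 0, -2, 0, 0, 0],
  [0, 2, 0, 2, -2, 0, -2, -2, -2, 2, 0, -2, 0, 2, 0, 2, 2, -2, 0, 2, 0, -2, 2, -2],
  [0, -2, 0, -2, 2, 0, 2, 2, 2, -2, 0, -2, 0, 2, 0, 2, 2, -2, 0, -2, 0, -2, 2, -2],
  [-2, 0, -2, 0, 0, 2, 0, -4, 0, 0, 2, 0, -2, 0, 2, 0, 0, 0, 2, -4, -2, 0, 0, 0],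
  [2, -4, -2, 0, 0, 2, 0, 0, -4, 0, -2, 0, -2, 0, 2, 0, 0, 0, -2, 0, 2, 0, 0, 0],
  [-2, 0, -2, 0, 0, -2, 0, 0, 0, 0, -2, 0, -2, 4, -2, 0, -4, 0, 2, 0, 2, 0, 0, 0],
  [-2, 0, -2, 0, 0, 2, 0, 0, 0, 0, 2, 0, 2, 0, -2, -4, 0, -4, -2, 0, 2, 0, 0, 0],
  [2, 0, -2, 0, 4, -2, -4, 0, 0, 0, 2, 0, 2, 0, 2, 0, 0, 0, 2, 0, 2, 0, 0, 0],
  [0, -2, 0, 2, 2, 0, 2, -2, 2, 2, 0, -2, 0, -2, 0, -2, -2, 2, 0, 2, 0, -2, 2, -2],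
  [2, 0, 2, 0, 0, 2, 0, 0, 0, 0, 2, 0, 2, 4, 2, 0, -4, 0, -2, 0, -2, 0, 0, 0],
  [-2, 0, 2, 0, 0, -2, 0, 0, 0, 0, 2, 0, -2, 0, 2, 0, 0, 0, -2, 0, 2, -4, -4, 0],
  [0, -2, 0, -2, -2, 0, -2, -2, 2, -2, 0, 2, 0, 2, 0, -2, 2, 2, 0, 2, 0, -2, 2, 2],
  [-2, 0, -2, 0, 0, 2, 0, 0, 0, 0, 2, 0, 2, 0, -2, 4, 0, 4, -2, 0, 2, 0, 0, 0]]

/-- partial product matrix -/
def tP8 : List (List ℤ) :=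
  [[2, 0, -2, 0, 0, 2, 0, 0, 0, 0, -2, 0, 2, 0, -2, 0, 0, 0, 2, 0, -2, -4, -4, 0],
  [-2, 0, 2, 0, 0, 2, 0, 0, 0, 0, -2, 4, 2, 0, 2, 0, 0, 0, 2, 0, 2, 0, 0, -4],
  [0, 2, 0, -2, 2, 0, 2, -2, -2, -2, 0, -2, 0, 2, 0, -2, 2, 2, 0, 2, 0, 2, -2, -2],
  [-2, 0, -2, 4, 0, -2, 0, 0, 0, -4, -2, 0, 2, 0, 2, 0, 0, 0, -2, 0, -2, 0, 0, 0],
  [0, -2, 0, 2, 2, 0, 2, -2, 2, 2, 0, 2, 0, 2, 0, 2, 2, -2, 0, 2, 0, 2, -2, 2],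
  [0, -2, 0, -2, -2, 0, -2, -2, 2, -2, 0, -2, 0, -2, 0, 2, -2, -2, 0, 2, 0, 2, -2, -2],
  [-2, 0, 2, 0, 4, 2, -4, 0, 0, 0, -2, 0, -2, 0, -2, 0, 0, 0, -2, 0, -2, 0, 0, 0],
  [2, 0, 2, 0, 0, -2, 0, -4, 0, 0, -2, 0, 2, 0, -2, 0, 0, 0, -2, -4, 2, 0, 0, 0],
  [2, 0, -2, 0, 0, -2, 0, 0, 0, 0, 2, 4, -2, 0, -2, 0, 0, 0, -2, 0, -2, 0, 0, -4],
  [-2, -4, 2, 0, 0, -2, 0, 0, -4, 0, 2, 0, 2, 0, -2, 0, 0, 0, 2, 0, -2, 0, 0, 0],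
  [0, 2, 0, -2, 2, 0, 2, -2, -2, -2, 0, 2, 0, -2, 0, 2, -2, -2, 0, 2, 0, -2, 2, 2],
  [-2, 0, -2, -4, 0, -2, 0, 0, 0, 4, -2, 0, 2, 0, 2, 0, 0, 0, -2, 0, -2, 0, 0, 0],
  [0, -2, 0, -2, 2, 0, 2, 2, 2, -2, 0, 2, 0, -2, 0, -2, -2, 2, 0, -2, 0, 2, -2, 2],
  [0, -2, 0, -2, 2, 0, 2, 2, 2, -2, 0, -2, 0, 2, 0, 2, 2, -2, 0, -2, 0, -2, 2, -2],
  [-2, 0, -2, 0, 0, 2, 0, -4, 0, 0, 2, 0, -2, 0, 2, 0, 0, 0, 2, -4, -2, 0, 0, 0],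
  [2, -4, -2, 0, 0, 2, 0, 0, -4, 0, -2, 0, -2, 0, 2, 0, 0, 0, -2, 0, 2, 0, 0, 0],
  [-2, 0, -2, 0, 0, -2, 0, 0, 0, 0, -2, 0, -2, 4, -2, 0, -4, 0, 2, 0, 2, 0, 0, 0],
  [2, 0, 2, 0, 0, -2, 0, 0, 0, 0, -2, 0, -2, 0, 2, 4, 0, 4, 2, 0, -2, 0, 0, 0],
  [-2, 0, 2, 0, -4, 2, 4, 0, 0, 0, -2, 0, -2, 0, -2, 0, 0, 0, -2, 0, -2, 0, 0, 0],
  [0, 2, 0, -2, -2, 0, -2, 2, -2, -2, 0, 2, 0, 2, 0, 2, 2, -2, 0, -2, 0, 2, -2, 2],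
  [2, 0, 2, 0, 0, 2, 0, 0, 0, 0, 2, 0, 2, 4, 2, 0, -4, 0, -2, 0, -2, 0, 0, 0],
  [2, 0, -2, 0, 0, 2, 0, 0, 0, 0, -2, 0, 2, 0, -2, 0, 0, 0, 2, 0, -2, 4, 4, 0],
  [0, 2, 0, 2, 2, 0, 2, 2, -2, 2, 0, -2, 0, -2, 0, 2, -2, -2, 0, -2, 0, 2, -2, -2],
  [2, 0, 2, 0, 0, -2, 0, 0, 0, 0, -2, 0, -2, 0, 2, -4, 0, -4, 2, 0, -2, 0, 0, 0]]

/-- partial product matrix -/
def tP9 : List (List ℤ) :=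
  [[0, 0, 4, 0, 0, -2, 0, -2, 0, 0, -2, 2, 0, 0, 2, -2, 0, -2, 0, -2, 2, 2, 2, -2],
  [4, 0, 0, 0, 0, -2, 0, -2, 0, 0, -2, -2, 0, 0, -2, -2, 0, -2, 0, -2, -2, -2, -2, 2],
  [0, 0, 0, 0, 0, -2, 4, -2, 0, 0, 2, -2, 0, 0, 2, -2, 0, 2, 0, 2, 2, -2, -2, -2],
  [2, 2, -2, 2, 2, 0, -2, 0, 2, -2, 0, 0, 2, -2, 4, 0, 2, 0, -2, 0, 0, 0, 0, 0],
  [-2, 2, 2, 2, 2, 0, 2, 0, 2, 2, 0, 0, 2, 2, 0, 0, 2, 0, 2, 0, 0, 0, 0, 4],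
  [-2, 2, 2, -2, -2, 0, -2, 0, 2, -2, 0, -4, 2, -2, 0, 0, -2, 0, 2, 0, 0, 0, 0, 0],
  [-2, -2, 2, 2, 2, 0, -2, 0, 2, 2, 0, 0, -2, -2, 0, 0, -2, 0, -2, 0, 0, -4, 0, 0],
  [0, 0, 0, 0, 0, 2, 0, 2, 0, 0, -2, 2, 0, 0, 2, -2, 0, -2, 4, 2, -2, -2, -2, -2],
  [0, 4, 0, 0, 0, -2, 0, 2, 0, 0, 2, 2, 0, 0, -2, -2, 0, 2, 0, -2, -2, -2, 2, -2],
  [2, -2, 2, -2, 2, 0, -2, 0, -2, 2, 4, 0, 2, -2, 0, 0, 2, 0, 2, 0, 0, 0, 0, 0],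
  [0, 0, 0, 0, 0, 2, 0, -2, 0, -4, 2, 2, 0, 0, -2, -2, 0, -2, 0, 2, 2, -2, 2, 2],
  [-2, -2, -2, -2, -2, 0, -2, 0, 2, 2, 0, 0, 2, 2, 0, -4, 2, 0, -2, 0, 0, 0, 0, 0],
  [0, 0, 0, 0, 0, -2, 0, 2, 0, 0, -2, 2, 0, -4, -2, -2, 0, 2, 0, 2, 2, 2, -2, 2],
  [0, 0, 0, 0, 0, -2, 0, 2, 0, 0, -2, -2, 0, 0, -2, 2, 4, -2, 0, 2, 2, -2, 2, -2],
  [-2, 2, -2, 2, -2, 0, -2, -4, -2, 2, 0, 0, -2, -2, 0, 0, 2, 0, 2, 0, 0, 0, 0, 0],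
  [0, 0, 0, 0, 0, 2, 0, 2, -4, 0, -2, -2, 0, 0, 2, -2, 0, 2, 0, -2, 2, -2, 2, 2],
  [2, 2, -2, -2, 2, 0, -2, 0, 2, 2, 0, 0, -2, 2, 0, 0, -2, 0, 2, 0, 4, 0, 0, 0],
  [2, -2, 2, 2, -2, 0, -2, 0, 2, -2, 0, 0, -2, 2, 0, 0, 2, 4, 2, 0, 0, 0, 0, 0],
  [2, 2, 2, -2, -2, 4, 2, 0, 2, 2, 0, 0, -2, -2, 0, 0, 2, 0, -2, 0, 0, 0, 0, 0],
  [0, 0, 0, 0, -4, -2, 0, 2, 0, 0, 2, 2, 0, 0, 2, 2, 0, -2, 0, -2, 2, -2, -2, 2],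
  [2, 2, 2, 2, -2, 0, -2, 0, -2, 2, 0, 0, 2, 2, 0, 0, -2, 0, -2, 4, 0, 0, 0, 0],
  [2, -2, -2, 2, -2, 0, 2, 0, 2, 2, 0, 0, 2, -2, 0, 0, -2, 0, 2, 0, 0, 0, 4, 0],
  [0, 0, 0, 4, 0, 2, 0, 2, 0, 0, 2, -2, 0, 0, -2, -2, 0, -2, 0, -2, 2, 2, -2, -2],
  [0, 0, 0, 0, 0, 2, 0, -2, 0, 0, -2, 2, 4, 0, -2, 2, 0, 2, 0, -2, 2, -2, -2, -2]]

/-- partial product matrix -/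
def tP10 : List (List ℤ) :=
  [[0, 0, -4, 0, 0, 2, 0, 2, 0, 0, 2, -2, 0, 0, -2, 2, 0, 2, 0, 2, -2, -2, -2, 2],
  [-4, 0, 0, 0, 0, 2, 0, 2, 0, 0, 2, 2, 0, 0, 2, 2, 0, 2, 0, 2, 2, 2, 2, -2],
  [0, 0, 0, 0, 0, 2, -4, 2, 0, 0, -2, 2, 0, 0, -2, 2, 0, -2, 0, -2, -2, 2, 2, 2],
  [2, 2, -2, 2, 2, 0, -2, 0, 2, -2, 0, 0, 2, -2, 4, 0, 2, 0, -2, 0, 0, 0, 0, 0],
  [-2, 2, 2, 2, 2, 0, 2, 0, 2, 2, 0, 0, 2, 2, 0, 0, 2, 0, 2, 0, 0, 0, 0, 4],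
  [2, -2, -2, 2, 2, 0, 2, 0, -2, 2, 0, 4, -2, 2, 0, 0, 2, 0, -2, 0, 0, 0, 0, 0],
  [2, 2, -2, -2, -2, 0, 2, 0, -2, -2, 0, 0, 2, 2, 0, 0, 2, 0, 2, 0, 0, 4, 0, 0],
  [0, 0, 0, 0, 0, -2, 0, -2, 0, 0, 2, -2, 0, 0, -2, 2, 0, 2, -4, -2, 2, 2, 2, 2],
  [0, -4, 0, 0, 0, 2, 0, -2, 0, 0, -2, -2, 0, 0, 2, 2, 0, -2, 0, 2, 2, 2, -2, 2],
  [2, -2, 2, -2, 2, 0, -2, 0, -2, 2, 4, 0, 2, -2, 0, 0, 2, 0, 2, 0, 0, 0, 0, 0],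
  [0, 0, 0, 0, 0, 2, 0, -2, 0, -4, 2, 2, 0, 0, -2, -2, 0, -2, 0, 2, 2, -2, 2, 2],
  [2, 2, 2, 2, 2, 0, 2, 0, -2, -2, 0, 0, -2, -2, 0, 4, -2, 0, 2, 0, 0, 0, 0, 0],
  [0, 0, 0, 0, 0, -2, 0, 2, 0, 0, -2, 2, 0, -4, -2, -2, 0, 2, 0, 2, 2, 2, -2, 2],
  [0, 0, 0, 0, 0, 2, 0, -2, 0, 0, 2, 2, 0, 0, 2, -2, -4, 2, 0, -2, -2, 2, -2, 2],
  [2, -2, 2, -2, 2, 0, 2, 4, 2, -2, 0, 0, 2, 2, 0, 0, -2, 0, -2, 0, 0, 0, 0, 0],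
  [0, 0, 0, 0, 0, 2, 0, 2, -4, 0, -2, -2, 0, 0, 2, -2, 0, 2, 0, -2, 2, -2, 2, 2],
  [2, 2, -2, -2, 2, 0, -2, 0, 2, 2, 0, 0, -2, 2, 0, 0, -2, 0, 2, 0, 4, 0, 0, 0],
  [2, -2, 2, 2, -2, 0, -2, 0, 2, -2, 0, 0, -2, 2, 0, 0, 2, 4, 2, 0, 0, 0, 0, 0],
  [2, 2, 2, -2, -2, 4, 2, 0, 2, 2, 0, 0, -2, -2, 0, 0, 2, 0, -2, 0, 0, 0, 0, 0],
  [0, 0, 0, 0, -4, -2, 0, 2, 0, 0, 2, 2, 0, 0, 2, 2, 0, -2, 0, -2, 2, -2, -2, 2],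
  [2, 2, 2, 2, -2, 0, -2, 0, -2, 2, 0, 0, 2, 2, 0, 0, -2, 0, -2, 4, 0, 0, 0, 0],
  [2, -2, -2, 2, -2, 0, 2, 0, 2, 2, 0, 0, 2, -2, 0, 0, -2, 0, 2, 0, 0, 0, 4, 0],
  [0, 0, 0, -4, 0, -2, 0, -2, 0, 0, -2, 2, 0, 0, 2, 2, 0, 2, 0, 2, -2, -2, 2, 2],
  [0, 0, 0, 0, 0, -2, 0, 2, 0, 0, 2, -2, -4, 0, 2, -2, 0, -2, 0, 2, -2, 2, 2, 2]]

/-- partial product matrix -/
def tM : List (List ℤ) :=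
  [[-4, 0, 0, 0, 0, 2, 0, 2, 0, 0, 2, 2, 0, 0, 2, 2, 0, 2, 0, 2, 2, 2, 2, -2],
  [0, -4, 0, 0, 0, 2, 0, -2, 0, 0, -2, -2, 0, 0, 2, 2, 0, -2, 0, 2, 2, 2, -2, 2],
  [0, 0, -4, 0, 0, 2, 0, 2, 0, 0, 2, -2, 0, 0, -2, 2, 0, 2, 0, 2, -2, -2, -2, 2],
  [0, 0, 0, -4, 0, -2, 0, -2, 0, 0, -2, 2, 0, 0, 2, 2, 0, 2, 0, 2, -2, -2, 2, 2],
  [0, 0, 0, 0, -4, -2, 0, 2, 0, 0, 2, 2, 0, 0, 2, 2, 0, -2, 0, -2, 2, -2, -2, 2],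
  [2, 2, 2, -2, -2, 4, 2, 0, 2, 2, 0, 0, -2, -2, 0, 0, 2, 0, -2, 0, 0, 0, 0, 0],
  [0, 0, 0, 0, 0, 2, -4, 2, 0, 0, -2, 2, 0, 0, -2, 2, 0, -2, 0, -2, -2, 2, 2, 2],
  [2, -2, 2, -2, 2, 0, 2, 4, 2, -2, 0, 0, 2, 2, 0, 0, -2, 0, -2, 0, 0, 0, 0, 0],
  [0, 0, 0, 0, 0, 2, 0, 2, -4, 0, -2, -2, 0, 0, 2, -2, 0, 2, 0, -2, 2, -2, 2, 2],
  [0, 0, 0, 0, 0, 2, 0, -2, 0, -4, 2, 2, 0, 0, -2, -2, 0, -2, 0, 2, 2, -2, 2, 2],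
  [2, -2, 2, -2, 2, 0, -2, 0, -2, 2, 4, 0, 2, -2, 0, 0, 2, 0, 2, 0, 0, 0, 0, 0],
  [2, -2, -2, 2, 2, 0, 2, 0, -2, 2, 0, 4, -2, 2, 0, 0, 2, 0, -2, 0, 0, 0, 0, 0],
  [0, 0, 0, 0, 0, -2, 0, 2, 0, 0, 2, -2, -4, 0, 2, -2, 0, -2, 0, 2, -2, 2, 2, 2],
  [0, 0, 0, 0, 0, -2, 0, 2, 0, 0, -2, 2, 0, -4, -2, -2, 0, 2, 0, 2, 2, 2, -2, 2],
  [2, 2, -2, 2, 2, 0, -2, 0, 2, -2, 0, 0, 2, -2, 4, 0, 2, 0, -2, 0, 0, 0, 0, 0],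
  [2, 2, 2, 2, 2, 0, 2, 0, -2, -2, 0, 0, -2, -2, 0, 4, -2, 0, 2, 0, 0, 0, 0, 0],
  [0, 0, 0, 0, 0, 2, 0, -2, 0, 0, 2, 2, 0, 0, 2, -2, -4, 2, 0, -2, -2, 2, -2, 2],
  [2, -2, 2, 2, -2, 0, -2, 0, 2, -2, 0, 0, -2, 2, 0, 0, 2, 4, 2, 0, 0, 0, 0, 0],
  [0, 0, 0, 0, 0, -2, 0, -2, 0, 0, 2, -2, 0, 0, -2, 2, 0, 2, -4, -2, 2, 2, 2, 2],
  [2, 2, 2, 2, -2, 0, -2, 0, -2, 2, 0, 0, 2, 2, 0, 0, -2, 0, -2, 4, 0, 0, 0, 0],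
  [2, 2, -2, -2, 2, 0, -2, 0, 2, 2, 0, 0, -2, 2, 0, 0, -2, 0, 2, 0, 4, 0, 0, 0],
  [2, 2, -2, -2, -2, 0, 2, 0, -2, -2, 0, 0, 2, 2, 0, 0, 2, 0, 2, 0, 0, 4, 0, 0],
  [2, -2, -2, 2, -2, 0, 2, 0, 2, 2, 0, 0, 2, -2, 0, 0, -2, 0, 2, 0, 0, 0, 4, 0],
  [-2, 2, 2, 2, 2, 0, 2, 0, 2, 2, 0, 0, 2, 2, 0, 0, 2, 0, 2, 0, 0, 0, 0, 4]]

theorem isMat_tE : IsMat tE tM := by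
  have h1 := isMat_pc tc1 tc1_ok
  have h2 := h1.mul (isMat_sc tm1 tm1_ok) (R := tP2) (by decide +kernel)
  have h3 := h2.mul (isMat_xiInv) (R := tP3) (by decide +kernel)
  have h4 := h3.mul (isMat_pc tc2 tc2_ok) (R := tP4) (by decide +kernel)
  have h5 := h4.mul (isMat_sc tm2 tm2_ok) (R := tP5) (by decide +kernel)
  have h6 := h5.mul (isMat_xiInv) (R := tP6) (by decide +kernel)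
  have h7 := h6.mul (isMat_pc tc3 tc3_ok) (R := tP7) (by decide +kernel)
  have h8 := h7.mul (isMat_sc tm3 tm3_ok) (R := tP8) (by decide +kernel)
  have h9 := h8.mul (isMat_xiInv) (R := tP9) (by decide +kernel)
  have h10 := h9.mul (isMat_sc tm4 tm4_ok) (R := tP10) (by decide +kernel)
  have h11 := h10.mul (isMat_pc tc4 tc4_ok) (R := tM) (by decide +kernel)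
  exact h11

/-- the coordinate permutations -/
noncomputable def pA : Co0 := permAut gA gA_mem
noncomputable def pB : Co0 := permAut gDbl gDbl_mem
noncomputable def pW : Co0 := permAut cubeTwist cubeTwist_mem

theorem isMat_pA : IsMat pA (permM cA) := isMat_perm isTbl_gA _
theorem isMat_pB : IsMat pB (permM cDbl) := isMat_perm isTbl_gDbl _
theorem isMat_pW : IsMat pW (permM cC) := isMat_perm isTbl_cubeTwist _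

theorem leechV_vec : ((Spor.leechV : leechLattice) : GolayPt → ℤ) = vecL [-1, -1, -1, -1, -1, -1, -1, -1, -1, -1, -1, -1, -1, -1, -1, -1, -1, -1, -1, -1, -1, -1, -1, -5] := by
  funext p
  show Spor.vecV p = _
  revert p
  decide

theorem U4_vec : ((U4 : leechLattice) : GolayPt → ℤ) = vecL [0, 0, 0, 0, 0, 0, 0, 0, 0, 0, 0, 0, 0, 0, 0, 0, 0, 0, 0, 0, 0, 0, 0, 8] := by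
  funext p
  rw [U4, P_diag_apply]
  revert p
  decide

theorem leechU'_vec : ((Spor.leechU' : leechLattice) : GolayPt → ℤ) = vecL [-4, 0, 0, 0, 0, 0, 0, 0, 0, 0, 0, 0, 0, 0, 0, 0, 0, 0, 0, 0, 0, 0, 0, 4] := by
  funext p
  show Spor.vecU' p = _
  revert p
  decide

theorem hsPt_vec : ((hsPt : leechLattice) : GolayPt → ℤ) = vecL [-4, 0, 0, 0, 0, 0, 0, 0, 0, 0, 0, 0, 0, 0, 0, 0, 0, 0, 0, 0, 0, 0, 0, -4] := by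
  funext p
  show -Spor.vecU p = _
  revert p
  decide

theorem tE_V : tE • Spor.leechV = Spor.leechV :=
  Subtype.ext ((isMat_tE.vec leechV_vec (l' := [-1, -1, -1, -1, -1, -1, -1, -1, -1, -1, -1, -1, -1, -1, -1, -1, -1, -1, -1, -1, -1, -1, -1, -5]) (by decide +kernel)).trans
    leechV_vec.symm)

/-- the image of `(8, 0^23)` under `tE` -/
noncomputable def Z1 : leechLattice := tE • U4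

theorem Z1_vec : ((Z1 : leechLattice) : GolayPt → ℤ) = vecL [-2, 2, 2, 2, 2, 0, 2, 0, 2, 2, 0, 0, 2, 2, 0, 0, 2, 0, 2, 0, 0, 0, 0, 4] :=
  isMat_tE.vec U4_vec (by decide +kernel)

theorem tE_sq : tE * tE = 1 :=
  ((isMat_tE.mul' isMat_tE (by decide +kernel)).of_eqChk
    (by decide +kernel : eqChk (mmul tM tM) idM = true)).ext isMat_one

theorem tE_comm_pB : tE * pB = pB * tE :=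
  ((isMat_tE.mul' isMat_pB (by decide +kernel)).of_eqChk
    (by decide +kernel : eqChk (mmul tM (permM cDbl)) (mmul (permM cDbl) tM) = true)).ext
    (isMat_pB.mul' isMat_tE (by decide +kernel))

theorem tE_comm_pW : tE * pW = pW * tE :=
  ((isMat_tE.mul' isMat_pW (by decide +kernel)).of_eqChk
    (by decide +kernel : eqChk (mmul tM (permM cC)) (mmul (permM cC) tM) = true)).ext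
    (isMat_pW.mul' isMat_tE (by decide +kernel))

def hc1 : ℕ := 0xbcd4e2c96ca3c503d4c0b122d40523

theorem hc1_ok : codeM24 hc1 = true := by decide +kernel

/-- a non-monomial element fixing `(−5, −1^23)` and `(4, −4, 0^22)` -/
noncomputable def hE : Co0 := tE * pc hc1 hc1_ok * tE

theorem hE_U' : hE • Spor.leechU' = Spor.leechU' := by
  have e1 := isMat_tE.vec leechU'_vec (l' := [1, 1, 1, 1, 1, -1, 1, -1, 1, 1, -1, -1, 1, 1, -1, -1, 1, -1, 1, -1, -1, -1, -1, 3]) (by decide +kernel)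
  have e2 := (isMat_pc hc1 hc1_ok).vec e1 (l' := [1, 1, 1, 1, 1, -1, 1, -1, 1, 1, -1, -1, 1, 1, -1, -1, 1, -1, 1, -1, -1, -1, -1, 3]) (by decide +kernel)
  have e3 := isMat_tE.vec e2 (l' := [-4, 0, 0, 0, 0, 0, 0, 0, 0, 0, 0, 0, 0, 0, 0, 0, 0, 0, 0, 0, 0, 0, 0, 4]) (by decide +kernel)
  apply Subtype.ext
  rw [hE, mul_smul, mul_smul, e3, leechU'_vec]

theorem hE_hsPt : hE • hsPt ≠ hsPt := by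
  have e1 := isMat_tE.vec hsPt_vec (l' := [3, -1, -1, -1, -1, -1, -1, -1, -1, -1, -1, -1, -1, -1, -1, -1, -1, -1, -1, -1, -1, -1, -1, -1]) (by decide +kernel)
  have e2 := (isMat_pc hc1 hc1_ok).vec e1 (l' := [-1, -1, -1, 3, -1, -1, -1, -1, -1, -1, -1, -1, -1, -1, -1, -1, -1, -1, -1, -1, -1, -1, -1, -1]) (by decide +kernel)
  have e3 := isMat_tE.vec e2 (l' := [-2, 0, 0, -2, 0, -2, 0, -2, 0, 0, -2, 0, 0, 0, 0, 0, 0, 0, 0, 0, -2, -2, 0, -2]) (by decide +kernel)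
  intro h
  have h1 : ((hE • hsPt : leechLattice) : GolayPt → ℤ) = vecL [-2, 0, 0, -2, 0, -2, 0, -2, 0, 0, -2, 0, 0, 0, 0, 0, 0, 0, 0, 0, -2, -2, 0, -2] := by
    rw [hE, mul_smul, mul_smul, e3]
  rw [h, hsPt_vec] at h1
  have h2 := congrFun h1 none
  revert h2
  decide

end Cfsg.Agent.Helper92.Co3Out
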