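import Cfsg.Agent.Helper92.Co3Cent

/-!
# Generation of `Co3` by three explicit elements

`Co3` is generated by the coordinate permutations of order 23 and 5 and the involution `tE`.
The proof uses the maximality of the stabiliser of a point in the two primitive actions
`Co3` on 11178 points (stabiliser `HS`) and `HS` on 100 points (stabiliser `M22`).
-/

set_option autoImplicit false

namespace Cfsg.Agent.Helper92

open MulAction

/-- **A subgroup containing a point stabiliser and moving the point is everything**, when the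
point stabiliser has suborbits `A i` of sizes `n i` and no proper partial sum of the subdegrees
plus one divides the degree. -/
theorem eq_top_of_stabilizer_le_of_suborbits {G X ι : Type*} [Group G] [MulAction G X] [Fintype ι]
    (x₀ : X) (A : ι → Set X) (n : ι → ℕ)
    (horb : orbit G x₀ = insert x₀ (⋃ i, A i)) (hx : ∀ i, x₀ ∉ A i)
    (hdisj : ∀ i j, i ≠ j → Disjoint (A i) (A j)) (hfin : ∀ i, (A i).Finite)
    (hn : ∀ i, (A i).ncard = n i)
    (harith : ∀ I : Finset ι, (1 + ∑ i ∈ I, n i) ∣ (1 + ∑ i, n i) → I = ∅ ∨ I = Finset.univ)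
    (htrans : ∀ i, ∀ y ∈ A i, ∀ y' ∈ A i, ∃ s : G, s • x₀ = x₀ ∧ s • y = y')
    (L : Subgroup G) (hS : stabilizer G x₀ ≤ L) (hmove : ∃ l ∈ L, l • x₀ ≠ x₀) : L = ⊤ := by
  have hcount := orbit_ncard_mul_index x₀ L hS
  have hZfin : (orbit G x₀).Finite := by
    rw [horb]
    exact Set.Finite.insert _ (Set.finite_iUnion hfin)
  have hsub : (orbit L x₀ : Set X) ⊆ orbit G x₀ := by
    rintro y ⟨l, rfl⟩
    exact ⟨l.1, rfl⟩
  have hinv : ∀ i, ∀ y ∈ (orbit L x₀ : Set X), y ∈ A i → A i ⊆ orbit L x₀ := by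
    intro i y hyO hyA y' hy'
    obtain ⟨s, hs, hsy⟩ := htrans i y hyA y' hy'
    obtain ⟨l, rfl⟩ := hyO
    refine ⟨⟨s, hS hs⟩ * l, ?_⟩
    rw [← hsy]
    exact mul_smul _ _ _
  rcases suborbit_cases x₀ (orbit G x₀) A n horb hx hdisj hfin hn harith (orbit L x₀)
    (mem_orbit_self x₀) hsub hinv (Dvd.intro _ hcount) with h | h
  · exfalso
    obtain ⟨l, hl, hne⟩ := hmove
    have h1 : (⟨l, hl⟩ : L) • x₀ ∈ orbit L x₀ := mem_orbit _ _
    rw [h] at h1
    exact hne h1
  · rw [h] at hcount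
    have hpos : 0 < (orbit G x₀).ncard := (Set.ncard_pos hZfin).2 ⟨x₀, mem_orbit_self x₀⟩
    have h1 : L.index = 1 := by
      have h2 : (orbit G x₀).ncard * L.index = (orbit G x₀).ncard * 1 := by rw [hcount, mul_one]
      exact Nat.eq_of_mul_eq_mul_left hpos h2
    exact Subgroup.index_eq_one.1 h1

/-- a subgroup of `co3Sub` containing the stabiliser of `(4, −4, 0^22)` and moving it is
everything -/
theorem co3_eq_top_of_stab (L : Subgroup co3Sub)
    (hS : stabilizer co3Sub Cfsg.Spor.leechU' ≤ L)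
    (hmove : ∃ l ∈ L, l • Cfsg.Spor.leechU' ≠ Cfsg.Spor.leechU') : L = ⊤ :=
  eq_top_of_stabilizer_le_of_suborbits Cfsg.Spor.leechU' co3Suborb ![352, 4125, 5600, 1100]
    orbit_co3Pt co3Pt_notMem co3Suborb_disjoint co3Suborb_finite ncard_co3Suborb co3_arith_sub
    co3_suborb_trans L hS hmove

/-- a subgroup of `hsSub` containing the stabiliser of `(−4, −4, 0^22)` and moving it is
everything -/
theorem hs_eq_top_of_stab (L : Subgroup hsSub) (hS : stabilizer hsSub hsPt ≤ L)
    (hmove : ∃ l ∈ L, l • hsPt ≠ hsPt) : L = ⊤ :=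
  eq_top_of_stabilizer_le_of_suborbits hsPt hsSuborb ![77, 22] orbit_hsPt hsPt_notMem
    hsSuborb_disjoint hsSuborb_finite ncard_hsSuborb (by decide) hs_suborb_trans L hS hmove

namespace Co3Out

open Cfsg Cfsg.Agent.Helper92.Mat
open Cfsg.Agent.Helper7 (gA gDbl gA_mem gDbl_mem cubeTwist_mem isTbl_gA isTbl_gDbl
  isTbl_cubeTwist cA cDbl cC permOf codeM24 inCode powC tbl IsTbl setOf idx pt gA_none gDbl_none
  cubeTwist_none)

theorem pA_V : pA • Spor.leechV = Spor.leechV := permAut_leechV gA gA_mem gA_none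

theorem pB_V : pB • Spor.leechV = Spor.leechV := permAut_leechV gDbl gDbl_mem gDbl_none

theorem pW_V : pW • Spor.leechV = Spor.leechV := permAut_leechV cubeTwist cubeTwist_mem cubeTwist_none

/-- the four elements, in `co3Sub` -/
noncomputable def eA : co3Sub := ⟨pA, pA_V⟩
noncomputable def eB : co3Sub := ⟨pB, pB_V⟩
noncomputable def eW : co3Sub := ⟨pW, pW_V⟩
noncomputable def eT : co3Sub := ⟨tE, tE_V⟩

/-- the elements of `m23Sub` giving `eA` and `eW` -/
noncomputable def m23W : m23Sub := ⟨⟨cubeTwist, cubeTwist_mem⟩, cubeTwist_none⟩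

theorem m23Hom_A : m23Hom m23A = eA := rfl

theorem m23Hom_W : m23Hom m23W = eW := rfl

/-- every coordinate permutation fixing `∞` lies in the subgroup generated by `eA` and `eW` -/
theorem m23Hom_mem (K : Subgroup co3Sub) (hA : eA ∈ K) (hW : eW ∈ K) (π : m23Sub) :
    m23Hom π ∈ K := by
  let ι : m23Sub →* Equiv.Perm GolayPt := (Subgroup.subtype M24).comp (Subgroup.subtype m23Sub)
  have hι : Function.Injective ι := by
    intro a b h
    exact Subtype.ext (Subtype.ext h)
  have h1 : π.1.1 ∈ Subgroup.closure ({gA, cubeTwist} : Set (Equiv.Perm GolayPt)) :=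
    Cfsg.Agent.Helper7.M23_le ⟨π.1.2, π.2⟩
  have h2 : ({gA, cubeTwist} : Set (Equiv.Perm GolayPt)) = ι '' ({m23A, m23W} : Set m23Sub) := by
    rw [Set.image_pair]
    rfl
  rw [h2, ← MonoidHom.map_closure] at h1
  obtain ⟨π', hπ', he⟩ := h1
  have h3 : π' = π := hι he
  rw [← h3]
  have h4 : Subgroup.closure ({m23A, m23W} : Set m23Sub) ≤ K.comap m23Hom := by
    rw [Subgroup.closure_le]
    rintro x (rfl | rfl)
    · exact hA
    · exact hW
  exact h4 hπ'

theorem permOf_none {c : ℕ} (h : codeM24 c = true) (h23 : tbl c 23 = 23) : permOf c none = none := by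
  have h' := h
  rw [codeM24, Bool.and_eq_true] at h'
  have h1 := (Cfsg.Agent.Helper7.isTbl_permOf h'.1).apply_pt (j := 23) (by norm_num)
  rw [h23, Cfsg.Agent.Helper7.pt_23] at h1
  exact h1

theorem hc1_none : permOf hc1 none = none := permOf_none hc1_ok (by decide +kernel)

theorem hE_V : hE • Spor.leechV = Spor.leechV := by
  rw [hE, mul_smul, mul_smul, tE_V, pc, permAut_leechV _ _ hc1_none, tE_V]

theorem pA_U' : pA • Spor.leechU' ≠ Spor.leechU' := by
  intro h
  have e1 := isMat_pA.vec leechU'_vec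
    (l' := [0, -4, 0, 0, 0, 0, 0, 0, 0, 0, 0, 0, 0, 0, 0, 0, 0, 0, 0, 0, 0, 0, 0, 4])
    (by decide +kernel)
  rw [h, leechU'_vec] at e1
  have h2 := congrFun e1 (some 0)
  revert h2
  decide

/-- **`Co3` is generated by `eA`, `eW` and `eT`.** -/
theorem closure_co3 : Subgroup.closure ({eA, eW, eT} : Set co3Sub) = ⊤ := by
  set K := Subgroup.closure ({eA, eW, eT} : Set co3Sub) with hK
  have hA : eA ∈ K := Subgroup.subset_closure (by simp)
  have hW : eW ∈ K := Subgroup.subset_closure (by simp)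
  have hT : eT ∈ K := Subgroup.subset_closure (by simp)
  have hM := m23Hom_mem K hA hW
  -- the subgroup of `hsSub`
  let incl : hsSub →* co3Sub := Subgroup.inclusion hsSub_le_co3Sub
  have hHS : K.comap incl = ⊤ := by
    apply hs_eq_top_of_stab
    · intro h hh
      obtain ⟨π, rfl⟩ := m22Hom_surj h hh
      exact hM ⟨π.1, m22Sub_none π⟩
    · refine ⟨⟨hE, (mem_hsSub hE).2 ⟨hE_V, hE_U'⟩⟩, ?_, ?_⟩
      · show (⟨hE, _⟩ : co3Sub) ∈ K
        have h1 : (⟨hE, hE_V⟩ : co3Sub) =
            eT * m23Hom ⟨⟨permOf hc1, Cfsg.Agent.Helper7.permOf_mem_M24 hc1_ok⟩, hc1_none⟩ * eT :=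
          rfl
        rw [h1]
        exact K.mul_mem (K.mul_mem hT (hM _)) hT
      · exact hE_hsPt
  apply co3_eq_top_of_stab
  · intro g hg
    have h1 : (g : Co0) ∈ hsSub := (mem_hsSub _).2 ⟨g.2, hg⟩
    have h2 : (⟨g.1, h1⟩ : hsSub) ∈ K.comap incl := by rw [hHS]; trivial
    exact h2
  · exact ⟨eA, hA, pA_U'⟩

end Co3Out

end Cfsg.Agent.Helper92
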