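import Cfsg.Agent.Helper92.Co3SM3Tab

/-!
# Kernel checks for the normaliser of a `3^5` in Co3 (helper92, generated)

Data and checks for the table `s3`: inverse words, the conjugation action of the fifteen elements
on `v1 .. v5` (as words in `v1 .. v5`), centralising `z`, the relations of `a, b, t`, and 243
distinct images of a vector under the `3^5`.
-/

set_option autoImplicit false
set_option maxRecDepth 100000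

namespace Cfsg.Agent.Helper92.Co3SM

open Cfsg.Agent.Helper92 Cfsg.Agent.Helper92.Mat Cfsg.Agent.Helper86

/-- inverse words of the fifteen elements -/
def invL : List (List ℕ) := [[0, 0], [1, 1], [2, 2], [3, 3], [4, 4], [6], [5], [7], [9], [8], [11], [10], [12, 12], [13, 13], [14]]

/-- `cwL[j][i]`: the word of `g_j v_i g_j⁻¹` -/
def cwL : List (List (List ℕ)) := [[[0], [1], [2], [3], [4]], [[0], [1], [2], [3], [4]], [[0], [1], [2], [3], [4]], [[0], [1], [2], [3], [4]], [[0], [1], [2], [3], [4]], [[1], [2], [3], [4], [0, 1, 2, 2, 3]], [[0, 0, 1, 2, 2, 4], [0], [1], [2], [3]], [[0, 0], [1, 1], [2, 2], [3, 3], [4, 4]], [[0, 1, 1, 2, 3, 4], [0, 0, 4, 4], [0, 0, 1, 1, 4], [0, 1, 3, 4], [0, 1, 1, 2, 3, 3, 4]], [[0, 1, 1, 2, 3, 4, 4], [0, 1, 3, 4, 4], [1, 1, 3, 4], [0, 0, 4], [0, 0, 2, 2, 3, 3, 4]],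 [[0, 1, 2, 3, 4], [0, 1, 2, 3, 3, 4, 4], [0, 0, 1, 2, 3], [0], [0, 0, 1, 1, 4]], [[3], [0, 2, 2, 4, 4], [0, 1, 1, 2, 3, 3, 4], [0, 1, 2, 3, 3], [0, 2, 2, 3]], [[0], [0, 1, 2, 4], [1, 1, 3, 3, 4], [0, 0, 1, 1, 2], [2, 2]], [[0, 1, 2, 2, 3], [1, 1, 3, 4], [0, 0, 4, 4], [0, 0, 1, 1, 2, 2, 4], [0, 1, 3, 4, 4]], [[0], [0, 1, 1, 2, 3, 3, 4, 4], [0, 1, 2, 2, 4, 4], [3, 3], [0, 1, 2, 3, 3]]]

/-- `cwL'[j][i]`: the word of `g_j⁻¹ v_i g_j` -/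
def cwL' : List (List (List ℕ)) := [[[0], [1], [2], [3], [4]], [[0], [1], [2], [3], [4]], [[0], [1], [2], [3], [4]], [[0], [1], [2], [3], [4]], [[0], [1], [2], [3], [4]], [[0, 0, 1, 2, 2, 4], [0], [1], [2], [3]], [[1], [2], [3], [4], [0, 1, 2, 2, 3]], [[0, 0], [1, 1], [2, 2], [3, 3], [4, 4]], [[0, 1, 1, 2, 3, 4, 4], [0, 1, 3, 4, 4], [1, 1, 3, 4], [0, 0, 4], [0, 0, 2, 2, 3, 3, 4]], [[0, 1, 1, 2, 3, 4], [0, 0, 4, 4], [0, 0, 1, 1, 4], [0, 1, 3, 4], [0, 1, 1, 2, 3, 3, 4]], [[3], [0, 2, 2, 4, 4], [0, 1, 1, 2, 3, 3, 4], [0, 1, 2, 3, 3], [0, 2, 2, 3]], [[0, 1, 2, 3, 4], [0, 1, 2, 3, 3, 4, 4], [0, 0, 1, 2, 3], [0], [0, 0, 1, 1, 4]], [[0], [0, 0, 3, 3, 4, 4], [4, 4], [0, 1, 2, 2, 3, 3], [1, 3, 4, 4]], [[0, 1, 1, 2, 3, 3], [1, 2, 2, 4, 4], [0, 1, 2, 3, 4], [0, 1, 2, 3, 3, 4, 4], [0, 0, 1, 2, 3]], [[0],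 [0, 1, 1, 2, 3, 3, 4, 4], [0, 1, 2, 2, 4, 4], [3, 3], [0, 1, 2, 3, 3]]]

/-- the checks for the element `j` and `v_i` -/
def chkJI (j i : ℕ) : Bool :=
  wordEq s3Act ([j] ++ [i] ++ invL.getD j []) ((cwL.getD j []).getD i []) &&
  wordEq s3Act (invL.getD j [] ++ [i] ++ [j]) ((cwL'.getD j []).getD i []) &&
  ((cwL.getD j []).getD i []).all (fun l => Nat.blt l 5) &&
  ((cwL'.getD j []).getD i []).all (fun l => Nat.blt l 5)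

/-- the checks for the element `j` -/
def chkJ (j : ℕ) : Bool :=
  wordEq s3Act ([j] ++ invL.getD j []) [] && wordEq s3Act (invL.getD j [] ++ [j]) [] &&
  (Nat.blt j 5 || wordEq s3Act [j, 7] [7, j]) && allTo 5 (chkJI j)

theorem chkJ_0 : chkJ 0 = true := by
  decide +kernel

theorem chkJ_1 : chkJ 1 = true := by
  decide +kernel

theorem chkJ_2 : chkJ 2 = true := by
  decide +kernel

theorem chkJ_3 : chkJ 3 = true := by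
  decide +kernel

theorem chkJ_4 : chkJ 4 = true := by
  decide +kernel

theorem chkJ_5 : chkJ 5 = true := by
  decide +kernel

theorem chkJ_6 : chkJ 6 = true := by
  decide +kernel

theorem chkJ_7 : chkJ 7 = true := by
  decide +kernel

theorem chkJ_8 : chkJ 8 = true := by
  decide +kernel

theorem chkJ_9 : chkJ 9 = true := by
  decide +kernel

theorem chkJ_10 : chkJ 10 = true := by
  decide +kernel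

theorem chkJ_11 : chkJ 11 = true := by
  decide +kernel

theorem chkJ_12 : chkJ 12 = true := by
  decide +kernel

theorem chkJ_13 : chkJ 13 = true := by
  decide +kernel

theorem chkJ_14 : chkJ 14 = true := by
  decide +kernel

theorem chkJ_all (j : ℕ) (hj : j < 15) : chkJ j = true := by
  interval_cases j
  · exact chkJ_0
  · exact chkJ_1
  · exact chkJ_2
  · exact chkJ_3
  · exact chkJ_4
  · exact chkJ_5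
  · exact chkJ_6
  · exact chkJ_7
  · exact chkJ_8
  · exact chkJ_9
  · exact chkJ_10
  · exact chkJ_11
  · exact chkJ_12
  · exact chkJ_13
  · exact chkJ_14

theorem chkA : wordEq s3Act (([12] ++ [12]) ++ [12]) [] = true ∧
    wordEq s3Act (([13] ++ [13]) ++ [13]) [] = true ∧
    wordEq s3Act [12] [] = false ∧ wordEq s3Act [13] [] = false ∧
    wordEq s3Act [13] [12] = false ∧ wordEq s3Act [13] ([12] ++ [12]) = false ∧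
    wordEq s3Act ([12] ++ [13]) ([13] ++ [12]) = true ∧
    wordEq s3Act (([14] ++ [12]) ++ [14]) [12, 12] = true ∧
    wordEq s3Act (([14] ++ [13]) ++ [14]) [13] = true := by
  decide +kernel

theorem chkComm : allTo 5 (fun i => allTo 5 fun j =>
    wordEq s3Act ([i] ++ [j]) ([j] ++ [i])) = true := by
  decide +kernel

theorem chkV3 : allTo 5 (fun i => wordEq s3Act ([i] ++ [i, i]) []) = true := by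
  decide +kernel

theorem chkZ : allTo 5 (fun i => wordEq s3Act (([7] ++ [i]) ++ [7]) [i, i]) = true := by
  decide +kernel

theorem chkK : wordEq s3Act (([5] ++ [0]) ++ [6]) [1] = true ∧
    wordEq s3Act (([5] ++ [1]) ++ [6]) [2] = true ∧
    wordEq s3Act (([5] ++ [2]) ++ [6]) [3] = true ∧
    wordEq s3Act (([5] ++ [3]) ++ [6]) [4] = true ∧
    wordEq s3Act (([5] ++ [4]) ++ [6]) ((([0] ++ [1]) ++ [2, 2]) ++ [3]) = true := by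
  decide +kernel

/-- the 243 words in `v1 .. v5` -/
def vWords : List (List ℕ) := [[], [4], [4, 4], [3], [3, 4], [3, 4, 4], [3, 3], [3, 3, 4], [3, 3, 4, 4], [2], [2, 4], [2, 4, 4], [2, 3], [2, 3, 4], [2, 3, 4, 4], [2, 3, 3], [2, 3, 3, 4], [2, 3, 3, 4, 4], [2, 2], [2, 2, 4], [2, 2, 4, 4], [2, 2, 3], [2, 2, 3, 4], [2, 2, 3, 4, 4], [2, 2, 3, 3], [2, 2, 3, 3, 4], [2, 2, 3, 3, 4, 4], [1], [1, 4], [1, 4, 4], [1, 3], [1, 3, 4], [1, 3, 4, 4], [1, 3, 3], [1, 3, 3, 4], [1, 3, 3, 4, 4], [1, 2], [1, 2, 4], [1, 2, 4, 4], [1, 2, 3], [1, 2, 3, 4], [1, 2, 3, 4, 4], [1, 2, 3, 3], [1, 2, 3, 3, 4], [1, 2, 3, 3, 4, 4], [1, 2, 2], [1, 2, 2, 4], [1, 2, 2, 4, 4], [1, 2, 2, 3], [1, 2, 2, 3, 4], [1, 2, 2, 3, 4, 4], [1, 2, 2, 3, 3], [1, 2, 2, 3, 3, 4], [1, 2, 2, 3, 3, 4, 4], [1, 1], [1, 1, 4], [1, 1, 4, 4], [1, 1, 3],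 [1, 1, 3, 4], [1, 1, 3, 4, 4], [1, 1, 3, 3], [1, 1, 3, 3, 4], [1, 1, 3, 3, 4, 4], [1, 1, 2], [1, 1, 2, 4], [1, 1, 2, 4, 4], [1, 1, 2, 3], [1, 1, 2, 3, 4], [1, 1, 2, 3, 4, 4], [1, 1, 2, 3, 3], [1, 1, 2, 3, 3, 4], [1, 1, 2, 3, 3, 4, 4], [1, 1, 2, 2], [1, 1, 2, 2, 4], [1, 1, 2, 2, 4, 4], [1, 1, 2, 2, 3], [1, 1, 2, 2, 3, 4], [1, 1, 2, 2, 3, 4, 4], [1, 1, 2, 2, 3, 3], [1, 1, 2, 2, 3, 3, 4], [1, 1, 2, 2, 3, 3, 4, 4], [0], [0, 4], [0, 4, 4], [0, 3], [0, 3, 4], [0, 3, 4, 4], [0, 3, 3], [0, 3, 3, 4], [0, 3, 3, 4, 4], [0, 2], [0, 2, 4], [0, 2, 4, 4], [0, 2, 3], [0, 2, 3, 4], [0, 2, 3, 4, 4], [0, 2, 3, 3], [0, 2, 3, 3, 4], [0, 2, 3, 3, 4, 4], [0, 2, 2], [0, 2, 2, 4], [0, 2, 2, 4, 4], [0, 2, 2, 3], [0, 2, 2, 3, 4], [0, 2, 2, 3, 4, 4], [0, 2, 2, 3, 3], [0, 2, 2, 3, 3, 4], [0, 2, 2, 3, 3, 4, 4], [0, 1], [0,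 1, 4], [0, 1, 4, 4], [0, 1, 3], [0, 1, 3, 4], [0, 1, 3, 4, 4], [0, 1, 3, 3], [0, 1, 3, 3, 4], [0, 1, 3, 3, 4, 4], [0, 1, 2], [0, 1, 2, 4], [0, 1, 2, 4, 4], [0, 1, 2, 3], [0, 1, 2, 3, 4], [0, 1, 2, 3, 4, 4], [0, 1, 2, 3, 3], [0, 1, 2, 3, 3, 4], [0, 1, 2, 3, 3, 4, 4], [0, 1, 2, 2], [0, 1, 2, 2, 4], [0, 1, 2, 2, 4, 4], [0, 1, 2, 2, 3], [0, 1, 2, 2, 3, 4], [0, 1, 2, 2, 3, 4, 4], [0, 1, 2, 2, 3, 3], [0, 1, 2, 2, 3, 3, 4], [0, 1, 2, 2, 3, 3, 4, 4], [0, 1, 1], [0, 1, 1, 4], [0, 1, 1, 4, 4], [0, 1, 1, 3], [0, 1, 1, 3, 4], [0, 1, 1, 3, 4, 4], [0, 1, 1, 3, 3], [0, 1, 1, 3, 3, 4], [0, 1, 1, 3, 3, 4, 4], [0, 1, 1, 2], [0, 1, 1, 2, 4], [0, 1, 1, 2, 4, 4], [0, 1, 1, 2, 3], [0, 1, 1, 2, 3, 4], [0, 1, 1, 2, 3, 4, 4], [0, 1, 1, 2, 3, 3], [0, 1, 1, 2, 3, 3, 4], [0, 1, 1, 2, 3, 3, 4, 4], [0, 1, 1, 2, 2], [0, 1,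 1, 2, 2, 4], [0, 1, 1, 2, 2, 4, 4], [0, 1, 1, 2, 2, 3], [0, 1, 1, 2, 2, 3, 4], [0, 1, 1, 2, 2, 3, 4, 4], [0, 1, 1, 2, 2, 3, 3], [0, 1, 1, 2, 2, 3, 3, 4], [0, 1, 1, 2, 2, 3, 3, 4, 4], [0, 0], [0, 0, 4], [0, 0, 4, 4], [0, 0, 3], [0, 0, 3, 4], [0, 0, 3, 4, 4], [0, 0, 3, 3], [0, 0, 3, 3, 4], [0, 0, 3, 3, 4, 4], [0, 0, 2], [0, 0, 2, 4], [0, 0, 2, 4, 4], [0, 0, 2, 3], [0, 0, 2, 3, 4], [0, 0, 2, 3, 4, 4], [0, 0, 2, 3, 3], [0, 0, 2, 3, 3, 4], [0, 0, 2, 3, 3, 4, 4], [0, 0, 2, 2], [0, 0, 2, 2, 4], [0, 0, 2, 2, 4, 4], [0, 0, 2, 2, 3], [0, 0, 2, 2, 3, 4], [0, 0, 2, 2, 3, 4, 4], [0, 0, 2, 2, 3, 3], [0, 0, 2, 2, 3, 3, 4], [0, 0, 2, 2, 3, 3, 4, 4], [0, 0, 1], [0, 0, 1, 4], [0, 0, 1, 4, 4], [0, 0, 1, 3], [0, 0, 1, 3, 4], [0, 0, 1, 3, 4, 4], [0, 0, 1, 3, 3], [0, 0, 1, 3, 3, 4], [0, 0, 1, 3, 3, 4, 4], [0, 0, 1,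 2], [0, 0, 1, 2, 4], [0, 0, 1, 2, 4, 4], [0, 0, 1, 2, 3], [0, 0, 1, 2, 3, 4], [0, 0, 1, 2, 3, 4, 4], [0, 0, 1, 2, 3, 3], [0, 0, 1, 2, 3, 3, 4], [0, 0, 1, 2, 3, 3, 4, 4], [0, 0, 1, 2, 2], [0, 0, 1, 2, 2, 4], [0, 0, 1, 2, 2, 4, 4], [0, 0, 1, 2, 2, 3], [0, 0, 1, 2, 2, 3, 4], [0, 0, 1, 2, 2, 3, 4, 4], [0, 0, 1, 2, 2, 3, 3], [0, 0, 1, 2, 2, 3, 3, 4], [0, 0, 1, 2, 2, 3, 3, 4, 4], [0, 0, 1, 1], [0, 0, 1, 1, 4], [0, 0, 1, 1, 4, 4], [0, 0, 1, 1, 3], [0, 0, 1, 1, 3, 4], [0, 0, 1, 1, 3, 4, 4], [0, 0, 1, 1, 3, 3], [0, 0, 1, 1, 3, 3, 4], [0, 0, 1, 1, 3, 3, 4, 4], [0, 0, 1, 1, 2], [0, 0, 1, 1, 2, 4], [0, 0, 1, 1, 2, 4, 4], [0, 0, 1, 1, 2, 3], [0, 0, 1, 1, 2, 3, 4], [0, 0, 1, 1, 2, 3, 4, 4], [0, 0, 1, 1, 2, 3, 3], [0, 0, 1, 1, 2, 3, 3, 4], [0, 0, 1, 1, 2, 3, 3, 4, 4], [0, 0, 1, 1, 2, 2], [0, 0, 1, 1, 2, 2, 4],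 [0, 0, 1, 1, 2, 2, 4, 4], [0, 0, 1, 1, 2, 2, 3], [0, 0, 1, 1, 2, 2, 3, 4], [0, 0, 1, 1, 2, 2, 3, 4, 4], [0, 0, 1, 1, 2, 2, 3, 3], [0, 0, 1, 1, 2, 2, 3, 3, 4], [0, 0, 1, 1, 2, 2, 3, 3, 4, 4]]

/-- the images of a vector -/
def vCodes : List ℕ := vWords.map (fun w => acts s3Act w (mcB8 0))

theorem vWords_lt : vWords.all (fun w => w.all (fun l => Nat.blt l 5)) = true := by
  decide +kernel

theorem vWords_length : vWords.length = 243 := by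
  decide +kernel

theorem vCodes_nodup : vCodes.Nodup := by
  decide +kernel

end Cfsg.Agent.Helper92.Co3SM
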