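import Cfsg.Agent.Helper92.Co3SMPre3
import Cfsg.Agent.Helper92.Co3SMRun3_0
import Cfsg.Agent.Helper92.Co3SMPre4
import Cfsg.Agent.Helper92.Co3SMRun4_0
import Cfsg.Agent.Helper92.Co3SMRun4_1
import Cfsg.Agent.Helper92.Co3SMRun4_2
import Cfsg.Agent.Helper92.Co3SMRun4_3
import Cfsg.Agent.Helper92.Co3SMRun4_4
import Cfsg.Agent.Helper92.Co3SMRun4_5
import Cfsg.Agent.Helper92.Co3SMPre5
import Cfsg.Agent.Helper92.Co3SMRun5_0

/-!
# Chain certificate for the 2-part of the Schur multiplier of Co3 (helper92, generated)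

Data in the format of `Cfsg.Agent.Helper89.Chain` along `5 < 5^(1+2) < U3(5) < McL < Co3`
(5, 25, 1008, 7128 and 552 rows) on five generators of orders `5, 5, 3, 11, 23`
(symbols `2 i`, `2 i + 1` for the `i`-th generator and its inverse).  This file: the assembled certificate.
-/

set_option autoImplicit false
set_option maxRecDepth 100000

namespace Cfsg.Agent.Helper92.Co3SM

open Cfsg.Agent.Helper89

def L3 : Chain.LD where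
  n := 1008
  k := 6
  k₀ := 4
  T := tbl 10 6 tab3
  Lb := tbl 10 6 ltab3
  par := vec 10 par3
  gam := vec 3 gam3
  S := [0, 1, 2, 3]
  ex := ex3
  ws := ws3
  steps := steps3_0 ++ steps3_1
  E₀ := E3_0
  cl := cl3

theorem acc3_1 : LT.runSteps (tbl 10 6 tab3) (tbl 10 6 ltab3) 6 (Level.relsOf ex3 ws3) E3_0 (steps3_0 ++ steps3_1) = some (2 ^ (1008 * 6) - 1) :=
  LT.runSteps_append (tbl 10 6 tab3) (tbl 10 6 ltab3) 6 (Level.relsOf ex3 ws3) (steps3_0) steps3_1 E3_0 E3_1 (2 ^ (1008 * 6) - 1) run3_0 run3_1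

theorem L3_run : LT.runSteps L3.T L3.Lb L3.k (Level.relsOf L3.ex L3.ws) L3.E₀ L3.steps = some (2 ^ (L3.n * L3.k) - 1) := by
  have hn : L3.n = 1008 := rfl
  have hk : L3.k = 6 := rfl
  rw [hn, hk]
  exact acc3_1

theorem L3_valid : L3.Valid :=
  ⟨pre3_ok, L3_run, cl3_ok, by decide, by decide, by decide⟩

def L4 : Chain.LD where
  n := 7128
  k := 8
  k₀ := 6
  T := T4
  Lb := Lb4
  par := vec 13 par4
  gam := vec 3 gam4
  S := [0, 1, 2, 3, 4, 5]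
  ex := ex4
  ws := ws4
  steps := steps4_0 ++ steps4_1 ++ steps4_2 ++ steps4_3 ++ steps4_4 ++ steps4_5 ++ steps4_6 ++ steps4_7 ++ steps4_8 ++ steps4_9 ++ steps4_10 ++ steps4_11 ++ steps4_12 ++ steps4_13 ++ steps4_14 ++ steps4_15 ++ steps4_16 ++ steps4_17 ++ steps4_18 ++ steps4_19 ++ steps4_20 ++ steps4_21
  E₀ := E4_0
  cl := cl4

theorem acc4_1 : LT.runSteps (T4) (Lb4) 8 (Level.relsOf ex4 ws4) E4_0 (steps4_0 ++ steps4_1) = some E4_2 :=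
  LT.runSteps_append (T4) (Lb4) 8 (Level.relsOf ex4 ws4) (steps4_0) steps4_1 E4_0 E4_1 E4_2 run4_0 run4_1

theorem acc4_2 : LT.runSteps (T4) (Lb4) 8 (Level.relsOf ex4 ws4) E4_0 (steps4_0 ++ steps4_1 ++ steps4_2) = some E4_3 :=
  LT.runSteps_append (T4) (Lb4) 8 (Level.relsOf ex4 ws4) (steps4_0 ++ steps4_1) steps4_2 E4_0 E4_2 E4_3 acc4_1 run4_2

theorem acc4_3 : LT.runSteps (T4) (Lb4) 8 (Level.relsOf ex4 ws4) E4_0 (steps4_0 ++ steps4_1 ++ steps4_2 ++ steps4_3) = some E4_4 :=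
  LT.runSteps_append (T4) (Lb4) 8 (Level.relsOf ex4 ws4) (steps4_0 ++ steps4_1 ++ steps4_2) steps4_3 E4_0 E4_3 E4_4 acc4_2 run4_3

theorem acc4_4 : LT.runSteps (T4) (Lb4) 8 (Level.relsOf ex4 ws4) E4_0 (steps4_0 ++ steps4_1 ++ steps4_2 ++ steps4_3 ++ steps4_4) = some E4_5 :=
  LT.runSteps_append (T4) (Lb4) 8 (Level.relsOf ex4 ws4) (steps4_0 ++ steps4_1 ++ steps4_2 ++ steps4_3) steps4_4 E4_0 E4_4 E4_5 acc4_3 run4_4

theorem acc4_5 : LT.runSteps (T4) (Lb4) 8 (Level.relsOf ex4 ws4) E4_0 (steps4_0 ++ steps4_1 ++ steps4_2 ++ steps4_3 ++ steps4_4 ++ steps4_5) = some E4_6 :=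
  LT.runSteps_append (T4) (Lb4) 8 (Level.relsOf ex4 ws4) (steps4_0 ++ steps4_1 ++ steps4_2 ++ steps4_3 ++ steps4_4) steps4_5 E4_0 E4_5 E4_6 acc4_4 run4_5

theorem acc4_6 : LT.runSteps (T4) (Lb4) 8 (Level.relsOf ex4 ws4) E4_0 (steps4_0 ++ steps4_1 ++ steps4_2 ++ steps4_3 ++ steps4_4 ++ steps4_5 ++ steps4_6) = some E4_7 :=
  LT.runSteps_append (T4) (Lb4) 8 (Level.relsOf ex4 ws4) (steps4_0 ++ steps4_1 ++ steps4_2 ++ steps4_3 ++ steps4_4 ++ steps4_5) steps4_6 E4_0 E4_6 E4_7 acc4_5 run4_6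

theorem acc4_7 : LT.runSteps (T4) (Lb4) 8 (Level.relsOf ex4 ws4) E4_0 (steps4_0 ++ steps4_1 ++ steps4_2 ++ steps4_3 ++ steps4_4 ++ steps4_5 ++ steps4_6 ++ steps4_7) = some E4_8 :=
  LT.runSteps_append (T4) (Lb4) 8 (Level.relsOf ex4 ws4) (steps4_0 ++ steps4_1 ++ steps4_2 ++ steps4_3 ++ steps4_4 ++ steps4_5 ++ steps4_6) steps4_7 E4_0 E4_7 E4_8 acc4_6 run4_7

theorem acc4_8 : LT.runSteps (T4) (Lb4) 8 (Level.relsOf ex4 ws4) E4_0 (steps4_0 ++ steps4_1 ++ steps4_2 ++ steps4_3 ++ steps4_4 ++ steps4_5 ++ steps4_6 ++ steps4_7 ++ steps4_8) = some E4_9 :=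
  LT.runSteps_append (T4) (Lb4) 8 (Level.relsOf ex4 ws4) (steps4_0 ++ steps4_1 ++ steps4_2 ++ steps4_3 ++ steps4_4 ++ steps4_5 ++ steps4_6 ++ steps4_7) steps4_8 E4_0 E4_8 E4_9 acc4_7 run4_8

theorem acc4_9 : LT.runSteps (T4) (Lb4) 8 (Level.relsOf ex4 ws4) E4_0 (steps4_0 ++ steps4_1 ++ steps4_2 ++ steps4_3 ++ steps4_4 ++ steps4_5 ++ steps4_6 ++ steps4_7 ++ steps4_8 ++ steps4_9) = some E4_10 :=
  LT.runSteps_append (T4) (Lb4) 8 (Level.relsOf ex4 ws4) (steps4_0 ++ steps4_1 ++ steps4_2 ++ steps4_3 ++ steps4_4 ++ steps4_5 ++ steps4_6 ++ steps4_7 ++ steps4_8) steps4_9 E4_0 E4_9 E4_10 acc4_8 run4_9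

theorem acc4_10 : LT.runSteps (T4) (Lb4) 8 (Level.relsOf ex4 ws4) E4_0 (steps4_0 ++ steps4_1 ++ steps4_2 ++ steps4_3 ++ steps4_4 ++ steps4_5 ++ steps4_6 ++ steps4_7 ++ steps4_8 ++ steps4_9 ++ steps4_10) = some E4_11 :=
  LT.runSteps_append (T4) (Lb4) 8 (Level.relsOf ex4 ws4) (steps4_0 ++ steps4_1 ++ steps4_2 ++ steps4_3 ++ steps4_4 ++ steps4_5 ++ steps4_6 ++ steps4_7 ++ steps4_8 ++ steps4_9) steps4_10 E4_0 E4_10 E4_11 acc4_9 run4_10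

theorem acc4_11 : LT.runSteps (T4) (Lb4) 8 (Level.relsOf ex4 ws4) E4_0 (steps4_0 ++ steps4_1 ++ steps4_2 ++ steps4_3 ++ steps4_4 ++ steps4_5 ++ steps4_6 ++ steps4_7 ++ steps4_8 ++ steps4_9 ++ steps4_10 ++ steps4_11) = some E4_12 :=
  LT.runSteps_append (T4) (Lb4) 8 (Level.relsOf ex4 ws4) (steps4_0 ++ steps4_1 ++ steps4_2 ++ steps4_3 ++ steps4_4 ++ steps4_5 ++ steps4_6 ++ steps4_7 ++ steps4_8 ++ steps4_9 ++ steps4_10) steps4_11 E4_0 E4_11 E4_12 acc4_10 run4_11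

theorem acc4_12 : LT.runSteps (T4) (Lb4) 8 (Level.relsOf ex4 ws4) E4_0 (steps4_0 ++ steps4_1 ++ steps4_2 ++ steps4_3 ++ steps4_4 ++ steps4_5 ++ steps4_6 ++ steps4_7 ++ steps4_8 ++ steps4_9 ++ steps4_10 ++ steps4_11 ++ steps4_12) = some E4_13 :=
  LT.runSteps_append (T4) (Lb4) 8 (Level.relsOf ex4 ws4) (steps4_0 ++ steps4_1 ++ steps4_2 ++ steps4_3 ++ steps4_4 ++ steps4_5 ++ steps4_6 ++ steps4_7 ++ steps4_8 ++ steps4_9 ++ steps4_10 ++ steps4_11) steps4_12 E4_0 E4_12 E4_13 acc4_11 run4_12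

theorem acc4_13 : LT.runSteps (T4) (Lb4) 8 (Level.relsOf ex4 ws4) E4_0 (steps4_0 ++ steps4_1 ++ steps4_2 ++ steps4_3 ++ steps4_4 ++ steps4_5 ++ steps4_6 ++ steps4_7 ++ steps4_8 ++ steps4_9 ++ steps4_10 ++ steps4_11 ++ steps4_12 ++ steps4_13) = some E4_14 :=
  LT.runSteps_append (T4) (Lb4) 8 (Level.relsOf ex4 ws4) (steps4_0 ++ steps4_1 ++ steps4_2 ++ steps4_3 ++ steps4_4 ++ steps4_5 ++ steps4_6 ++ steps4_7 ++ steps4_8 ++ steps4_9 ++ steps4_10 ++ steps4_11 ++ steps4_12) steps4_13 E4_0 E4_13 E4_14 acc4_12 run4_13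

theorem acc4_14 : LT.runSteps (T4) (Lb4) 8 (Level.relsOf ex4 ws4) E4_0 (steps4_0 ++ steps4_1 ++ steps4_2 ++ steps4_3 ++ steps4_4 ++ steps4_5 ++ steps4_6 ++ steps4_7 ++ steps4_8 ++ steps4_9 ++ steps4_10 ++ steps4_11 ++ steps4_12 ++ steps4_13 ++ steps4_14) = some E4_15 :=
  LT.runSteps_append (T4) (Lb4) 8 (Level.relsOf ex4 ws4) (steps4_0 ++ steps4_1 ++ steps4_2 ++ steps4_3 ++ steps4_4 ++ steps4_5 ++ steps4_6 ++ steps4_7 ++ steps4_8 ++ steps4_9 ++ steps4_10 ++ steps4_11 ++ steps4_12 ++ steps4_13) steps4_14 E4_0 E4_14 E4_15 acc4_13 run4_14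

theorem acc4_15 : LT.runSteps (T4) (Lb4) 8 (Level.relsOf ex4 ws4) E4_0 (steps4_0 ++ steps4_1 ++ steps4_2 ++ steps4_3 ++ steps4_4 ++ steps4_5 ++ steps4_6 ++ steps4_7 ++ steps4_8 ++ steps4_9 ++ steps4_10 ++ steps4_11 ++ steps4_12 ++ steps4_13 ++ steps4_14 ++ steps4_15) = some E4_16 :=
  LT.runSteps_append (T4) (Lb4) 8 (Level.relsOf ex4 ws4) (steps4_0 ++ steps4_1 ++ steps4_2 ++ steps4_3 ++ steps4_4 ++ steps4_5 ++ steps4_6 ++ steps4_7 ++ steps4_8 ++ steps4_9 ++ steps4_10 ++ steps4_11 ++ steps4_12 ++ steps4_13 ++ steps4_14) steps4_15 E4_0 E4_15 E4_16 acc4_14 run4_15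

theorem acc4_16 : LT.runSteps (T4) (Lb4) 8 (Level.relsOf ex4 ws4) E4_0 (steps4_0 ++ steps4_1 ++ steps4_2 ++ steps4_3 ++ steps4_4 ++ steps4_5 ++ steps4_6 ++ steps4_7 ++ steps4_8 ++ steps4_9 ++ steps4_10 ++ steps4_11 ++ steps4_12 ++ steps4_13 ++ steps4_14 ++ steps4_15 ++ steps4_16) = some E4_17 :=
  LT.runSteps_append (T4) (Lb4) 8 (Level.relsOf ex4 ws4) (steps4_0 ++ steps4_1 ++ steps4_2 ++ steps4_3 ++ steps4_4 ++ steps4_5 ++ steps4_6 ++ steps4_7 ++ steps4_8 ++ steps4_9 ++ steps4_10 ++ steps4_11 ++ steps4_12 ++ steps4_13 ++ steps4_14 ++ steps4_15) steps4_16 E4_0 E4_16 E4_17 acc4_15 run4_16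

theorem acc4_17 : LT.runSteps (T4) (Lb4) 8 (Level.relsOf ex4 ws4) E4_0 (steps4_0 ++ steps4_1 ++ steps4_2 ++ steps4_3 ++ steps4_4 ++ steps4_5 ++ steps4_6 ++ steps4_7 ++ steps4_8 ++ steps4_9 ++ steps4_10 ++ steps4_11 ++ steps4_12 ++ steps4_13 ++ steps4_14 ++ steps4_15 ++ steps4_16 ++ steps4_17) = some E4_18 :=
  LT.runSteps_append (T4) (Lb4) 8 (Level.relsOf ex4 ws4) (steps4_0 ++ steps4_1 ++ steps4_2 ++ steps4_3 ++ steps4_4 ++ steps4_5 ++ steps4_6 ++ steps4_7 ++ steps4_8 ++ steps4_9 ++ steps4_10 ++ steps4_11 ++ steps4_12 ++ steps4_13 ++ steps4_14 ++ steps4_15 ++ steps4_16) steps4_17 E4_0 E4_17 E4_18 acc4_16 run4_17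

theorem acc4_18 : LT.runSteps (T4) (Lb4) 8 (Level.relsOf ex4 ws4) E4_0 (steps4_0 ++ steps4_1 ++ steps4_2 ++ steps4_3 ++ steps4_4 ++ steps4_5 ++ steps4_6 ++ steps4_7 ++ steps4_8 ++ steps4_9 ++ steps4_10 ++ steps4_11 ++ steps4_12 ++ steps4_13 ++ steps4_14 ++ steps4_15 ++ steps4_16 ++ steps4_17 ++ steps4_18) = some E4_19 :=
  LT.runSteps_append (T4) (Lb4) 8 (Level.relsOf ex4 ws4) (steps4_0 ++ steps4_1 ++ steps4_2 ++ steps4_3 ++ steps4_4 ++ steps4_5 ++ steps4_6 ++ steps4_7 ++ steps4_8 ++ steps4_9 ++ steps4_10 ++ steps4_11 ++ steps4_12 ++ steps4_13 ++ steps4_14 ++ steps4_15 ++ steps4_16 ++ steps4_17) steps4_18 E4_0 E4_18 E4_19 acc4_17 run4_18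

theorem acc4_19 : LT.runSteps (T4) (Lb4) 8 (Level.relsOf ex4 ws4) E4_0 (steps4_0 ++ steps4_1 ++ steps4_2 ++ steps4_3 ++ steps4_4 ++ steps4_5 ++ steps4_6 ++ steps4_7 ++ steps4_8 ++ steps4_9 ++ steps4_10 ++ steps4_11 ++ steps4_12 ++ steps4_13 ++ steps4_14 ++ steps4_15 ++ steps4_16 ++ steps4_17 ++ steps4_18 ++ steps4_19) = some E4_20 :=
  LT.runSteps_append (T4) (Lb4) 8 (Level.relsOf ex4 ws4) (steps4_0 ++ steps4_1 ++ steps4_2 ++ steps4_3 ++ steps4_4 ++ steps4_5 ++ steps4_6 ++ steps4_7 ++ steps4_8 ++ steps4_9 ++ steps4_10 ++ steps4_11 ++ steps4_12 ++ steps4_13 ++ steps4_14 ++ steps4_15 ++ steps4_16 ++ steps4_17 ++ steps4_18) steps4_19 E4_0 E4_19 E4_20 acc4_18 run4_19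

theorem acc4_20 : LT.runSteps (T4) (Lb4) 8 (Level.relsOf ex4 ws4) E4_0 (steps4_0 ++ steps4_1 ++ steps4_2 ++ steps4_3 ++ steps4_4 ++ steps4_5 ++ steps4_6 ++ steps4_7 ++ steps4_8 ++ steps4_9 ++ steps4_10 ++ steps4_11 ++ steps4_12 ++ steps4_13 ++ steps4_14 ++ steps4_15 ++ steps4_16 ++ steps4_17 ++ steps4_18 ++ steps4_19 ++ steps4_20) = some E4_21 :=
  LT.runSteps_append (T4) (Lb4) 8 (Level.relsOf ex4 ws4) (steps4_0 ++ steps4_1 ++ steps4_2 ++ steps4_3 ++ steps4_4 ++ steps4_5 ++ steps4_6 ++ steps4_7 ++ steps4_8 ++ steps4_9 ++ steps4_10 ++ steps4_11 ++ steps4_12 ++ steps4_13 ++ steps4_14 ++ steps4_15 ++ steps4_16 ++ steps4_17 ++ steps4_18 ++ steps4_19) steps4_20 E4_0 E4_20 E4_21 acc4_19 run4_20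

theorem acc4_21 : LT.runSteps (T4) (Lb4) 8 (Level.relsOf ex4 ws4) E4_0 (steps4_0 ++ steps4_1 ++ steps4_2 ++ steps4_3 ++ steps4_4 ++ steps4_5 ++ steps4_6 ++ steps4_7 ++ steps4_8 ++ steps4_9 ++ steps4_10 ++ steps4_11 ++ steps4_12 ++ steps4_13 ++ steps4_14 ++ steps4_15 ++ steps4_16 ++ steps4_17 ++ steps4_18 ++ steps4_19 ++ steps4_20 ++ steps4_21) = some (2 ^ (7128 * 8) - 1) :=
  LT.runSteps_append (T4) (Lb4) 8 (Level.relsOf ex4 ws4) (steps4_0 ++ steps4_1 ++ steps4_2 ++ steps4_3 ++ steps4_4 ++ steps4_5 ++ steps4_6 ++ steps4_7 ++ steps4_8 ++ steps4_9 ++ steps4_10 ++ steps4_11 ++ steps4_12 ++ steps4_13 ++ steps4_14 ++ steps4_15 ++ steps4_16 ++ steps4_17 ++ steps4_18 ++ steps4_19 ++ steps4_20) steps4_21 E4_0 E4_21 (2 ^ (7128 * 8) - 1) acc4_20 run4_21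

theorem L4_run : LT.runSteps L4.T L4.Lb L4.k (Level.relsOf L4.ex L4.ws) L4.E₀ L4.steps = some (2 ^ (L4.n * L4.k) - 1) := by
  have hn : L4.n = 7128 := rfl
  have hk : L4.k = 8 := rfl
  rw [hn, hk]
  exact acc4_21

theorem L4_valid : L4.Valid :=
  ⟨pre4_ok, L4_run, cl4_ok, by decide, by decide, by decide⟩

def L5 : Chain.LD where
  n := 552
  k := 10
  k₀ := 8
  T := tbl 10 10 tab5
  Lb := tbl 31 10 ltab5
  par := vec 10 par5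
  gam := vec 4 gam5
  S := [0, 1, 2, 3, 4, 5, 6, 7]
  ex := ex5
  ws := ws5
  steps := steps5_0 ++ steps5_1
  E₀ := E5_0
  cl := cl5

theorem acc5_1 : LT.runSteps (tbl 10 10 tab5) (tbl 31 10 ltab5) 10 (Level.relsOf ex5 ws5) E5_0 (steps5_0 ++ steps5_1) = some (2 ^ (552 * 10) - 1) :=
  LT.runSteps_append (tbl 10 10 tab5) (tbl 31 10 ltab5) 10 (Level.relsOf ex5 ws5) (steps5_0) steps5_1 E5_0 E5_1 (2 ^ (552 * 10) - 1) run5_0 run5_1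

theorem L5_run : LT.runSteps L5.T L5.Lb L5.k (Level.relsOf L5.ex L5.ws) L5.E₀ L5.steps = some (2 ^ (L5.n * L5.k) - 1) := by
  have hn : L5.n = 552 := rfl
  have hk : L5.k = 10 := rfl
  rw [hn, hk]
  exact acc5_1

theorem L5_valid : L5.Valid :=
  ⟨pre5_ok, L5_run, cl5_ok, by decide, by decide, by decide⟩

def Ls : List Chain.LD := [L1, L2, L3, L4, L5]

theorem valid : ∀ d ∈ Ls, d.Valid := by
  intro d hd
  simp only [Ls, List.mem_cons, List.not_mem_nil, or_false] at hd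
  rcases hd with rfl | rfl | rfl | rfl | rfl
  · exact L1_valid
  · exact L2_valid
  · exact L3_valid
  · exact L4_valid
  · exact L5_valid

theorem chained : Chain.Chained (Chain.powW ps) [] 0 Ls := by
  refine ⟨rfl, by decide, ?_⟩
  refine ⟨rfl, by decide, ?_⟩
  refine ⟨rfl, by decide, ?_⟩
  refine ⟨rfl, by decide, ?_⟩
  refine ⟨rfl, by decide, ?_⟩
  trivial

theorem lastK_eq : Chain.lastK 0 Ls = 10 := rfl

theorem prodN_eq : Chain.prodN Ls = 495766656000 := by decide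

theorem ps_odd : ∀ p ∈ ps, Odd p.2 := by decide

end Cfsg.Agent.Helper92.Co3SM
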