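import Mathlib
import Cfsg.Agent.Helper69.E4STRUCT

set_option autoImplicit false

/-!
# Piece STRUCT2 of S6002 (helper92, double): a 2-group of order 32 and exponent 4 with centre of
order 2 in which every characteristic abelian subgroup is cyclic has central squares and
central commutators.
-/

namespace Cfsg.Agent.Helper92
open Cfsg.Agent.Helper69

/-- a strict inclusion of finite subgroups at least doubles the order -/
theorem e5s_card_lt {G : Type*} [Group G] [Finite G] {H K : Subgroup G} (h : H < K) :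
    2 * Nat.card H ≤ Nat.card K := by
  have hd : Nat.card H ∣ Nat.card K := Subgroup.card_dvd_of_le h.le
  obtain ⟨m, hm⟩ := hd
  have hKpos : 0 < Nat.card K := Nat.card_pos
  have hHpos : 0 < Nat.card H := Nat.card_pos
  have hne : Nat.card H ≠ Nat.card K := by
    intro heq
    exact h.ne (Subgroup.eq_of_le_of_card_ge h.le heq.ge)
  rcases m with _ | _ | m
  · omega
  · omega
  · rw [hm]; nlinarith

theorem e5s_sq_comm {G : Type*} [Group G] (b g : G) :
    b ^ 2 * g * (b ^ 2)⁻¹ * g⁻¹ = (b * (b * g * b⁻¹ * g⁻¹) * b⁻¹) * (b * g * b⁻¹ * g⁻¹) := by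
  simp only [pow_two, mul_assoc, mul_inv_rev, inv_mul_cancel_left]

theorem e5s_comm_of {G : Type*} [Group G] (X y : G) (h : X * y * X⁻¹ * y⁻¹ = 1) :
    X * y = y * X := by
  have h1 : X * y = (X * y * X⁻¹ * y⁻¹) * (y * X) := by group
  rw [h1, h, one_mul]

theorem e5s_zpow_four {G : Type*} [Group G] (a : G) (ha : a ^ 4 = 1) (k : ℤ) :
    a ^ k = 1 ∨ a ^ k = a ∨ a ^ k = a ^ 2 ∨ a ^ k = a ^ 3 := by
  have h1 : a ^ k = a ^ (k % 4) := by
    conv_lhs => rw [← Int.mul_ediv_add_emod k 4]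
    rw [zpow_add, zpow_mul]
    have : a ^ (4 : ℤ) = 1 := by exact_mod_cast ha
    rw [this, one_zpow, one_mul]
  have h2 : 0 ≤ k % 4 := Int.emod_nonneg _ (by norm_num)
  have h3 : k % 4 < 4 := Int.emod_lt_of_pos _ (by norm_num)
  rw [h1]
  obtain ⟨n, hn⟩ := Int.eq_ofNat_of_zero_le h2
  rw [hn] at h3 ⊢
  rw [zpow_natCast]
  have hn4 : n < 4 := by exact_mod_cast h3
  interval_cases n
  · left; exact pow_zero a
  · right; left; exact pow_one a
  · right; right; left; rfl
  · right; right; right; rfl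

/-- the contradiction when `Z_2(G) = {1, a, a^2, a^3}` is cyclic of order 4 -/
theorem e5s_bad_cyclic {G : Type*} [Group G] (hexp : ∀ g : G, g ^ 4 = 1) (a : G)
    (ha2 : a ^ 2 ≠ 1) (haZ : a ^ 2 ∈ Subgroup.center G)
    (hcen : ∀ ζ ∈ Subgroup.center G, ζ = 1 ∨ ζ = a ^ 2)
    (hU : ∀ u : G, (∀ y : G, u * y * u⁻¹ * y⁻¹ ∈ Subgroup.center G) →
      u = 1 ∨ u = a ∨ u = a ^ 2 ∨ u = a ^ 3)
    (b : G) (hb : ∀ y y' : G, (b * y * b⁻¹ * y⁻¹) * y' * (b * y * b⁻¹ * y⁻¹)⁻¹ * y'⁻¹ ∈
      Subgroup.center G)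
    (g₁ : G) (hg₁ : b * g₁ * b⁻¹ * g₁⁻¹ ∉ Subgroup.center G) : False := by
  obtain ⟨u, hudef⟩ : ∃ u : G, u = b * g₁ * b⁻¹ * g₁⁻¹ := ⟨_, rfl⟩
  have huZ2 : ∀ y : G, u * y * u⁻¹ * y⁻¹ ∈ Subgroup.center G := by
    intro y; rw [hudef]; exact hb g₁ y
  have hunZ : u ∉ Subgroup.center G := by rw [hudef]; exact hg₁
  have ha4 : a ^ 4 = 1 := hexp a
  have ha6 : a ^ 6 = a ^ 2 := by
    calc a ^ 6 = a ^ 4 * a ^ 2 := by rw [← pow_add]
      _ = a ^ 2 := by rw [ha4, one_mul]
  have ha9 : a ^ 9 = a := by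
    calc a ^ 9 = (a ^ 4) ^ 2 * a := by rw [← pow_mul, ← pow_succ]
      _ = a := by rw [ha4, one_pow, one_mul]
  have hu2 : u ^ 2 = a ^ 2 := by
    rcases hU u huZ2 with h | h | h | h
    · exact absurd (by rw [h]; exact Subgroup.one_mem _) hunZ
    · rw [h]
    · exact absurd (by rw [h]; exact haZ) hunZ
    · rw [h, ← pow_mul]; exact ha6
  have hu2ne : u ^ 2 ≠ 1 := by rw [hu2]; exact ha2
  have hu2Z : u ^ 2 ∈ Subgroup.center G := by rw [hu2]; exact haZ
  have hu4 : u ^ 4 = 1 := hexp u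
  have hu6 : u ^ 6 = u ^ 2 := by
    calc u ^ 6 = u ^ 4 * u ^ 2 := by rw [← pow_add]
      _ = u ^ 2 := by rw [hu4, one_mul]
  have hU' : ∀ v : G, (∀ y : G, v * y * v⁻¹ * y⁻¹ ∈ Subgroup.center G) →
      v = 1 ∨ v = u ∨ v = u ^ 2 ∨ v = u ^ 3 := by
    intro v hv
    rcases hU u huZ2 with h | h | h | h
    · exact absurd (by rw [h]; exact Subgroup.one_mem _) hunZ
    · rw [h]; exact hU v hv
    · exact absurd (by rw [h]; exact haZ) hunZ
    · rcases hU v hv with h' | h' | h' | h'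
      · left; exact h'
      · right; right; right
        rw [h', h, ← pow_mul]; exact ha9.symm
      · right; right; left; rw [h', hu2]
      · right; left; rw [h', h]
  have hcenu : ∀ ζ ∈ Subgroup.center G, ζ = 1 ∨ ζ = u ^ 2 := by
    intro ζ hζ; rw [hu2]; exact hcen ζ hζ
  rcases hcenu _ (huZ2 b) with h1 | h1
  · -- b commutes with u
    have hcomm : Commute b u := by
      have : u * b = (u * b * u⁻¹ * b⁻¹) * (b * u) := by group
      rw [h1, one_mul] at this
      exact this.symm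
    have hconj : ∀ v : G, (v = 1 ∨ v = u ∨ v = u ^ 2 ∨ v = u ^ 3) → b * v * b⁻¹ = v := by
      intro v hv
      have hcv : Commute b v := by
        rcases hv with h | h | h | h
        · rw [h]; exact Commute.one_right b
        · rw [h]; exact hcomm
        · rw [h]; exact hcomm.pow_right 2
        · rw [h]; exact hcomm.pow_right 3
      rw [hcv.eq, mul_inv_cancel_right]
    have hsqv : ∀ v : G, (v = 1 ∨ v = u ∨ v = u ^ 2 ∨ v = u ^ 3) →
        v * v ∈ Subgroup.center G := by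
      intro v hv
      rcases hv with h | h | h | h
      · rw [h, one_mul]; exact Subgroup.one_mem _
      · rw [h, ← pow_two]; exact hu2Z
      · rw [h, ← pow_add, hu4]; exact Subgroup.one_mem _
      · rw [h, ← pow_add, hu6]; exact hu2Z
    have hb2 : ∀ y : G, b ^ 2 * y * (b ^ 2)⁻¹ * y⁻¹ ∈ Subgroup.center G := by
      intro y
      rw [e5s_sq_comm b y, hconj _ (hU' _ (hb y))]
      exact hsqv _ (hU' _ (hb y))
    have hb2g : b ^ 2 * g₁ * (b ^ 2)⁻¹ * g₁⁻¹ = u ^ 2 := by
      rw [e5s_sq_comm b g₁, ← hudef, hconj u (Or.inr (Or.inl rfl)), pow_two]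
    rcases hU' _ hb2 with h | h | h | h
    · rw [h] at hb2g
      apply hu2ne
      rw [← hb2g]; group
    · apply hu2ne
      rw [← h, ← pow_mul]; exact hexp b
    · apply hu2ne
      rw [← hb2g, h]
      have hc := Subgroup.mem_center_iff.mp hu2Z g₁
      rw [← hc, mul_inv_cancel_right, mul_inv_cancel]
    · apply hu2ne
      have h6 : (b ^ 2) ^ 2 = u ^ 2 := by
        rw [h, ← pow_mul]; exact hu6
      rw [← h6, ← pow_mul]; exact hexp b
  · -- b inverts u
    have hinv : b * u * b⁻¹ = u⁻¹ := by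
      have h2 : b * u * b⁻¹ = (u * b * u⁻¹ * b⁻¹)⁻¹ * u := by group
      rw [h2, h1, pow_two, mul_inv_rev, inv_mul_cancel_right]
    have hconj : ∀ v : G, (v = 1 ∨ v = u ∨ v = u ^ 2 ∨ v = u ^ 3) → b * v * b⁻¹ = v⁻¹ := by
      intro v hv
      rcases hv with h | h | h | h
      · rw [h]; group
      · rw [h]; exact hinv
      · rw [h, ← conj_pow, hinv, inv_pow]
      · rw [h, ← conj_pow, hinv, inv_pow]
    have hb2 : ∀ y : G, b ^ 2 * y = y * b ^ 2 := by
      intro y
      have h3 : b ^ 2 * y * (b ^ 2)⁻¹ * y⁻¹ = 1 := by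
        rw [e5s_sq_comm b y, hconj _ (hU' _ (hb y)), inv_mul_cancel]
      exact e5s_comm_of _ _ h3
    have hg2 : g₁ ^ 2 * u = u * g₁ ^ 2 := by
      obtain ⟨ζ, hζdef⟩ : ∃ ζ : G, ζ = u * g₁ * u⁻¹ * g₁⁻¹ := ⟨_, rfl⟩
      have hζ : ζ ∈ Subgroup.center G := by rw [hζdef]; exact huZ2 g₁
      have hζ2 : ζ * ζ = 1 := by
        rcases hcenu ζ hζ with h | h
        · rw [h, one_mul]
        · rw [h, ← pow_add]; exact hu4
      have hζc : ∀ k : G, k * ζ = ζ * k := fun k => Subgroup.mem_center_iff.mp hζ k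
      have hug : u * g₁ = ζ * (g₁ * u) := by rw [hζdef]; group
      symm
      calc u * g₁ ^ 2 = (u * g₁) * g₁ := by rw [pow_two, mul_assoc]
        _ = ζ * (g₁ * u) * g₁ := by rw [hug]
        _ = ζ * (g₁ * (u * g₁)) := by group
        _ = ζ * (g₁ * (ζ * (g₁ * u))) := by rw [hug]
        _ = ζ * ((g₁ * ζ) * (g₁ * u)) := by group
        _ = ζ * ((ζ * g₁) * (g₁ * u)) := by rw [hζc g₁]
        _ = (ζ * ζ) * (g₁ ^ 2 * u) := by simp only [pow_two, mul_assoc]
        _ = g₁ ^ 2 * u := by rw [hζ2, one_mul]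
    have r1 : b * g₁ = u * g₁ * b := by rw [hudef]; group
    have e2 : ∀ x : G, x ^ 2 = x * x := pow_two
    have e4 : ∀ x : G, x ^ 4 = x * (x * (x * x)) := by
      intro x
      rw [show (4 : ℕ) = 2 + 2 from rfl, pow_add, pow_two]
      simp only [mul_assoc]
    have h2 : (b * g₁) ^ 2 = u * b ^ 2 * g₁ ^ 2 := by
      calc (b * g₁) ^ 2 = (b * g₁) * (b * g₁) := pow_two _
        _ = (u * g₁ * b) * (b * g₁) := by rw [← r1]
        _ = u * (g₁ * b ^ 2) * g₁ := by simp only [pow_two, mul_assoc]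
        _ = u * (b ^ 2 * g₁) * g₁ := by rw [hb2 g₁]
        _ = u * b ^ 2 * g₁ ^ 2 := by simp only [pow_two, mul_assoc]
    have h4 : (b * g₁) ^ 4 = u ^ 2 := by
      calc (b * g₁) ^ 4 = ((b * g₁) ^ 2) ^ 2 := by rw [← pow_mul]
        _ = (u * b ^ 2 * g₁ ^ 2) * (u * b ^ 2 * g₁ ^ 2) := by rw [h2, pow_two]
        _ = u * b ^ 2 * (g₁ ^ 2 * u) * b ^ 2 * g₁ ^ 2 := by simp only [mul_assoc]
        _ = u * b ^ 2 * (u * g₁ ^ 2) * b ^ 2 * g₁ ^ 2 := by rw [hg2]
        _ = u * (b ^ 2 * u) * (g₁ ^ 2 * b ^ 2) * g₁ ^ 2 := by simp only [mul_assoc]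
        _ = u * (u * b ^ 2) * (b ^ 2 * g₁ ^ 2) * g₁ ^ 2 := by rw [hb2 u, ← hb2 (g₁ ^ 2)]
        _ = u ^ 2 * b ^ 4 * g₁ ^ 4 := by simp only [e2, e4, mul_assoc]
        _ = u ^ 2 := by rw [hexp b, hexp g₁, mul_one, mul_one]
    apply hu2ne
    rw [← h4]; exact hexp _

theorem e5_struct {G : Type*} [Group G] [Finite G] (hp : IsPGroup 2 G)
    (hexp : Monoid.exponent G = 4) (hcard : Nat.card G = 32)
    (hZ : Nat.card (Subgroup.center G) = 2)
    (hchar : ∀ A : Subgroup G, A.Characteristic → IsMulCommutative A → IsCyclic A) (g h : G) :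
    g ^ 2 ∈ Subgroup.center G ∧ g * h * g⁻¹ * h⁻¹ ∈ Subgroup.center G := by
  classical
  haveI : Fact (Nat.Prime 2) := ⟨Nat.prime_two⟩
  have hexp4 : ∀ g : G, g ^ 4 = 1 := by
    intro g
    rw [← hexp]
    exact Monoid.pow_exponent_eq_one g
  set Z2 : Subgroup G := Subgroup.upperCentralSeries G 2 with hZ2
  have hZ2mem : ∀ u : G, u ∈ Z2 ↔ ∀ y : G, u * y * u⁻¹ * y⁻¹ ∈ Subgroup.center G := by
    intro u
    rw [hZ2, show (2 : ℕ) = 1 + 1 from rfl, Subgroup.mem_upperCentralSeries_succ_iff,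
      Subgroup.upperCentralSeries_one]
    rfl
  have hZle : Subgroup.center G ≤ Z2 := by
    rw [hZ2, ← Subgroup.upperCentralSeries_one]
    exact Subgroup.upperCentralSeries_mono G (by norm_num)
  -- the centre of Z2
  set A : Subgroup G := Z2 ⊓ Subgroup.centralizer (Z2 : Set G) with hA
  have hAchar : A.Characteristic := by
    rw [hA, hZ2]
    infer_instance
  have hAcomm : IsMulCommutative A := by
    refine ⟨⟨fun a b => ?_⟩⟩
    apply Subtype.ext
    have ha : (a : G) ∈ Z2 ⊓ Subgroup.centralizer (Z2 : Set G) := a.2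
    have hb : (b : G) ∈ Z2 ⊓ Subgroup.centralizer (Z2 : Set G) := b.2
    have ha' := Subgroup.mem_inf.mp ha
    have hb' := Subgroup.mem_inf.mp hb
    have := (Subgroup.mem_centralizer_iff.mp hb'.2) (a : G) ha'.1
    show (a : G) * (b : G) = (b : G) * (a : G)
    exact this
  have hAcyc : IsCyclic A := hchar A hAchar hAcomm
  have hAcard : Nat.card A ≤ 4 := by
    have h1 : Monoid.exponent A = Nat.card A := IsCyclic.exponent_eq_card
    have h2 : Monoid.exponent A ∣ 4 := by
      apply Monoid.exponent_dvd_of_forall_pow_eq_one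
      intro a
      apply Subtype.ext
      rw [Subgroup.coe_pow, hexp4]
      rfl
    rw [h1] at h2
    exact Nat.le_of_dvd (by norm_num) h2
  have hZA : Subgroup.center G ≤ A := by
    rw [hA]
    refine le_inf hZle ?_
    intro z hz
    rw [Subgroup.mem_centralizer_iff]
    intro k _
    exact Subgroup.mem_center_iff.mp hz k
  have hAZ : A = Subgroup.center G := by
    by_contra hne
    have hA4 : Nat.card A = 4 := by
      have hd : Nat.card (Subgroup.center G) ∣ Nat.card A := Subgroup.card_dvd_of_le hZA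
      rw [hZ] at hd
      have hne2 : Nat.card A ≠ 2 := by
        intro h2
        apply hne
        symm
        exact Subgroup.eq_of_le_of_card_ge hZA (by rw [hZ, h2])
      have hpos : 0 < Nat.card A := Nat.card_pos
      obtain ⟨m, hm⟩ := hd
      omega
    obtain ⟨⟨a, haA⟩, hgen⟩ := hAcyc.exists_generator
    have hord : orderOf (⟨a, haA⟩ : A) = 4 := by
      rw [orderOf_eq_card_of_forall_mem_zpowers hgen, hA4]
    have haZ2 : a ∈ Z2 := (Subgroup.mem_inf.mp haA).1
    have haC : a ∈ Subgroup.centralizer (Z2 : Set G) := (Subgroup.mem_inf.mp haA).2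
    have ha2 : a ^ 2 ≠ 1 := by
      intro h2
      have h3 : (⟨a, haA⟩ : A) ^ 2 = 1 := by
        apply Subtype.ext
        rw [Subgroup.coe_pow]; exact h2
      have h4 := orderOf_dvd_of_pow_eq_one h3
      rw [hord] at h4
      omega
    have haZ : a ^ 2 ∈ Subgroup.center G := by
      rw [Subgroup.mem_center_iff]
      intro y
      have hc : a * y * a⁻¹ * y⁻¹ ∈ Subgroup.center G := (hZ2mem a).mp haZ2 y
      have hc2 := e4s_comm_sq hexp4 a y hc
      have hcc := Subgroup.mem_center_iff.mp hc a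
      have h3 : a ^ 2 * y * (a ^ 2)⁻¹ * y⁻¹ = 1 := by
        rw [e5s_sq_comm a y, hcc, mul_inv_cancel_right]
        exact (pow_two _).symm.trans hc2
      exact (e5s_comm_of _ _ h3).symm
    have hcen : ∀ ζ ∈ Subgroup.center G, ζ = 1 ∨ ζ = a ^ 2 := by
      intro ζ hζ
      obtain ⟨y, hy, huniq⟩ := (Nat.card_eq_two_iff' (1 : Subgroup.center G)).mp hZ
      by_cases h1 : ζ = 1
      · left; exact h1
      · right
        have e1 : (⟨ζ, hζ⟩ : Subgroup.center G) = y := huniq _ (by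
          intro h; apply h1; exact congrArg Subtype.val h)
        have e2 : (⟨a ^ 2, haZ⟩ : Subgroup.center G) = y := huniq _ (by
          intro h; apply ha2; exact congrArg Subtype.val h)
        exact congrArg Subtype.val (e1.trans e2.symm)
    have ha4 : a ^ 4 = 1 := hexp4 a
    by_cases hUA : ∀ u ∈ Z2, u ∈ A
    · -- Z2 = A is cyclic of order 4
      have hUpow : ∀ u : G, (∀ y : G, u * y * u⁻¹ * y⁻¹ ∈ Subgroup.center G) →
          u = 1 ∨ u = a ∨ u = a ^ 2 ∨ u = a ^ 3 := by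
        intro u hu
        have huA : u ∈ A := hUA u ((hZ2mem u).mpr hu)
        obtain ⟨k, hk⟩ := Subgroup.mem_zpowers_iff.mp (hgen ⟨u, huA⟩)
        have hk' : a ^ k = u := by
          have := congrArg Subtype.val hk
          rwa [Subgroup.coe_zpow] at this
        rw [← hk']
        exact e5s_zpow_four a ha4 k
      have hex : ∃ b : G, (∀ y : G, b * y * b⁻¹ * y⁻¹ ∈ Z2) ∧ b ∉ Z2 := by
        by_contra hno
        push Not at hno
        have hall : ∀ n : ℕ, Subgroup.upperCentralSeries G n ≤ Z2 := by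
          intro n
          induction n with
          | zero => rw [Subgroup.upperCentralSeries_zero]; exact bot_le
          | succ n ih =>
            intro x hx
            apply hno x
            intro y
            exact ih (Subgroup.mem_upperCentralSeries_succ_iff.mp hx y)
        obtain ⟨n, hn⟩ := (hp.isNilpotent).nilpotent
        have htop : A = ⊤ := by
          rw [eq_top_iff]
          intro x _
          apply hUA x
          apply hall n
          rw [hn]; exact Subgroup.mem_top x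
        have hc : Nat.card A = Nat.card G := by rw [htop, Subgroup.card_top]
        rw [hA4, hcard] at hc
        omega
      obtain ⟨b, hbZ3, hbZ2⟩ := hex
      have hg1 : ∃ g₁ : G, b * g₁ * b⁻¹ * g₁⁻¹ ∉ Subgroup.center G := by
        by_contra hno
        push Not at hno
        exact hbZ2 ((hZ2mem b).mpr hno)
      obtain ⟨g₁, hg₁⟩ := hg1
      exact e5s_bad_cyclic hexp4 a ha2 haZ hcen hUpow b
        (fun y y' => (hZ2mem _).mp (hbZ3 y) y') g₁ hg₁
    · -- Z2 ≠ A
      push Not at hUA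
      obtain ⟨w, hwZ2, hwA⟩ := hUA
      have hwC : w ∉ Subgroup.centralizer (Z2 : Set G) :=
        fun hc => hwA (Subgroup.mem_inf.mpr ⟨hwZ2, hc⟩)
      rw [Subgroup.mem_centralizer_iff] at hwC
      push Not at hwC
      obtain ⟨w', hw'Z2, hw'⟩ := hwC
      have hAB : A < A ⊔ Subgroup.zpowers w := by
        refine lt_of_le_of_ne le_sup_left ?_
        intro heq
        apply hwA
        rw [heq]
        exact (le_sup_right : Subgroup.zpowers w ≤ A ⊔ Subgroup.zpowers w)
          (Subgroup.mem_zpowers w)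
      have hBD : A ⊔ Subgroup.zpowers w ≤ Z2 ⊓ Subgroup.centralizer ({w} : Set G) := by
        refine sup_le ?_ ?_
        · intro x hx
          have hx' := Subgroup.mem_inf.mp hx
          refine Subgroup.mem_inf.mpr ⟨hx'.1, ?_⟩
          rw [Subgroup.mem_centralizer_iff]
          intro k hk
          rw [Set.mem_singleton_iff] at hk
          rw [hk]
          exact (Subgroup.mem_centralizer_iff.mp hx'.2) w hwZ2
        · rw [Subgroup.zpowers_le]
          refine Subgroup.mem_inf.mpr ⟨hwZ2, ?_⟩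
          rw [Subgroup.mem_centralizer_iff]
          intro k hk
          rw [Set.mem_singleton_iff] at hk
          rw [hk]
      have hDU : Z2 ⊓ Subgroup.centralizer ({w} : Set G) < Z2 := by
        refine lt_of_le_of_ne inf_le_left ?_
        intro heq
        have hmem : w' ∈ Z2 ⊓ Subgroup.centralizer ({w} : Set G) := by rw [heq]; exact hw'Z2
        have h2 := (Subgroup.mem_centralizer_iff.mp (Subgroup.mem_inf.mp hmem).2) w
          (Set.mem_singleton w)
        exact hw' h2.symm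
      have c1 := e5s_card_lt hAB
      have c2 := Subgroup.card_le_of_le hBD
      have c3 := e5s_card_lt hDU
      have c4 : Nat.card Z2 ∣ 32 := by rw [← hcard]; exact Subgroup.card_subgroup_dvd_card Z2
      have c5 : Nat.card Z2 ≠ 32 := by
        intro h32
        have htop : Z2 = ⊤ := Subgroup.eq_top_of_card_eq Z2 (by rw [h32, hcard])
        have haz : a ∈ Subgroup.center G := by
          rw [Subgroup.mem_center_iff]
          intro k
          exact (Subgroup.mem_centralizer_iff.mp haC) k (by rw [htop]; exact Subgroup.mem_top k)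
        rcases hcen a haz with h | h
        · apply ha2; rw [h, one_pow]
        · apply ha2
          have h5 : a * 1 = a * a := by rw [mul_one, ← pow_two]; exact h
          have h6 : a = 1 := (mul_left_cancel h5).symm
          rw [h6, one_pow]
      have c6 : Nat.card Z2 = 16 := by
        rw [hA4] at c1
        obtain ⟨m, hm⟩ := c4
        have h16 : 16 ≤ Nat.card Z2 := by omega
        rcases m with _ | _ | _ | m
        · omega
        · omega
        · omega
        · exfalso; nlinarith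
      have hidx : Z2.index = 2 := by
        have h7 := Subgroup.card_mul_index Z2
        rw [c6, hcard] at h7
        omega
      obtain ⟨g₀, hg₀⟩ := Subgroup.index_eq_two_iff.mp hidx
      have hg₀n : g₀ ∉ Z2 := by
        rcases hg₀ 1 with ⟨_, h2⟩ | ⟨_, h2⟩
        · exact absurd (Subgroup.one_mem _) h2
        · rwa [one_mul] at h2
      apply hg₀n
      rw [hZ2mem]
      intro y
      have key : y * g₀ * y⁻¹ * g₀⁻¹ ∈ Subgroup.center G := by
        rcases hg₀ y with ⟨h1, _⟩ | ⟨h1, _⟩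
        · have h8 := (hZ2mem _).mp h1 g₀
          have e : y * g₀ * g₀ * (y * g₀)⁻¹ * g₀⁻¹ = y * g₀ * y⁻¹ * g₀⁻¹ := by group
          rwa [e] at h8
        · exact (hZ2mem _).mp h1 g₀
      have e : g₀ * y * g₀⁻¹ * y⁻¹ = (y * g₀ * y⁻¹ * g₀⁻¹)⁻¹ := by group
      rw [e]
      exact Subgroup.inv_mem _ key
  -- the centraliser of Z2 is the centre
  have hCnormal : (Subgroup.centralizer (Z2 : Set G)).Normal := by
    rw [hZ2]
    infer_instance
  have hnil : Group.IsNilpotent G := hp.isNilpotent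
  have hC : ∀ k : ℕ, ∀ c ∈ Subgroup.centralizer (Z2 : Set G),
      c ∈ Subgroup.upperCentralSeries G (k + 1) → c ∈ Subgroup.center G := by
    intro k
    induction k with
    | zero =>
      intro c _ hc
      rw [zero_add, Subgroup.upperCentralSeries_one] at hc
      exact hc
    | succ k ih =>
      intro c hcC hc
      have h1 : ∀ y : G, c * y * c⁻¹ * y⁻¹ ∈ Subgroup.center G := by
        intro y
        apply ih
        · have h2 : c * y * c⁻¹ * y⁻¹ = c * (y * c⁻¹ * y⁻¹) := by group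
          rw [h2]
          exact Subgroup.mul_mem _ hcC
            (hCnormal.conj_mem _ (Subgroup.inv_mem _ hcC) y)
        · exact (Subgroup.mem_upperCentralSeries_succ_iff.mp hc) y
      have h3 : c ∈ A := by
        rw [hA]
        exact ⟨(hZ2mem c).mpr h1, hcC⟩
      rw [hAZ] at h3
      exact h3
  have hCZ : ∀ c ∈ Subgroup.centralizer (Z2 : Set G), c ∈ Subgroup.center G := by
    intro c hc
    obtain ⟨n, hn⟩ := hnil.nilpotent
    apply hC n c hc
    have : Subgroup.upperCentralSeries G n ≤ Subgroup.upperCentralSeries G (n + 1) :=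
      Subgroup.upperCentralSeries_mono G (Nat.le_succ n)
    apply this
    rw [hn]
    exact Subgroup.mem_top c
  -- for u ∈ Z2 the map x ↦ [u, x] is a homomorphism into the centre, with values of order ≤ 2
  have hmul : ∀ u ∈ Z2, ∀ a b : G, u * (a * b) * u⁻¹ * (a * b)⁻¹ =
      (u * a * u⁻¹ * a⁻¹) * (u * b * u⁻¹ * b⁻¹) := by
    intro u hu a b
    have hb : u * b * u⁻¹ * b⁻¹ ∈ Subgroup.center G := (hZ2mem u).mp hu b
    have hc := Subgroup.mem_center_iff.mp hb a⁻¹
    calc u * (a * b) * u⁻¹ * (a * b)⁻¹ = (u * a * u⁻¹) * ((u * b * u⁻¹ * b⁻¹) * a⁻¹) := by group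
      _ = (u * a * u⁻¹) * (a⁻¹ * (u * b * u⁻¹ * b⁻¹)) := by rw [hc]
      _ = (u * a * u⁻¹ * a⁻¹) * (u * b * u⁻¹ * b⁻¹) := by group
  have hcomm_of : ∀ u x : G, u * x * u⁻¹ * x⁻¹ = 1 → u * x = x * u := by
    intro u x h1
    have : u * x = (u * x * u⁻¹ * x⁻¹) * (x * u) := by group
    rw [this, h1, one_mul]
  have hsq : ∀ x : G, x ^ 2 ∈ Subgroup.centralizer (Z2 : Set G) := by
    intro x
    rw [Subgroup.mem_centralizer_iff]
    intro u hu
    apply hcomm_of
    rw [pow_two, hmul u hu x x, ← pow_two]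
    exact e4s_comm_sq hexp4 u x ((hZ2mem u).mp hu x)
  have hcm : ∀ x y : G, x * y * x⁻¹ * y⁻¹ ∈ Subgroup.centralizer (Z2 : Set G) := by
    intro x y
    rw [Subgroup.mem_centralizer_iff]
    intro u hu
    apply hcomm_of
    have hx : u * x * u⁻¹ * x⁻¹ ∈ Subgroup.center G := (hZ2mem u).mp hu x
    have hy : u * y * u⁻¹ * y⁻¹ ∈ Subgroup.center G := (hZ2mem u).mp hu y
    have hxi : u * x⁻¹ * u⁻¹ * x⁻¹⁻¹ = (u * x * u⁻¹ * x⁻¹)⁻¹ := by
      have h1 := hmul u hu x x⁻¹
      rw [mul_inv_cancel] at h1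
      have h2 : u * 1 * u⁻¹ * (1 : G)⁻¹ = 1 := by group
      rw [h2] at h1
      exact (inv_eq_of_mul_eq_one_right h1.symm).symm
    have hyi : u * y⁻¹ * u⁻¹ * y⁻¹⁻¹ = (u * y * u⁻¹ * y⁻¹)⁻¹ := by
      have h1 := hmul u hu y y⁻¹
      rw [mul_inv_cancel] at h1
      have h2 : u * 1 * u⁻¹ * (1 : G)⁻¹ = 1 := by group
      rw [h2] at h1
      exact (inv_eq_of_mul_eq_one_right h1.symm).symm
    rw [hmul u hu (x * y * x⁻¹) y⁻¹, hmul u hu (x * y) x⁻¹, hmul u hu x y, hxi, hyi]
    have hc := Subgroup.mem_center_iff.mp hy (u * x * u⁻¹ * x⁻¹)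
    calc (u * x * u⁻¹ * x⁻¹) * (u * y * u⁻¹ * y⁻¹) * (u * x * u⁻¹ * x⁻¹)⁻¹ *
          (u * y * u⁻¹ * y⁻¹)⁻¹
        = ((u * x * u⁻¹ * x⁻¹) * (u * y * u⁻¹ * y⁻¹)) * (u * x * u⁻¹ * x⁻¹)⁻¹ *
          (u * y * u⁻¹ * y⁻¹)⁻¹ := by group
      _ = ((u * y * u⁻¹ * y⁻¹) * (u * x * u⁻¹ * x⁻¹)) * (u * x * u⁻¹ * x⁻¹)⁻¹ *
          (u * y * u⁻¹ * y⁻¹)⁻¹ := by rw [hc]
      _ = 1 := by group
  exact ⟨hCZ _ (hsq g), hCZ _ (hcm g h)⟩

end Cfsg.Agent.Helper92
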