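import Cfsg.Agent.Helper26.GolayMore

/-!
# The rank-24 lattice `Cfsg.leechLattice`: it is the set `Cfsg.leechSet`, its minimal
squared length is 32, and all squared lengths are divisible by 16.
-/

set_option autoImplicit false

namespace Cfsg.Agent.Helper92

open Cfsg Cfsg.Agent.Helper26

/-- the set of positions where `x i ≡ m + 2 (mod 4)` -/
def lvl (x : GolayPt → ℤ) (m : ℤ) : Finset GolayPt :=
  Finset.univ.filter fun i => x i ≡ m + 2 [ZMOD 4]

theorem mem_lvl (x : GolayPt → ℤ) (m : ℤ) (i : GolayPt) :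
    i ∈ lvl x m ↔ x i ≡ m + 2 [ZMOD 4] := by
  simp [lvl]

/-- membership in `leechSet` with a single code condition -/
theorem mem_leechSet_iff (x : GolayPt → ℤ) :
    x ∈ leechSet ↔ ∃ m : ℤ, (∀ i, x i ≡ m [ZMOD 2]) ∧ (∑ i, x i ≡ 4 * m [ZMOD 8]) ∧
      lvl x m ∈ supports (golayCode : Set (GolayPt → ZMod 2)) := by
  constructor
  · rintro ⟨m, h1, h2, h3⟩
    exact ⟨m, h1, h2, h3 (m + 2)⟩
  · rintro ⟨m, h1, h2, h3⟩
    refine ⟨m, h1, h2, fun k => ?_⟩
    have hk : k % 4 = (m + 2) % 4 ∨ k % 4 = m % 4 ∨ k % 2 ≠ m % 2 := by omega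
    rcases hk with hk | hk | hk
    · have : (Finset.univ.filter fun i => x i ≡ k [ZMOD 4]) = lvl x m := by
        ext i
        rw [Finset.mem_filter, mem_lvl]
        simp only [Finset.mem_univ, true_and]
        show x i % 4 = k % 4 ↔ x i % 4 = (m + 2) % 4
        rw [hk]
      rw [this]; exact h3
    · have : (Finset.univ.filter fun i => x i ≡ k [ZMOD 4]) = (lvl x m)ᶜ := by
        ext i
        have hi : x i % 2 = m % 2 := h1 i
        rw [Finset.mem_filter, Finset.mem_compl, mem_lvl]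
        simp only [Finset.mem_univ, true_and]
        show x i % 4 = k % 4 ↔ ¬ x i % 4 = (m + 2) % 4
        omega
      rw [this]; exact supports_compl h3
    · have : (Finset.univ.filter fun i => x i ≡ k [ZMOD 4]) = ∅ := by
        ext i
        have hi : x i % 2 = m % 2 := h1 i
        rw [Finset.mem_filter]
        simp only [Finset.mem_univ, true_and, Finset.notMem_empty, iff_false]
        show ¬ x i % 4 = k % 4
        omega
      rw [this]; exact supports_empty

theorem zero_mem_leechSet : (0 : GolayPt → ℤ) ∈ leechSet := by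
  rw [mem_leechSet_iff]
  refine ⟨0, fun i => by simp [Int.ModEq], by simp [Int.ModEq], ?_⟩
  have : lvl (0 : GolayPt → ℤ) 0 = ∅ := by
    ext i
    rw [mem_lvl]
    simp only [Finset.notMem_empty, iff_false, Pi.zero_apply]
    show ¬ (0 : ℤ) % 4 = (0 + 2) % 4
    omega
  rw [this]; exact supports_empty

theorem add_mem_leechSet {x y : GolayPt → ℤ} (hx : x ∈ leechSet) (hy : y ∈ leechSet) :
    x + y ∈ leechSet := by
  rw [mem_leechSet_iff] at hx hy ⊢
  obtain ⟨m, hx1, hx2, hx3⟩ := hx
  obtain ⟨m', hy1, hy2, hy3⟩ := hy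
  refine ⟨m + m', fun i => (hx1 i).add (hy1 i), ?_, ?_⟩
  · have : ∑ i, (x + y) i = ∑ i, x i + ∑ i, y i := by
      simp [Finset.sum_add_distrib]
    rw [this, mul_add]
    exact hx2.add hy2
  · have : lvl (x + y) (m + m') = symmDiff (lvl x m) (lvl y m') := by
      ext i
      have h1 : x i % 2 = m % 2 := hx1 i
      have h2 : y i % 2 = m' % 2 := hy1 i
      rw [Finset.mem_symmDiff, mem_lvl, mem_lvl, mem_lvl]
      show (x i + y i) % 4 = (m + m' + 2) % 4 ↔
        (x i % 4 = (m + 2) % 4 ∧ ¬ y i % 4 = (m' + 2) % 4) ∨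
          (y i % 4 = (m' + 2) % 4 ∧ ¬ x i % 4 = (m + 2) % 4)
      omega
    rw [this]; exact supports_symmDiff hx3 hy3

theorem neg_mem_leechSet {x : GolayPt → ℤ} (hx : x ∈ leechSet) : -x ∈ leechSet := by
  rw [mem_leechSet_iff] at hx ⊢
  obtain ⟨m, hx1, hx2, hx3⟩ := hx
  refine ⟨-m, fun i => (hx1 i).neg, ?_, ?_⟩
  · have : ∑ i, (-x) i = -∑ i, x i := by simp
    rw [this, mul_neg]
    exact hx2.neg
  · have : lvl (-x) (-m) = lvl x m := by
      ext i
      have h1 : x i % 2 = m % 2 := hx1 i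
      rw [mem_lvl, mem_lvl]
      show (-x i) % 4 = (-m + 2) % 4 ↔ x i % 4 = (m + 2) % 4
      omega
    rw [this]; exact hx3

/-- `leechSet` as an additive subgroup -/
def leechSub : AddSubgroup (GolayPt → ℤ) where
  carrier := leechSet
  add_mem' := add_mem_leechSet
  zero_mem' := zero_mem_leechSet
  neg_mem' := neg_mem_leechSet

theorem leechLattice_eq : leechLattice = leechSub :=
  AddSubgroup.closure_eq leechSub

theorem mem_leechLattice_iff (x : GolayPt → ℤ) : x ∈ leechLattice ↔ x ∈ leechSet := by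
  rw [leechLattice_eq]; rfl

/-! ### Elementary integer facts -/

theorem four_le_sq_of_mod (t : ℤ) (h : t % 4 = 2) : 4 ≤ t ^ 2 := by
  have : t ≤ -2 ∨ 2 ≤ t := by omega
  rcases this with h | h <;> nlinarith

theorem sixteen_le_sq (t : ℤ) (h : t % 4 = 0) (h0 : t ≠ 0) : 16 ≤ t ^ 2 := by
  have : t ≤ -4 ∨ 4 ≤ t := by omega
  rcases this with h | h <;> nlinarith

theorem sixtyfour_le_sq (t : ℤ) (h : t % 8 = 0) (h0 : t ≠ 0) : 64 ≤ t ^ 2 := by
  have : t ≤ -8 ∨ 8 ≤ t := by omega
  rcases this with h | h <;> nlinarith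

theorem card_golayPt : Fintype.card GolayPt = 24 := by decide

theorem sqNorm_ge_of_mem_leechSet {x : GolayPt → ℤ} (hx : x ∈ leechSet) (h0 : x ≠ 0) :
    32 ≤ sqNorm x := by
  obtain ⟨m, h1, h2, h3⟩ := hx
  have hnn : ∀ i, 0 ≤ x i ^ 2 := fun i => sq_nonneg _
  rcases Int.emod_two_eq_zero_or_one m with hm | hm
  · -- even case
    have hE := h3 2
    have hc := card_of_mem_supports hE
    have hlow : 4 * ((Finset.univ.filter fun i => x i ≡ 2 [ZMOD 4]).card : ℤ) ≤ sqNorm x := by
      rw [Finset.card_filter]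
      push_cast
      rw [Finset.mul_sum]
      apply Finset.sum_le_sum
      intro i _
      split_ifs with hi
      · have := four_le_sq_of_mod (x i) hi; linarith
      · have := hnn i; linarith
    by_cases hc0 : (Finset.univ.filter fun i => x i ≡ 2 [ZMOD 4]).card = 0
    · have h4 : ∀ i, x i % 4 = 0 := by
        intro i
        have hi : x i % 2 = m % 2 := h1 i
        have : i ∉ Finset.univ.filter fun i => x i ≡ 2 [ZMOD 4] := by
          rw [Finset.card_eq_zero] at hc0; rw [hc0]; exact Finset.notMem_empty i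
        rw [Finset.mem_filter] at this
        have h' : ¬ (x i % 4 = 2 % 4) := fun h => this ⟨Finset.mem_univ _, h⟩
        omega
      obtain ⟨i₀, hi₀⟩ : ∃ i, x i ≠ 0 := by
        by_contra hcon; push Not at hcon; exact h0 (funext hcon)
      by_cases hj : ∃ j, j ≠ i₀ ∧ x j ≠ 0
      · obtain ⟨j, hj1, hj2⟩ := hj
        have : x i₀ ^ 2 + x j ^ 2 ≤ sqNorm x := by
          unfold sqNorm
          have := Finset.sum_le_sum_of_subset_of_nonneg
            (Finset.subset_univ ({i₀, j} : Finset GolayPt)) (f := fun i => x i ^ 2)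
            (fun i _ _ => hnn i)
          rw [Finset.sum_pair hj1.symm] at this
          exact this
        have := sixteen_le_sq _ (h4 i₀) hi₀
        have := sixteen_le_sq _ (h4 j) hj2
        linarith
      · push Not at hj
        have hsum : ∑ i, x i = x i₀ := by
          rw [Finset.sum_eq_single i₀ (fun j _ hj' => hj j hj')
            (fun h => absurd (Finset.mem_univ _) h)]
        have h8 : x i₀ % 8 = 0 := by
          have : (∑ i, x i) % 8 = (4 * m) % 8 := h2
          rw [hsum] at this; omega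
        have : x i₀ ^ 2 ≤ sqNorm x :=
          Finset.single_le_sum (f := fun i => x i ^ 2) (fun i _ => hnn i) (Finset.mem_univ i₀)
        have := sixtyfour_le_sq _ h8 hi₀
        linarith
    · have h8 : 8 ≤ (Finset.univ.filter fun i => x i ≡ 2 [ZMOD 4]).card := by omega
      have : (8 : ℤ) ≤ ((Finset.univ.filter fun i => x i ≡ 2 [ZMOD 4]).card : ℤ) := by
        exact_mod_cast h8
      linarith
  · -- odd case
    by_contra hlt
    push Not at hlt
    have hodd : ∀ i, x i % 2 = 1 := fun i => by have : x i % 2 = m % 2 := h1 i; omega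
    have h1le : ∀ i, 1 ≤ x i ^ 2 := by
      intro i
      have : x i ≤ -1 ∨ 1 ≤ x i := by have := hodd i; omega
      rcases this with h | h <;> nlinarith
    have hpm : ∀ i, x i = 1 ∨ x i = -1 := by
      intro j
      by_contra hcon
      push Not at hcon
      have h9 : 9 ≤ x j ^ 2 := by
        have : x j ≤ -3 ∨ 3 ≤ x j := by have := hodd j; omega
        rcases this with h | h <;> nlinarith
      have hsq : sqNorm x = x j ^ 2 + ∑ i ∈ Finset.univ.erase j, x i ^ 2 := by
        unfold sqNorm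
        exact (Finset.add_sum_erase _ (fun i => x i ^ 2) (Finset.mem_univ j)).symm
      have h23 : (23 : ℤ) ≤ ∑ i ∈ Finset.univ.erase j, x i ^ 2 := by
        have := Finset.card_nsmul_le_sum (Finset.univ.erase j) (fun i => x i ^ 2) 1
          (fun i _ => h1le i)
        rw [Finset.card_erase_of_mem (Finset.mem_univ j), Finset.card_univ, card_golayPt] at this
        simpa using this
      linarith
    have hs : ∑ i, x i = 24 - 2 * ((Finset.univ.filter fun i => x i ≡ 3 [ZMOD 4]).card : ℤ) := by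
      rw [Finset.card_filter]; push_cast
      rw [Finset.mul_sum]
      have h24 : (24 : ℤ) = ∑ i : GolayPt, 1 := by simp
      rw [h24, ← Finset.sum_sub_distrib]
      apply Finset.sum_congr rfl
      intro i _
      rcases hpm i with h | h <;> rw [h] <;> decide
    have hc := card_of_mem_supports (h3 3)
    have h2' : (∑ i, x i) % 8 = (4 * m) % 8 := h2
    rw [hs] at h2'
    omega

/-! ### Squared lengths are divisible by 16 -/

theorem sq_even_mod16 (t : ℤ) (h : t % 2 = 0) :
    (16 : ℤ) ∣ t ^ 2 - 4 * (if t ≡ 2 [ZMOD 4] then 1 else 0) := by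
  obtain ⟨k, rfl⟩ : ∃ k, t = 2 * k := ⟨t / 2, by omega⟩
  rcases Int.emod_two_eq_zero_or_one k with hk | hk
  · obtain ⟨j, rfl⟩ : ∃ j, k = 2 * j := ⟨k / 2, by omega⟩
    have hn : ¬ (2 * (2 * j) ≡ 2 [ZMOD 4]) := by
      show ¬ (2 * (2 * j)) % 4 = 2 % 4
      omega
    rw [if_neg hn]
    exact ⟨j ^ 2, by ring⟩
  · obtain ⟨j, rfl⟩ : ∃ j, k = 2 * j + 1 := ⟨k / 2, by omega⟩
    have hp : (2 * (2 * j + 1) ≡ 2 [ZMOD 4]) := by
      show (2 * (2 * j + 1)) % 4 = 2 % 4
      omega
    rw [if_pos hp]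
    exact ⟨j ^ 2 + j, by ring⟩

theorem sq_odd_mod16 (t : ℤ) (h : t % 2 = 1) :
    (16 : ℤ) ∣ t ^ 2 - (2 * t - 1 + 4 * (if t ≡ 3 [ZMOD 4] then 1 else 0)) := by
  obtain ⟨k, rfl⟩ : ∃ k, t = 2 * k + 1 := ⟨t / 2, by omega⟩
  rcases Int.emod_two_eq_zero_or_one k with hk | hk
  · obtain ⟨j, rfl⟩ : ∃ j, k = 2 * j := ⟨k / 2, by omega⟩
    have hn : ¬ (2 * (2 * j) + 1 ≡ 3 [ZMOD 4]) := by
      show ¬ (2 * (2 * j) + 1) % 4 = 3 % 4
      omega
    rw [if_neg hn]
    exact ⟨j ^ 2, by ring⟩
  · obtain ⟨j, rfl⟩ : ∃ j, k = 2 * j + 1 := ⟨k / 2, by omega⟩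
    have hp : (2 * (2 * j + 1) + 1 ≡ 3 [ZMOD 4]) := by
      show (2 * (2 * j + 1) + 1) % 4 = 3 % 4
      omega
    rw [if_pos hp]
    exact ⟨j ^ 2 + j, by ring⟩

theorem sixteen_dvd_sqNorm_of_mem_leechSet {x : GolayPt → ℤ} (hx : x ∈ leechSet) :
    (16 : ℤ) ∣ sqNorm x := by
  obtain ⟨m, h1, h2, h3⟩ := hx
  rcases Int.emod_two_eq_zero_or_one m with hm | hm
  · have hc := card_of_mem_supports (h3 2)
    have hd : (16 : ℤ) ∣ sqNorm x -
        4 * ((Finset.univ.filter fun i => x i ≡ 2 [ZMOD 4]).card : ℤ) := by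
      rw [Finset.card_filter]
      push_cast
      unfold sqNorm
      rw [Finset.mul_sum, ← Finset.sum_sub_distrib]
      apply Finset.dvd_sum
      intro i _
      have hi : x i % 2 = m % 2 := h1 i
      exact sq_even_mod16 (x i) (by omega)
    have h4 : (16 : ℤ) ∣ 4 * ((Finset.univ.filter fun i => x i ≡ 2 [ZMOD 4]).card : ℤ) := by
      rcases hc with h | h | h | h | h <;> rw [h] <;> norm_num
    have := dvd_add hd h4
    simpa using this
  · have hc := card_of_mem_supports (h3 3)
    have hd : (16 : ℤ) ∣ sqNorm x - (2 * ∑ i, x i - 24 +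
        4 * ((Finset.univ.filter fun i => x i ≡ 3 [ZMOD 4]).card : ℤ)) := by
      rw [Finset.card_filter]
      push_cast
      unfold sqNorm
      have h24 : (24 : ℤ) = ∑ i : GolayPt, 1 := by simp
      rw [h24, Finset.mul_sum, Finset.mul_sum, ← Finset.sum_sub_distrib,
        ← Finset.sum_add_distrib, ← Finset.sum_sub_distrib]
      apply Finset.dvd_sum
      intro i _
      have hi : x i % 2 = m % 2 := h1 i
      exact sq_odd_mod16 (x i) (by omega)
    have h2' : (∑ i, x i) % 8 = (4 * m) % 8 := h2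
    have h4 : (16 : ℤ) ∣ 2 * ∑ i, x i - 24 +
        4 * ((Finset.univ.filter fun i => x i ≡ 3 [ZMOD 4]).card : ℤ) := by
      rcases hc with h | h | h | h | h <;> rw [h] <;> omega
    have := dvd_add hd h4
    simpa using this

/-- **Minimal squared length**: nonzero vectors of `leechLattice` have `sqNorm ≥ 32`. -/
theorem leech_min_norm {x : GolayPt → ℤ} (hx : x ∈ leechLattice) (h0 : x ≠ 0) :
    32 ≤ sqNorm x :=
  sqNorm_ge_of_mem_leechSet ((mem_leechLattice_iff x).1 hx) h0

/-- **Evenness**: squared lengths of vectors of `leechLattice` are divisible by 16. -/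
theorem leech_sixteen_dvd {x : GolayPt → ℤ} (hx : x ∈ leechLattice) : (16 : ℤ) ∣ sqNorm x :=
  sixteen_dvd_sqNorm_of_mem_leechSet ((mem_leechLattice_iff x).1 hx)

/-! ### Identities for `sqNorm` and `dotInt` -/

theorem sqNorm_add {α : Type*} [Fintype α] (v w : α → ℤ) :
    sqNorm (v + w) = sqNorm v + sqNorm w + 2 * dotInt v w := by
  unfold sqNorm dotInt
  rw [Finset.mul_sum, ← Finset.sum_add_distrib, ← Finset.sum_add_distrib]
  apply Finset.sum_congr rfl
  intro i _
  simp only [Pi.add_apply]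
  ring

theorem sqNorm_sub {α : Type*} [Fintype α] (v w : α → ℤ) :
    sqNorm (v - w) = sqNorm v + sqNorm w - 2 * dotInt v w := by
  unfold sqNorm dotInt
  rw [Finset.mul_sum, ← Finset.sum_add_distrib, ← Finset.sum_sub_distrib]
  apply Finset.sum_congr rfl
  intro i _
  simp only [Pi.sub_apply]
  ring

theorem sqNorm_two_zsmul {α : Type*} [Fintype α] (z : α → ℤ) :
    sqNorm ((2 : ℤ) • z) = 4 * sqNorm z := by
  unfold sqNorm
  rw [Finset.mul_sum]
  apply Finset.sum_congr rfl
  intro i _
  simp only [Pi.smul_apply, smul_eq_mul]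
  ring

theorem sqNorm_two_nsmul {α : Type*} [Fintype α] (z : α → ℤ) :
    sqNorm ((2 : ℕ) • z) = 4 * sqNorm z := by
  rw [← sqNorm_two_zsmul]
  congr 1

theorem sqNorm_neg {α : Type*} [Fintype α] (z : α → ℤ) : sqNorm (-z) = sqNorm z := by
  unfold sqNorm
  apply Finset.sum_congr rfl
  intro i _
  simp only [Pi.neg_apply]
  ring

theorem dotInt_comm {α : Type*} [Fintype α] (v w : α → ℤ) : dotInt v w = dotInt w v := by
  unfold dotInt
  apply Finset.sum_congr rfl
  intro i _
  ring

theorem dotInt_self {α : Type*} [Fintype α] (v : α → ℤ) : dotInt v v = sqNorm v := by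
  unfold dotInt sqNorm
  apply Finset.sum_congr rfl
  intro i _
  ring

/-- inner products of vectors of `leechLattice` are divisible by 8 -/
theorem leech_eight_dvd_dotInt {x y : GolayPt → ℤ} (hx : x ∈ leechLattice)
    (hy : y ∈ leechLattice) : (8 : ℤ) ∣ dotInt x y := by
  have h1 := leech_sixteen_dvd hx
  have h2 := leech_sixteen_dvd hy
  have h3 := leech_sixteen_dvd (add_mem hx hy)
  rw [sqNorm_add] at h3
  omega

/-- **Short vectors congruent modulo twice the lattice**: if `v - w = 2 z` with `w, z` in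
`leechLattice` and `v, w` of squared length at most 64, then `w = v`, or `w = -v`, or both have
squared length exactly 64 and they are orthogonal. -/
theorem leech_congr_two {v w z : GolayPt → ℤ} (hw : w ∈ leechLattice) (hz : z ∈ leechLattice)
    (h : v - w = (2 : ℤ) • z) (hvn : sqNorm v ≤ 64) (hwn : sqNorm w ≤ 64) :
    w = v ∨ w = -v ∨ (sqNorm v = 64 ∧ sqNorm w = 64 ∧ dotInt v w = 0) := by
  have hv : v = w + (2 : ℤ) • z := by rw [← h]; abel
  by_cases hz0 : z = 0
  · left
    rw [hv, hz0, smul_zero, add_zero]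
  by_cases hzw : z + w = 0
  · right; left
    have hz' : z = -w := eq_neg_of_add_eq_zero_left hzw
    rw [hv, hz', two_smul]
    abel
  · right; right
    have h1 := leech_min_norm hz hz0
    have h2 := leech_min_norm (add_mem hz hw) hzw
    have e1 : sqNorm (v - w) = 4 * sqNorm z := by rw [h, sqNorm_two_zsmul]
    have e2 : sqNorm (v + w) = 4 * sqNorm (z + w) := by
      have : v + w = (2 : ℤ) • (z + w) := by
        rw [hv, two_smul, two_smul]; abel
      rw [this, sqNorm_two_zsmul]
    rw [sqNorm_sub] at e1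
    rw [sqNorm_add] at e2
    refine ⟨by linarith, by linarith, by linarith⟩

end Cfsg.Agent.Helper92
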