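import Cfsg.Agent.Helper92.Leech
import Cfsg.Agent.Helper7.M24Trans

/-!
# Monomial automorphisms of `Cfsg.leechLattice`

Coordinate permutations from `M24` (`permAut`) and sign changes on the support of a code word
(`signAut`) as elements of `Cfsg.Co0`.
-/

set_option autoImplicit false

open scoped Pointwise

namespace Cfsg.Agent.Helper92

open Cfsg

/-! ### Coordinate permutations -/

/-- permuting the coordinates of a vector: the coordinate `i` moves to `g i` -/
def permFun (g : Equiv.Perm GolayPt) (x : GolayPt → ℤ) : GolayPt → ℤ := fun i => x (g.symm i)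

theorem permFun_apply (g : Equiv.Perm GolayPt) (x : GolayPt → ℤ) (i : GolayPt) :
    permFun g x i = x (g.symm i) := rfl

theorem permFun_add (g : Equiv.Perm GolayPt) (x y : GolayPt → ℤ) :
    permFun g (x + y) = permFun g x + permFun g y := rfl

theorem permFun_single (g : Equiv.Perm GolayPt) (i : GolayPt) (c : ℤ) :
    permFun g (Pi.single i c) = Pi.single (g i) c := by
  funext k
  rw [permFun_apply, Pi.single_apply, Pi.single_apply]
  by_cases h : k = g i
  · rw [if_pos h, if_pos (by rw [h, Equiv.symm_apply_apply])]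
  · rw [if_neg h, if_neg (fun h' => h (by rw [← h', Equiv.apply_symm_apply]))]

theorem permFun_permFun_inv (g : Equiv.Perm GolayPt) (x : GolayPt → ℤ) :
    permFun g (permFun g⁻¹ x) = x := by
  funext i
  show x ((g⁻¹).symm (g.symm i)) = x i
  congr 1
  exact g.apply_symm_apply i

theorem permFun_inv_permFun (g : Equiv.Perm GolayPt) (x : GolayPt → ℤ) :
    permFun g⁻¹ (permFun g x) = x := by
  funext i
  show x (g.symm ((g⁻¹).symm i)) = x i
  congr 1
  exact g.symm_apply_apply i

theorem sqNorm_permFun (g : Equiv.Perm GolayPt) (x : GolayPt → ℤ) :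
    sqNorm (permFun g x) = sqNorm x := by
  unfold sqNorm permFun
  exact Equiv.sum_comp g.symm (fun i => x i ^ 2)

theorem smul_mem_supports {g : Equiv.Perm GolayPt} (hg : g ∈ M24) {b : Finset GolayPt}
    (hb : b ∈ supports (golayCode : Set (GolayPt → ZMod 2))) :
    g • b ∈ supports (golayCode : Set (GolayPt → ZMod 2)) := by
  have h := MulAction.mem_stabilizer_iff.mp hg
  rw [← h]
  exact Set.smul_mem_smul_set hb

theorem permFun_mem {g : Equiv.Perm GolayPt} (hg : g ∈ M24) {x : GolayPt → ℤ}
    (hx : x ∈ leechLattice) : permFun g x ∈ leechLattice := by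
  rw [mem_leechLattice_iff, mem_leechSet_iff] at hx ⊢
  obtain ⟨m, h1, h2, h3⟩ := hx
  refine ⟨m, fun i => h1 _, ?_, ?_⟩
  · have : ∑ i, permFun g x i = ∑ i, x i := Equiv.sum_comp g.symm x
    rw [this]; exact h2
  · have : lvl (permFun g x) m = g • lvl x m := by
      ext i
      rw [mem_lvl, ← Finset.inv_smul_mem_iff, mem_lvl]
      rfl
    rw [this]
    exact smul_mem_supports hg h3

/-- the lattice automorphism permuting coordinates by an element of `M24` -/
def permAut (g : Equiv.Perm GolayPt) (hg : g ∈ M24) : Co0 :=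
  ⟨{ toFun := fun x => ⟨permFun g x.1, permFun_mem hg x.2⟩
     invFun := fun x => ⟨permFun g⁻¹ x.1, permFun_mem (inv_mem hg) x.2⟩
     left_inv := fun x => Subtype.ext (permFun_inv_permFun g x.1)
     right_inv := fun x => Subtype.ext (permFun_permFun_inv g x.1) },
   ⟨fun _ _ => rfl, fun v => sqNorm_permFun g v.1⟩⟩

theorem permAut_smul (g : Equiv.Perm GolayPt) (hg : g ∈ M24) (x : leechLattice) :
    ((permAut g hg • x : leechLattice) : GolayPt → ℤ) = permFun g x.1 := rfl

/-! ### Sign changes -/

/-- changing the signs of the coordinates in `C` -/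
def signFun (C : Finset GolayPt) (x : GolayPt → ℤ) : GolayPt → ℤ :=
  fun i => if i ∈ C then - x i else x i

theorem signFun_apply (C : Finset GolayPt) (x : GolayPt → ℤ) (i : GolayPt) :
    signFun C x i = if i ∈ C then - x i else x i := rfl

theorem signFun_add (C : Finset GolayPt) (x y : GolayPt → ℤ) :
    signFun C (x + y) = signFun C x + signFun C y := by
  funext i
  simp only [signFun_apply, Pi.add_apply]
  split_ifs <;> ring

theorem signFun_signFun (C : Finset GolayPt) (x : GolayPt → ℤ) :
    signFun C (signFun C x) = x := by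
  funext i
  simp only [signFun_apply]
  split_ifs <;> ring

theorem sqNorm_signFun (C : Finset GolayPt) (x : GolayPt → ℤ) :
    sqNorm (signFun C x) = sqNorm x := by
  unfold sqNorm
  apply Finset.sum_congr rfl
  intro i _
  simp only [signFun_apply]
  split_ifs <;> ring

theorem four_dvd_sum_of_mem {C : Finset GolayPt}
    (hC : C ∈ supports (golayCode : Set (GolayPt → ZMod 2))) {x : GolayPt → ℤ} {m : ℤ}
    (h1 : ∀ i, x i ≡ m [ZMOD 2])
    (h3 : lvl x m ∈ supports (golayCode : Set (GolayPt → ZMod 2))) :
    (4 : ℤ) ∣ ∑ i ∈ C, x i := by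
  have hdec : ∑ i ∈ C, x i = ∑ i ∈ C, (x i - m - 2 * (if i ∈ lvl x m then 1 else 0)) +
      (m * (C.card : ℤ) + 2 * ((C ∩ lvl x m).card : ℤ)) := by
    rw [Finset.sum_sub_distrib, Finset.sum_sub_distrib, Finset.sum_const, ← Finset.mul_sum,
      Finset.sum_boole, Finset.filter_mem_eq_inter]
    simp only [nsmul_eq_mul]
    ring
  rw [hdec]
  apply dvd_add
  · apply Finset.dvd_sum
    intro i _
    have hi : x i % 2 = m % 2 := h1 i
    by_cases hl : i ∈ lvl x m
    · rw [if_pos hl]
      have : x i % 4 = (m + 2) % 4 := (mem_lvl x m i).1 hl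
      omega
    · rw [if_neg hl]
      have : ¬ x i % 4 = (m + 2) % 4 := fun h => hl ((mem_lvl x m i).2 h)
      omega
  · have hc := Cfsg.Agent.Helper26.card_of_mem_supports hC
    have he := Cfsg.Agent.Helper26.even_card_inter hC h3
    have he' : (2 : ℤ) ∣ ((C ∩ lvl x m).card : ℤ) := by exact_mod_cast he
    rcases hc with h | h | h | h | h <;> rw [h] <;> omega

theorem signFun_mem {C : Finset GolayPt}
    (hC : C ∈ supports (golayCode : Set (GolayPt → ZMod 2))) {x : GolayPt → ℤ}
    (hx : x ∈ leechLattice) : signFun C x ∈ leechLattice := by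
  rw [mem_leechLattice_iff, mem_leechSet_iff] at hx ⊢
  obtain ⟨m, h1, h2, h3⟩ := hx
  have h4 := four_dvd_sum_of_mem hC h1 h3
  refine ⟨m, ?_, ?_, ?_⟩
  · intro i
    have hi : x i % 2 = m % 2 := h1 i
    show (signFun C x i) % 2 = m % 2
    rw [signFun_apply]
    split_ifs <;> omega
  · have hs : ∑ i, signFun C x i = ∑ i, x i - 2 * ∑ i ∈ C, x i := by
      have : ∀ i, signFun C x i = x i - 2 * (if i ∈ C then x i else 0) := by
        intro i
        rw [signFun_apply]
        split_ifs <;> ring
      simp only [this]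
      rw [Finset.sum_sub_distrib, ← Finset.mul_sum, Finset.sum_ite_mem, Finset.univ_inter]
    have h2' : (∑ i, x i) % 8 = (4 * m) % 8 := h2
    show (∑ i, signFun C x i) % 8 = (4 * m) % 8
    rw [hs]
    omega
  · rcases Int.emod_two_eq_zero_or_one m with hm | hm
    · have : lvl (signFun C x) m = lvl x m := by
        ext i
        have hi : x i % 2 = m % 2 := h1 i
        rw [mem_lvl, mem_lvl, signFun_apply]
        show (if i ∈ C then - x i else x i) % 4 = (m + 2) % 4 ↔ x i % 4 = (m + 2) % 4
        split_ifs <;> omega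
      rw [this]; exact h3
    · have : lvl (signFun C x) m = symmDiff (lvl x m) C := by
        ext i
        have hi : x i % 2 = m % 2 := h1 i
        rw [Finset.mem_symmDiff, mem_lvl, mem_lvl, signFun_apply]
        show (if i ∈ C then - x i else x i) % 4 = (m + 2) % 4 ↔
          (x i % 4 = (m + 2) % 4 ∧ i ∉ C) ∨ (i ∈ C ∧ ¬ x i % 4 = (m + 2) % 4)
        by_cases hc : i ∈ C
        · rw [if_pos hc]
          simp only [hc, not_true_eq_false, and_false, true_and, false_or]
          omega
        · rw [if_neg hc]
          simp only [hc, not_false_eq_true, and_true, false_and, or_false]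
      rw [this]
      exact Cfsg.Agent.Helper26.supports_symmDiff h3 hC

/-- the lattice automorphism changing the signs on the support of a code word -/
def signAut (C : Finset GolayPt) (hC : C ∈ supports (golayCode : Set (GolayPt → ZMod 2))) : Co0 :=
  ⟨{ toFun := fun x => ⟨signFun C x.1, signFun_mem hC x.2⟩
     invFun := fun x => ⟨signFun C x.1, signFun_mem hC x.2⟩
     left_inv := fun x => Subtype.ext (signFun_signFun C x.1)
     right_inv := fun x => Subtype.ext (signFun_signFun C x.1) },
   ⟨fun v w => Subtype.ext (signFun_add C v.1 w.1), fun v => sqNorm_signFun C v.1⟩⟩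

theorem signAut_smul (C : Finset GolayPt)
    (hC : C ∈ supports (golayCode : Set (GolayPt → ZMod 2))) (x : leechLattice) :
    ((signAut C hC • x : leechLattice) : GolayPt → ℤ) = signFun C x.1 := rfl

end Cfsg.Agent.Helper92
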