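import Cfsg.Agent.Helper92.LeechCensusOdd

/-!
# Census of the lattice vectors of squared length 48: the even vectors

An even lattice vector of squared length 48 is `±2` on a dodecad (evenly many minus signs) and `0`
elsewhere, or `±2` on an octad (oddly many minus signs), `±4` at one further point and `0`
elsewhere.
-/

set_option autoImplicit false

namespace Cfsg.Agent.Helper92

open Cfsg Cfsg.Agent.Helper26

/-! ### General tools -/

/-- termwise equality from a termwise inequality and equality of sums -/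
theorem eq_of_sum_eq {f g : GolayPt → ℤ} (hle : ∀ i, g i ≤ f i) (hs : ∑ i, f i = ∑ i, g i) :
    ∀ i, f i = g i := by
  have h0 : ∑ i, (f i - g i) = 0 := by
    rw [Finset.sum_sub_distrib, hs, sub_self]
  have h1 := (Finset.sum_eq_zero_iff_of_nonneg (fun i _ => sub_nonneg.2 (hle i))).1 h0
  intro i
  have := h1 i (Finset.mem_univ i)
  linarith

/-- half of the subsets of a nonempty finite set have even size -/
theorem card_even_powerset {α : Type*} [DecidableEq α] (s : Finset α) (n : ℕ)
    (hs : s.card = n + 1) :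
    (s.powerset.filter (fun t => Even t.card)).card = 2 ^ n ∧
      (s.powerset.filter (fun t => ¬ Even t.card)).card = 2 ^ n := by
  have hne : s.Nonempty := by
    rw [← Finset.card_pos, hs]
    omega
  have h1 : (∑ m ∈ s.powerset, (-1 : ℤ) ^ m.card) = 0 :=
    Finset.sum_powerset_neg_one_pow_card_of_nonempty hne
  rw [← Finset.sum_filter_add_sum_filter_not s.powerset (fun t => Even t.card)] at h1
  have h2 : ∑ m ∈ s.powerset.filter (fun t => Even t.card), (-1 : ℤ) ^ m.card =
      ((s.powerset.filter (fun t => Even t.card)).card : ℤ) := by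
    rw [Finset.sum_congr rfl (fun m hm => Even.neg_one_pow (Finset.mem_filter.1 hm).2)]
    simp
  have h3 : ∑ m ∈ s.powerset.filter (fun t => ¬ Even t.card), (-1 : ℤ) ^ m.card =
      -((s.powerset.filter (fun t => ¬ Even t.card)).card : ℤ) := by
    rw [Finset.sum_congr rfl (fun m hm => Odd.neg_one_pow
      (Nat.not_even_iff_odd.1 (Finset.mem_filter.1 hm).2))]
    simp
  rw [h2, h3] at h1
  have h4 := Finset.card_filter_add_card_filter_not (s := s.powerset) (fun t => Even t.card)
  rw [Finset.card_powerset, hs, pow_succ] at h4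
  constructor <;> omega

/-! ### The vectors `dv` -/

/-- the vector with `-2` on `S`, `2` on `d \ S` and `0` elsewhere -/
def dv (d S : Finset GolayPt) : GolayPt → ℤ :=
  fun i => if i ∈ S then -2 else if i ∈ d then 2 else 0

theorem dv_eq_neg_two {d S : Finset GolayPt} (i : GolayPt) : dv d S i = -2 ↔ i ∈ S := by
  unfold dv
  by_cases h1 : i ∈ S
  · simp [h1]
  · rw [if_neg h1]
    by_cases h2 : i ∈ d
    · rw [if_pos h2]
      simp [h1]
    · rw [if_neg h2]
      simp [h1]

theorem dv_ne_zero {d S : Finset GolayPt} (hS : S ⊆ d) (i : GolayPt) : dv d S i ≠ 0 ↔ i ∈ d := by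
  unfold dv
  by_cases h1 : i ∈ S
  · simp [h1, hS h1]
  · rw [if_neg h1]
    by_cases h2 : i ∈ d
    · rw [if_pos h2]
      simp [h2]
    · rw [if_neg h2]
      simp [h2]

theorem dv_cases (d S : Finset GolayPt) (i : GolayPt) :
    dv d S i = 0 ∨ dv d S i = 2 ∨ dv d S i = -2 := by
  unfold dv
  split_ifs <;> simp

theorem dv_injective {d S d' S' : Finset GolayPt} (hS : S ⊆ d) (hS' : S' ⊆ d')
    (h : dv d S = dv d' S') : d = d' ∧ S = S' := by
  constructor
  · ext i
    rw [← dv_ne_zero hS i, ← dv_ne_zero hS' i, h]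
  · ext i
    rw [← dv_eq_neg_two (d := d) i, ← dv_eq_neg_two (d := d') i, h]

theorem dv_sq {d S : Finset GolayPt} (hS : S ⊆ d) (i : GolayPt) :
    dv d S i ^ 2 = if i ∈ d then 4 else 0 := by
  unfold dv
  by_cases h1 : i ∈ S
  · simp [h1, hS h1]
  · rw [if_neg h1]
    by_cases h2 : i ∈ d
    · simp [h2]
    · simp [h2]

theorem sqNorm_dv {d S : Finset GolayPt} (hS : S ⊆ d) : sqNorm (dv d S) = 4 * (d.card : ℤ) := by
  unfold sqNorm
  simp only [dv_sq hS]
  rw [Finset.sum_ite_mem, Finset.univ_inter, Finset.sum_const]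
  simp
  ring

theorem sum_dv {d S : Finset GolayPt} (hS : S ⊆ d) :
    ∑ i, dv d S i = 2 * (d.card : ℤ) - 4 * (S.card : ℤ) := by
  have h1 : ∀ i, dv d S i = (if i ∈ d then 2 else 0) - (if i ∈ S then 4 else 0) := by
    intro i
    unfold dv
    by_cases h1 : i ∈ S
    · simp [h1, hS h1]
    · simp [h1]
  simp only [h1]
  rw [Finset.sum_sub_distrib, Finset.sum_ite_mem, Finset.sum_ite_mem, Finset.univ_inter,
    Finset.univ_inter, Finset.sum_const, Finset.sum_const]
  simp
  ring

theorem dv_mod_four {d S : Finset GolayPt} (hS : S ⊆ d) (i : GolayPt) :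
    dv d S i % 4 = 2 ↔ i ∈ d := by
  unfold dv
  by_cases h1 : i ∈ S
  · simp [h1, hS h1]
  · rw [if_neg h1]
    by_cases h2 : i ∈ d
    · simp [h2]
    · simp [h2]

/-- membership of an even vector in the lattice -/
theorem even_mem {x : GolayPt → ℤ} (he : ∀ i, x i % 2 = 0) (hs : (∑ i, x i) % 8 = 0)
    (hc : (Finset.univ.filter fun i => x i % 4 = 2) ∈
      supports (golayCode : Set (GolayPt → ZMod 2))) : x ∈ leechLattice := by
  rw [mem_leechLattice_iff, mem_leechSet_iff]
  refine ⟨0, fun i => ?_, ?_, ?_⟩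
  · show x i % 2 = 0 % 2
    rw [he i]
    rfl
  · show (∑ i, x i) % 8 = (4 * 0) % 8
    rw [hs]
    rfl
  · have e : lvl x 0 = Finset.univ.filter fun i => x i % 4 = 2 := by
      ext i
      rw [mem_lvl, Finset.mem_filter]
      simp only [Finset.mem_univ, true_and]
      show x i % 4 = (0 + 2) % 4 ↔ x i % 4 = 2
      norm_num
    rw [e]
    exact hc

theorem dv_mem {d S : Finset GolayPt} (hS : S ⊆ d)
    (hd : d ∈ supports (golayCode : Set (GolayPt → ZMod 2)))
    (hpar : (2 * (d.card : ℤ) - 4 * (S.card : ℤ)) % 8 = 0) : dv d S ∈ leechLattice := by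
  apply even_mem
  · intro i
    rcases dv_cases d S i with h | h | h <;> rw [h] <;> rfl
  · rw [sum_dv hS]
    exact hpar
  · have e : (Finset.univ.filter fun i => dv d S i % 4 = 2) = d := by
      ext i
      rw [Finset.mem_filter, dv_mod_four hS]
      simp
    rw [e]
    exact hd

/-! ### The dodecad family -/

/-- the even vectors `±2` on a dodecad with evenly many minus signs -/
def evenDod : Set (GolayPt → ℤ) :=
  {x | ∃ d ∈ dodecads, ∃ S ∈ d.powerset.filter (fun t => Even t.card), x = dv d S}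

theorem ncard_evenDod_aux (K : Finset (Finset GolayPt)) (hK : ∀ d, d ∈ K ↔ d ∈ dodecads) :
    evenDod.ncard = K.card * 2048 := by
  have he : evenDod = (fun p : (_ : Finset GolayPt) × Finset GolayPt => dv p.1 p.2) ''
      ((K.sigma (fun d => d.powerset.filter (fun t => Even t.card)) : Finset _) : Set _) := by
    ext x
    constructor
    · rintro ⟨d, hd, S, hS, rfl⟩
      exact ⟨⟨d, S⟩, Finset.mem_coe.2 (Finset.mem_sigma.2 ⟨(hK d).2 hd, hS⟩), rfl⟩
    · rintro ⟨⟨d, S⟩, hp, rfl⟩
      have hp' := Finset.mem_sigma.1 (Finset.mem_coe.1 hp)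
      exact ⟨d, (hK d).1 hp'.1, S, hp'.2, rfl⟩
  rw [he, Set.InjOn.ncard_image, Set.ncard_coe_finset, Finset.card_sigma]
  · rw [Finset.sum_congr rfl (fun d hd => (card_even_powerset d 11 ((hK d).1 hd).2).1),
      Finset.sum_const, smul_eq_mul]
    norm_num
  · rintro ⟨d, S⟩ hp ⟨d', S'⟩ hp' heq
    have hp1 := Finset.mem_sigma.1 (Finset.mem_coe.1 hp)
    have hp2 := Finset.mem_sigma.1 (Finset.mem_coe.1 hp')
    have hS := Finset.mem_powerset.1 (Finset.mem_filter.1 hp1.2).1
    have hS' := Finset.mem_powerset.1 (Finset.mem_filter.1 hp2.2).1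
    obtain ⟨e1, e2⟩ := dv_injective hS hS' heq
    dsimp only at e1 e2
    subst e1
    subst e2
    rfl

theorem ncard_evenDod : evenDod.ncard = 5275648 := by
  rw [ncard_evenDod_aux dodF mem_dodF, card_dodF]

theorem evenDod_spec {x : GolayPt → ℤ} (hx : x ∈ evenDod) :
    x ∈ leechLattice ∧ sqNorm x = 48 ∧ ∀ i, x i = 0 ∨ x i = 2 ∨ x i = -2 := by
  obtain ⟨d, hd, S, hS, rfl⟩ := hx
  obtain ⟨hS1, hS2⟩ := Finset.mem_filter.1 hS
  have hSd := Finset.mem_powerset.1 hS1
  have hd12 : d.card = 12 := hd.2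
  refine ⟨dv_mem hSd hd.1 ?_, ?_, dv_cases d S⟩
  · obtain ⟨r, hr⟩ := hS2
    rw [hd12, hr]
    push_cast
    omega
  · rw [sqNorm_dv hSd, hd12]
    norm_num

/-! ### The octad family -/

/-- the vector with `±4` at `j` and `dv o S` elsewhere -/
def ev (o : Finset GolayPt) (j : GolayPt) (b : Bool) (S : Finset GolayPt) : GolayPt → ℤ :=
  fun i => if i = j then (if b then 4 else -4) else dv o S i

theorem dv_zero_of_notMem {o S : Finset GolayPt} (hS : S ⊆ o) {j : GolayPt} (hj : j ∉ o) :
    dv o S j = 0 := by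
  by_contra h
  exact hj ((dv_ne_zero hS j).1 h)

theorem ev_abs_four {o S : Finset GolayPt} {j : GolayPt} {b : Bool} (i : GolayPt) :
    |ev o j b S i| = 4 ↔ i = j := by
  unfold ev
  by_cases h : i = j
  · rw [if_pos h]
    cases b <;> simp [h]
  · rw [if_neg h]
    rcases dv_cases o S i with e | e | e <;> rw [e] <;> simp [h]

theorem ev_injective {o S o' S' : Finset GolayPt} {j j' : GolayPt} {b b' : Bool}
    (hS : S ⊆ o) (hj : j ∉ o) (hS' : S' ⊆ o') (hj' : j' ∉ o')
    (h : ev o j b S = ev o' j' b' S') : o = o' ∧ j = j' ∧ b = b' ∧ S = S' := by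
  have hjj : j = j' := by
    have h1 : |ev o j b S j| = 4 := (ev_abs_four j).2 rfl
    rw [h] at h1
    exact (ev_abs_four j).1 h1
  subst hjj
  have hbb : b = b' := by
    have h1 := congrFun h j
    unfold ev at h1
    rw [if_pos rfl, if_pos rfl] at h1
    cases b <;> cases b' <;> simp at h1 <;> rfl
  have hdv : dv o S = dv o' S' := by
    funext i
    by_cases hi : i = j
    · rw [hi, dv_zero_of_notMem hS hj, dv_zero_of_notMem hS' hj']
    · have h1 := congrFun h i
      unfold ev at h1
      rwa [if_neg hi, if_neg hi] at h1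
  obtain ⟨e1, e2⟩ := dv_injective hS hS' hdv
  exact ⟨e1, rfl, hbb, e2⟩

theorem ev_sq {o S : Finset GolayPt} (hS : S ⊆ o) {j : GolayPt} (hj : j ∉ o) (b : Bool)
    (i : GolayPt) :
    ev o j b S i ^ 2 = (if i ∈ o then 4 else 0) + (if i = j then 16 else 0) := by
  unfold ev
  by_cases h : i = j
  · subst h
    rw [if_pos rfl, if_pos rfl, if_neg hj]
    cases b <;> norm_num
  · rw [if_neg h, if_neg h, dv_sq hS, add_zero]

theorem sqNorm_ev {o S : Finset GolayPt} (hS : S ⊆ o) {j : GolayPt} (hj : j ∉ o) (b : Bool) :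
    sqNorm (ev o j b S) = 4 * (o.card : ℤ) + 16 := by
  unfold sqNorm
  simp only [ev_sq hS hj]
  rw [Finset.sum_add_distrib, Finset.sum_ite_mem, Finset.univ_inter, Finset.sum_const,
    Finset.sum_ite_eq' Finset.univ j]
  simp
  ring

theorem sum_ev {o S : Finset GolayPt} (hS : S ⊆ o) {j : GolayPt} (hj : j ∉ o) (b : Bool) :
    ∑ i, ev o j b S i = 2 * (o.card : ℤ) - 4 * (S.card : ℤ) + (if b then 4 else -4) := by
  have h1 : ∀ i, ev o j b S i = dv o S i + (if i = j then (if b then 4 else -4) else 0) := by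
    intro i
    unfold ev
    by_cases h : i = j
    · rw [if_pos h, if_pos h, h, dv_zero_of_notMem hS hj, zero_add]
    · rw [if_neg h, if_neg h, add_zero]
  simp only [h1]
  rw [Finset.sum_add_distrib, sum_dv hS, Finset.sum_ite_eq' Finset.univ j]
  simp

theorem ev_mod_four {o S : Finset GolayPt} (hS : S ⊆ o) {j : GolayPt} (hj : j ∉ o) (b : Bool)
    (i : GolayPt) : ev o j b S i % 4 = 2 ↔ i ∈ o := by
  unfold ev
  by_cases h : i = j
  · rw [if_pos h, h]
    cases b <;> simp [hj]
  · rw [if_neg h, dv_mod_four hS]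

theorem ev_even (o S : Finset GolayPt) (j : GolayPt) (b : Bool) (i : GolayPt) :
    ev o j b S i % 2 = 0 := by
  unfold ev
  by_cases h : i = j
  · rw [if_pos h]
    cases b <;> simp
  · rw [if_neg h]
    rcases dv_cases o S i with e | e | e <;> rw [e] <;> rfl

theorem ev_mem {o S : Finset GolayPt} (hS : S ⊆ o) {j : GolayPt} (hj : j ∉ o) (b : Bool)
    (ho : o ∈ supports (golayCode : Set (GolayPt → ZMod 2)))
    (hpar : (2 * (o.card : ℤ) - 4 * (S.card : ℤ) + (if b then 4 else -4)) % 8 = 0) :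
    ev o j b S ∈ leechLattice := by
  apply even_mem (ev_even o S j b)
  · rw [sum_ev hS hj]
    exact hpar
  · have e : (Finset.univ.filter fun i => ev o j b S i % 4 = 2) = o := by
      ext i
      rw [Finset.mem_filter, ev_mod_four hS hj]
      simp
    rw [e]
    exact ho

/-- the even vectors `±2` on an octad with oddly many minus signs and `±4` at a further point -/
def evenOct : Set (GolayPt → ℤ) :=
  {x | ∃ o ∈ octads, ∃ j ∈ oᶜ, ∃ b : Bool, ∃ S ∈ o.powerset.filter (fun t => ¬ Even t.card),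
    x = ev o j b S}

theorem ncard_evenOct_aux (K : Finset (Finset GolayPt)) (hK : ∀ o, o ∈ K ↔ o ∈ octads) :
    evenOct.ncard = K.card * 4096 := by
  have he : evenOct =
      (fun p : (_ : Finset GolayPt) × ((GolayPt × Bool) × Finset GolayPt) =>
        ev p.1 p.2.1.1 p.2.1.2 p.2.2) ''
      ((K.sigma (fun o => (oᶜ ×ˢ (Finset.univ : Finset Bool)) ×ˢ
        o.powerset.filter (fun t => ¬ Even t.card)) : Finset _) : Set _) := by
    ext x
    constructor
    · rintro ⟨o, ho, j, hj, b, S, hS, rfl⟩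
      exact ⟨⟨o, ((j, b), S)⟩, Finset.mem_coe.2 (Finset.mem_sigma.2 ⟨(hK o).2 ho,
        Finset.mem_product.2 ⟨Finset.mem_product.2 ⟨hj, Finset.mem_univ b⟩, hS⟩⟩), rfl⟩
    · rintro ⟨⟨o, ⟨⟨j, b⟩, S⟩⟩, hp, rfl⟩
      have hp' := Finset.mem_sigma.1 (Finset.mem_coe.1 hp)
      have hp2 := Finset.mem_product.1 hp'.2
      have hp3 := Finset.mem_product.1 hp2.1
      exact ⟨o, (hK o).1 hp'.1, j, hp3.1, b, S, hp2.2, rfl⟩
  rw [he, Set.InjOn.ncard_image, Set.ncard_coe_finset, Finset.card_sigma]
  · have hc : ∀ o ∈ K, ((oᶜ ×ˢ (Finset.univ : Finset Bool)) ×ˢ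
        o.powerset.filter (fun t => ¬ Even t.card)).card = 4096 := by
      intro o ho
      have h8 : o.card = 8 := ((hK o).1 ho).2
      rw [Finset.card_product, Finset.card_product, (card_even_powerset o 7 h8).2,
        Finset.card_compl, h8, card_golayPt]
      simp
    rw [Finset.sum_congr rfl hc, Finset.sum_const, smul_eq_mul]
  · rintro ⟨o, ⟨⟨j, b⟩, S⟩⟩ hp ⟨o', ⟨⟨j', b'⟩, S'⟩⟩ hp' heq
    have hp1 := Finset.mem_sigma.1 (Finset.mem_coe.1 hp)
    have hp2 := Finset.mem_sigma.1 (Finset.mem_coe.1 hp')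
    have hq1 := Finset.mem_product.1 hp1.2
    have hq2 := Finset.mem_product.1 hp2.2
    have hr1 := Finset.mem_product.1 hq1.1
    have hr2 := Finset.mem_product.1 hq2.1
    have hS := Finset.mem_powerset.1 (Finset.mem_filter.1 hq1.2).1
    have hS' := Finset.mem_powerset.1 (Finset.mem_filter.1 hq2.2).1
    have hj := Finset.mem_compl.1 hr1.1
    have hj' := Finset.mem_compl.1 hr2.1
    obtain ⟨e1, e2, e3, e4⟩ := ev_injective hS hj hS' hj' heq
    dsimp only at e1 e2 e3 e4
    subst e1
    subst e2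
    subst e3
    subst e4
    rfl

theorem ncard_evenOct : evenOct.ncard = 3108864 := by
  rw [ncard_evenOct_aux octF mem_octF, card_octF]

theorem evenOct_spec {x : GolayPt → ℤ} (hx : x ∈ evenOct) :
    x ∈ leechLattice ∧ sqNorm x = 48 ∧ (∃ i, |x i| = 4) ∧ ∀ i, x i % 2 = 0 := by
  obtain ⟨o, ho, j, hj, b, S, hS, rfl⟩ := hx
  obtain ⟨hS1, hS2⟩ := Finset.mem_filter.1 hS
  have hSo := Finset.mem_powerset.1 hS1
  have hjo := Finset.mem_compl.1 hj
  have ho8 : o.card = 8 := ho.2
  refine ⟨ev_mem hSo hjo b ho.1 ?_, ?_, ⟨j, (ev_abs_four j).2 rfl⟩, ev_even o S j b⟩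
  · obtain ⟨r, hr⟩ := Nat.not_even_iff_odd.1 hS2
    rw [ho8, hr]
    push_cast
    cases b <;> simp <;> omega
  · rw [sqNorm_ev hSo hjo, ho8]
    norm_num

/-! ### Every even vector of squared length 48 is in one of the two families -/

theorem dvd32_of_mod0 (t : ℤ) (h : t % 4 = 0) : (32 : ℤ) ∣ t ^ 2 - 4 * t := by
  have h8 : t % 8 = 0 ∨ t % 8 = 4 := by omega
  rcases h8 with h8 | h8
  · obtain ⟨k, hk⟩ : ∃ k, t = 8 * k := ⟨t / 8, by omega⟩
    exact ⟨2 * k ^ 2 - k, by rw [hk]; ring⟩
  · obtain ⟨k, hk⟩ : ∃ k, t = 8 * k + 4 := ⟨t / 8, by omega⟩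
    exact ⟨2 * k ^ 2 + k, by rw [hk]; ring⟩

theorem dvd32_of_mod2 (t : ℤ) (h : t % 4 = 2) : (32 : ℤ) ∣ t ^ 2 - 4 := by
  have h8 : t % 8 = 2 ∨ t % 8 = 6 := by omega
  rcases h8 with h8 | h8
  · obtain ⟨k, hk⟩ : ∃ k, t = 8 * k + 2 := ⟨t / 8, by omega⟩
    exact ⟨2 * k ^ 2 + k, by rw [hk]; ring⟩
  · obtain ⟨k, hk⟩ : ∃ k, t = 8 * k + 6 := ⟨t / 8, by omega⟩
    exact ⟨2 * k ^ 2 + 3 * k + 1, by rw [hk]; ring⟩

theorem sq_mod_two_cases {t : ℤ} (h : t % 4 = 2) (hle : t ^ 2 ≤ 20) : t = 2 ∨ t = -2 := by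
  have hb : -5 < t ∧ t < 5 := by
    constructor <;> nlinarith
  omega

theorem sq_mod_zero_cases {t : ℤ} (h : t % 4 = 0) (hle : t ^ 2 = 16) : t = 4 ∨ t = -4 := by
  have hb : -5 < t ∧ t < 5 := by
    constructor <;> nlinarith
  have h0 : t ≠ 0 := by
    rintro rfl
    norm_num at hle
  omega

/-- **Every even lattice vector of squared length 48** is `±2` on a dodecad or `±2` on an octad
with one further coordinate `±4`. -/
theorem even48_mem {x : GolayPt → ℤ} (hx : x ∈ leechLattice) (hn : sqNorm x = 48)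
    (he : x none % 2 = 0) : x ∈ evenDod ∨ x ∈ evenOct := by
  have hev : ∀ i, x i % 2 = 0 := fun i => by rw [leech_parity hx i none, he]
  have hsum : (∑ i, x i) % 8 = 0 := by
    rw [leech_sum_mod hx, he]
    rfl
  have hn' : ∑ i, x i ^ 2 = 48 := hn
  have hc := leech_lvl_two hx
  generalize hcdef : (Finset.univ.filter fun i => x i % 4 = 2) = c at hc
  have hmem : ∀ i, i ∈ c ↔ x i % 4 = 2 := fun i => by
    rw [← hcdef, Finset.mem_filter]
    simp
  have hcard := card_of_mem_supports hc
  have hlow : ∀ i, (if i ∈ c then (4 : ℤ) else 0) ≤ x i ^ 2 := by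
    intro i
    by_cases h : i ∈ c
    · rw [if_pos h]
      exact four_le_sq_of_mod _ ((hmem i).1 h)
    · rw [if_neg h]
      exact sq_nonneg _
  have hsumlow : ∑ i, (if i ∈ c then (4 : ℤ) else 0) = 4 * (c.card : ℤ) := by
    rw [Finset.sum_ite_mem, Finset.univ_inter, Finset.sum_const]
    simp
    ring
  have hle : 4 * (c.card : ℤ) ≤ 48 := by
    rw [← hsumlow, ← hn']
    exact Finset.sum_le_sum (fun i _ => hlow i)
  have hSc : (Finset.univ.filter fun i => x i = -2) ⊆ c := by
    intro i hi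
    have := (Finset.mem_filter.1 hi).2
    rw [hmem, this]
    rfl
  rcases hcard with h0 | h8 | h12 | h16 | h24
  · exfalso
    have hc0 : ∀ i, x i % 4 = 0 := by
      intro i
      have hi : i ∉ c := by
        rw [Finset.card_eq_zero.1 h0]
        exact Finset.notMem_empty i
      have h1 : ¬ x i % 4 = 2 := fun h => hi ((hmem i).2 h)
      have h2 := hev i
      omega
    have h2 := Finset.dvd_sum (fun i (_ : i ∈ (Finset.univ : Finset GolayPt)) =>
      dvd32_of_mod0 (x i) (hc0 i))
    rw [Finset.sum_sub_distrib, ← Finset.mul_sum, hn'] at h2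
    omega
  · right
    have hex : ∃ i0, i0 ∉ c ∧ x i0 ≠ 0 := by
      by_contra hno
      push Not at hno
      have key : ∀ i ∈ (Finset.univ : Finset GolayPt),
          (32 : ℤ) ∣ x i ^ 2 - (if i ∈ c then (4 : ℤ) else 0) := by
        intro i _
        by_cases h : i ∈ c
        · rw [if_pos h]
          exact dvd32_of_mod2 _ ((hmem i).1 h)
        · rw [if_neg h, hno i h]
          simp
      have h2 := Finset.dvd_sum key
      rw [Finset.sum_sub_distrib, hsumlow, hn', h8] at h2
      norm_num at h2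
    obtain ⟨i0, hi0, hx0⟩ := hex
    have h40 : x i0 % 4 = 0 := by
      have h1 : ¬ x i0 % 4 = 2 := fun h => hi0 ((hmem i0).2 h)
      have h2 := hev i0
      omega
    have hlow2 : ∀ i, ((if i ∈ c then (4 : ℤ) else 0) + (if i = i0 then 16 else 0)) ≤ x i ^ 2 := by
      intro i
      by_cases h : i = i0
      · subst h
        rw [if_neg hi0, if_pos rfl]
        have := sixteen_le_sq _ h40 hx0
        linarith
      · rw [if_neg h, add_zero]
        exact hlow i
    have hsum2 : ∑ i, x i ^ 2 =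
        ∑ i, ((if i ∈ c then (4 : ℤ) else 0) + (if i = i0 then 16 else 0)) := by
      rw [Finset.sum_add_distrib, hsumlow, Finset.sum_ite_eq' Finset.univ i0, h8, hn']
      simp
    have heq := eq_of_sum_eq hlow2 hsum2
    have hx0' : x i0 = 4 ∨ x i0 = -4 := by
      have := heq i0
      rw [if_neg hi0, if_pos rfl, zero_add] at this
      exact sq_mod_zero_cases h40 this
    have hxe : x = ev c i0 (decide (x i0 = 4)) (Finset.univ.filter fun i => x i = -2) := by
      funext i
      unfold ev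
      by_cases h : i = i0
      · subst h
        rw [if_pos rfl]
        rcases hx0' with e | e <;> simp [e]
      · rw [if_neg h]
        have h1 := heq i
        rw [if_neg h, add_zero] at h1
        unfold dv
        by_cases hS : i ∈ Finset.univ.filter fun i => x i = -2
        · rw [if_pos hS]
          exact (Finset.mem_filter.1 hS).2
        · rw [if_neg hS]
          by_cases hic : i ∈ c
          · rw [if_pos hic]
            rw [if_pos hic] at h1
            rcases sq_mod_two_cases ((hmem i).1 hic) (by rw [h1]; norm_num) with e | e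
            · exact e
            · exact (hS (Finset.mem_filter.2 ⟨Finset.mem_univ _, e⟩)).elim
          · rw [if_neg hic]
            rw [if_neg hic] at h1
            exact pow_eq_zero_iff (two_ne_zero) |>.1 h1
    have hpar : ¬ Even (Finset.univ.filter fun i => x i = -2).card := by
      rintro ⟨r, hr⟩
      have hs := sum_ev hSc hi0 (decide (x i0 = 4))
      rw [← hxe] at hs
      rw [hs, h8, hr] at hsum
      push_cast at hsum
      rcases hx0' with e | e <;> simp [e] at hsum <;> omega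
    exact ⟨c, ⟨hc, h8⟩, i0, Finset.mem_compl.2 hi0, decide (x i0 = 4), _,
      Finset.mem_filter.2 ⟨Finset.mem_powerset.2 hSc, hpar⟩, hxe⟩
  · left
    have hsum2 : ∑ i, x i ^ 2 = ∑ i, (if i ∈ c then (4 : ℤ) else 0) := by
      rw [hsumlow, h12, hn']
      norm_num
    have heq := eq_of_sum_eq hlow hsum2
    have hxe : x = dv c (Finset.univ.filter fun i => x i = -2) := by
      funext i
      have h1 := heq i
      unfold dv
      by_cases hS : i ∈ Finset.univ.filter fun i => x i = -2
      · rw [if_pos hS]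
        exact (Finset.mem_filter.1 hS).2
      · rw [if_neg hS]
        by_cases hic : i ∈ c
        · rw [if_pos hic]
          rw [if_pos hic] at h1
          rcases sq_mod_two_cases ((hmem i).1 hic) (by rw [h1]; norm_num) with e | e
          · exact e
          · exact (hS (Finset.mem_filter.2 ⟨Finset.mem_univ _, e⟩)).elim
        · rw [if_neg hic]
          rw [if_neg hic] at h1
          exact pow_eq_zero_iff (two_ne_zero) |>.1 h1
    have hpar : Even (Finset.univ.filter fun i => x i = -2).card := by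
      by_contra hE
      obtain ⟨r, hr⟩ := Nat.not_even_iff_odd.1 hE
      have hs := sum_dv hSc
      rw [← hxe] at hs
      rw [hs, h12, hr] at hsum
      push_cast at hsum
      omega
    exact ⟨c, ⟨hc, h12⟩, _, Finset.mem_filter.2 ⟨Finset.mem_powerset.2 hSc, hpar⟩, hxe⟩
  · rw [h16] at hle
    norm_num at hle
  · rw [h24] at hle
    norm_num at hle

end Cfsg.Agent.Helper92
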