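import Cfsg.Agent.Helper92.LeechCong

/-!
# Census of the lattice vectors of squared length 48: the odd vectors

An odd lattice vector is, uniquely, a sign change on a code word applied to a vector all of whose
coordinates are `1` modulo 4.  For squared length 48 the latter are `(5, 1^23)` and
`((-3)^3, 1^21)`.
-/

set_option autoImplicit false

namespace Cfsg.Agent.Helper92

open Cfsg Cfsg.Agent.Helper26

/-- all coordinates of a lattice vector have the same parity -/
theorem leech_parity {x : GolayPt → ℤ} (hx : x ∈ leechLattice) (i j : GolayPt) :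
    x i % 2 = x j % 2 := by
  obtain ⟨m, h1, -, -⟩ := (mem_leechLattice_iff x).1 hx
  have hi : x i % 2 = m % 2 := h1 i
  have hj : x j % 2 = m % 2 := h1 j
  rw [hi, hj]

/-- the coordinate sum of an even lattice vector is divisible by 8, and that of an odd one is
`4` modulo 8 -/
theorem leech_sum_mod {x : GolayPt → ℤ} (hx : x ∈ leechLattice) :
    (∑ i, x i) % 8 = (4 * (x none % 2)) % 8 := by
  obtain ⟨m, h1, h2, -⟩ := (mem_leechLattice_iff x).1 hx
  have hn : x none % 2 = m % 2 := h1 none
  have h2' : (∑ i, x i) % 8 = (4 * m) % 8 := h2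
  rw [h2', hn]
  omega

/-- the set of coordinates congruent to 2 modulo 4 is a code word -/
theorem leech_lvl_two {x : GolayPt → ℤ} (hx : x ∈ leechLattice) :
    (Finset.univ.filter fun i => x i % 4 = 2) ∈
      supports (golayCode : Set (GolayPt → ZMod 2)) := by
  obtain ⟨m, -, -, h3⟩ := (mem_leechLattice_iff x).1 hx
  have h := h3 2
  have e : (Finset.univ.filter fun i => x i ≡ 2 [ZMOD 4]) =
      (Finset.univ.filter fun i => x i % 4 = 2) := by
    ext i
    simp only [Finset.mem_filter, Finset.mem_univ, true_and]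
    show x i % 4 = 2 % 4 ↔ x i % 4 = 2
    norm_num
  rwa [e] at h

/-- the set of coordinates congruent to 3 modulo 4 is a code word -/
theorem leech_lvl_three {x : GolayPt → ℤ} (hx : x ∈ leechLattice) :
    (Finset.univ.filter fun i => x i % 4 = 3) ∈
      supports (golayCode : Set (GolayPt → ZMod 2)) := by
  obtain ⟨m, -, -, h3⟩ := (mem_leechLattice_iff x).1 hx
  have h := h3 3
  have e : (Finset.univ.filter fun i => x i ≡ 3 [ZMOD 4]) =
      (Finset.univ.filter fun i => x i % 4 = 3) := by
    ext i
    simp only [Finset.mem_filter, Finset.mem_univ, true_and]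
    show x i % 4 = 3 % 4 ↔ x i % 4 = 3
    norm_num
  rwa [e] at h

/-- a vector with all coordinates `1` modulo 4 and squared length divisible by 16 is in the
lattice -/
theorem one_mod_four_mem {y : GolayPt → ℤ} (h : ∀ i, y i % 4 = 1) (hn : sqNorm y % 16 = 0) :
    y ∈ leechLattice := by
  apply AddSubgroup.subset_closure
  apply Cfsg.Spor.mem_leechSet_of_const_mod_four y 1 1 (by decide)
  · intro i
    show y i % 4 = 1 % 4
    rw [h i]
    rfl
  · have key : ∀ i ∈ (Finset.univ : Finset GolayPt), (16 : ℤ) ∣ y i ^ 2 - 2 * y i + 1 := by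
      intro i _
      have hi := h i
      obtain ⟨a, ha⟩ : ∃ a, y i = 4 * a + 1 := ⟨y i / 4, by omega⟩
      exact ⟨a ^ 2, by rw [ha]; ring⟩
    have h2 := Finset.dvd_sum key
    have h3 : ∑ i, (y i ^ 2 - 2 * y i + 1) = sqNorm y - 2 * ∑ i, y i + 24 := by
      rw [Finset.sum_add_distrib, Finset.sum_sub_distrib, ← Finset.mul_sum]
      simp [sqNorm]
    rw [h3] at h2
    show (∑ i, y i) % 8 = (4 * 1) % 8
    omega

/-- **Decomposition of odd lattice vectors.** -/
theorem odd_decomp {x : GolayPt → ℤ} (hx : x ∈ leechLattice) (ho : x none % 2 = 1) :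
    ∃ c ∈ supports (golayCode : Set (GolayPt → ZMod 2)), ∃ y : GolayPt → ℤ,
      (∀ i, y i % 4 = 1) ∧ sqNorm y = sqNorm x ∧ x = signFun c y := by
  refine ⟨_, leech_lvl_three hx, signFun (Finset.univ.filter fun i => x i % 4 = 3) x, ?_,
    sqNorm_signFun _ _, (signFun_signFun _ _).symm⟩
  intro i
  have hi : x i % 2 = 1 := by rw [leech_parity hx i none, ho]
  rw [signFun_apply]
  by_cases hc : i ∈ Finset.univ.filter fun i => x i % 4 = 3
  · rw [if_pos hc]
    rw [Finset.mem_filter] at hc
    have := hc.2
    omega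
  · rw [if_neg hc]
    rw [Finset.mem_filter] at hc
    have : ¬ x i % 4 = 3 := fun h => hc ⟨Finset.mem_univ _, h⟩
    omega

/-- uniqueness of the decomposition -/
theorem signFun_inj_of_one_mod {c c' : Finset GolayPt} {y y' : GolayPt → ℤ}
    (h : ∀ i, y i % 4 = 1) (h' : ∀ i, y' i % 4 = 1) (he : signFun c y = signFun c' y') :
    c = c' ∧ y = y' := by
  have hc : c = c' := by
    ext i
    have e := congrFun he i
    rw [signFun_apply, signFun_apply] at e
    have hi := h i
    have hi' := h' i
    by_cases h1 : i ∈ c <;> by_cases h2 : i ∈ c'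
    · simp [h1, h2]
    · rw [if_pos h1, if_neg h2] at e
      omega
    · rw [if_neg h1, if_pos h2] at e
      omega
    · simp [h1, h2]
  refine ⟨hc, ?_⟩
  subst hc
  have := congrArg (signFun c) he
  rwa [signFun_signFun, signFun_signFun] at this

/-- the vector with `5` at `j` and `1` elsewhere -/
def five (j : GolayPt) : GolayPt → ℤ := fun i => if i = j then 5 else 1

theorem five_mod (j i : GolayPt) : five j i % 4 = 1 := by
  unfold five
  split_ifs <;> norm_num

theorem ov_mod (T : Finset GolayPt) (i : GolayPt) : ov T i % 4 = 1 := by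
  unfold ov
  split_ifs <;> norm_num

theorem sqNorm_five (j : GolayPt) : sqNorm (five j) = 48 := by
  have h1 : ∀ i, five j i ^ 2 = 1 + (if i = j then 24 else 0) := by
    intro i
    unfold five
    split_ifs <;> norm_num
  unfold sqNorm
  simp only [h1]
  rw [Finset.sum_add_distrib, Finset.sum_ite_eq' Finset.univ j]
  simp

theorem sqNorm_ov (T : Finset GolayPt) : sqNorm (ov T) = 24 + 8 * (T.card : ℤ) := by
  have h1 : ∀ i, ov T i ^ 2 = 1 + (if i ∈ T then 8 else 0) := by
    intro i
    unfold ov
    split_ifs <;> norm_num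
  unfold sqNorm
  simp only [h1]
  rw [Finset.sum_add_distrib, Finset.sum_ite_mem, Finset.univ_inter, Finset.sum_const]
  simp
  ring

theorem five_injective : Function.Injective five := by
  intro j j' h
  have := congrFun h j
  unfold five at this
  rw [if_pos rfl] at this
  by_contra hne
  rw [if_neg hne] at this
  omega

theorem ov_injective : Function.Injective ov := by
  intro T T' h
  ext i
  have := congrFun h i
  unfold ov at this
  by_cases h1 : i ∈ T <;> by_cases h2 : i ∈ T'
  · simp [h1, h2]
  · rw [if_pos h1, if_neg h2] at this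
    omega
  · rw [if_neg h1, if_pos h2] at this
    omega
  · simp [h1, h2]

/-- **Vectors of squared length 48 with all coordinates `1` modulo 4.** -/
theorem odd48_cases {y : GolayPt → ℤ} (h : ∀ i, y i % 4 = 1) (hn : sqNorm y = 48) :
    (∃ j, y = five j) ∨ ∃ T : Finset GolayPt, T.card = 3 ∧ y = ov T := by
  have hy : ∀ i, y i = 1 ∨ y i = -3 ∨ y i = 5 := by
    intro i
    have hi := h i
    have hle : y i ^ 2 ≤ 48 := by
      rw [← hn]
      exact Finset.single_le_sum (f := fun i => y i ^ 2) (fun i _ => sq_nonneg (y i))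
        (Finset.mem_univ i)
    have hb : -7 < y i ∧ y i < 7 := by
      constructor <;> nlinarith
    omega
  have hsq : ∀ i, y i ^ 2 = 1 + ((if y i = -3 then 8 else 0) + (if y i = 5 then 24 else 0)) := by
    intro i
    rcases hy i with e | e | e <;> rw [e] <;> norm_num
  have hsum : (48 : ℤ) = 24 + (8 * ((Finset.univ.filter fun i => y i = -3).card : ℤ) +
      24 * ((Finset.univ.filter fun i => y i = 5).card : ℤ)) := by
    rw [← hn]
    unfold sqNorm
    simp only [hsq]
    rw [Finset.sum_add_distrib, Finset.sum_add_distrib, Finset.sum_ite, Finset.sum_ite]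
    simp
    ring
  have hcases : ((Finset.univ.filter fun i => y i = -3).card = 3 ∧
      (Finset.univ.filter fun i => y i = 5).card = 0) ∨
      ((Finset.univ.filter fun i => y i = -3).card = 0 ∧
      (Finset.univ.filter fun i => y i = 5).card = 1) := by
    omega
  rcases hcases with ⟨h3, h5⟩ | ⟨h3, h5⟩
  · right
    refine ⟨_, h3, ?_⟩
    funext i
    unfold ov
    by_cases hi : i ∈ Finset.univ.filter fun i => y i = -3
    · rw [if_pos hi]
      exact (Finset.mem_filter.1 hi).2
    · rw [if_neg hi]
      have h1 : y i ≠ -3 := fun e => hi (Finset.mem_filter.2 ⟨Finset.mem_univ _, e⟩)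
      have h2 : y i ≠ 5 := by
        intro e
        have : i ∈ Finset.univ.filter fun i => y i = 5 :=
          Finset.mem_filter.2 ⟨Finset.mem_univ _, e⟩
        rw [Finset.card_eq_zero.1 h5] at this
        exact absurd this (Finset.notMem_empty _)
      rcases hy i with e | e | e
      · exact e
      · exact absurd e h1
      · exact absurd e h2
  · left
    obtain ⟨j, hj⟩ := Finset.card_eq_one.1 h5
    refine ⟨j, ?_⟩
    funext i
    unfold five
    by_cases hi : i = j
    · rw [if_pos hi]
      have : j ∈ Finset.univ.filter fun i => y i = 5 := by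
        rw [hj]
        exact Finset.mem_singleton_self j
      rw [hi]
      exact (Finset.mem_filter.1 this).2
    · rw [if_neg hi]
      have h1 : y i ≠ -3 := by
        intro e
        have : i ∈ Finset.univ.filter fun i => y i = -3 :=
          Finset.mem_filter.2 ⟨Finset.mem_univ _, e⟩
        rw [Finset.card_eq_zero.1 h3] at this
        exact absurd this (Finset.notMem_empty _)
      have h2 : y i ≠ 5 := by
        intro e
        have : i ∈ Finset.univ.filter fun i => y i = 5 :=
          Finset.mem_filter.2 ⟨Finset.mem_univ _, e⟩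
        rw [hj, Finset.mem_singleton] at this
        exact hi this
      rcases hy i with e | e | e
      · exact e
      · exact absurd e h1
      · exact absurd e h2

/-- counting a family of odd vectors (stated for a variable finset of code words) -/
theorem ncard_odd_family_aux (K : Finset (Finset GolayPt))
    (hK : ∀ c, c ∈ K ↔ c ∈ supports (golayCode : Set (GolayPt → ZMod 2)))
    {ι : Type*} (F : Finset ι) (f : ι → GolayPt → ℤ)
    (hf : Set.InjOn f (F : Set ι)) (h1 : ∀ a ∈ F, ∀ i, f a i % 4 = 1) :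
    {x : GolayPt → ℤ | ∃ c ∈ supports (golayCode : Set (GolayPt → ZMod 2)), ∃ a ∈ F,
      x = signFun c (f a)}.ncard = K.card * F.card := by
  have he : {x : GolayPt → ℤ | ∃ c ∈ supports (golayCode : Set (GolayPt → ZMod 2)), ∃ a ∈ F,
      x = signFun c (f a)} =
      (fun p : Finset GolayPt × ι => signFun p.1 (f p.2)) '' ((K ×ˢ F : Finset _) : Set _) := by
    ext x
    constructor
    · rintro ⟨c, hc, a, ha, rfl⟩
      exact ⟨(c, a), Finset.mem_coe.2 (Finset.mem_product.2 ⟨(hK c).2 hc, ha⟩), rfl⟩
    · rintro ⟨⟨c, a⟩, hp, rfl⟩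
      have hp' := Finset.mem_product.1 (Finset.mem_coe.1 hp)
      exact ⟨c, (hK c).1 hp'.1, a, hp'.2, rfl⟩
  rw [he, Set.InjOn.ncard_image, Set.ncard_coe_finset, Finset.card_product]
  rintro ⟨c, a⟩ hp ⟨c', a'⟩ hp' heq
  have hp1 := Finset.mem_product.1 (Finset.mem_coe.1 hp)
  have hp2 := Finset.mem_product.1 (Finset.mem_coe.1 hp')
  obtain ⟨e1, e2⟩ := signFun_inj_of_one_mod (h1 a hp1.2) (h1 a' hp2.2) heq
  have e3 := hf (Finset.mem_coe.2 hp1.2) (Finset.mem_coe.2 hp2.2) e2
  exact Prod.ext e1 e3

/-- counting a family of odd vectors -/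
theorem ncard_odd_family {ι : Type*} (F : Finset ι) (f : ι → GolayPt → ℤ)
    (hf : Set.InjOn f (F : Set ι)) (h1 : ∀ a ∈ F, ∀ i, f a i % 4 = 1) :
    {x : GolayPt → ℤ | ∃ c ∈ supports (golayCode : Set (GolayPt → ZMod 2)), ∃ a ∈ F,
      x = signFun c (f a)}.ncard = 4096 * F.card := by
  rw [ncard_odd_family_aux codeF mem_codeF F f hf h1, card_codeF]

/-- the odd vectors with a coordinate `±5` -/
def oddFive : Set (GolayPt → ℤ) :=
  {x | ∃ c ∈ supports (golayCode : Set (GolayPt → ZMod 2)), ∃ j ∈ (Finset.univ : Finset GolayPt),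
    x = signFun c (five j)}

/-- the odd vectors with three coordinates `±3` -/
def oddThree : Set (GolayPt → ℤ) :=
  {x | ∃ c ∈ supports (golayCode : Set (GolayPt → ZMod 2)),
    ∃ T ∈ Finset.powersetCard 3 (Finset.univ : Finset GolayPt), x = signFun c (ov T)}

theorem ncard_oddFive : oddFive.ncard = 98304 := by
  unfold oddFive
  rw [ncard_odd_family Finset.univ five (fun a _ b _ h => five_injective h)
    (fun a _ i => five_mod a i), Finset.card_univ, card_golayPt]

theorem ncard_oddThree : oddThree.ncard = 8290304 := by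
  unfold oddThree
  rw [ncard_odd_family _ ov (fun a _ b _ h => ov_injective h) (fun a _ i => ov_mod a i),
    Finset.card_powersetCard, Finset.card_univ, card_golayPt]
  have : Nat.choose 24 3 = 2024 := by decide
  rw [this]

theorem abs_signFun (c : Finset GolayPt) (y : GolayPt → ℤ) (i : GolayPt) :
    |signFun c y i| = |y i| := by
  rw [signFun_apply]
  split_ifs
  · exact abs_neg _
  · rfl

/-- every odd lattice vector of squared length 48 is of one of the two shapes -/
theorem odd48_mem {x : GolayPt → ℤ} (hx : x ∈ leechLattice) (hn : sqNorm x = 48)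
    (ho : x none % 2 = 1) : x ∈ oddFive ∨ x ∈ oddThree := by
  obtain ⟨c, hc, y, hy1, hy2, rfl⟩ := odd_decomp hx ho
  rw [hn] at hy2
  rcases odd48_cases hy1 hy2 with ⟨j, rfl⟩ | ⟨T, hT, rfl⟩
  · exact Or.inl ⟨c, hc, j, Finset.mem_univ j, rfl⟩
  · exact Or.inr ⟨c, hc, T, Finset.mem_powersetCard.2 ⟨Finset.subset_univ _, hT⟩, rfl⟩

theorem oddFive_spec {x : GolayPt → ℤ} (hx : x ∈ oddFive) :
    x ∈ leechLattice ∧ sqNorm x = 48 ∧ (∃ i, |x i| = 5) ∧ ∀ i, |x i| = 5 ∨ |x i| = 1 := by
  obtain ⟨c, hc, j, -, rfl⟩ := hx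
  refine ⟨signFun_mem hc (one_mod_four_mem (five_mod j) (by rw [sqNorm_five]; norm_num)),
    by rw [sqNorm_signFun, sqNorm_five], ⟨j, ?_⟩, fun i => ?_⟩
  · rw [abs_signFun]
    unfold five
    rw [if_pos rfl]
    norm_num
  · rw [abs_signFun]
    unfold five
    split_ifs
    · left; norm_num
    · right; norm_num

theorem oddThree_spec {x : GolayPt → ℤ} (hx : x ∈ oddThree) :
    x ∈ leechLattice ∧ sqNorm x = 48 ∧
      (∃ i j k, i ≠ j ∧ j ≠ k ∧ i ≠ k ∧ |x i| = 3 ∧ |x j| = 3 ∧ |x k| = 3) ∧
      ∀ i, |x i| = 3 ∨ |x i| = 1 := by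
  obtain ⟨c, hc, T, hT, rfl⟩ := hx
  obtain ⟨-, hT3⟩ := Finset.mem_powersetCard.1 hT
  have hno : sqNorm (ov T) = 48 := by
    rw [sqNorm_ov, hT3]
    norm_num
  refine ⟨signFun_mem hc (one_mod_four_mem (ov_mod T) (by rw [hno]; norm_num)),
    by rw [sqNorm_signFun, hno], ?_, fun i => ?_⟩
  · obtain ⟨i, j, k, hij, hik, hjk, rfl⟩ := Finset.card_eq_three.1 hT3
    refine ⟨i, j, k, hij, hjk, hik, ?_, ?_, ?_⟩
    · rw [abs_signFun]
      unfold ov
      rw [if_pos (by simp)]
      norm_num
    · rw [abs_signFun]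
      unfold ov
      rw [if_pos (by simp)]
      norm_num
    · rw [abs_signFun]
      unfold ov
      rw [if_pos (by simp)]
      norm_num
  · rw [abs_signFun]
    unfold ov
    split_ifs
    · left; norm_num
    · right; norm_num

end Cfsg.Agent.Helper92
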