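import Cfsg.Agent.Helper92.LeechAut
import Cfsg.Prelude.Def_Spor_Conway

/-!
# Invariant quadratic forms on `Cfsg.leechLattice` modulo 2

A function `κ : leechLattice → ZMod 2` that is constant on cosets of twice the lattice, satisfies
the cubic identity of a quadratic form and is invariant under `Cfsg.Co0` vanishes on every
lattice vector `x` all of whose coordinates satisfy `x i + x ∞ ≡ 0 (mod 4)` (`kappa_eq_zero`).
Only the monomial automorphisms (`permAut`, `signAut`) are used.
-/

set_option autoImplicit false

namespace Cfsg.Agent.Helper92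

open Cfsg

/-- an invariant quadratic form on the lattice modulo 2 -/
structure IsInvQuad (κ : leechLattice → ZMod 2) : Prop where
  coset : ∀ v w : leechLattice, κ (v + (w + w)) = κ v
  quad : ∀ u v w : leechLattice,
    κ (u + v + w) + κ u + κ v + κ w = κ (u + v) + κ (u + w) + κ (v + w)
  inv : ∀ (g : Co0) (v : leechLattice), κ (g • v) = κ v

/-- the polar form of `κ` -/
def polar (κ : leechLattice → ZMod 2) (u v : leechLattice) : ZMod 2 := κ (u + v) + κ u + κ v

theorem z2_a : ∀ a : ZMod 2, a + a + a + a = a + a + a → a = 0 := by decide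

theorem z2_b : ∀ (A a b c D E F : ZMod 2), A + a + b + c = D + E + F →
    A + D + c = E + a + c + (F + b + c) := by decide

theorem z2_c : ∀ a b : ZMod 2, a + b + b = a := by decide

theorem z2_d : ∀ a : ZMod 2, a + a = 0 := by decide

theorem IsInvQuad.zero {κ : leechLattice → ZMod 2} (h : IsInvQuad κ) : κ 0 = 0 := by
  have := h.quad 0 0 0
  simp only [add_zero] at this
  exact z2_a _ this

theorem IsInvQuad.double {κ : leechLattice → ZMod 2} (h : IsInvQuad κ) (w : leechLattice) :
    κ (w + w) = 0 := by
  have := h.coset 0 w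
  rw [zero_add] at this
  rw [this, h.zero]

theorem polar_comm (κ : leechLattice → ZMod 2) (u v : leechLattice) :
    polar κ u v = polar κ v u := by
  unfold polar
  rw [add_comm u v]
  ring

theorem IsInvQuad.polar_add_left {κ : leechLattice → ZMod 2} (h : IsInvQuad κ)
    (u u' v : leechLattice) : polar κ (u + u') v = polar κ u v + polar κ u' v := by
  unfold polar
  exact z2_b _ _ _ _ _ _ _ (h.quad u u' v)

theorem IsInvQuad.polar_add_right {κ : leechLattice → ZMod 2} (h : IsInvQuad κ)
    (u v v' : leechLattice) : polar κ u (v + v') = polar κ u v + polar κ u v' := by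
  rw [polar_comm, h.polar_add_left, polar_comm κ v u, polar_comm κ v' u]

theorem IsInvQuad.polar_self {κ : leechLattice → ZMod 2} (h : IsInvQuad κ) (u : leechLattice) :
    polar κ u u = 0 := by
  unfold polar
  rw [h.double, zero_add, z2_d]

theorem IsInvQuad.polar_double_right {κ : leechLattice → ZMod 2} (h : IsInvQuad κ)
    (u w : leechLattice) : polar κ u (w + w) = 0 := by
  unfold polar
  rw [h.coset, h.double, add_zero, z2_d]

theorem IsInvQuad.polar_double_left {κ : leechLattice → ZMod 2} (h : IsInvQuad κ)
    (u w : leechLattice) : polar κ (w + w) u = 0 := by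
  rw [polar_comm, h.polar_double_right]

theorem IsInvQuad.polar_zero_right {κ : leechLattice → ZMod 2} (h : IsInvQuad κ)
    (u : leechLattice) : polar κ u 0 = 0 := by
  have := h.polar_double_right u 0
  rwa [add_zero] at this

theorem IsInvQuad.polar_zero_left {κ : leechLattice → ZMod 2} (h : IsInvQuad κ)
    (u : leechLattice) : polar κ 0 u = 0 := by
  rw [polar_comm, h.polar_zero_right]

theorem kappa_add (κ : leechLattice → ZMod 2) (u v : leechLattice) :
    κ (u + v) = κ u + κ v + polar κ u v := by
  unfold polar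
  have : ∀ a b c : ZMod 2, a = b + c + (a + b + c) := by decide
  exact this _ _ _

theorem IsInvQuad.neg {κ : leechLattice → ZMod 2} (h : IsInvQuad κ) (u : leechLattice) :
    κ (-u) = κ u := by
  have := h.coset u (-u)
  rw [← this]
  congr 1
  abel

theorem IsInvQuad.polar_neg_right {κ : leechLattice → ZMod 2} (h : IsInvQuad κ)
    (u v : leechLattice) : polar κ u (-v) = polar κ u v := by
  have h1 := h.polar_add_right u v (-v)
  rw [add_neg_cancel, h.polar_zero_right] at h1
  have : ∀ a b : ZMod 2, 0 = a + b → b = a := by decide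
  exact this _ _ h1

theorem IsInvQuad.polar_neg_left {κ : leechLattice → ZMod 2} (h : IsInvQuad κ)
    (u v : leechLattice) : polar κ (-u) v = polar κ u v := by
  rw [polar_comm, h.polar_neg_right, polar_comm]

theorem co0_smul_add (g : Co0) (u v : leechLattice) : g • (u + v) = g • u + g • v :=
  g.2.1 u v

theorem IsInvQuad.polar_inv {κ : leechLattice → ZMod 2} (h : IsInvQuad κ) (g : Co0)
    (u v : leechLattice) : polar κ (g • u) (g • v) = polar κ u v := by
  unfold polar
  rw [← co0_smul_add, h.inv, h.inv, h.inv]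

/-- **Isotropic closure**: if `κ` and its polar form vanish on a set, then `κ` vanishes on the
subgroup it generates. -/
theorem IsInvQuad.closure_zero {κ : leechLattice → ZMod 2} (h : IsInvQuad κ)
    (S : Set leechLattice) (h1 : ∀ s ∈ S, κ s = 0) (h2 : ∀ s ∈ S, ∀ t ∈ S, polar κ s t = 0)
    (x : leechLattice) (hx : x ∈ AddSubgroup.closure S) : κ x = 0 := by
  have step1 : ∀ s ∈ S, ∀ y ∈ AddSubgroup.closure S, polar κ s y = 0 := by
    intro s hs y hy
    induction hy using AddSubgroup.closure_induction with
    | mem t ht => exact h2 s hs t ht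
    | zero => exact h.polar_zero_right s
    | add y y' _ _ ih ih' => rw [h.polar_add_right, ih, ih', add_zero]
    | neg y _ ih => rw [h.polar_neg_right, ih]
  have step2 : ∀ x ∈ AddSubgroup.closure S, ∀ y ∈ AddSubgroup.closure S, polar κ x y = 0 := by
    intro x hx y hy
    induction hx using AddSubgroup.closure_induction with
    | mem s hs => exact step1 s hs y hy
    | zero => exact h.polar_zero_left y
    | add x x' _ _ ih ih' => rw [h.polar_add_left, ih, ih', add_zero]
    | neg x _ ih => rw [h.polar_neg_left, ih]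
  induction hx using AddSubgroup.closure_induction with
  | mem s hs => exact h1 s hs
  | zero => exact h.zero
  | add x x' hx hx' ih ih' => rw [kappa_add κ x x', ih, ih', step2 x hx x' hx', add_zero, add_zero]
  | neg x _ ih => rw [h.neg, ih]

/-! ### The vectors `4 e_i + 4 e_j` -/

/-- the vector `4 e_i` -/
def e4 (i : GolayPt) : GolayPt → ℤ := Pi.single i 4

theorem e4_apply (i k : GolayPt) : e4 i k = if k = i then 4 else 0 := by
  unfold e4
  rw [Pi.single_apply]

theorem sum_e4 (i : GolayPt) : ∑ k, e4 i k = 4 := by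
  simp only [e4_apply]
  rw [Finset.sum_ite_eq' Finset.univ i (fun _ => (4 : ℤ))]
  simp

theorem p_mem (i j : GolayPt) : e4 i + e4 j ∈ leechLattice := by
  rw [mem_leechLattice_iff]
  apply Cfsg.Spor.mem_leechSet_of_const_mod_four _ 0 0 (by decide)
  · intro k
    show (e4 i k + e4 j k) % 4 = 0 % 4
    rw [e4_apply, e4_apply]
    split_ifs <;> decide
  · show (∑ k, (e4 i + e4 j) k) % 8 = (4 * 0) % 8
    simp only [Pi.add_apply]
    rw [Finset.sum_add_distrib, sum_e4, sum_e4]
    decide

/-- the lattice vector `4 e_i + 4 e_j` (for `i = j` this is `8 e_i`) -/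
def P (i j : GolayPt) : leechLattice := ⟨e4 i + e4 j, p_mem i j⟩

theorem P_comm (i j : GolayPt) : P i j = P j i := Subtype.ext (add_comm _ _)

theorem P_rel (i j k : GolayPt) : P i j + P j k = P i k + P j j := by
  apply Subtype.ext
  show e4 i + e4 j + (e4 j + e4 k) = e4 i + e4 k + (e4 j + e4 j)
  abel

theorem P_rel_diag (i j : GolayPt) : P i i + P j j = P i j + P i j := by
  apply Subtype.ext
  show e4 i + e4 i + (e4 j + e4 j) = e4 i + e4 j + (e4 i + e4 j)
  abel

theorem permAut_P (g : Equiv.Perm GolayPt) (hg : g ∈ M24) (i j : GolayPt) :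
    permAut g hg • P i j = P (g i) (g j) := by
  apply Subtype.ext
  show permFun g (Pi.single i 4 + Pi.single j 4) = Pi.single (g i) 4 + Pi.single (g j) 4
  rw [permFun_add, permFun_single, permFun_single]

theorem signAut_P (C : Finset GolayPt)
    (hC : C ∈ supports (golayCode : Set (GolayPt → ZMod 2))) (i j : GolayPt)
    (hi : i ∈ C) (hj : j ∉ C) : signAut C hC • P i j + P i i = P i j := by
  apply Subtype.ext
  funext k
  show signFun C (e4 i + e4 j) k + (e4 i k + e4 i k) = e4 i k + e4 j k
  rw [signFun_apply, Pi.add_apply, e4_apply, e4_apply]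
  by_cases hk : k ∈ C
  · have hkj : k ≠ j := fun h => hj (h ▸ hk)
    rw [if_pos hk, if_neg hkj]
    ring
  · have hki : k ≠ i := fun h => hk (h ▸ hi)
    rw [if_neg hk, if_neg hki]
    ring

/-! ### The octad used -/

/-- the octad `{0, 1, 2, 3, 4, 7, 10, 12}` -/
def oct : Finset GolayPt := Cfsg.Agent.Helper7.setOf Cfsg.Agent.Helper7.O0

theorem oct_mem : oct ∈ supports (golayCode : Set (GolayPt → ZMod 2)) :=
  Cfsg.Agent.Helper7.setOf_O0_mem.1

theorem oct_card : oct.card = 8 := Cfsg.Agent.Helper7.setOf_O0_mem.2

theorem mem_oct_iff : ∀ k : GolayPt, k ∈ oct ↔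
    (k = some 0 ∨ k = some 1 ∨ k = some 2 ∨ k = some 3 ∨ k = some 4 ∨ k = some 7 ∨
      k = some 10 ∨ k = some 12) := by
  unfold oct
  decide

/-- the vector with `2` on the octad -/
def octVec : GolayPt → ℤ := fun k => if k ∈ oct then 2 else 0

theorem octVec_mem : octVec ∈ leechLattice := by
  rw [mem_leechLattice_iff, mem_leechSet_iff]
  refine ⟨0, ?_, ?_, ?_⟩
  · intro k
    show (octVec k) % 2 = 0 % 2
    unfold octVec
    split_ifs <;> decide
  · show (∑ k, octVec k) % 8 = (4 * 0) % 8
    unfold octVec
    rw [Finset.sum_ite_mem, Finset.univ_inter, Finset.sum_const, oct_card]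
    decide
  · have : lvl octVec 0 = oct := by
      ext k
      rw [mem_lvl]
      show (octVec k) % 4 = (0 + 2) % 4 ↔ _
      unfold octVec
      by_cases hk : k ∈ oct
      · simp [hk]
      · simp [hk]
    rw [this]
    exact oct_mem

/-- the lattice vector with `2` on the octad -/
def U : leechLattice := ⟨octVec, octVec_mem⟩

theorem oct_rel : P (some 0) none + (U + U) =
    P (some 0) (some 0) + (P none (some 1) + P (some 2) (some 3) + P (some 4) (some 7) +
      P (some 10) (some 12)) := by
  apply Subtype.ext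
  funext k
  show e4 (some 0) k + e4 none k + (octVec k + octVec k) =
    e4 (some 0) k + e4 (some 0) k + (e4 none k + e4 (some 1) k + (e4 (some 2) k + e4 (some 3) k) +
      (e4 (some 4) k + e4 (some 7) k) + (e4 (some 10) k + e4 (some 12) k))
  simp only [e4_apply, octVec, mem_oct_iff]
  revert k
  decide

theorem some0_mem_oct : (some 0 : GolayPt) ∈ oct := (mem_oct_iff _).2 (Or.inl rfl)

theorem none_not_mem_oct : (none : GolayPt) ∉ oct := by
  rw [mem_oct_iff]
  decide

/-! ### The values of an invariant quadratic form on the vectors `P i j` -/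

theorem IsInvQuad.kappa_P {κ : leechLattice → ZMod 2} (h : IsInvQuad κ) {i j : GolayPt}
    (hij : i ≠ j) : κ (P i j) = κ (P (some 0) none) := by
  obtain ⟨g, hg, h1, h2⟩ := Cfsg.Agent.Helper7.m24_trans2 (p := some 0) (q := none)
    (p' := i) (q' := j) (by decide) hij
  rw [← h1, ← h2, ← permAut_P g hg, h.inv]

theorem IsInvQuad.kappa_F {κ : leechLattice → ZMod 2} (h : IsInvQuad κ) (i : GolayPt) :
    κ (P i i) = κ (P (some 0) (some 0)) := by
  obtain ⟨g, hg, h1⟩ := Cfsg.Agent.Helper7.m24_trans1 (some 0) i
  rw [← h1, ← permAut_P g hg, h.inv]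

theorem IsInvQuad.polar_P_F {κ : leechLattice → ZMod 2} (h : IsInvQuad κ) {i j : GolayPt}
    (hij : i ≠ j) : polar κ (P i j) (P i i) = κ (P (some 0) (some 0)) := by
  have key : polar κ (P (some 0) none) (P (some 0) (some 0)) = κ (P (some 0) (some 0)) := by
    have hrel := signAut_P oct oct_mem (some 0) none some0_mem_oct none_not_mem_oct
    have h1 : κ (P (some 0) none) = κ (P (some 0) none) + κ (P (some 0) (some 0)) +
        polar κ (signAut oct oct_mem • P (some 0) none) (P (some 0) (some 0)) := by
      conv_lhs => rw [← hrel]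
      rw [kappa_add κ, h.inv]
    have h2 : polar κ (P (some 0) none) (P (some 0) (some 0)) =
        polar κ (signAut oct oct_mem • P (some 0) none) (P (some 0) (some 0)) := by
      conv_lhs => rw [← hrel]
      rw [h.polar_add_left, h.polar_self, add_zero]
    rw [h2]
    have : ∀ a c b : ZMod 2, a = a + c + b → b = c := by decide
    exact this _ _ _ h1
  obtain ⟨g, hg, h1, h2⟩ := Cfsg.Agent.Helper7.m24_trans2 (p := some 0) (q := none)
    (p' := i) (q' := j) (by decide) hij
  rw [← key]
  conv_lhs => rw [← h1, ← h2, ← permAut_P g hg, ← permAut_P g hg, h.polar_inv]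

theorem IsInvQuad.kappa_F_zero {κ : leechLattice → ZMod 2} (h : IsInvQuad κ) :
    κ (P (some 0) (some 0)) = 0 := by
  have e1 : polar κ (P (some 0) (some 1)) (P (some 1) (some 1)) = κ (P (some 0) (some 0)) := by
    rw [P_comm (some 0) (some 1)]
    exact h.polar_P_F (by decide)
  have e2 : polar κ (P (some 1) (some 2)) (P (some 1) (some 1)) = κ (P (some 0) (some 0)) :=
    h.polar_P_F (by decide)
  have e3 : polar κ (P (some 0) (some 2)) (P (some 1) (some 1)) = 0 := by
    have := h.polar_add_left (P (some 0) (some 1)) (P (some 1) (some 2)) (P (some 1) (some 1))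
    rw [P_rel, h.polar_add_left, h.polar_self, add_zero, e1, e2, z2_d] at this
    exact this
  have e4' : polar κ (P (some 0) (some 2)) (P (some 0) (some 0)) = κ (P (some 0) (some 0)) :=
    h.polar_P_F (by decide)
  have e5 := h.polar_add_right (P (some 0) (some 2)) (P (some 0) (some 0)) (P (some 1) (some 1))
  rw [P_rel_diag, h.polar_double_right, e4', e3, add_zero] at e5
  exact e5.symm

theorem IsInvQuad.kappa_F_zero' {κ : leechLattice → ZMod 2} (h : IsInvQuad κ) (i : GolayPt) :
    κ (P i i) = 0 := by
  rw [h.kappa_F, h.kappa_F_zero]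

theorem IsInvQuad.polar_P_F' {κ : leechLattice → ZMod 2} (h : IsInvQuad κ) (i k j : GolayPt) :
    polar κ (P i k) (P j j) = 0 := by
  have e1 : polar κ (P i k) (P i i) = 0 := by
    by_cases hik : i = k
    · subst hik
      exact h.polar_self _
    · rw [h.polar_P_F hik, h.kappa_F_zero]
  have e2 := h.polar_add_right (P i k) (P i i) (P j j)
  rw [P_rel_diag, h.polar_double_right, e1, zero_add] at e2
  exact e2.symm

theorem IsInvQuad.polar_P_P {κ : leechLattice → ZMod 2} (h : IsInvQuad κ) (i j k : GolayPt) :
    polar κ (P i j) (P j k) = κ (P i k) + κ (P i j) + κ (P j k) := by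
  have e : κ (P i j + P j k) = κ (P i k) := by
    rw [P_rel, kappa_add κ (P i k) (P j j), h.polar_P_F' i k j, h.kappa_F_zero' j, add_zero,
      add_zero]
  unfold polar
  rw [e]

theorem IsInvQuad.polar_P_P_gen {κ : leechLattice → ZMod 2} (h : IsInvQuad κ)
    (i j k l : GolayPt) :
    polar κ (P i j) (P k l) = κ (P i k) + κ (P j k) + κ (P i l) + κ (P j l) := by
  have e1 : polar κ (P i j) (P k l + P j j) = polar κ (P i j) (P k l) := by
    rw [h.polar_add_right, h.polar_P_F' i j j, add_zero]
  rw [← e1, ← P_rel k j l, h.polar_add_right, P_comm k j, h.polar_P_P, h.polar_P_P]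
  have : ∀ a b c d e : ZMod 2, (a + e + b) + (c + e + d) = a + b + c + d := by decide
  exact this _ _ _ _ _

theorem IsInvQuad.polar_distinct {κ : leechLattice → ZMod 2} (h : IsInvQuad κ)
    {i j k l : GolayPt} (hik : i ≠ k) (hjk : j ≠ k) (hil : i ≠ l) (hjl : j ≠ l) :
    polar κ (P i j) (P k l) = 0 := by
  rw [h.polar_P_P_gen, h.kappa_P hik, h.kappa_P hjk, h.kappa_P hil, h.kappa_P hjl]
  have : ∀ a : ZMod 2, a + a + a + a = 0 := by decide
  exact this _

theorem IsInvQuad.kappa_P_zero {κ : leechLattice → ZMod 2} (h : IsInvQuad κ) :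
    κ (P (some 0) none) = 0 := by
  have h1 : κ (P (some 0) none + (U + U)) = κ (P (some 0) none) := h.coset _ _
  rw [oct_rel] at h1
  rw [← h1]
  have a1 : κ (P none (some 1)) = κ (P (some 0) none) := h.kappa_P (by decide)
  have a2 : κ (P (some 2) (some 3)) = κ (P (some 0) none) := h.kappa_P (by decide)
  have a3 : κ (P (some 4) (some 7)) = κ (P (some 0) none) := h.kappa_P (by decide)
  have a4 : κ (P (some 10) (some 12)) = κ (P (some 0) none) := h.kappa_P (by decide)
  have b12 : polar κ (P none (some 1)) (P (some 2) (some 3)) = 0 :=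
    h.polar_distinct (by decide) (by decide) (by decide) (by decide)
  have b13 : polar κ (P none (some 1)) (P (some 4) (some 7)) = 0 :=
    h.polar_distinct (by decide) (by decide) (by decide) (by decide)
  have b14 : polar κ (P none (some 1)) (P (some 10) (some 12)) = 0 :=
    h.polar_distinct (by decide) (by decide) (by decide) (by decide)
  have b23 : polar κ (P (some 2) (some 3)) (P (some 4) (some 7)) = 0 :=
    h.polar_distinct (by decide) (by decide) (by decide) (by decide)
  have b24 : polar κ (P (some 2) (some 3)) (P (some 10) (some 12)) = 0 :=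
    h.polar_distinct (by decide) (by decide) (by decide) (by decide)
  have b34 : polar κ (P (some 4) (some 7)) (P (some 10) (some 12)) = 0 :=
    h.polar_distinct (by decide) (by decide) (by decide) (by decide)
  have c2 : κ (P none (some 1) + P (some 2) (some 3)) = 0 := by
    rw [kappa_add κ, a1, a2, b12, add_zero, z2_d]
  have c3 : κ (P none (some 1) + P (some 2) (some 3) + P (some 4) (some 7)) =
      κ (P (some 0) none) := by
    rw [kappa_add κ, c2, a3, h.polar_add_left, b13, b23, add_zero, add_zero, zero_add]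
  have c4 : κ (P none (some 1) + P (some 2) (some 3) + P (some 4) (some 7) +
      P (some 10) (some 12)) = 0 := by
    rw [kappa_add κ, c3, a4, h.polar_add_left, h.polar_add_left, b14, b24, b34, add_zero,
      add_zero, add_zero, z2_d]
  rw [kappa_add κ, c4, h.kappa_F_zero, polar_comm, h.polar_add_left, h.polar_add_left,
    h.polar_add_left, h.polar_P_F', h.polar_P_F', h.polar_P_F', h.polar_P_F']
  decide

theorem IsInvQuad.kappa_P_zero' {κ : leechLattice → ZMod 2} (h : IsInvQuad κ) (i j : GolayPt) :
    κ (P i j) = 0 := by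
  by_cases hij : i = j
  · subst hij
    exact h.kappa_F_zero' i
  · rw [h.kappa_P hij, h.kappa_P_zero]

theorem IsInvQuad.polar_P_zero {κ : leechLattice → ZMod 2} (h : IsInvQuad κ)
    (i j k l : GolayPt) : polar κ (P i j) (P k l) = 0 := by
  rw [h.polar_P_P_gen, h.kappa_P_zero', h.kappa_P_zero', h.kappa_P_zero', h.kappa_P_zero']
  decide

/-! ### The subgroup generated by the `P i j` and the doubles -/

/-- generators: the vectors `P i j` and the doubles -/
def genSet : Set leechLattice :=
  Set.range (fun ij : GolayPt × GolayPt => P ij.1 ij.2) ∪ Set.range (fun w : leechLattice => w + w)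

theorem IsInvQuad.kappa_closure {κ : leechLattice → ZMod 2} (h : IsInvQuad κ) (x : leechLattice)
    (hx : x ∈ AddSubgroup.closure genSet) : κ x = 0 := by
  refine h.closure_zero genSet ?_ ?_ x hx
  · rintro s (⟨⟨i, j⟩, rfl⟩ | ⟨w, rfl⟩)
    · exact h.kappa_P_zero' i j
    · exact h.double w
  · rintro s (⟨⟨i, j⟩, rfl⟩ | ⟨w, rfl⟩) t (⟨⟨k, l⟩, rfl⟩ | ⟨w', rfl⟩)
    · exact h.polar_P_zero i j k l
    · exact h.polar_double_right _ _
    · exact h.polar_double_left _ _
    · exact h.polar_double_left _ _

theorem mem_closure_of_four_dvd (x : leechLattice)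
    (h4 : ∀ i, (x : GolayPt → ℤ) i % 4 = 0) : x ∈ AddSubgroup.closure genSet := by
  obtain ⟨x, hx⟩ := x
  simp only at h4
  have hx' := (mem_leechLattice_iff x).1 hx
  obtain ⟨m, p1, p2, -⟩ := hx'
  have hm : x none % 2 = m % 2 := p1 none
  have p2' : (∑ i, x i) % 8 = (4 * m) % 8 := p2
  have h4n := h4 none
  have hs : (∑ i, x i) % 8 = 0 := by omega
  have hN : ∑ i, x i = 4 * ∑ i, x i / 4 := by
    rw [Finset.mul_sum]
    apply Finset.sum_congr rfl
    intro i _
    have := h4 i
    omega
  have hN2 : (∑ i, x i / 4) % 2 = 0 := by omega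
  have key : (⟨x, hx⟩ : leechLattice) =
      ∑ i, (x i / 4) • P i none - ((∑ i, x i / 4) / 2) • P none none := by
    apply Subtype.ext
    funext k
    have hk := h4 k
    simp only [AddSubgroup.coe_sub, AddSubgroup.coe_zsmul, AddSubgroup.val_finsetSum,
      Pi.sub_apply, Pi.smul_apply, Finset.sum_apply, smul_eq_mul, P, Pi.add_apply, e4_apply]
    have s1 : ∑ i, x i / 4 * ((if k = i then 4 else 0) + (if k = none then 4 else 0)) =
        4 * (x k / 4) + (if k = none then 4 else 0) * ∑ i, x i / 4 := by
      simp only [mul_add, Finset.sum_add_distrib, mul_ite, mul_zero]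
      rw [Finset.sum_ite_eq Finset.univ k (fun i => x i / 4 * 4)]
      simp only [Finset.mem_univ, if_true]
      by_cases hkn : k = none
      · simp only [hkn, if_true]
        rw [← Finset.sum_mul]
        ring
      · simp only [hkn, if_false, Finset.sum_const_zero]
        ring
    rw [s1]
    by_cases hkn : k = none
    · simp only [hkn, if_true]
      subst hkn
      omega
    · simp only [hkn, if_false]
      omega
  rw [key]
  apply sub_mem
  · apply sum_mem
    intro i _
    apply zsmul_mem
    apply AddSubgroup.subset_closure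
    left
    exact ⟨(i, none), rfl⟩
  · apply zsmul_mem
    apply AddSubgroup.subset_closure
    left
    exact ⟨(none, none), rfl⟩

theorem vecV_odd : ∀ i : GolayPt, Cfsg.Spor.vecV i % 2 = 1 := by decide

/-- **An invariant quadratic form vanishes on the vectors with `x i + x ∞ ≡ 0 (mod 4)`.** -/
theorem IsInvQuad.kappa_eq_zero {κ : leechLattice → ZMod 2} (h : IsInvQuad κ) (x : leechLattice)
    (hx : ∀ i, ((x : GolayPt → ℤ) i + (x : GolayPt → ℤ) none) % 4 = 0) : κ x = 0 := by
  apply h.kappa_closure
  have hn := hx none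
  by_cases h0 : (x : GolayPt → ℤ) none % 4 = 0
  · exact mem_closure_of_four_dvd x (fun i => by have := hx i; omega)
  · have h2 : (x : GolayPt → ℤ) none % 4 = 2 := by omega
    have hdec : x = (x - (Cfsg.Spor.leechV + Cfsg.Spor.leechV)) +
        (Cfsg.Spor.leechV + Cfsg.Spor.leechV) := by abel
    rw [hdec]
    apply add_mem
    · apply mem_closure_of_four_dvd
      intro i
      show ((x : GolayPt → ℤ) i - (Cfsg.Spor.vecV i + Cfsg.Spor.vecV i)) % 4 = 0
      have hv := vecV_odd i
      have := hx i
      omega
    · apply AddSubgroup.subset_closure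
      right
      exact ⟨Cfsg.Spor.leechV, rfl⟩

end Cfsg.Agent.Helper92
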