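import Cfsg.Agent.Helper92.LeechNeg
import Cfsg.Agent.Helper92.LeechQuad

/-!
# The centre of `Cfsg.Co0` is `{1, -1}`
-/

set_option autoImplicit false

open scoped Pointwise

namespace Cfsg.Agent.Helper92

open Cfsg

/-- a code set containing `j` but not `i` -/
theorem exists_sep (i j : GolayPt) (hij : i ≠ j) :
    ∃ C ∈ supports (golayCode : Set (GolayPt → ZMod 2)), j ∈ C ∧ i ∉ C := by
  obtain ⟨g, hg, h1, h2⟩ := Cfsg.Agent.Helper7.m24_trans2 (p := some 0) (q := none)
    (p' := j) (q' := i) (by decide) hij.symm
  refine ⟨g • oct, smul_mem_supports hg oct_mem, ?_, ?_⟩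
  · rw [← h1]
    exact Finset.smul_mem_smul_finset some0_mem_oct
  · rw [← h2]
    intro h
    exact none_not_mem_oct (Finset.smul_mem_smul_finset_iff g |>.1 h)

/-- `8 x` as a combination of the vectors `8 e_i` -/
theorem eight_smul_eq (x : leechLattice) :
    (8 : ℤ) • x = ∑ i, ((x : GolayPt → ℤ) i) • P i i := by
  apply Subtype.ext
  funext k
  simp only [AddSubgroup.coe_zsmul, AddSubgroup.val_finsetSum, Pi.smul_apply, Finset.sum_apply,
    smul_eq_mul, P, Pi.add_apply, e4_apply]
  have : ∀ i, (x : GolayPt → ℤ) i * ((if k = i then 4 else 0) + (if k = i then 4 else 0)) =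
      if k = i then 8 * (x : GolayPt → ℤ) i else 0 := by
    intro i
    split_ifs <;> ring
  simp only [this]
  rw [Finset.sum_ite_eq Finset.univ k]
  simp

/-- an automorphism multiplying every `8 e_i` by `s` is multiplication by `s` -/
theorem co0_eq_of_F (z : Co0) (s : ℤ) (hz : ∀ i, z • P i i = s • P i i) (x : leechLattice) :
    z • x = s • x := by
  have h1 : z • ((8 : ℤ) • x) = s • ((8 : ℤ) • x) := by
    rw [eight_smul_eq, co0_sum, Finset.smul_sum]
    apply Finset.sum_congr rfl
    intro i _
    rw [co0_zsmul, hz, smul_comm]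
  rw [co0_zsmul, smul_comm s (8 : ℤ) x] at h1
  apply Subtype.ext
  funext k
  have h2 := congrFun (congrArg Subtype.val h1) k
  have h3 : 8 * ((z • x : leechLattice) : GolayPt → ℤ) k = 8 * ((s • x : leechLattice) : GolayPt → ℤ) k :=
    h2
  omega

theorem sqNorm_F (i : GolayPt) : sqNorm ((P i i : leechLattice) : GolayPt → ℤ) = 64 := by
  show ∑ k, (e4 i k + e4 i k) ^ 2 = 64
  simp only [e4_apply]
  have : ∀ k : GolayPt, ((if k = i then (4 : ℤ) else 0) + (if k = i then 4 else 0)) ^ 2 =
      if k = i then 64 else 0 := by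
    intro k
    split_ifs <;> norm_num
  simp only [this]
  rw [Finset.sum_ite_eq' Finset.univ i]
  simp

theorem signAut_F (C : Finset GolayPt)
    (hC : C ∈ supports (golayCode : Set (GolayPt → ZMod 2))) (i : GolayPt) (hi : i ∉ C) :
    signAut C hC • P i i = P i i := by
  apply Subtype.ext
  funext k
  show signFun C (e4 i + e4 i) k = e4 i k + e4 i k
  rw [signFun_apply, Pi.add_apply, e4_apply]
  by_cases hk : k ∈ C
  · have hki : k ≠ i := fun h => hi (h ▸ hk)
    rw [if_pos hk, if_neg hki]
    rfl
  · rw [if_neg hk]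

theorem center_comm {z : Co0} (hz : z ∈ Subgroup.center Co0) (g : Co0) (v : leechLattice) :
    z • (g • v) = g • (z • v) := by
  have h := Subgroup.mem_center_iff.1 hz g
  show (z * g) • v = (g * z) • v
  rw [h]

theorem center_F {z : Co0} (hz : z ∈ Subgroup.center Co0) (i : GolayPt) :
    z • P i i = P i i ∨ z • P i i = -(P i i) := by
  have hy0 : ∀ j, j ≠ i → ((z • P i i : leechLattice) : GolayPt → ℤ) j = 0 := by
    intro j hj
    obtain ⟨C, hC, hjC, hiC⟩ := exists_sep i j (Ne.symm hj)
    have hc := center_comm hz (signAut C hC) (P i i)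
    rw [signAut_F C hC i hiC] at hc
    have h1 := congrFun (congrArg Subtype.val hc) j
    rw [signAut_smul, signFun_apply, if_pos hjC] at h1
    omega
  have hn : sqNorm ((z • P i i : leechLattice) : GolayPt → ℤ) = 64 := by
    rw [co0_sqNorm, sqNorm_F]
  have hyi : ((z • P i i : leechLattice) : GolayPt → ℤ) i ^ 2 = 64 := by
    unfold sqNorm at hn
    rw [Finset.sum_eq_single i (fun j _ hj => by rw [hy0 j hj]; ring)
      (fun h => absurd (Finset.mem_univ i) h)] at hn
    exact hn
  have h8 : ((z • P i i : leechLattice) : GolayPt → ℤ) i = 8 ∨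
      ((z • P i i : leechLattice) : GolayPt → ℤ) i = -8 := by
    have h : (((z • P i i : leechLattice) : GolayPt → ℤ) i - 8) *
        (((z • P i i : leechLattice) : GolayPt → ℤ) i + 8) = 0 := by nlinarith
    rcases mul_eq_zero.1 h with h | h
    · left; omega
    · right; omega
  rcases h8 with h | h
  · left
    apply Subtype.ext
    funext k
    show ((z • P i i : leechLattice) : GolayPt → ℤ) k = e4 i k + e4 i k
    by_cases hk : k = i
    · subst hk
      rw [h, e4_apply, if_pos rfl]
      rfl
    · rw [hy0 k hk, e4_apply, if_neg hk]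
      rfl
  · right
    apply Subtype.ext
    funext k
    show ((z • P i i : leechLattice) : GolayPt → ℤ) k = -(e4 i k + e4 i k)
    by_cases hk : k = i
    · subst hk
      rw [h, e4_apply, if_pos rfl]
      rfl
    · rw [hy0 k hk, e4_apply, if_neg hk]
      rfl

theorem center_F_all {z : Co0} (hz : z ∈ Subgroup.center Co0) :
    (∀ i, z • P i i = P i i) ∨ (∀ i, z • P i i = -(P i i)) := by
  rcases center_F hz (some 0) with h | h
  · left
    intro i
    obtain ⟨g, hg, rfl⟩ := Cfsg.Agent.Helper7.m24_trans1 (some 0) i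
    rw [← permAut_P g hg, center_comm hz, h]
  · right
    intro i
    obtain ⟨g, hg, rfl⟩ := Cfsg.Agent.Helper7.m24_trans1 (some 0) i
    rw [← permAut_P g hg, center_comm hz, h, co0_neg]

theorem negAut_mem_center : negAut ∈ Subgroup.center Co0 :=
  Subgroup.mem_center_iff.2 (fun g => (negAut_comm g).symm)

/-- **The centre of the automorphism group consists of the identity and negation.** -/
theorem center_eq {z : Co0} (hz : z ∈ Subgroup.center Co0) : z = 1 ∨ z = negAut := by
  rcases center_F_all hz with h | h
  · left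
    apply co0_ext
    intro x
    have := co0_eq_of_F z 1 (fun i => by rw [h, one_smul]) x
    rw [this, one_smul]
    rfl
  · right
    apply co0_ext
    intro x
    have := co0_eq_of_F z (-1) (fun i => by rw [h, neg_smul, one_smul]) x
    rw [this, neg_smul, one_smul]
    rfl

theorem card_center : Nat.card (Subgroup.center Co0) = 2 := by
  rw [Nat.card_eq_two_iff]
  refine ⟨⟨1, one_mem _⟩, ⟨negAut, negAut_mem_center⟩, ?_, ?_⟩
  · intro h
    exact negAut_ne_one (congrArg Subtype.val h).symm
  · ext w
    simp only [Set.mem_insert_iff, Set.mem_singleton_iff, Set.mem_univ, iff_true]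
    rcases center_eq w.2 with h | h
    · left; exact Subtype.ext h
    · right; exact Subtype.ext h

end Cfsg.Agent.Helper92
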