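import Cfsg.Agent.Helper92.LeechCross
import Cfsg.Agent.Helper26.GolayMore

/-!
# Normal elementary abelian 2-subgroups of the stabiliser of a short vector

`Co0` is finite.  A subgroup `R` of `Co0` that fixes the vector `(4,4,0^22)`, is normalised by the
stabiliser of that vector and is elementary abelian consists of sign changes on code words
avoiding the two points `∞` and `0` (`sign_of_normal_elementary`); in particular it has at most
`2^10` elements.
-/

set_option autoImplicit false

open scoped Pointwise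

namespace Cfsg.Agent.Helper92

open Cfsg Cfsg.Agent.Helper26

/-! ### Finiteness of `Co0` -/

theorem coord_le_of_sqNorm {y : GolayPt → ℤ} (h : sqNorm y = 64) (k : GolayPt) :
    y k ∈ Finset.Icc (-8 : ℤ) 8 := by
  have h1 : y k ^ 2 ≤ sqNorm y :=
    Finset.single_le_sum (f := fun i => y i ^ 2) (fun i _ => sq_nonneg _) (Finset.mem_univ k)
  rw [h] at h1
  rw [Finset.mem_Icc]
  constructor <;> nlinarith

theorem co0_eq_of_F_eq {γ γ' : Co0} (h : ∀ i, γ • P i i = γ' • P i i) : γ = γ' := by
  have h1 : ∀ x : leechLattice, (γ'⁻¹ * γ) • x = (1 : ℤ) • x := by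
    apply co0_eq_of_F
    intro i
    rw [mul_smul, h i, inv_smul_smul, one_smul]
  have h2 : γ'⁻¹ * γ = 1 := by
    apply co0_ext
    intro x
    rw [h1 x, one_smul, one_smul]
  calc γ = γ' * (γ'⁻¹ * γ) := by group
    _ = γ' := by rw [h2, mul_one]

instance finite_co0 : Finite Co0 := by
  let Φ : Co0 → (GolayPt → GolayPt → ↥(Finset.Icc (-8 : ℤ) 8)) := fun γ i k =>
    ⟨((γ • P i i : leechLattice) : GolayPt → ℤ) k,
      coord_le_of_sqNorm (by rw [co0_sqNorm, sqNorm_F]) k⟩
  apply Finite.of_injective Φ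
  intro γ γ' h
  apply co0_eq_of_F_eq
  intro i
  apply Subtype.ext
  funext k
  have := congrFun (congrFun h i) k
  exact congrArg Subtype.val this

/-! ### Sign changes and coordinate permutations -/

theorem signAut_empty : signAut ∅ supports_empty = 1 := by
  apply co0_ext
  intro x
  apply Subtype.ext
  funext k
  show signFun ∅ (x : GolayPt → ℤ) k = (x : GolayPt → ℤ) k
  rw [signFun_apply, if_neg (Finset.notMem_empty k)]

theorem signAut_mul (c c' : Finset GolayPt)
    (hc : c ∈ supports (golayCode : Set (GolayPt → ZMod 2)))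
    (hc' : c' ∈ supports (golayCode : Set (GolayPt → ZMod 2))) :
    signAut c hc * signAut c' hc' = signAut (symmDiff c c') (supports_symmDiff hc hc') := by
  apply co0_ext
  intro x
  apply Subtype.ext
  funext k
  show signFun c (signFun c' (x : GolayPt → ℤ)) k = signFun (symmDiff c c') (x : GolayPt → ℤ) k
  simp only [signFun_apply, Finset.mem_symmDiff]
  by_cases h1 : k ∈ c <;> by_cases h2 : k ∈ c' <;> simp [h1, h2]

theorem signAut_mul_self (c : Finset GolayPt)
    (hc : c ∈ supports (golayCode : Set (GolayPt → ZMod 2))) :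
    signAut c hc * signAut c hc = 1 := by
  apply co0_ext
  intro x
  apply Subtype.ext
  show signFun c (signFun c (x : GolayPt → ℤ)) = (x : GolayPt → ℤ)
  exact signFun_signFun c _

theorem signAut_inv (c : Finset GolayPt)
    (hc : c ∈ supports (golayCode : Set (GolayPt → ZMod 2))) :
    (signAut c hc)⁻¹ = signAut c hc :=
  inv_eq_of_mul_eq_one_left (signAut_mul_self c hc)

theorem signAut_congr {c c' : Finset GolayPt} (h : c = c')
    (hc : c ∈ supports (golayCode : Set (GolayPt → ZMod 2)))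
    (hc' : c' ∈ supports (golayCode : Set (GolayPt → ZMod 2))) :
    signAut c hc = signAut c' hc' := by
  subst h
  rfl

theorem permAut_one : permAut 1 (one_mem _) = 1 := by
  apply co0_ext
  intro x
  apply Subtype.ext
  funext k
  rfl

theorem permAut_conj_signAut (σ : Equiv.Perm GolayPt) (hσ : σ ∈ M24) (c : Finset GolayPt)
    (hc : c ∈ supports (golayCode : Set (GolayPt → ZMod 2))) :
    permAut σ hσ * signAut c hc * (permAut σ hσ)⁻¹ =
      signAut (σ • c) (smul_mem_supports hσ hc) := by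
  apply co0_ext
  intro x
  obtain ⟨y, rfl⟩ : ∃ y, x = permAut σ hσ • y := ⟨(permAut σ hσ)⁻¹ • x, (smul_inv_smul _ _).symm⟩
  rw [mul_smul, mul_smul, inv_smul_smul]
  apply Subtype.ext
  funext k
  show signFun c (y : GolayPt → ℤ) (σ.symm k) =
    signFun (σ • c) (permFun σ (y : GolayPt → ℤ)) k
  rw [signFun_apply, signFun_apply, permFun_apply]
  have e : σ.symm k ∈ c ↔ k ∈ σ • c := by
    rw [← apply_mem_smul_iff σ (σ.symm k) c, Equiv.apply_symm_apply]
  simp only [e]

/-! ### Code words avoiding the two points `∞` and `0` -/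

/-- the code words avoiding `∞` and `0` -/
def C0 (c : Finset GolayPt) : Prop :=
  c ∈ supports (golayCode : Set (GolayPt → ZMod 2)) ∧ none ∉ c ∧ some 0 ∉ c

theorem card_filter_codeOf : ((Finset.range 4096).filter
    (fun k => (codeOf k).testBit 0 = false ∧ (codeOf k).testBit 23 = false)).card = 1024 := by
  decide +kernel

theorem idx_none' : idx none = 23 := by decide

theorem idx_zero' : idx (some 0) = 0 := by decide

theorem C0_subset : {c : Finset GolayPt | C0 c} ⊆
    ↑(((Finset.range 4096).filter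
      (fun k => (codeOf k).testBit 0 = false ∧ (codeOf k).testBit 23 = false)).image
        (fun k => dec (codeOf k))) := by
  rintro c ⟨hc, h1, h2⟩
  rw [← mem_codeF] at hc
  unfold codeF at hc
  rw [Finset.mem_image] at hc
  obtain ⟨k, hk, rfl⟩ := hc
  rw [Finset.mem_coe, Finset.mem_image]
  refine ⟨k, ?_, rfl⟩
  rw [Finset.mem_filter]
  refine ⟨hk, ?_, ?_⟩
  · rw [mem_dec, idx_zero'] at h2
    simpa using h2
  · rw [mem_dec, idx_none'] at h1
    simpa using h1

theorem card_C0_le : Nat.card {c : Finset GolayPt // C0 c} ≤ 1024 := by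
  have h := Set.ncard_le_ncard C0_subset (Finset.finite_toSet _)
  rw [Set.ncard_coe_finset] at h
  have h2 := Finset.card_image_le (s := (Finset.range 4096).filter
      (fun k => (codeOf k).testBit 0 = false ∧ (codeOf k).testBit 23 = false))
      (f := fun k => dec (codeOf k))
  rw [card_filter_codeOf] at h2
  have h3 : Nat.card {c : Finset GolayPt // C0 c} = {c : Finset GolayPt | C0 c}.ncard := rfl
  rw [h3]
  exact h.trans h2

/-! ### Lattice vectors of squared length 64 supported on two points -/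

theorem exists_third : ∀ i j : GolayPt, ∃ k, k ≠ i ∧ k ≠ j := by decide

theorem sq_sum_64 {a b : ℤ} (ha : a % 4 = 0) (hb : b % 4 = 0) (h : a ^ 2 + b ^ 2 = 64) :
    a % 8 = 0 ∧ b % 8 = 0 := by
  obtain ⟨a', rfl⟩ : ∃ a', a = 4 * a' := ⟨a / 4, by omega⟩
  obtain ⟨b', rfl⟩ : ∃ b', b = 4 * b' := ⟨b / 4, by omega⟩
  have h1 : a' ^ 2 + b' ^ 2 = 4 := by nlinarith
  have ha1 : -2 ≤ a' := by nlinarith [sq_nonneg b']
  have ha2 : a' ≤ 2 := by nlinarith [sq_nonneg b']
  have hb1 : -2 ≤ b' := by nlinarith [sq_nonneg a']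
  have hb2 : b' ≤ 2 := by nlinarith [sq_nonneg a']
  interval_cases a' <;> interval_cases b' <;> omega

/-- a lattice vector of squared length 64 supported on at most two points is in the standard
cross -/
theorem stdCross_of_support_two {y : GolayPt → ℤ} (hy : y ∈ leechLattice) (hn : sqNorm y = 64)
    (i j : GolayPt) (hsupp : ∀ k, k ≠ i → k ≠ j → y k = 0) : y ∈ stdCross := by
  obtain ⟨m, h1, h2, h3⟩ := (mem_leechLattice_iff y).1 hy
  obtain ⟨k₀, hk1, hk2⟩ := exists_third i j
  have hm : m % 2 = 0 := by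
    have : y k₀ % 2 = m % 2 := h1 k₀
    rw [hsupp k₀ hk1 hk2] at this
    omega
  have hE := h3 2
  have hc := card_of_mem_supports hE
  have hsub : (Finset.univ.filter fun k => y k ≡ 2 [ZMOD 4]) ⊆ {i, j} := by
    intro k hk
    rw [Finset.mem_filter] at hk
    rw [Finset.mem_insert, Finset.mem_singleton]
    by_contra hcon
    push Not at hcon
    have h0 := hsupp k hcon.1 hcon.2
    have : y k % 4 = 2 % 4 := hk.2
    rw [h0] at this
    omega
  have hcard : (Finset.univ.filter fun k => y k ≡ 2 [ZMOD 4]).card ≤ 2 :=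
    (Finset.card_le_card hsub).trans Finset.card_le_two
  have hc0 : (Finset.univ.filter fun k => y k ≡ 2 [ZMOD 4]).card = 0 := by omega
  have h4 : ∀ k, y k % 4 = 0 := by
    intro k
    have hk : y k % 2 = m % 2 := h1 k
    have hni : k ∉ Finset.univ.filter fun k => y k ≡ 2 [ZMOD 4] := by
      rw [Finset.card_eq_zero] at hc0
      rw [hc0]
      exact Finset.notMem_empty k
    rw [Finset.mem_filter] at hni
    have h' : ¬ (y k % 4 = 2 % 4) := fun h => hni ⟨Finset.mem_univ _, h⟩
    omega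
  apply mem_stdCross_of_eight _ hn
  by_cases hij : i = j
  · subst hij
    have hs : sqNorm y = y i ^ 2 := by
      unfold sqNorm
      rw [Finset.sum_eq_single i]
      · intro k _ hk
        rw [hsupp k hk hk]
        norm_num
      · intro h
        exact absurd (Finset.mem_univ i) h
    rw [hn] at hs
    have h8 := sq_sum_64 (h4 i) (by norm_num : (0 : ℤ) % 4 = 0) (by rw [← hs]; norm_num)
    intro k
    by_cases hk : k = i
    · rw [hk]
      exact h8.1
    · rw [hsupp k hk hk]
      norm_num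
  · have hs : sqNorm y = y i ^ 2 + y j ^ 2 := by
      unfold sqNorm
      have e1 : ∑ k ∈ ({i, j} : Finset GolayPt), y k ^ 2 = ∑ k, y k ^ 2 := by
        apply Finset.sum_subset (Finset.subset_univ _)
        intro k _ hk
        rw [Finset.mem_insert, Finset.mem_singleton] at hk
        push Not at hk
        rw [hsupp k hk.1 hk.2]
        norm_num
      rw [← e1]
      exact Finset.sum_pair hij
    rw [hn] at hs
    have h8 := sq_sum_64 (h4 i) (h4 j) hs.symm
    intro k
    by_cases hki : k = i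
    · rw [hki]
      exact h8.1
    · by_cases hkj : k = j
      · rw [hkj]
        exact h8.2
      · rw [hsupp k hki hkj]
        norm_num

/-! ### Separation of points by invariant families of code words -/

theorem card_compl_pair : ((Finset.univ : Finset GolayPt) \ {none, some 0}).card = 22 := by decide

theorem exists_other : ∀ i : GolayPt, ∃ k : GolayPt, k ≠ none ∧ k ≠ some 0 ∧ k ≠ i := by decide

theorem exists_sep_of_inv (B : Finset GolayPt → Prop) (hB0 : ∀ c, B c → C0 c)
    (hBinv : ∀ σ ∈ M24, σ none = none → σ (some 0) = some 0 → ∀ c, B c → B (σ • c))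
    {c₀ : Finset GolayPt} (hc₀ : B c₀) (hne : c₀ ≠ ∅) (i k : GolayPt) (hi1 : i ≠ none)
    (hi0 : i ≠ some 0) (hik : k ≠ i) : ∃ c, B c ∧ i ∈ c ∧ k ∉ c := by
  obtain ⟨hcs, hcn, hc0⟩ := hB0 c₀ hc₀
  obtain ⟨a, ha⟩ := Finset.nonempty_iff_ne_empty.2 hne
  have ha1 : a ≠ none := fun h => hcn (h ▸ ha)
  have ha0 : a ≠ some 0 := fun h => hc0 (h ▸ ha)
  obtain ⟨b, hb1, hb0, hb⟩ : ∃ b, b ≠ none ∧ b ≠ some 0 ∧ b ∉ c₀ := by
    by_contra hcon
    push Not at hcon
    have hsub : (Finset.univ : Finset GolayPt) \ {none, some 0} ⊆ c₀ := by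
      intro b hb
      rw [Finset.mem_sdiff, Finset.mem_insert, Finset.mem_singleton] at hb
      push Not at hb
      exact hcon b hb.2.1 hb.2.2
    have h22 := Finset.card_le_card hsub
    rw [card_compl_pair] at h22
    have hc := card_of_mem_supports hcs
    have h24 : c₀.card = 24 := by omega
    have : c₀ = Finset.univ := by
      apply Finset.eq_univ_of_card
      rw [h24]
      decide
    exact hcn (this ▸ Finset.mem_univ _)
  have hab : a ≠ b := fun h => hb (h ▸ ha)
  have main : ∀ k', k' ≠ none → k' ≠ some 0 → k' ≠ i → ∃ c, B c ∧ i ∈ c ∧ k' ∉ c := by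
    intro k' hk1 hk0 hki
    obtain ⟨σ, hσ, s1, s2, s3, s4⟩ := m24_trans4 (p := none) (q := some 0) (r := a) (s := b)
      (p' := none) (q' := some 0) (r' := i) (s' := k')
      (by
        simp only [List.nodup_cons, List.mem_cons, List.not_mem_nil, List.nodup_nil, not_or,
          or_false, and_true, not_false_eq_true]
        exact ⟨⟨by decide, Ne.symm ha1, Ne.symm hb1⟩, ⟨Ne.symm ha0, Ne.symm hb0⟩, hab⟩)
      (by
        simp only [List.nodup_cons, List.mem_cons, List.not_mem_nil, List.nodup_nil, not_or,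
          or_false, and_true, not_false_eq_true]
        exact ⟨⟨by decide, Ne.symm hi1, Ne.symm hk1⟩, ⟨Ne.symm hi0, Ne.symm hk0⟩, Ne.symm hki⟩)
    refine ⟨σ • c₀, hBinv σ hσ s1 s2 c₀ hc₀, ?_, ?_⟩
    · rw [← s3, apply_mem_smul_iff]
      exact ha
    · rw [← s4, apply_mem_smul_iff]
      exact hb
  by_cases hk1 : k = none
  · obtain ⟨k', h1, h2, h3⟩ := exists_other i
    obtain ⟨c, hc, hic, -⟩ := main k' h1 h2 h3
    exact ⟨c, hc, hic, hk1 ▸ (hB0 c hc).2.1⟩
  by_cases hk0 : k = some 0
  · obtain ⟨k', h1, h2, h3⟩ := exists_other i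
    obtain ⟨c, hc, hic, -⟩ := main k' h1 h2 h3
    exact ⟨c, hc, hic, hk0 ▸ (hB0 c hc).2.2⟩
  exact main k hk1 hk0 hik

/-! ### Automorphisms commuting with many sign changes -/

theorem signAut_F_neg (C : Finset GolayPt)
    (hC : C ∈ supports (golayCode : Set (GolayPt → ZMod 2))) (i : GolayPt) (hi : i ∈ C) :
    signAut C hC • P i i = -P i i := by
  apply Subtype.ext
  funext k
  show signFun C (e4 i + e4 i) k = -(e4 i k + e4 i k)
  rw [signFun_apply, Pi.add_apply, e4_apply]
  by_cases hk : k ∈ C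
  · rw [if_pos hk]
  · have hki : k ≠ i := fun h => hk (h ▸ hi)
    rw [if_neg hk, if_neg hki]
    rfl

theorem coord_zero_of_comm {γ : Co0} {c : Finset GolayPt}
    (hc : c ∈ supports (golayCode : Set (GolayPt → ZMod 2)))
    (hcomm : γ * signAut c hc = signAut c hc * γ) (i k : GolayPt)
    (h : (i ∈ c ∧ k ∉ c) ∨ (i ∉ c ∧ k ∈ c)) :
    ((γ • P i i : leechLattice) : GolayPt → ℤ) k = 0 := by
  have e : signAut c hc • (γ • P i i) = γ • (signAut c hc • P i i) := by
    rw [← mul_smul, ← mul_smul, hcomm]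
  have e2 : ((signAut c hc • (γ • P i i) : leechLattice) : GolayPt → ℤ) k =
      signFun c ((γ • P i i : leechLattice) : GolayPt → ℤ) k := rfl
  rcases h with ⟨hi, hk⟩ | ⟨hi, hk⟩
  · rw [signAut_F_neg c hc i hi, co0_neg] at e
    have e1 := congrFun (congrArg Subtype.val e) k
    have e3 : ((-(γ • P i i) : leechLattice) : GolayPt → ℤ) k =
        -((γ • P i i : leechLattice) : GolayPt → ℤ) k := rfl
    rw [e2, e3, signFun_apply, if_neg hk] at e1
    omega
  · rw [signAut_F c hc i hi] at e
    have e1 := congrFun (congrArg Subtype.val e) k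
    rw [e2, signFun_apply, if_pos hk] at e1
    omega

theorem neg_mem_stdCross {y : GolayPt → ℤ} (h : y ∈ stdCross) : -y ∈ stdCross := by
  obtain ⟨i, s, hs, rfl⟩ := h
  exact ⟨i, -s, by omega, by rw [Pi.single_neg]⟩

theorem card_pair_none_zero : ({none, some 0} : Finset GolayPt).card = 2 := by decide

/-- an element of `M24` fixing all points other than `∞` and `0` fixes `∞` -/
theorem M24_no_swap {σ : Equiv.Perm GolayPt} (hσ : σ ∈ M24)
    (hfix : ∀ i, i ≠ none → i ≠ some 0 → σ i = i) : σ none = none := by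
  by_contra h
  have h1 : σ none = some 0 := by
    by_contra h0
    have := hfix (σ none) h h0
    exact h (σ.injective this)
  have h2 : σ (some 0) = none := by
    by_contra h0
    have h3 : σ (some 0) ≠ some 0 := by
      intro h4
      have := σ.injective (h4.trans h1.symm)
      exact absurd this (by decide)
    have := hfix (σ (some 0)) h0 h3
    exact h3 (σ.injective this)
  have hsd : symmDiff oct (σ • oct) = {none, some 0} := by
    ext k
    have e : k ∈ σ • oct ↔ σ.symm k ∈ oct := by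
      rw [← apply_mem_smul_iff σ (σ.symm k) oct, Equiv.apply_symm_apply]
    rw [Finset.mem_symmDiff, e, Finset.mem_insert, Finset.mem_singleton]
    by_cases hk1 : k = none
    · have e1 : σ.symm k = some 0 := by
        rw [hk1, Equiv.symm_apply_eq]
        exact h2.symm
      rw [e1, hk1]
      exact ⟨fun _ => Or.inl rfl, fun _ => Or.inr ⟨some0_mem_oct, none_not_mem_oct⟩⟩
    by_cases hk0 : k = some 0
    · have e1 : σ.symm k = none := by
        rw [hk0, Equiv.symm_apply_eq]
        exact h1.symm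
      rw [e1, hk0]
      exact ⟨fun _ => Or.inr rfl, fun _ => Or.inl ⟨some0_mem_oct, none_not_mem_oct⟩⟩
    · have e1 : σ.symm k = k := by
        rw [Equiv.symm_apply_eq]
        exact (hfix k hk1 hk0).symm
      rw [e1]
      constructor
      · rintro (⟨h, h'⟩ | ⟨h, h'⟩) <;> exact absurd h h'
      · rintro (h | h)
        · exact absurd h hk1
        · exact absurd h hk0
  have hmem := supports_symmDiff oct_mem (smul_mem_supports hσ oct_mem)
  rw [hsd] at hmem
  have hc := card_of_mem_supports hmem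
  rw [card_pair_none_zero] at hc
  omega

/-- **Centralizer lemma**: an automorphism fixing `(4,4,0^22)` and commuting with the sign changes
of a nonzero family of code words avoiding `∞` and `0` that is invariant under the stabiliser of
the two points in `M24` is itself a sign change on a code word avoiding `∞` and `0`. -/
theorem centralizer_lemma (B : Finset GolayPt → Prop) (hB0 : ∀ c, B c → C0 c)
    (hBinv : ∀ σ ∈ M24, σ none = none → σ (some 0) = some 0 → ∀ c, B c → B (σ • c))
    {c₀ : Finset GolayPt} (hc₀ : B c₀) (hne : c₀ ≠ ∅)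
    (γ : Co0) (hγu : γ • Cfsg.Spor.leechU = Cfsg.Spor.leechU)
    (hcomm : ∀ c (hc : B c), γ * signAut c (hB0 c hc).1 = signAut c (hB0 c hc).1 * γ) :
    ∃ c, ∃ hc : C0 c, γ = signAut c hc.1 := by
  have hsupp1 : ∀ i, i ≠ none → i ≠ some 0 → ∀ k, k ≠ i →
      ((γ • P i i : leechLattice) : GolayPt → ℤ) k = 0 := by
    intro i hi1 hi0 k hk
    obtain ⟨c, hc, hic, hkc⟩ := exists_sep_of_inv B hB0 hBinv hc₀ hne i k hi1 hi0 hk
    exact coord_zero_of_comm (hB0 c hc).1 (hcomm c hc) i k (Or.inl ⟨hic, hkc⟩)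
  have hsupp2 : ∀ i, (i = none ∨ i = some 0) → ∀ k, k ≠ none → k ≠ some 0 →
      ((γ • P i i : leechLattice) : GolayPt → ℤ) k = 0 := by
    intro i hi k hk1 hk0
    have hik : i ≠ k := by
      rcases hi with rfl | rfl
      · exact Ne.symm hk1
      · exact Ne.symm hk0
    obtain ⟨c, hc, hkc, hic⟩ := exists_sep_of_inv B hB0 hBinv hc₀ hne k i hk1 hk0 hik
    exact coord_zero_of_comm (hB0 c hc).1 (hcomm c hc) i k (Or.inr ⟨hic, hkc⟩)
  have hn : ∀ i, sqNorm ((γ • P i i : leechLattice) : GolayPt → ℤ) = 64 := fun i => by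
    rw [co0_sqNorm, sqNorm_F]
  have hF : ∀ i, ((γ • P i i : leechLattice) : GolayPt → ℤ) ∈ stdCross := by
    intro i
    by_cases hi : i = none ∨ i = some 0
    · exact stdCross_of_support_two (γ • P i i).2 (hn i) none (some 0) (hsupp2 i hi)
    · push Not at hi
      exact stdCross_of_support_two (γ • P i i).2 (hn i) i i
        (fun k hk _ => hsupp1 i hi.1 hi.2 k hk)
  have hstab : StabCross γ := by
    rintro v ⟨i, s, hs, hv⟩
    rcases hs with rfl | rfl
    · have : v = P i i := Subtype.ext (hv.trans (P_diag_val i).symm)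
      rw [this]
      exact hF i
    · have : v = -P i i := by
        apply Subtype.ext
        rw [hv, Pi.single_neg]
        show _ = -((P i i : leechLattice) : GolayPt → ℤ)
        rw [P_diag_val]
      rw [this, co0_neg]
      exact neg_mem_stdCross (hF i)
  obtain ⟨c₁, hc₁, σ, hσ, rfl⟩ := stabCross_eq hstab
  have hσfix : ∀ i, i ≠ none → i ≠ some 0 → σ i = i := by
    intro i hi1 hi0
    by_contra hne'
    have h1 := hsupp1 i hi1 hi0 (σ i) hne'
    have h2 : (((signAut c₁ hc₁ * permAut σ hσ) • P i i : leechLattice) : GolayPt → ℤ) =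
        signFun c₁ (permFun σ ((P i i : leechLattice) : GolayPt → ℤ)) := rfl
    rw [h2, P_diag_val, permFun_single, signFun_single, Pi.single_eq_same] at h1
    split_ifs at h1 <;> omega
  have hnone := M24_no_swap hσ hσfix
  have hzero : σ (some 0) = some 0 := by
    by_contra h0
    have h3 : σ (some 0) ≠ none := by
      intro h4
      have := σ.injective (h4.trans hnone.symm)
      exact absurd this (by decide)
    have := hσfix (σ (some 0)) h3 h0
    exact h0 (σ.injective this)
  have hσ1 : σ = 1 := by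
    apply Equiv.ext
    intro i
    by_cases hi1 : i = none
    · rw [hi1]
      exact hnone
    by_cases hi0 : i = some 0
    · rw [hi0]
      exact hzero
    · exact hσfix i hi1 hi0
  subst hσ1
  rw [permAut_one, mul_one] at hγu ⊢
  have hU1 : Cfsg.Spor.vecU none = 4 := by decide
  have hU0 : Cfsg.Spor.vecU (some 0) = 4 := by decide
  refine ⟨c₁, ⟨hc₁, ?_, ?_⟩, rfl⟩
  · intro hmem
    have h1 := congrFun (congrArg Subtype.val hγu) none
    have h2 : ((signAut c₁ hc₁ • Cfsg.Spor.leechU : leechLattice) : GolayPt → ℤ) none =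
        signFun c₁ Cfsg.Spor.vecU none := rfl
    have h3 : ((Cfsg.Spor.leechU : leechLattice) : GolayPt → ℤ) none = Cfsg.Spor.vecU none := rfl
    rw [h2, h3, signFun_apply, if_pos hmem, hU1] at h1
    omega
  · intro hmem
    have h1 := congrFun (congrArg Subtype.val hγu) (some 0)
    have h2 : ((signAut c₁ hc₁ • Cfsg.Spor.leechU : leechLattice) : GolayPt → ℤ) (some 0) =
        signFun c₁ Cfsg.Spor.vecU (some 0) := rfl
    have h3 : ((Cfsg.Spor.leechU : leechLattice) : GolayPt → ℤ) (some 0) =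
        Cfsg.Spor.vecU (some 0) := rfl
    rw [h2, h3, signFun_apply, if_pos hmem, hU0] at h1
    omega

/-! ### The main theorem -/

/-- the group of sign changes on code words avoiding `∞` and `0` -/
def signSub : Subgroup Co0 where
  carrier := {γ | ∃ c, ∃ hc : C0 c, γ = signAut c hc.1}
  one_mem' := ⟨∅, ⟨supports_empty, Finset.notMem_empty _, Finset.notMem_empty _⟩,
    signAut_empty.symm⟩
  mul_mem' := by
    rintro _ _ ⟨c, hc, rfl⟩ ⟨c', hc', rfl⟩
    refine ⟨symmDiff c c', ⟨supports_symmDiff hc.1 hc'.1, ?_, ?_⟩, signAut_mul c c' hc.1 hc'.1⟩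
    · rw [Finset.mem_symmDiff]
      rintro (⟨h, -⟩ | ⟨h, -⟩)
      · exact hc.2.1 h
      · exact hc'.2.1 h
    · rw [Finset.mem_symmDiff]
      rintro (⟨h, -⟩ | ⟨h, -⟩)
      · exact hc.2.2 h
      · exact hc'.2.2 h
  inv_mem' := by
    rintro _ ⟨c, hc, rfl⟩
    exact ⟨c, hc, signAut_inv c hc.1⟩

theorem signAut_fix_leechU {c : Finset GolayPt} (hc : C0 c) :
    signAut c hc.1 • Cfsg.Spor.leechU = Cfsg.Spor.leechU := by
  apply Subtype.ext
  funext k
  show signFun c Cfsg.Spor.vecU k = Cfsg.Spor.vecU k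
  rw [signFun_apply]
  by_cases hk : k ∈ c
  · have h1 : k ≠ none := fun h => hc.2.1 (h ▸ hk)
    have h0 : k ≠ some 0 := fun h => hc.2.2 (h ▸ hk)
    rw [if_pos hk]
    unfold Cfsg.Spor.vecU
    rw [if_neg (by push Not; exact ⟨h1, h0⟩)]
    rfl
  · rw [if_neg hk]

theorem cEx_C0 : C0 (Cfsg.Agent.Helper7.setOf 0x49f002) :=
  ⟨setOf_basis_mem (by decide), by decide, by decide⟩

theorem cEx_ne : Cfsg.Agent.Helper7.setOf 0x49f002 ≠ ∅ := by decide

theorem C0_smul {σ : Equiv.Perm GolayPt} (hσ : σ ∈ M24) (s1 : σ none = none)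
    (s2 : σ (some 0) = some 0) {c : Finset GolayPt} (hc : C0 c) : C0 (σ • c) := by
  refine ⟨smul_mem_supports hσ hc.1, ?_, ?_⟩
  · rw [← s1, apply_mem_smul_iff]
    exact hc.2.1
  · rw [← s2, apply_mem_smul_iff]
    exact hc.2.2

/-- **Normal elementary abelian 2-subgroups of the stabiliser of `(4,4,0^22)`** consist of sign
changes on code words avoiding `∞` and `0`. -/
theorem sign_of_normal_elementary (R : Subgroup Co0)
    (hfix : ∀ γ ∈ R, γ • Cfsg.Spor.leechU = Cfsg.Spor.leechU)
    (hnorm : ∀ σ : Co0, σ • Cfsg.Spor.leechU = Cfsg.Spor.leechU → ∀ γ ∈ R, σ * γ * σ⁻¹ ∈ R)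
    (hsq : ∀ γ ∈ R, γ * γ = 1) (hcomm : ∀ γ ∈ R, ∀ γ' ∈ R, γ * γ' = γ' * γ) :
    ∀ γ ∈ R, ∃ c, ∃ hc : C0 c, γ = signAut c hc.1 := by
  intro γ₁ hγ₁
  by_cases h1 : γ₁ = 1
  · exact ⟨∅, ⟨supports_empty, Finset.notMem_empty _, Finset.notMem_empty _⟩,
      h1.trans signAut_empty.symm⟩
  obtain ⟨r₀, hr₀, hr₀1, hr₀c⟩ : ∃ r₀ ∈ R, r₀ ≠ 1 ∧
      ∀ c (hc : C0 c), r₀ * signAut c hc.1 = signAut c hc.1 * r₀ := by
    have : Fact (Nat.Prime 2) := ⟨Nat.prime_two⟩
    have hA2 : IsPGroup 2 ↥signSub := by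
      rintro ⟨a, c, hc, rfl⟩
      refine ⟨1, Subtype.ext ?_⟩
      show (signAut c hc.1) ^ 2 ^ 1 = 1
      rw [pow_one, pow_two]
      exact signAut_mul_self c hc.1
    let act : MulAction ↥signSub ↥R :=
      { smul := fun a r => ⟨(a : Co0) * (r : Co0) * (a : Co0)⁻¹,
          hnorm a.1 (by
            obtain ⟨c, hc, h⟩ := a.2
            rw [h]
            exact signAut_fix_leechU hc) r.1 r.2⟩
        one_smul := fun r => Subtype.ext (by
          show (1 : Co0) * (r : Co0) * (1 : Co0)⁻¹ = r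
          group)
        mul_smul := fun a b r => Subtype.ext (by
          show ((a : Co0) * (b : Co0)) * (r : Co0) * ((a : Co0) * (b : Co0))⁻¹ =
            (a : Co0) * ((b : Co0) * (r : Co0) * (b : Co0)⁻¹) * (a : Co0)⁻¹
          group) }
    have hdvd : 2 ∣ Nat.card ↥R := by
      have ho : orderOf (⟨γ₁, hγ₁⟩ : ↥R) = 2 := by
        apply orderOf_eq_prime
        · rw [pow_two]
          exact Subtype.ext (hsq γ₁ hγ₁)
        · intro h
          exact h1 (congrArg Subtype.val h)
      rw [← ho]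
      exact orderOf_dvd_natCard _
    have hfp : (1 : ↥R) ∈ MulAction.fixedPoints ↥signSub ↥R := by
      intro a
      apply Subtype.ext
      show (a : Co0) * (1 : Co0) * (a : Co0)⁻¹ = 1
      group
    obtain ⟨b, hb, hb1⟩ := hA2.exists_fixed_point_of_prime_dvd_card_of_fixed_point ↥R hdvd hfp
    refine ⟨b.1, b.2, fun h => hb1 (Subtype.ext h.symm), ?_⟩
    intro c hc
    have hb' := hb ⟨signAut c hc.1, c, hc, rfl⟩
    have h2 : signAut c hc.1 * (b : Co0) * (signAut c hc.1)⁻¹ = b := congrArg Subtype.val hb'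
    calc (b : Co0) * signAut c hc.1
        = (signAut c hc.1 * (b : Co0) * (signAut c hc.1)⁻¹) * signAut c hc.1 := by rw [h2]
      _ = signAut c hc.1 * b := by group
  obtain ⟨c₁, hc₁, hr₀eq⟩ := centralizer_lemma C0 (fun c hc => hc)
    (fun σ hσ s1 s2 c hc => C0_smul hσ s1 s2 hc) cEx_C0 cEx_ne r₀ (hfix r₀ hr₀)
    (fun c hc => hr₀c c hc)
  have hc₁ne : c₁ ≠ ∅ := by
    rintro rfl
    exact hr₀1 (hr₀eq.trans signAut_empty)
  have hBinv : ∀ σ ∈ M24, σ none = none → σ (some 0) = some 0 → ∀ c,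
      (∃ hc : C0 c, signAut c hc.1 ∈ R) → ∃ hc : C0 (σ • c), signAut (σ • c) hc.1 ∈ R := by
    rintro σ hσ s1 s2 c ⟨hc, hcR⟩
    refine ⟨C0_smul hσ s1 s2 hc, ?_⟩
    have hu : permAut σ hσ • Cfsg.Spor.leechU = Cfsg.Spor.leechU := by
      rw [leechU_eq, permAut_P, s1, s2]
    have := hnorm _ hu _ hcR
    rw [permAut_conj_signAut] at this
    exact this
  exact centralizer_lemma (fun c => ∃ hc : C0 c, signAut c hc.1 ∈ R) (fun c hc => hc.1) hBinv
    (c₀ := c₁) ⟨hc₁, hr₀eq ▸ hr₀⟩ hc₁ne γ₁ (hfix γ₁ hγ₁) (fun c hc => hcomm γ₁ hγ₁ _ hc.2)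

/-- a normal elementary abelian 2-subgroup of the stabiliser of `(4,4,0^22)` has order at most
`2^10` -/
theorem card_le_of_normal_elementary (R : Subgroup Co0)
    (hfix : ∀ γ ∈ R, γ • Cfsg.Spor.leechU = Cfsg.Spor.leechU)
    (hnorm : ∀ σ : Co0, σ • Cfsg.Spor.leechU = Cfsg.Spor.leechU → ∀ γ ∈ R, σ * γ * σ⁻¹ ∈ R)
    (hsq : ∀ γ ∈ R, γ * γ = 1) (hcomm : ∀ γ ∈ R, ∀ γ' ∈ R, γ * γ' = γ' * γ) :
    Nat.card R ≤ 2 ^ 10 := by
  have key := sign_of_normal_elementary R hfix hnorm hsq hcomm
  choose f hf hf' using fun γ : ↥R => key γ.1 γ.2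
  have hinj : Function.Injective (fun γ : ↥R => (⟨f γ, hf γ⟩ : {c : Finset GolayPt // C0 c})) := by
    intro γ γ' h
    have h' : f γ = f γ' := congrArg Subtype.val h
    apply Subtype.ext
    rw [hf' γ, hf' γ']
    exact signAut_congr h' _ _
  calc Nat.card R ≤ Nat.card {c : Finset GolayPt // C0 c} := Nat.card_le_card_of_injective _ hinj
    _ ≤ 1024 := card_C0_le
    _ = 2 ^ 10 := by norm_num

end Cfsg.Agent.Helper92
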