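import Cfsg.Agent.Helper92.MonsterType
import Cfsg.Agent.Helper92.LeechStabU
import Cfsg.Agent.Helper48.Extraspecial2

/-!
# Groups of Monster type: the conjugates of `z` in `Q` are of type 4

* `MSettingF`: the elementwise setting together with faithfulness of `C / Q` on `Q / Z(Q)`.
* `MSetting.Ind`: a lattice automorphism induced by conjugation with an element of `C_G(z)`.
* `MSettingF.no_type2`: no conjugate of `z` in `Q` represents the vector `(4,4,0^22)`.
* `MSettingF.conj_type4`: a conjugate of `z` in `Q` other than `z` represents a vector in the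
  orbit of `(8,0^23)` modulo twice the lattice.
-/

set_option autoImplicit false

namespace Cfsg.Agent.Helper92

open Cfsg

/-- the elementwise setting with faithfulness: an element of `C_G(z)` inducing the identity on
`Q / Z(Q)` lies in `Q` -/
structure MSettingF {G : Type*} [Group G] (z : G) (QG : Subgroup G)
    (Rep : leechLattice → G → Prop) : Prop where
  toM : MSetting z QG Rep
  faith : ∀ h : G, h * z = z * h → (∀ v x, Rep v x → Rep v (h * x * h⁻¹)) → h ∈ QG

theorem msettingF_of_iso {G : Type*} [Group G] [Finite G] (z : G)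
    (Q : Subgroup (Subgroup.centralizer ({z} : Set G))) [Q.Normal]
    (hS : Cfsg.IsExtraspecialCentralizerSetting z Q 12)
    (e : (Subgroup.centralizer ({z} : Set G)) ⧸ Q ≃* Cfsg.Spor.Co1)
    (ψ : leechLattice → Q ⧸ Subgroup.center Q) (hψ : Cfsg.IsLeechModTwoIso Q e ψ) :
    MSettingF z (Q.map (Subgroup.centralizer ({z} : Set G)).subtype) (RepOf Q ψ) := by
  refine ⟨msetting_of_iso z Q hS e ψ hψ, ?_⟩
  obtain ⟨h1, h2, h3, h4⟩ := hψ
  intro h hh hall
  have hC : h ∈ Subgroup.centralizer ({z} : Set G) := by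
    rw [Subgroup.mem_centralizer_iff]
    intro y hy
    rw [Set.mem_singleton_iff.1 hy]
    exact hh.symm
  obtain ⟨γ, hγ⟩ := QuotientGroup.mk_surjective
    (e (QuotientGroup.mk (⟨h, hC⟩ : Subgroup.centralizer ({z} : Set G))))
  have hψ0 : ψ 0 = 1 := (h3 0).2 ⟨0, by simp⟩
  have hcong : ∀ v : leechLattice, Cong (γ • v) v := by
    intro v
    obtain ⟨q, hq⟩ := QuotientGroup.mk_surjective (ψ v)
    have h5 := h4 ⟨h, hC⟩ γ hγ v q hq.symm
    have h6 : RepOf Q ψ v ((q : Subgroup.centralizer ({z} : Set G)) : G) :=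
      ⟨(q : Subgroup.centralizer ({z} : Set G)).2, q.2, hq.symm⟩
    obtain ⟨hx, hq', h7⟩ := hall v _ h6
    have h8 : ψ (γ • v) = ψ v := h5.trans h7.symm
    have h9 : ψ (γ • v + -v) = 1 := by
      rw [h1, h8, ← h1, add_neg_cancel, hψ0]
    obtain ⟨w, hw⟩ := (h3 _).1 h9
    exact ⟨w, by rw [← hw]; abel⟩
  have hmk : (QuotientGroup.mk γ : Cfsg.Spor.Co1) = 1 := by
    rw [QuotientGroup.eq_one_iff]
    rcases eq_one_or_neg_of_trivial_mod_two hcong with hγ1 | hγ1
    · rw [hγ1]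
      exact Subgroup.one_mem _
    · rw [hγ1]
      exact negAut_mem_center
  rw [hmk] at hγ
  have h10 : (QuotientGroup.mk (⟨h, hC⟩ : Subgroup.centralizer ({z} : Set G)) :
      (Subgroup.centralizer ({z} : Set G)) ⧸ Q) = 1 := (MulEquiv.map_eq_one_iff e).1 hγ.symm
  rw [QuotientGroup.eq_one_iff] at h10
  exact ⟨⟨h, hC⟩, h10, rfl⟩

theorem exists_msettingF {G : Type*} [Group G] [Finite G] (z : G)
    (Q : Subgroup (Subgroup.centralizer ({z} : Set G))) [Q.Normal]
    (hM : Cfsg.IsOfMonsterType z Q) :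
    ∃ Rep : leechLattice → G → Prop,
      MSettingF z (Q.map (Subgroup.centralizer ({z} : Set G)).subtype) Rep := by
  obtain ⟨hS, e, ψ, hψ⟩ := hM
  exact ⟨RepOf Q ψ, msettingF_of_iso z Q hS e ψ hψ⟩

namespace MSetting

variable {G : Type*} [Group G] {z : G} {QG : Subgroup G} {Rep : leechLattice → G → Prop}

/-- the automorphism `γ` of the lattice is induced by conjugation with `h` -/
def Ind (Rep : leechLattice → G → Prop) (z : G) (γ : Co0) (h : G) : Prop :=
  h * z = z * h ∧ ∀ v x, Rep v x → Rep (γ • v) (h * x * h⁻¹)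

theorem ind_one : Ind Rep z 1 1 := by
  refine ⟨by group, fun v x h => ?_⟩
  have e : (1 : G) * x * 1⁻¹ = x := by group
  rw [one_smul, e]
  exact h

theorem ind_mul {γ γ' : Co0} {h h' : G} (a : Ind Rep z γ h) (b : Ind Rep z γ' h') :
    Ind Rep z (γ * γ') (h * h') := by
  refine ⟨?_, fun v x hx => ?_⟩
  · calc h * h' * z = h * (h' * z) := by group
      _ = h * (z * h') := by rw [b.1]
      _ = (h * z) * h' := by group
      _ = (z * h) * h' := by rw [a.1]
      _ = z * (h * h') := by group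
  · have := a.2 _ _ (b.2 _ _ hx)
    have e : h * h' * x * (h * h')⁻¹ = h * (h' * x * h'⁻¹) * h⁻¹ := by group
    rw [mul_smul, e]
    exact this

theorem rep_inj (M : MSetting z QG Rep) {v v' : leechLattice} {x : G} (h : Rep v x)
    (h' : Rep v' x) : Cong v v' := by
  obtain ⟨y, hy⟩ := M.ex (-v')
  have h0 := M.mul _ _ _ _ h' hy
  rw [add_neg_cancel] at h0
  have hxy := (M.ker _ _ h0).2 ⟨0, by simp⟩
  have h1 := M.mul _ _ _ _ h hy
  obtain ⟨w, hw⟩ := (M.ker _ _ h1).1 hxy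
  exact ⟨w, by rw [← hw]; abel⟩

theorem ind_inv (M : MSetting z QG Rep) {γ : Co0} {h : G} (a : Ind Rep z γ h) :
    Ind Rep z γ⁻¹ h⁻¹ := by
  have hz' : h⁻¹ * z = z * h⁻¹ := by
    calc h⁻¹ * z = h⁻¹ * (z * h) * h⁻¹ := by group
      _ = h⁻¹ * (h * z) * h⁻¹ := by rw [a.1]
      _ = z * h⁻¹ := by group
  refine ⟨hz', fun w y hy => ?_⟩
  have hyQ := M.mem _ _ hy
  have hxQ : h⁻¹ * y * h ∈ QG := M.les.norm' h a.1 y hyQ
  obtain ⟨v', hv'⟩ := M.surj _ hxQ
  have h1 := a.2 _ _ hv'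
  have e : h * (h⁻¹ * y * h) * h⁻¹ = y := by group
  rw [e] at h1
  have hc := (M.rep_inj h1 hy).smul γ⁻¹
  rw [inv_smul_smul] at hc
  have := M.rep_cong hv' hc
  rw [inv_inv]
  exact this

theorem ind_neg (M : MSetting z QG Rep) : Ind Rep z negAut 1 := by
  refine ⟨by group, fun v x hx => ?_⟩
  have e : (1 : G) * x * 1⁻¹ = x := by group
  rw [negAut_smul, e]
  exact M.rep_cong hx (Cong.neg_self v).symm

theorem cong_of_ind_mem (M : MSetting z QG Rep) {γ : Co0} {q : G} (hq : q ∈ QG)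
    (a : Ind Rep z γ q) (v : leechLattice) : Cong (γ • v) v := by
  obtain ⟨x, hx⟩ := M.ex v
  have h1 := a.2 _ _ hx
  have hxQ := M.mem _ _ hx
  rcases M.les.comm q hq x hxQ with h2 | h2
  · have e : q * x * q⁻¹ = x := by
      calc q * x * q⁻¹ = q * x * q⁻¹ * x⁻¹ * x := by group
        _ = x := by rw [h2, one_mul]
    rw [e] at h1
    exact M.rep_inj h1 hx
  · have e : q * x * q⁻¹ = x * z := by
      calc q * x * q⁻¹ = q * x * q⁻¹ * x⁻¹ * x := by group
        _ = z * x := by rw [h2]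
        _ = x * z := (M.zcomm hxQ).symm
    rw [e] at h1
    have h3 := M.mulz _ _ h1
    have e2 : x * z * z = x := by rw [mul_assoc, M.zsq, mul_one]
    rw [e2] at h3
    exact M.rep_inj h3 hx

theorem ind_mem (M : MSetting z QG Rep) {γ : Co0} {q : G} (hq : q ∈ QG) (a : Ind Rep z γ q) :
    γ = 1 ∨ γ = negAut :=
  eq_one_or_neg_of_trivial_mod_two (M.cong_of_ind_mem hq a)

end MSetting

theorem eq_or_neg_of_cong32 {a b : leechLattice} (h : Cong a b)
    (ha : sqNorm (a : GolayPt → ℤ) = 32) (hb : sqNorm (b : GolayPt → ℤ) = 32) :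
    a = b ∨ a = -b := by
  obtain ⟨w, hw⟩ := h
  have hd : (a : GolayPt → ℤ) - (b : GolayPt → ℤ) = (2 : ℤ) • (w : GolayPt → ℤ) := by
    rw [hw, two_smul]
    show (b : GolayPt → ℤ) + ((w : GolayPt → ℤ) + (w : GolayPt → ℤ)) - (b : GolayPt → ℤ) = _
    abel
  rcases leech_congr_two b.2 w.2 hd (by rw [ha]; norm_num) (by rw [hb]; norm_num)
    with h1 | h1 | h1
  · left
    exact Subtype.ext h1.symm
  · right
    apply Subtype.ext
    show (a : GolayPt → ℤ) = -(b : GolayPt → ℤ)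
    rw [h1, neg_neg]
  · rw [ha] at h1
    omega

theorem negAut_leechU_ne : negAut • Cfsg.Spor.leechU ≠ Cfsg.Spor.leechU := by
  intro h
  have h1 := congrFun (congrArg Subtype.val h) none
  revert h1
  decide

theorem conj_neg_central (σ γ : Co0) {γq : Co0} (h : γq = 1 ∨ γq = negAut) :
    (γq * σ) * γ * (γq * σ)⁻¹ = σ * γ * σ⁻¹ := by
  rcases h with h | h
  · rw [h, one_mul]
  · rw [h]
    calc (negAut * σ) * γ * (negAut * σ)⁻¹ = negAut * (σ * γ * σ⁻¹) * negAut⁻¹ := by group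
      _ = (σ * γ * σ⁻¹) * negAut * negAut⁻¹ := by rw [negAut_comm]
      _ = σ * γ * σ⁻¹ := by group

/-- an abelian subgroup of a group of order `2^25` with central commutators and centre of order 2
has order at most `2^13` -/
theorem card_abelian_le {E : Type*} [Group E] [Finite E]
    (hc : ∀ x y : E, x * y * x⁻¹ * y⁻¹ ∈ Subgroup.center E)
    (h2 : Nat.card (Subgroup.center E) = 2) (hcard : Nat.card E = 2 ^ 25) (B : Subgroup E)
    (hB : ∀ x ∈ B, ∀ y ∈ B, x * y = y * x) : Nat.card B ≤ 2 ^ 13 := by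
  have hcnt := Cfsg.Agent.Helper48.card_centralizer_mul_card hc h2 B
  have hle : B ≤ Subgroup.centralizer (B : Set E) := by
    intro x hx
    rw [Subgroup.mem_centralizer_iff]
    intro y hy
    exact hB y hy x hx
  have h1 := Subgroup.card_le_of_le hle
  have hinj : Nat.card {b : B // (b : E) ∈ Subgroup.center E} ≤ Nat.card (Subgroup.center E) := by
    apply Nat.card_le_card_of_injective
      (fun b : {b : B // (b : E) ∈ Subgroup.center E} => (⟨(b.1 : E), b.2⟩ : Subgroup.center E))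
    intro b b' h
    have h0 : (⟨((b.1 : B) : E), b.2⟩ : Subgroup.center E) = ⟨((b'.1 : B) : E), b'.2⟩ := h
    have h' : ((b.1 : B) : E) = ((b'.1 : B) : E) :=
      congrArg (fun t : Subgroup.center E => (t : E)) h0
    exact Subtype.ext (Subtype.ext h')
  rw [h2] at hinj
  rw [hcard] at hcnt
  have h3 : Nat.card B * Nat.card B ≤ 2 * 2 ^ 25 := by
    calc Nat.card B * Nat.card B ≤ Nat.card (Subgroup.centralizer (B : Set E)) * Nat.card B :=
          Nat.mul_le_mul_right _ h1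
      _ = Nat.card {b : B // (b : E) ∈ Subgroup.center E} * 2 ^ 25 := hcnt
      _ ≤ 2 * 2 ^ 25 := Nat.mul_le_mul_right _ hinj
  by_contra hlt
  push Not at hlt
  have h4 : 2 ^ 13 + 1 ≤ Nat.card B := hlt
  have h5 : (2 ^ 13 + 1) * (2 ^ 13 + 1) ≤ Nat.card B * Nat.card B := Nat.mul_le_mul h4 h4
  norm_num at h3 h5
  omega

theorem mem_centralizer_singleton_iff {G : Type*} [Group G] (z x : G) :
    x ∈ Subgroup.centralizer ({z} : Set G) ↔ x * z = z * x := by
  rw [Subgroup.mem_centralizer_iff]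
  constructor
  · intro h
    exact (h z rfl).symm
  · intro h y hy
    rw [Set.mem_singleton_iff.1 hy]
    exact h.symm

/-- **No conjugate of `z` in `Q` represents the vector `(4,4,0^22)`.** -/
theorem MSettingF.no_type2 {G : Type*} [Group G] [Finite G] {z : G} {QG : Subgroup G}
    {Rep : leechLattice → G → Prop} (MF : MSettingF z QG Rep) (g : G)
    (hgQ : g * z * g⁻¹ ∈ QG) (hgz : g * z * g⁻¹ ≠ z)
    (hrep : Rep Cfsg.Spor.leechU (g * z * g⁻¹)) : False := by
  have M := MF.toM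
  have hc8 : 8 < Nat.card ↥QG := by
    rw [M.card]
    norm_num
  have hP := Cfsg.Agent.Helper90.pair_of_les M.les hc8 g hgQ hgz
  generalize hs : g * z * g⁻¹ = s at hgQ hgz hrep hP
  generalize hQ1 : QG.map (MulAut.conj g).toMonoidHom = Q1 at hP
  have hcardQ1 : Nat.card ↥Q1 = 2 ^ 25 := by
    rw [← hQ1, Subgroup.card_map_of_injective (MulAut.conj g).injective, M.card]
  have hzs : z * s = s * z := hP.ab_comm
  have hs1 : s ≠ 1 := hP.b_ne_one
  have hfixK : ∀ γ : Co0, γ • Cfsg.Spor.leechU = Cfsg.Spor.leechU → (γ = 1 ∨ γ = negAut) →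
      γ = 1 := by
    intro γ hγ h
    rcases h with h | h
    · exact h
    · rw [h] at hγ
      exact absurd hγ negAut_leechU_ne
  -- the subgroup `R`
  let R : Subgroup Co0 :=
    { carrier := {γ | γ • Cfsg.Spor.leechU = Cfsg.Spor.leechU ∧
        ∃ d ∈ Q1, MSetting.Ind Rep z γ d}
      one_mem' := ⟨one_smul _ _, 1, Q1.one_mem, MSetting.ind_one⟩
      mul_mem' := by
        rintro γ γ' ⟨h1, d, hd, hi⟩ ⟨h1', d', hd', hi'⟩
        exact ⟨by rw [mul_smul, h1', h1], d * d', Q1.mul_mem hd hd', MSetting.ind_mul hi hi'⟩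
      inv_mem' := by
        rintro γ ⟨h1, d, hd, hi⟩
        exact ⟨by rw [inv_smul_eq_iff, h1], d⁻¹, Q1.inv_mem hd, M.ind_inv hi⟩ }
  have hRmem : ∀ γ : Co0, γ ∈ R ↔ (γ • Cfsg.Spor.leechU = Cfsg.Spor.leechU ∧
      ∃ d ∈ Q1, MSetting.Ind Rep z γ d) := fun γ => Iff.rfl
  have hfix : ∀ γ ∈ R, γ • Cfsg.Spor.leechU = Cfsg.Spor.leechU := fun γ hγ => hγ.1
  have hsq : ∀ γ ∈ R, γ * γ = 1 := by
    rintro γ ⟨h1, d, hd, hi⟩
    have hdd : d * d ∈ QG := by
      rcases hP.hQ1.sq_mem hd with h | h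
      · rw [h]
        exact QG.one_mem
      · rw [h]
        exact hgQ
    exact hfixK _ (by rw [mul_smul, h1, h1]) (M.ind_mem hdd (MSetting.ind_mul hi hi))
  have hcomm : ∀ γ ∈ R, ∀ γ' ∈ R, γ * γ' = γ' * γ := by
    rintro γ ⟨h1, d, hd, hi⟩ γ' ⟨h1', d', hd', hi'⟩
    have hdd : d * d' * d⁻¹ * d'⁻¹ ∈ QG := by
      rcases hP.hQ1.comm d hd d' hd' with h | h
      · rw [h]
        exact QG.one_mem
      · rw [h]
        exact hgQ
    have hi2 := MSetting.ind_mul (MSetting.ind_mul (MSetting.ind_mul hi hi') (M.ind_inv hi))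
      (M.ind_inv hi')
    have h3 : (γ * γ' * γ⁻¹ * γ'⁻¹) • Cfsg.Spor.leechU = Cfsg.Spor.leechU := by
      rw [mul_smul, mul_smul, mul_smul, inv_smul_eq_iff.2 h1'.symm, inv_smul_eq_iff.2 h1.symm,
        h1', h1]
    have h4 := hfixK _ h3 (M.ind_mem hdd hi2)
    calc γ * γ' = (γ * γ' * γ⁻¹ * γ'⁻¹) * (γ' * γ) := by group
      _ = γ' * γ := by rw [h4, one_mul]
  have conjR : ∀ (σ' : Co0) (h' : G), MSetting.Ind Rep z σ' h' → h' * s * h'⁻¹ = s →
      ∀ γ : Co0, (∃ d ∈ Q1, MSetting.Ind Rep z γ d) →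
      ∃ d ∈ Q1, MSetting.Ind Rep z (σ' * γ * σ'⁻¹) d := by
    rintro σ' h' hi' hh' γ ⟨d, hd, hi⟩
    have hh's : h' * s = s * h' := by
      calc h' * s = (h' * s * h'⁻¹) * h' := by group
        _ = s * h' := by rw [hh']
    exact ⟨h' * d * h'⁻¹, hP.hQ1.norm h' hh's d hd,
      MSetting.ind_mul (MSetting.ind_mul hi' hi) (M.ind_inv hi')⟩
  have hnorm : ∀ σ : Co0, σ • Cfsg.Spor.leechU = Cfsg.Spor.leechU → ∀ γ ∈ R,
      σ * γ * σ⁻¹ ∈ R := by
    rintro σ hσ γ ⟨h1, hex⟩
    rw [hRmem]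
    refine ⟨by rw [mul_smul, mul_smul, inv_smul_eq_iff.2 hσ.symm, h1, hσ], ?_⟩
    obtain ⟨h, hi⟩ := M.act σ
    have h2 := hi.2 _ _ hrep
    rw [hσ] at h2
    rcases M.uniq _ _ _ hrep h2 with h3 | h3
    · exact conjR σ h hi h3 γ hex
    · have hbQ : s * z ∈ QG := QG.mul_mem hgQ M.les.mem
      have hb1 : s * z ≠ 1 := by
        intro h4
        apply hgz
        calc s = s * z * z⁻¹ := by group
          _ = z := by rw [h4, one_mul, M.les.inv_eq]
      have hbz : s * z ≠ z := by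
        intro h4
        apply hs1
        calc s = s * z * z⁻¹ := by group
          _ = 1 := by rw [h4, mul_inv_cancel]
      obtain ⟨q, hq, hqb⟩ := M.les.exists_conj hbQ hb1 hbz
      have hqs : q * h * s * (q * h)⁻¹ = s := by
        calc q * h * s * (q * h)⁻¹ = q * (h * s * h⁻¹) * q⁻¹ := by group
          _ = z * (s * z) := by rw [h3, hqb]
          _ = (z * s) * z := by group
          _ = (s * z) * z := by rw [hzs]
          _ = s * (z * z) := by group
          _ = s := by rw [M.zsq, mul_one]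
      obtain ⟨γq, hγq⟩ := M.act' q (M.zcomm hq)
      have hiq : MSetting.Ind Rep z γq q := ⟨M.zcomm hq, hγq⟩
      have h5 := conjR (γq * σ) (q * h) (MSetting.ind_mul hiq hi) hqs γ hex
      rw [conj_neg_central σ γ (M.ind_mem hq hiq)] at h5
      exact h5
  have hsign := sign_of_normal_elementary R hfix hnorm hsq hcomm
  -- every element of `D = C_{Q1}(z)` induces a sign change
  have hD : ∀ d : ↥(Q1 ⊓ Subgroup.centralizer ({z} : Set G)),
      ∃ c : {c : Finset GolayPt // C0 c}, MSetting.Ind Rep z (signAut c.1 c.2.1) (d : G) := by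
    rintro ⟨d, hdQ, hdC⟩
    have hdz : d * z = z * d := (mem_centralizer_singleton_iff z d).1 hdC
    obtain ⟨γ, hγ⟩ := M.act' d hdz
    have hi : MSetting.Ind Rep z γ d := ⟨hdz, hγ⟩
    have h2 := hγ _ _ hrep
    have e : d * s * d⁻¹ = s := by
      rw [hP.hQ1.central d hdQ]
      group
    rw [e] at h2
    have hc := M.rep_inj h2 hrep
    have hmemR : ∃ γ' ∈ R, MSetting.Ind Rep z γ' d := by
      rcases eq_or_neg_of_cong32 hc (by rw [co0_sqNorm, sqNorm_leechU]) sqNorm_leechU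
        with h3 | h3
      · exact ⟨γ, ⟨h3, d, hdQ, hi⟩, hi⟩
      · have hi' : MSetting.Ind Rep z (negAut * γ) d := by
          have := MSetting.ind_mul M.ind_neg hi
          rwa [one_mul] at this
        refine ⟨negAut * γ, ⟨?_, d, hdQ, hi'⟩, hi'⟩
        rw [mul_smul, h3, negAut_smul, neg_neg]
    obtain ⟨γ', hγ'R, hi'⟩ := hmemR
    obtain ⟨c, hc0, rfl⟩ := hsign γ' hγ'R
    exact ⟨⟨c, hc0⟩, hi'⟩
  choose κ hκ using hD
  have hfib : ∀ d d' : ↥(Q1 ⊓ Subgroup.centralizer ({z} : Set G)), κ d = κ d' →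
      (d : G)⁻¹ * (d' : G) ∈ QG ⊓ Q1 := by
    intro d d' h
    have i1 := hκ d
    have i2 := hκ d'
    rw [← h] at i2
    have i3 := MSetting.ind_mul (M.ind_inv i1) i2
    rw [inv_mul_cancel] at i3
    refine ⟨MF.faith _ i3.1 (fun v x hx => ?_), Q1.mul_mem (Q1.inv_mem d.2.1) d'.2.1⟩
    have := i3.2 v x hx
    rwa [one_smul] at this
  -- counting
  have hcount : Nat.card ↥(Q1 ⊓ Subgroup.centralizer ({z} : Set G)) ≤
      Nat.card {c : Finset GolayPt // C0 c} * Nat.card ↥(QG ⊓ Q1) := by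
    classical
    let τ : {c : Finset GolayPt // C0 c} → ↥(Q1 ⊓ Subgroup.centralizer ({z} : Set G)) :=
      fun c => if hc : ∃ d : ↥(Q1 ⊓ Subgroup.centralizer ({z} : Set G)), κ d = c
        then Classical.choose hc else 1
    have hτ : ∀ d : ↥(Q1 ⊓ Subgroup.centralizer ({z} : Set G)), κ (τ (κ d)) = κ d := by
      intro d
      have hc : ∃ d' : ↥(Q1 ⊓ Subgroup.centralizer ({z} : Set G)), κ d' = κ d := ⟨d, rfl⟩
      simp only [τ, dif_pos hc]
      exact Classical.choose_spec hc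
    let Φ : ↥(Q1 ⊓ Subgroup.centralizer ({z} : Set G)) →
        {c : Finset GolayPt // C0 c} × ↥(QG ⊓ Q1) :=
      fun d => (κ d, ⟨((τ (κ d) : ↥(Q1 ⊓ Subgroup.centralizer ({z} : Set G))) : G)⁻¹ * (d : G),
        hfib (τ (κ d)) d (hτ d)⟩)
    have hinj : Function.Injective Φ := by
      intro d d' h
      have h1 : κ d = κ d' := congrArg Prod.fst h
      have h2 : ((τ (κ d) : ↥(Q1 ⊓ Subgroup.centralizer ({z} : Set G))) : G)⁻¹ * (d : G) =
          ((τ (κ d') : ↥(Q1 ⊓ Subgroup.centralizer ({z} : Set G))) : G)⁻¹ * (d' : G) :=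
        congrArg (fun p : {c : Finset GolayPt // C0 c} × ↥(QG ⊓ Q1) => (p.2 : G)) h
      rw [h1] at h2
      exact Subtype.ext (mul_left_cancel h2)
    rw [← Nat.card_prod]
    exact Nat.card_le_card_of_injective Φ hinj
  have hE : Nat.card ↥(QG ⊓ Q1) ≤ 2 ^ 13 := by
    have hB := card_abelian_le (E := ↥QG)
      (fun x y => by
        have h1 := M.les.comm x x.2 y y.2
        have e : (x * y * x⁻¹ * y⁻¹ : ↥QG) =
            ⟨(x : G) * (y : G) * (x : G)⁻¹ * (y : G)⁻¹,
              QG.mul_mem (QG.mul_mem (QG.mul_mem x.2 y.2) (QG.inv_mem x.2)) (QG.inv_mem y.2)⟩ :=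
          rfl
        rw [e]
        exact M.les.mem_center_of h1 _)
      M.cardZ M.card ((QG ⊓ Q1).subgroupOf QG)
      (fun x hx y hy => by
        apply Subtype.ext
        exact hP.E_comm (Subgroup.mem_subgroupOf.1 hx) (Subgroup.mem_subgroupOf.1 hy))
    rw [Nat.card_congr (Subgroup.subgroupOfEquivOfLe (inf_le_left : QG ⊓ Q1 ≤ QG)).toEquiv] at hB
    exact hB
  have hDcard : 2 ^ 24 ≤ Nat.card ↥(Q1 ⊓ Subgroup.centralizer ({z} : Set G)) := by
    have hcov : ∃ y₀ : G, (Q1 : Set G) ⊆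
        ((Q1 ⊓ Subgroup.centralizer ({z} : Set G) : Subgroup G) : Set G) ∪
        (fun d => y₀ * d) '' ((Q1 ⊓ Subgroup.centralizer ({z} : Set G) : Subgroup G) : Set G) := by
      by_cases hall : ∀ y ∈ Q1, y * z = z * y
      · refine ⟨1, fun y hy => Or.inl ?_⟩
        exact ⟨hy, (mem_centralizer_singleton_iff z y).2 (hall y hy)⟩
      · push Not at hall
        obtain ⟨y₀, hy₀, hy₀z⟩ := hall
        refine ⟨y₀, fun y hy => ?_⟩
        by_cases hyz : y * z = z * y
        · exact Or.inl ⟨hy, (mem_centralizer_singleton_iff z y).2 hyz⟩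
        · right
          have h1 := hP.hQ1.comm_of_ne hy hP.aQ1 hyz
          have h2 := hP.hQ1.comm_of_ne hy₀ hP.aQ1 hy₀z
          have h3 : (y₀⁻¹ * y) * z = z * (y₀⁻¹ * y) := by
            calc (y₀⁻¹ * y) * z = y₀⁻¹ * (y * z * y⁻¹ * z⁻¹) * z * y := by group
              _ = y₀⁻¹ * (y₀ * z * y₀⁻¹ * z⁻¹) * z * y := by rw [h1, h2]
              _ = z * (y₀⁻¹ * y) := by group
          exact ⟨y₀⁻¹ * y, ⟨Q1.mul_mem (Q1.inv_mem hy₀) hy,
            (mem_centralizer_singleton_iff z _).2 h3⟩, by group⟩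
    obtain ⟨y₀, hcov⟩ := hcov
    have h1 := Set.ncard_le_ncard hcov (Set.toFinite _)
    have h2 := Set.ncard_union_le
      ((Q1 ⊓ Subgroup.centralizer ({z} : Set G) : Subgroup G) : Set G)
      ((fun d => y₀ * d) '' ((Q1 ⊓ Subgroup.centralizer ({z} : Set G) : Subgroup G) : Set G))
    rw [Set.ncard_image_of_injective _ (mul_right_injective y₀)] at h2
    have h3 : (Q1 : Set G).ncard = 2 ^ 25 := by
      rw [← hcardQ1]
      rfl
    have h4 : (((Q1 ⊓ Subgroup.centralizer ({z} : Set G) : Subgroup G) : Set G)).ncard =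
        Nat.card ↥(Q1 ⊓ Subgroup.centralizer ({z} : Set G)) := rfl
    rw [h3] at h1
    rw [h4] at h2
    omega
  have h6 := Nat.mul_le_mul card_C0_le hE
  have h7 := hDcard.trans (hcount.trans h6)
  norm_num at h7

/-- **Conjugates of `z` in `Q` are of type 4**: a conjugate of `z` in `Q` other than `z`
represents a vector in the orbit of `(8,0^23)` modulo twice the lattice. -/
theorem MSettingF.conj_type4 {G : Type*} [Group G] [Finite G] {z : G} {QG : Subgroup G}
    {Rep : leechLattice → G → Prop} (MF : MSettingF z QG Rep) (g : G)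
    (hgz : g * z * g⁻¹ ≠ z) {v : leechLattice}
    (hv : Rep v (g * z * g⁻¹)) : Orb v U4 := by
  have M := MF.toM
  have hg1 : g * z * g⁻¹ ≠ 1 := fun h => M.les.ne_one (conj_eq_one_iff.1 h)
  have hg2 : (g * z * g⁻¹) * (g * z * g⁻¹) = 1 := MSetting.conj_sq.2 M.zsq
  rcases M.cases_of_invol hv hg2 hg1 hgz with h | h
  · exfalso
    obtain ⟨γ₀, hγ₀⟩ := h
    obtain ⟨h₀, hh₀, hact⟩ := M.act γ₀
    have h1 := M.rep_cong (hact _ _ hv) hγ₀
    have e : h₀ * (g * z * g⁻¹) * h₀⁻¹ = (h₀ * g) * z * (h₀ * g)⁻¹ := by group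
    rw [e] at h1
    refine MF.no_type2 (h₀ * g) (M.mem _ _ h1) ?_ h1
    intro h2
    apply hgz
    have hh₀' : h₀⁻¹ * z * h₀ = z := by
      calc h₀⁻¹ * z * h₀ = h₀⁻¹ * (z * h₀) := by group
        _ = h₀⁻¹ * (h₀ * z) := by rw [hh₀]
        _ = z := by group
    calc g * z * g⁻¹ = h₀⁻¹ * ((h₀ * g) * z * (h₀ * g)⁻¹) * h₀ := by group
      _ = z := by rw [h2, hh₀']
  · exact h

end Cfsg.Agent.Helper92
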