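import Cfsg.Agent.Helper92.LeechNormal
import Cfsg.Agent.Helper92.MonsterConj

/-!
# The stabiliser of `(4,4,0^22)`: no normal 2-subgroup

* `stabU_normal_two_eq_bot`: a 2-subgroup of the automorphism group of the lattice that fixes
  `(4,4,0^22)` and is normalised by the whole stabiliser of that vector is trivial
  (`O_2(Co_2) = 1`).
* `co2_normal_two_eq_bot`: the same for normal subgroups of `Cfsg.Spor.Co2`.
-/

set_option autoImplicit false

namespace Cfsg.Agent.Helper92

open Cfsg Cfsg.Agent.Helper26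

open scoped Pointwise

theorem xi_P_none_zero : xi • P none (some 0) = P (some 1) (some 7) := by
  apply Subtype.ext
  apply xi_eq_of
  show ∀ p, xi2 (e4 none + e4 (some 0)) p = 2 * (e4 (some 1) + e4 (some 7)) p
  decide

theorem xi_P_one_one : xi • P (some 1) (some 1) = Q0 - P (some 1) (some 1) := by
  apply Subtype.ext
  apply xi_eq_of
  show ∀ p, xi2 (e4 (some 1) + e4 (some 1)) p =
    2 * ((e4 none + e4 (some 0) + (e4 (some 1) + e4 (some 7))) - (e4 (some 1) + e4 (some 1))) p
  decide

theorem co0_sub (g : Co0) (u v : leechLattice) : g • (u - v) = g • u - g • v := by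
  rw [sub_eq_add_neg, co0_add, co0_neg, ← sub_eq_add_neg]

/-- **`O_2` of the stabiliser of `(4,4,0^22)` is trivial.** -/
theorem stabU_normal_two_eq_bot (R : Subgroup Co0)
    (hfix : ∀ γ ∈ R, γ • Cfsg.Spor.leechU = Cfsg.Spor.leechU)
    (hnorm : ∀ σ : Co0, σ • Cfsg.Spor.leechU = Cfsg.Spor.leechU → ∀ γ ∈ R, σ * γ * σ⁻¹ ∈ R)
    (hp : IsPGroup 2 R) : R = ⊥ := by
  by_contra hne
  have : Finite Co0 := finite_co0
  have : Fact (Nat.Prime 2) := ⟨Nat.prime_two⟩
  have : Nontrivial R := (Subgroup.nontrivial_iff_ne_bot R).2 hne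
  have : Nontrivial (Subgroup.center R) := hp.center_nontrivial
  -- an involution in the centre
  obtain ⟨a₁, ha₁⟩ : ∃ a : Subgroup.center R, orderOf a = 2 := by
    rcases (hp.to_subgroup (Subgroup.center R)).card_eq_or_dvd with h | h
    · exact absurd h (Finite.one_lt_card (α := Subgroup.center R)).ne'
    · exact exists_prime_orderOf_dvd_card' 2 h
  have ha₁1 : (a₁ : R) ≠ 1 := by
    intro h
    have : a₁ = 1 := Subtype.ext h
    rw [this, orderOf_one] at ha₁
    norm_num at ha₁
  have ha₁sq : ((a₁ : R) : Co0) * ((a₁ : R) : Co0) = 1 := by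
    have h := pow_orderOf_eq_one a₁
    rw [ha₁, pow_two] at h
    have h2 : ((a₁ * a₁ : Subgroup.center R) : R) = 1 := congrArg Subtype.val h
    exact congrArg Subtype.val h2
  have ha₁c : ∀ r ∈ R, ((a₁ : R) : Co0) * r = r * ((a₁ : R) : Co0) := by
    intro r hr
    have h := Subgroup.mem_center_iff.1 a₁.2 ⟨r, hr⟩
    exact (congrArg Subtype.val h).symm
  -- the subgroup of central elements of order at most 2
  let A : Subgroup Co0 :=
    { carrier := {γ | γ ∈ R ∧ (∀ r ∈ R, γ * r = r * γ) ∧ γ * γ = 1}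
      one_mem' := ⟨R.one_mem, fun r _ => by rw [one_mul, mul_one], one_mul 1⟩
      mul_mem' := by
        rintro γ γ' ⟨h1, h2, h3⟩ ⟨h1', h2', h3'⟩
        refine ⟨R.mul_mem h1 h1', ?_, ?_⟩
        · intro r hr
          rw [mul_assoc, h2' r hr, ← mul_assoc, h2 r hr, mul_assoc]
        · calc γ * γ' * (γ * γ') = γ * (γ' * γ) * γ' := by group
            _ = γ * (γ * γ') * γ' := by rw [h2 γ' h1']
            _ = (γ * γ) * (γ' * γ') := by group
            _ = 1 := by rw [h3, h3', one_mul]
      inv_mem' := by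
        rintro γ ⟨h1, h2, h3⟩
        refine ⟨R.inv_mem h1, ?_, ?_⟩
        · intro r hr
          have := h2 r hr
          calc γ⁻¹ * r = γ⁻¹ * (r * γ) * γ⁻¹ := by group
            _ = γ⁻¹ * (γ * r) * γ⁻¹ := by rw [this]
            _ = r * γ⁻¹ := by group
        · calc γ⁻¹ * γ⁻¹ = (γ * γ)⁻¹ := by group
            _ = 1 := by rw [h3, inv_one] }
  have hA : ∀ γ, γ ∈ A ↔ γ ∈ R ∧ (∀ r ∈ R, γ * r = r * γ) ∧ γ * γ = 1 := fun γ => Iff.rfl
  have hAfix : ∀ γ ∈ A, γ • Cfsg.Spor.leechU = Cfsg.Spor.leechU := fun γ hγ => hfix γ hγ.1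
  have hAnorm : ∀ σ : Co0, σ • Cfsg.Spor.leechU = Cfsg.Spor.leechU →
      ∀ γ ∈ A, σ * γ * σ⁻¹ ∈ A := by
    rintro σ hσ γ ⟨h1, h2, h3⟩
    have hσ' : σ⁻¹ • Cfsg.Spor.leechU = Cfsg.Spor.leechU := by
      rw [inv_smul_eq_iff, hσ]
    refine ⟨hnorm σ hσ γ h1, ?_, ?_⟩
    · intro r hr
      have h4 := hnorm σ⁻¹ hσ' r hr
      rw [inv_inv] at h4
      have h5 := h2 _ h4
      calc σ * γ * σ⁻¹ * r = σ * (γ * (σ⁻¹ * r * σ)) * σ⁻¹ := by group
        _ = σ * ((σ⁻¹ * r * σ) * γ) * σ⁻¹ := by rw [h5]
        _ = r * (σ * γ * σ⁻¹) := by group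
    · calc σ * γ * σ⁻¹ * (σ * γ * σ⁻¹) = σ * (γ * γ) * σ⁻¹ := by group
        _ = 1 := by rw [h3]; group
  have key := sign_of_normal_elementary A hAfix hAnorm (fun γ hγ => hγ.2.2)
    (fun γ hγ γ' hγ' => hγ.2.1 γ' hγ'.1)
  have ha₁A : ((a₁ : R) : Co0) ∈ A := ⟨(a₁ : R).2, ha₁c, ha₁sq⟩
  obtain ⟨c, hc, hac⟩ := key _ ha₁A
  have hcne : c ≠ ∅ := by
    rintro rfl
    apply ha₁1
    apply Subtype.ext
    rw [hac]
    exact signAut_empty
  obtain ⟨i, hi⟩ := Finset.nonempty_iff_ne_empty.2 hcne
  have hi1 : i ≠ none := fun h => hc.2.1 (h ▸ hi)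
  have hi0 : i ≠ some 0 := fun h => hc.2.2 (h ▸ hi)
  -- move `i` to `1`
  obtain ⟨k, hk1, hk0, hki⟩ := exists_other i
  obtain ⟨ρ', hρ', r1, r2, r3, -⟩ := m24_trans4 (p := none) (q := some 0) (r := i) (s := k)
    (p' := none) (q' := some 0) (r' := some 1) (s' := some 2)
    (by
      simp only [List.nodup_cons, List.mem_cons, List.not_mem_nil, or_false, not_or,
        List.nodup_nil, and_true, not_false_eq_true]
      exact ⟨⟨by decide, hi1.symm, hk1.symm⟩, ⟨hi0.symm, hk0.symm⟩, hki.symm⟩) (by decide)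
  have hu' : permAut ρ' hρ' • Cfsg.Spor.leechU = Cfsg.Spor.leechU := by
    rw [leechU_eq, permAut_P, r1, r2]
  have ha₂A := hAnorm _ hu' _ ha₁A
  rw [hac, permAut_conj_signAut] at ha₂A
  have h1c : some 1 ∈ ρ' • c := by
    rw [← r3, apply_mem_smul_iff]
    exact hi
  -- the non-monomial element fixing `(4,4,0^22)`
  obtain ⟨ρ, hρ, s1, s2⟩ := Cfsg.Agent.Helper7.m24_trans2 (p := some 1) (q := some 7)
    (p' := none) (q' := some 0) (by decide) (by decide)
  have hτ : (permAut ρ hρ * xi) • Cfsg.Spor.leechU = Cfsg.Spor.leechU := by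
    rw [mul_smul, leechU_eq, xi_P_none_zero, permAut_P, s1, s2]
  have ha₃A := hAnorm _ hτ _ ha₂A
  obtain ⟨c'', hc'', hac''⟩ := key _ ha₃A
  have hw : signAut c'' hc''.1 • ((permAut ρ hρ * xi) • P (some 1) (some 1)) =
      -((permAut ρ hρ * xi) • P (some 1) (some 1)) := by
    rw [← hac'', ← mul_smul]
    have e : (permAut ρ hρ * xi) * signAut (ρ' • c) (smul_mem_supports hρ' hc.1) *
        (permAut ρ hρ * xi)⁻¹ * (permAut ρ hρ * xi) =
        (permAut ρ hρ * xi) * signAut (ρ' • c) (smul_mem_supports hρ' hc.1) := by group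
    rw [e, mul_smul, signAut_F_neg _ _ _ h1c, co0_neg]
  have hval : (permAut ρ hρ * xi) • P (some 1) (some 1) =
      P (ρ none) (ρ (some 0)) + P none (some 0) - P none none := by
    rw [mul_smul, xi_P_one_one, co0_sub, Q0, co0_add, permAut_P, permAut_P, permAut_P, s1, s2]
  rw [hval] at hw
  have hρn : ρ none ≠ none := by
    intro h
    have := ρ.injective (h.trans s1.symm)
    exact absurd this (by decide)
  have hρ0 : ρ (some 0) ≠ none := by
    intro h
    have := ρ.injective (h.trans s1.symm)
    exact absurd this (by decide)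
  have h2 := congrFun (congrArg Subtype.val hw) none
  have h3 : ((signAut c'' hc''.1 • (P (ρ none) (ρ (some 0)) + P none (some 0) - P none none) :
      leechLattice) : GolayPt → ℤ) none =
      signFun c'' ((P (ρ none) (ρ (some 0)) + P none (some 0) - P none none : leechLattice) :
        GolayPt → ℤ) none := rfl
  rw [h3, signFun_apply, if_neg hc''.2.1] at h2
  simp only [AddSubgroup.coe_neg, AddSubgroup.coe_sub, AddSubgroup.coe_add, Pi.neg_apply,
    Pi.sub_apply, Pi.add_apply, P_apply] at h2
  rw [if_neg hρn.symm, if_neg hρ0.symm] at h2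
  simp at h2

/-- **`O_2(Co_2) = 1`**: a normal 2-subgroup of `Cfsg.Spor.Co2` is trivial. -/
theorem co2_normal_two_eq_bot (N : Subgroup Cfsg.Spor.Co2) [hN : N.Normal] (hp : IsPGroup 2 N) :
    N = ⊥ := by
  have hle : Cfsg.Spor.Co2 ≤ Co0 := inf_le_left
  have hinj : Function.Injective (Subgroup.inclusion hle) := Subgroup.inclusion_injective hle
  have key := stabU_normal_two_eq_bot (N.map (Subgroup.inclusion hle)) ?_ ?_ (hp.map _)
  · exact (Subgroup.map_eq_bot_iff_of_injective N hinj).1 key
  · rintro γ ⟨n, -, rfl⟩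
    have h : (n : Equiv.Perm leechLattice) ∈
        MulAction.stabilizer (Equiv.Perm leechLattice) Cfsg.Spor.leechU := n.2.2
    exact MulAction.mem_stabilizer_iff.1 h
  · rintro σ hσ γ ⟨n, hn, rfl⟩
    have hσ2 : (σ : Equiv.Perm leechLattice) ∈ Cfsg.Spor.Co2 :=
      ⟨σ.2, MulAction.mem_stabilizer_iff.2 hσ⟩
    refine ⟨⟨σ.1, hσ2⟩ * n * ⟨σ.1, hσ2⟩⁻¹, hN.conj_mem n hn _, ?_⟩
    rw [map_mul, map_mul, map_inv]
    rfl

/-! ### Faithfulness on `u^⊥ / u` -/

theorem dotInt_e4_left (i : GolayPt) (y : GolayPt → ℤ) : dotInt (e4 i) y = 4 * y i := by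
  unfold dotInt
  rw [Finset.sum_eq_single i]
  · rw [e4_apply, if_pos rfl]
  · intro k _ hk
    rw [e4_apply, if_neg hk, zero_mul]
  · intro h
    exact absurd (Finset.mem_univ i) h

theorem dotInt_P_left (i j : GolayPt) (y : GolayPt → ℤ) :
    dotInt ((P i j : leechLattice) : GolayPt → ℤ) y = 4 * y i + 4 * y j := by
  show dotInt (e4 i + e4 j) y = _
  rw [Cfsg.dotInt_add_left, dotInt_e4_left, dotInt_e4_left]

theorem dotInt_sub_left' (x y u : GolayPt → ℤ) : dotInt (x - y) u = dotInt x u - dotInt y u := by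
  rw [sub_eq_add_neg, Cfsg.dotInt_add_left, Cfsg.dotInt_neg_left, ← sub_eq_add_neg]

theorem vecU_of_ne {i : GolayPt} (h1 : i ≠ none) (h0 : i ≠ some 0) : Cfsg.Spor.vecU i = 0 := by
  unfold Cfsg.Spor.vecU
  rw [if_neg]
  push Not
  exact ⟨h1, h0⟩

theorem exists_two_others : ∀ i : GolayPt, ∃ j k : GolayPt, j ≠ none ∧ j ≠ some 0 ∧ j ≠ i ∧
    k ≠ none ∧ k ≠ some 0 ∧ k ≠ i ∧ j ≠ k := by decide

theorem signAut_univ :
    signAut Finset.univ (supports_univ) = negAut := by
  have h := negAut_mul_signAut ∅ supports_empty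
  rw [signAut_empty, mul_one] at h
  rw [h]
  exact signAut_congr (by simp) _ _

/-- a short vector is not congruent to a vector of a different squared length at most 64 -/
theorem Cong.sqNorm_eq {a b : leechLattice} (h : Cong a b)
    (ha : sqNorm (a : GolayPt → ℤ) ≤ 64) (hb : sqNorm (b : GolayPt → ℤ) ≤ 64) :
    sqNorm (a : GolayPt → ℤ) = sqNorm (b : GolayPt → ℤ) :=
  (Orb.of_cong h).sqNorm_eq ha hb

/-- the key step: a minimal vector orthogonal to `u` is mapped to itself or its negative -/
theorem perp_min_fixed {γ : Co0}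
    (h : ∀ x : leechLattice, (16 : ℤ) ∣ dotInt (x : GolayPt → ℤ) Cfsg.Spor.vecU →
      Cong (γ • x) x ∨ Cong (γ • x) (x + Cfsg.Spor.leechU))
    (x : leechLattice) (hx : sqNorm (x : GolayPt → ℤ) = 32)
    (hd : dotInt (x : GolayPt → ℤ) Cfsg.Spor.vecU = 0) : γ • x = x ∨ γ • x = -x := by
  have hn : sqNorm ((γ • x : leechLattice) : GolayPt → ℤ) = 32 := by rw [co0_sqNorm, hx]
  rcases h x (by rw [hd]; exact dvd_zero _) with h1 | h1
  · exact eq_or_neg_of_cong32 h1 hn hx
  · exfalso
    have h64 : sqNorm ((x + Cfsg.Spor.leechU : leechLattice) : GolayPt → ℤ) = 64 := by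
      rw [AddSubgroup.coe_add, sqNorm_add, hx, sqNorm_leechU]
      have : dotInt (x : GolayPt → ℤ) (Cfsg.Spor.leechU : GolayPt → ℤ) = 0 := hd
      rw [this]
      norm_num
    have := h1.sqNorm_eq (by rw [hn]; norm_num) (by rw [h64])
    rw [hn, h64] at this
    norm_num at this

/-- **Faithfulness on `u^⊥ / u`**: an automorphism of the lattice that maps every vector `x`
with `16 ∣ (x, u)` to a vector congruent to `x` or to `x + u` modulo twice the lattice
(`u = (4,4,0^22)`) is `1` or `-1`. -/
theorem eq_one_or_neg_of_trivial_perp (γ : Co0)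
    (h : ∀ x : leechLattice, (16 : ℤ) ∣ dotInt (x : GolayPt → ℤ) Cfsg.Spor.vecU →
      Cong (γ • x) x ∨ Cong (γ • x) (x + Cfsg.Spor.leechU)) : γ = 1 ∨ γ = negAut := by
  -- the coordinate vectors away from `∞`, `0`
  have hdiag : ∀ i, i ≠ none → i ≠ some 0 → (γ • P i i = P i i ∨ γ • P i i = -P i i) := by
    intro i hi1 hi0
    obtain ⟨j, k, hj1, hj0, hji, hk1, hk0, hki, hjk⟩ := exists_two_others i
    have step : ∀ j, j ≠ none → j ≠ some 0 → j ≠ i →
        (γ • P i i = P i i ∨ γ • P i i = -P i i) ∨ (γ • P i i = P j j ∨ γ • P i i = -P j j) := by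
      intro j hj1 hj0 hji
      have e1 := perp_min_fixed h (P i j) (sqNorm_P_of_ne hji.symm)
        (by rw [dotInt_P_left, vecU_of_ne hi1 hi0, vecU_of_ne hj1 hj0]; norm_num)
      have e2 := perp_min_fixed h (P i j - P j j) (sqNorm_Pm_of_ne hji.symm)
        (by
          rw [AddSubgroup.coe_sub, dotInt_sub_left', dotInt_P_left, dotInt_P_left,
            vecU_of_ne hi1 hi0, vecU_of_ne hj1 hj0]
          norm_num)
      have e3 : γ • P i i = γ • P i j + γ • (P i j - P j j) := by
        rw [← co0_add, ← P_diag_eq]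
      rcases e1 with e1 | e1 <;> rcases e2 with e2 | e2 <;> rw [e1, e2] at e3
      · left; left
        rw [e3, ← P_diag_eq]
      · right; left
        rw [e3, P_diag_eq' i j]
        abel
      · right; right
        rw [e3, P_diag_eq' i j]
        abel
      · left; right
        rw [e3, P_diag_eq i j]
        abel
    rcases step j hj1 hj0 hji with e | e
    · exact e
    rcases step k hk1 hk0 hki with e' | e'
    · exact e'
    exfalso
    have hne := P_diag_ne hjk
    rcases e with e | e <;> rcases e' with e' | e' <;> rw [e] at e'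
    · exact hne.1 e'
    · exact hne.2 e'
    · exact hne.2 (neg_eq_iff_eq_neg.1 e')
    · exact hne.1 (neg_injective e')
  -- the two remaining coordinate vectors
  have hu : γ • P none (some 0) = P none (some 0) ∨ γ • P none (some 0) = -P none (some 0) := by
    have hn : sqNorm ((γ • P none (some 0) : leechLattice) : GolayPt → ℤ) = 32 := by
      rw [co0_sqNorm, sqNorm_P_of_ne (by decide)]
    rcases h (P none (some 0)) (by rw [dotInt_P_left]; decide) with h1 | h1
    · exact eq_or_neg_of_cong32 h1 hn (sqNorm_P_of_ne (by decide))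
    · exfalso
      rw [leechU_eq] at h1
      have h2 : Cong (γ • P none (some 0)) 0 :=
        h1.trans ⟨P none (some 0), by rw [zero_add]⟩
      have := h2.sqNorm_eq (by rw [hn]; norm_num) (by rw [sqNorm_zero']; norm_num)
      rw [hn, sqNorm_zero'] at this
      norm_num at this
  have hd := perp_min_fixed h (P none (some 0) - P (some 0) (some 0))
    (sqNorm_Pm_of_ne (by decide))
    (by rw [AddSubgroup.coe_sub, dotInt_sub_left', dotInt_P_left, dotInt_P_left]; decide)
  have e3 : γ • P none none = γ • P none (some 0) + γ • (P none (some 0) - P (some 0) (some 0)) := by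
    rw [← co0_add, ← P_diag_eq]
  have e4' : γ • P (some 0) (some 0) =
      γ • P none (some 0) - γ • (P none (some 0) - P (some 0) (some 0)) := by
    rw [← co0_sub, ← P_diag_eq']
  have hpair : ∀ i, (i = none ∨ i = some 0) → ∃ j, γ • P i i = P j j ∨ γ • P i i = -P j j := by
    rintro i (rfl | rfl)
    · rcases hu with e1 | e1 <;> rcases hd with e2 | e2 <;> rw [e1, e2] at e3
      · exact ⟨none, Or.inl (by rw [e3, ← P_diag_eq])⟩
      · exact ⟨some 0, Or.inl (by rw [e3, P_diag_eq' none (some 0)]; abel)⟩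
      · exact ⟨some 0, Or.inr (by rw [e3, P_diag_eq' none (some 0)]; abel)⟩
      · exact ⟨none, Or.inr (by rw [e3, P_diag_eq none (some 0)]; abel)⟩
    · rcases hu with e1 | e1 <;> rcases hd with e2 | e2 <;> rw [e1, e2] at e4'
      · exact ⟨some 0, Or.inl (by rw [e4', ← P_diag_eq'])⟩
      · exact ⟨none, Or.inl (by rw [e4', P_diag_eq none (some 0)]; abel)⟩
      · exact ⟨none, Or.inr (by rw [e4', P_diag_eq none (some 0)]; abel)⟩
      · exact ⟨some 0, Or.inr (by rw [e4', P_diag_eq' none (some 0)]; abel)⟩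
  have hF : ∀ i, ((γ • P i i : leechLattice) : GolayPt → ℤ) ∈ stdCross := by
    intro i
    have : ∃ j, γ • P i i = P j j ∨ γ • P i i = -P j j := by
      by_cases hi : i = none ∨ i = some 0
      · exact hpair i hi
      · push Not at hi
        exact ⟨i, hdiag i hi.1 hi.2⟩
    obtain ⟨j, e | e⟩ := this
    · rw [e]
      exact P_diag_mem j
    · rw [e]
      exact neg_mem_stdCross (P_diag_mem j)
  have hstab : StabCross γ := by
    rintro v ⟨i, s, hs, hv⟩
    rcases hs with rfl | rfl
    · have : v = P i i := Subtype.ext (hv.trans (P_diag_val i).symm)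
      rw [this]
      exact hF i
    · have : v = -P i i := by
        apply Subtype.ext
        rw [hv, Pi.single_neg]
        show _ = -((P i i : leechLattice) : GolayPt → ℤ)
        rw [P_diag_val]
      rw [this, co0_neg]
      exact neg_mem_stdCross (hF i)
  obtain ⟨c₁, hc₁, σ, hσ, rfl⟩ := stabCross_eq hstab
  have hσfix : ∀ i, i ≠ none → i ≠ some 0 → σ i = i := by
    intro i hi1 hi0
    by_contra hne'
    have h2 : (((signAut c₁ hc₁ * permAut σ hσ) • P i i : leechLattice) : GolayPt → ℤ) =
        signFun c₁ (permFun σ ((P i i : leechLattice) : GolayPt → ℤ)) := rfl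
    have h1 : (((signAut c₁ hc₁ * permAut σ hσ) • P i i : leechLattice) : GolayPt → ℤ) (σ i) =
        0 := by
      rcases hdiag i hi1 hi0 with e | e
      · rw [e, P_diag_apply, if_neg hne']
      · rw [e]
        show -((P i i : leechLattice) : GolayPt → ℤ) (σ i) = 0
        rw [P_diag_apply, if_neg hne']
        norm_num
    rw [h2, P_diag_val, permFun_single, signFun_single, Pi.single_eq_same] at h1
    split_ifs at h1
    omega
  have hnone := M24_no_swap hσ hσfix
  have hzero : σ (some 0) = some 0 := by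
    by_contra h0
    have h3 : σ (some 0) ≠ none := by
      intro h4
      have := σ.injective (h4.trans hnone.symm)
      exact absurd this (by decide)
    have := hσfix (σ (some 0)) h3 h0
    exact h0 (σ.injective this)
  have hσ1 : σ = 1 := by
    apply Equiv.ext
    intro i
    by_cases hi1 : i = none
    · rw [hi1]
      exact hnone
    by_cases hi0 : i = some 0
    · rw [hi0]
      exact hzero
    · exact hσfix i hi1 hi0
  subst hσ1
  rw [permAut_one, mul_one] at h ⊢
  -- all signs agree
  have hval : ∀ (x : leechLattice) (k : GolayPt),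
      ((signAut c₁ hc₁ • x : leechLattice) : GolayPt → ℤ) k =
        if k ∈ c₁ then -(x : GolayPt → ℤ) k else (x : GolayPt → ℤ) k := fun x k => rfl
  have hsame : ∀ i j, i ≠ none → i ≠ some 0 → (j = none ∨ j = some 0) → (i ∈ c₁ ↔ j ∈ c₁) := by
    intro i j hi1 hi0 hj
    have hij : i ≠ j := by
      rcases hj with rfl | rfl
      · exact hi1
      · exact hi0
    have hn : sqNorm ((signAut c₁ hc₁ • P i j : leechLattice) : GolayPt → ℤ) = 32 := by
      rw [co0_sqNorm, sqNorm_P_of_ne hij]
    have hdvd : (16 : ℤ) ∣ dotInt ((P i j : leechLattice) : GolayPt → ℤ) Cfsg.Spor.vecU := by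
      rw [dotInt_P_left, vecU_of_ne hi1 hi0]
      rcases hj with rfl | rfl <;> decide
    rcases h (P i j) hdvd with h1 | h1
    · rcases eq_or_neg_of_cong32 h1 hn (sqNorm_P_of_ne hij) with e | e
      · have ei := congrFun (congrArg Subtype.val e) i
        have ej := congrFun (congrArg Subtype.val e) j
        rw [hval, P_apply] at ei ej
        simp only [if_true, if_neg hij, if_neg hij.symm] at ei ej
        constructor
        · intro hi
          rw [if_pos hi] at ei
          norm_num at ei
        · intro hj'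
          rw [if_pos hj'] at ej
          norm_num at ej
      · have ei := congrFun (congrArg Subtype.val e) i
        have ej := congrFun (congrArg Subtype.val e) j
        rw [hval] at ei ej
        rw [AddSubgroup.coe_neg, Pi.neg_apply, P_apply] at ei ej
        simp only [if_true, if_neg hij, if_neg hij.symm] at ei ej
        constructor
        · intro _
          by_contra hj'
          rw [if_neg hj'] at ej
          norm_num at ej
        · intro _
          by_contra hi'
          rw [if_neg hi'] at ei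
          norm_num at ei
    · exfalso
      -- `P i j + u ≡ P i j - u`, a minimal vector vanishing at `j`
      obtain ⟨j', hj', hjj'⟩ : ∃ j', (j' = none ∨ j' = some 0) ∧ j' ≠ j := by
        rcases hj with rfl | rfl
        · exact ⟨some 0, Or.inr rfl, by decide⟩
        · exact ⟨none, Or.inl rfl, by decide⟩
      have hij' : i ≠ j' := by
        rcases hj' with rfl | rfl
        · exact hi1
        · exact hi0
      have hu' : Cfsg.Spor.leechU = P j j' := by
        rw [leechU_eq]
        rcases hj with rfl | rfl <;> rcases hj' with rfl | rfl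
        · exact absurd rfl hjj'
        · rfl
        · exact P_comm _ _
        · exact absurd rfl hjj'
      have h2 : Cong (signAut c₁ hc₁ • P i j) (P i j' - P j' j') := by
        refine h1.trans ⟨P j j', ?_⟩
        rw [hu']
        have : P i j + P j j' = P i j' + P j j := P_rel i j j'
        calc P i j + P j j' = P i j' + P j j := this
          _ = P i j' - P j' j' + (P j j + P j' j') := by abel
          _ = P i j' - P j' j' + (P j j' + P j j') := by rw [P_rel_diag]
      rcases eq_or_neg_of_cong32 h2 hn (sqNorm_Pm_of_ne hij') with e | e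
      · have ej := congrFun (congrArg Subtype.val e) j
        rw [hval, AddSubgroup.coe_sub, Pi.sub_apply, P_apply, P_apply, P_apply] at ej
        simp only [if_true, if_neg hij.symm, if_neg hjj'.symm] at ej
        split_ifs at ej <;> norm_num at ej
      · have ej := congrFun (congrArg Subtype.val e) j
        rw [hval, AddSubgroup.coe_neg, Pi.neg_apply, AddSubgroup.coe_sub, Pi.sub_apply, P_apply,
          P_apply, P_apply] at ej
        simp only [if_true, if_neg hij.symm, if_neg hjj'.symm] at ej
        split_ifs at ej <;> norm_num at ej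
  by_cases hnc : none ∈ c₁
  · right
    have : c₁ = Finset.univ := by
      apply Finset.eq_univ_iff_forall.2
      intro i
      by_cases hi1 : i = none
      · rw [hi1]; exact hnc
      by_cases hi0 : i = some 0
      · rw [hi0]
        exact (hsame (some 1) (some 0) (by decide) (by decide) (Or.inr rfl)).1
          ((hsame (some 1) none (by decide) (by decide) (Or.inl rfl)).2 hnc)
      · exact (hsame i none hi1 hi0 (Or.inl rfl)).2 hnc
    rw [← signAut_univ]
    exact signAut_congr this _ _
  · left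
    have : c₁ = ∅ := by
      apply Finset.eq_empty_iff_forall_notMem.2
      intro i hi
      by_cases hi1 : i = none
      · rw [hi1] at hi; exact hnc hi
      by_cases hi0 : i = some 0
      · rw [hi0] at hi
        exact hnc ((hsame (some 1) none (by decide) (by decide) (Or.inl rfl)).1
          ((hsame (some 1) (some 0) (by decide) (by decide) (Or.inr rfl)).2 hi))
      · exact hnc ((hsame i none hi1 hi0 (Or.inl rfl)).1 hi)
    rw [← signAut_empty]
    exact signAut_congr this _ _

end Cfsg.Agent.Helper92
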