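import Cfsg.Agent.Helper92.SimpleStab2
import Cfsg.Agent.Helper92.LeechMcL

/-!
# The stabiliser of `(4, 4, 0^22)`: order and point stabiliser on the 47104 points

`co2Sub` is the stabiliser in `Co0` of `U = (4, 4, 0^22)`.

* `card_co2Sub`: the order `42305421312000`.
* `mclHom : mclSub →* co2Sub`, with range the stabiliser of `-V - U` (`mclHom_range`).
* `orbit_co2Pt`: the orbit of `-V - U` is the set of minimal vectors with inner product `-8`
  with `U`.
-/

set_option autoImplicit false

namespace Cfsg.Agent.Helper92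

open Cfsg MulAction

/-- the stabiliser of `(4, 4, 0^22)` -/
def co2Sub : Subgroup Co0 := stabilizer Co0 Spor.leechU

theorem mem_co2Sub (g : Co0) : g ∈ co2Sub ↔ g • Spor.leechU = Spor.leechU := Iff.rfl

theorem orbit_leechU : orbit Co0 Spor.leechU = normSet 32 := by
  ext y
  constructor
  · rintro ⟨g, rfl⟩
    show sqNorm ((g • Spor.leechU : leechLattice) : GolayPt → ℤ) = 32
    rw [co0_sqNorm]
    exact sqNorm_leechU
  · intro hy
    obtain ⟨g, hg⟩ := exists_smul_eq_of_norm32 Spor.leechU y sqNorm_leechU hy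
    exact ⟨g, hg⟩

theorem card_co2Sub : Nat.card co2Sub = 42305421312000 := by
  have h := card_stabilizer_mul_ncard_orbit (G := Co0) Spor.leechU
  rw [orbit_leechU, ncard_normSet, ncard_norm32, card_co0] at h
  have h' : Nat.card co2Sub * 196560 = 42305421312000 * 196560 := h.trans (by norm_num)
  exact Nat.eq_of_mul_eq_mul_right (by norm_num) h'

/-- the base point `-V - U = (1, -3, 1^22)` -/
def co2Pt : leechLattice := -Spor.leechV - Spor.leechU

/-- the joint stabiliser of `V` and `U`, inside the stabiliser of `U` -/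
def mclHom : mclSub →* co2Sub where
  toFun g := ⟨g.1, ((mem_mclSub g.1).1 g.2).2⟩
  map_one' := rfl
  map_mul' _ _ := rfl

theorem mclHom_injective : Function.Injective mclHom := by
  intro a b h
  apply Subtype.ext
  exact congrArg (fun x : co2Sub => (x : Co0)) h

theorem mclHom_range (g : co2Sub) : g • co2Pt = co2Pt ↔ ∃ m, mclHom m = g := by
  constructor
  · intro hg
    have hU : g.1 • Spor.leechU = Spor.leechU := g.2
    have h1 : g.1 • (-Spor.leechV - Spor.leechU) = -Spor.leechV - Spor.leechU := hg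
    rw [co0_sub, co0_neg, hU, sub_left_inj, neg_inj] at h1
    exact ⟨⟨g.1, (mem_mclSub _).2 ⟨h1, hU⟩⟩, rfl⟩
  · rintro ⟨m, rfl⟩
    have hV := ((mem_mclSub m.1).1 m.2).1
    have hU := ((mem_mclSub m.1).1 m.2).2
    show m.1 • (-Spor.leechV - Spor.leechU) = -Spor.leechV - Spor.leechU
    rw [co0_sub, co0_neg, hV, hU]

theorem orbit_co2Pt : (orbit co2Sub co2Pt : Set leechLattice) =
    {w : leechLattice | sqNorm (w : GolayPt → ℤ) = 32 ∧
      dotInt (Spor.leechU : GolayPt → ℤ) (w : GolayPt → ℤ) = -8} := by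
  ext y
  constructor
  · rintro ⟨g, rfl⟩
    refine ⟨?_, ?_⟩
    · show sqNorm (((g : Co0) • co2Pt : leechLattice) : GolayPt → ℤ) = 32
      rw [co0_sqNorm]
      exact sqNorm_mclW
    · show dotInt (Spor.leechU : GolayPt → ℤ)
        (((g : Co0) • co2Pt : leechLattice) : GolayPt → ℤ) = -8
      rw [Cfsg.Agent.Helper26.dot_fix g.1 _ g.2]
      exact dot_U_mclW
  · rintro ⟨h1, h2⟩
    obtain ⟨g, hg, hy⟩ := Cfsg.Agent.Helper26.co2_trans8 co2Pt y sqNorm_mclW h1 dot_U_mclW h2
    exact ⟨⟨g, hg⟩, hy⟩

/-- the order of a normal subgroup of `co2Sub` that would act regularly on the 47104 points -/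
theorem co2_no_regular (K : Subgroup co2Sub) [K.Normal] (hcard : Nat.card K = 2 ^ 11 * 23) :
    ∃ N : Subgroup co2Sub, N.Normal ∧ (Nat.card N = 23 ∨ Nat.card N = 2 ^ 11) := by
  apply exists_normal_of_card_prime_pow_mul_prime K 2 11 23 (by norm_num) (by norm_num)
    (by norm_num) hcard
  intro k hk hmod
  interval_cases k <;> first | (left; rfl) | (right; rfl) | (exfalso; revert hmod; decide)

end Cfsg.Agent.Helper92
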