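import Cfsg.Agent.Helper92.LeechHS
import Cfsg.Agent.S0377

/-!
# The stabiliser of `(-5, -1^23)` in `Co0` is simple

* `isSimpleGroup_co3Sub`: `co3Sub` is simple.
* `isCo3_stabilizer`: the stabiliser of a vector of squared length 48 is simple of order
  `495766656000`.
-/

set_option autoImplicit false

namespace Cfsg.Agent.Helper92

open Cfsg MulAction

/-! ### The 11178 points -/

/-- the four non-trivial suborbits, of sizes 352, 4125, 5600, 1100 -/
def co3Suborb (i : Fin 4) : Set leechLattice :=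
  {y : leechLattice | sqNorm (y : GolayPt → ℤ) = 32 ∧
    Cfsg.Agent.Helper26.clsH (Cfsg.Agent.Helper26.pk (y : GolayPt → ℤ)) = (i : ℕ) + 1 + 1}

theorem co3_dot_of_clsH (y : leechLattice) (hn : sqNorm (y : GolayPt → ℤ) = 32)
    (hc : 2 ≤ Cfsg.Agent.Helper26.clsH (Cfsg.Agent.Helper26.pk (y : GolayPt → ℤ))) :
    dotInt (Spor.leechV : GolayPt → ℤ) (y : GolayPt → ℤ) = -16 := by
  rw [Cfsg.Agent.Helper26.clsH_spec _ y.2 hn] at hc
  by_cases a : dotInt (Spor.leechV : GolayPt → ℤ) (y : GolayPt → ℤ) = 24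
  · rw [if_pos a] at hc
    split_ifs at hc
    all_goals omega
  · by_cases b : dotInt (Spor.leechV : GolayPt → ℤ) (y : GolayPt → ℤ) = -16
    · exact b
    · rw [if_neg a, if_neg b] at hc
      omega

theorem clsH_of_dot16 (y : leechLattice) (hn : sqNorm (y : GolayPt → ℤ) = 32)
    (hd : dotInt (Spor.leechV : GolayPt → ℤ) (y : GolayPt → ℤ) = -16) :
    Cfsg.Agent.Helper26.clsH (Cfsg.Agent.Helper26.pk (y : GolayPt → ℤ)) = 2 ∨
    Cfsg.Agent.Helper26.clsH (Cfsg.Agent.Helper26.pk (y : GolayPt → ℤ)) = 3 ∨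
    Cfsg.Agent.Helper26.clsH (Cfsg.Agent.Helper26.pk (y : GolayPt → ℤ)) = 4 ∨
    Cfsg.Agent.Helper26.clsH (Cfsg.Agent.Helper26.pk (y : GolayPt → ℤ)) = 5 ∨
    Cfsg.Agent.Helper26.clsH (Cfsg.Agent.Helper26.pk (y : GolayPt → ℤ)) = 6 := by
  rw [Cfsg.Agent.Helper26.clsH_spec _ y.2 hn, if_neg (by omega), if_pos hd]
  split_ifs <;> simp

theorem orbit_co3Pt :
    (orbit co3Sub Spor.leechU' : Set leechLattice) =
      insert Spor.leechU' (⋃ i, co3Suborb i) := by
  rw [orbit_co3Sub_leechU']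
  ext y
  constructor
  · rintro ⟨hn, hd⟩
    rcases clsH_of_dot16 y hn hd with h | h | h | h | h
    · exact Set.mem_insert_of_mem _ (Set.mem_iUnion.2 ⟨0, hn, h⟩)
    · exact Set.mem_insert_of_mem _ (Set.mem_iUnion.2 ⟨1, hn, h⟩)
    · exact Set.mem_insert_of_mem _ (Set.mem_iUnion.2 ⟨2, hn, h⟩)
    · exact Set.mem_insert_of_mem _ (Set.mem_iUnion.2 ⟨3, hn, h⟩)
    · exact Set.mem_insert_iff.2 (Or.inl (Cfsg.Agent.Helper26.hs_catch y hn h))
  · rintro (rfl | hy)
    · exact ⟨Cfsg.Agent.Helper26.sqNorm_leechU'32, Cfsg.Agent.Helper26.dot_V_U'⟩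
    · obtain ⟨i, hn, hc⟩ := Set.mem_iUnion.1 hy
      exact ⟨hn, co3_dot_of_clsH y hn (by rw [hc]; omega)⟩

theorem ncard_co3Suborb (i : Fin 4) : (co3Suborb i).ncard = ![352, 4125, 5600, 1100] i := by
  fin_cases i
  · exact Cfsg.Agent.Helper26.ncard_cls Cfsg.Agent.Helper26.clsH 2 352 Cfsg.Agent.Helper26.cnt_H2
  · exact Cfsg.Agent.Helper26.ncard_cls Cfsg.Agent.Helper26.clsH 3 4125
      Cfsg.Agent.Helper26.cnt_H3
  · exact Cfsg.Agent.Helper26.ncard_cls Cfsg.Agent.Helper26.clsH 4 5600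
      Cfsg.Agent.Helper26.cnt_H4
  · exact Cfsg.Agent.Helper26.ncard_cls Cfsg.Agent.Helper26.clsH 5 1100
      Cfsg.Agent.Helper26.cnt_H5

theorem co3Suborb_finite (i : Fin 4) : (co3Suborb i).Finite := by
  apply Set.finite_of_ncard_ne_zero
  rw [ncard_co3Suborb]
  fin_cases i <;> decide

theorem co3Pt_notMem (i : Fin 4) : Spor.leechU' ∉ co3Suborb i := by
  rintro ⟨-, h⟩
  rw [Cfsg.Agent.Helper26.clsH_U'] at h
  omega

theorem co3Suborb_disjoint (i j : Fin 4) (hij : i ≠ j) :
    Disjoint (co3Suborb i) (co3Suborb j) := by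
  rw [Set.disjoint_left]
  rintro y ⟨-, h1⟩ ⟨-, h2⟩
  apply hij
  apply Fin.ext
  rw [h1] at h2
  omega

theorem co3_suborb_trans (i : Fin 4) (y : leechLattice) (hy : y ∈ co3Suborb i)
    (y' : leechLattice) (hy' : y' ∈ co3Suborb i) :
    ∃ s : co3Sub, s • Spor.leechU' = Spor.leechU' ∧ s • y = y' := by
  obtain ⟨g, hV, hU', hg⟩ :=
    Cfsg.Agent.Helper26.hs_trans ((i : ℕ) + 1) y y' hy.1 hy'.1 hy.2 hy'.2
  exact ⟨⟨g, hV⟩, hU', hg⟩

theorem co3_arith_sub : ∀ I : Finset (Fin 4),
    (1 + ∑ i ∈ I, ![352, 4125, 5600, 1100] i) ∣ (1 + ∑ i, ![352, 4125, 5600, 1100] i) →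
      I = ∅ ∨ I = Finset.univ := by
  decide

/-- a normal subgroup of `co3Sub` containing the stabiliser of a point is everything -/
theorem co3_normal_top (L : Subgroup co3Sub) [L.Normal]
    (hS : stabilizer co3Sub Spor.leechU' ≤ L) : L = ⊤ :=
  normal_eq_top_of_suborbits Spor.leechU' co3Suborb ![352, 4125, 5600, 1100] orbit_co3Pt
    co3Pt_notMem co3Suborb_disjoint co3Suborb_finite ncard_co3Suborb co3_arith_sub
    co3_suborb_trans ⟨0, by decide⟩ L hS

/-! ### The coordinate permutations fixing `∞` -/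

/-- the point stabiliser in `M24` -/
def m23Sub : Subgroup M24 := stabilizer M24 (none : GolayPt)

instance isSimpleGroup_m23Sub : IsSimpleGroup m23Sub := Cfsg.Agent.S0377.result none

/-- coordinate permutations fixing `∞`, as elements of `co3Sub` -/
def m23Hom : m23Sub →* co3Sub where
  toFun π := ⟨permAut π.1.1 π.1.2, permAut_leechV _ _ π.2⟩
  map_one' := Subtype.ext permAut_one
  map_mul' a b := Subtype.ext (permAut_mul a.1.1 b.1.1 a.1.2 b.1.2)

/-- the coordinate permutation `i ↦ i + 1` -/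
def m23A : m23Sub :=
  ⟨⟨Cfsg.Agent.Helper7.gA, Cfsg.Agent.Helper7.gA_mem⟩, Cfsg.Agent.Helper7.gA_none⟩

theorem m23A_ne_one : m23A ≠ 1 := by
  intro h
  exact gA_ne_one (congrArg (fun x : m23Sub => x.1.1) h)

/-- an element of order 23 of `co3Sub` -/
def co3T : co3Sub := m23Hom m23A

theorem co3T_val : (co3T : Co0) = t23 := rfl

theorem co3T_pow : co3T ^ 23 = 1 := by
  apply Subtype.ext
  rw [Subgroup.coe_pow, co3T_val, t23_pow]
  rfl

theorem co3T_ne_one : co3T ≠ 1 := by
  intro h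
  have h1 : t23 = 1 := congrArg Subtype.val h
  have := orderOf_t23
  rw [h1, orderOf_one] at this
  omega

/-- a normal subgroup of `co3Sub` containing the element of order 23 is everything -/
theorem co3_gen (L : Subgroup co3Sub) (hL : L.Normal) (ht : co3T ∈ L) : L = ⊤ := by
  -- all coordinate permutations fixing `∞`
  have hN : (L.comap m23Hom).Normal := hL.comap m23Hom
  have htop : L.comap m23Hom = ⊤ := by
    rcases IsSimpleGroup.eq_bot_or_eq_top_of_normal (L.comap m23Hom) hN with h | h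
    · exfalso
      have h1 : m23A ∈ L.comap m23Hom := ht
      rw [h, Subgroup.mem_bot] at h1
      exact m23A_ne_one h1
    · exact h
  -- the element of order 11
  have h11 : Subgroup.inclusion hsSub_le_co3Sub hsT ∈ L := by
    have h1 : (⟨m22Dbl.1, m22Sub_none m22Dbl⟩ : m23Sub) ∈ L.comap m23Hom := by
      rw [htop]
      exact Subgroup.mem_top _
    exact h1
  -- the point stabiliser
  have hN2 : (L.comap (Subgroup.inclusion hsSub_le_co3Sub)).Normal := hL.comap _
  have htop2 : L.comap (Subgroup.inclusion hsSub_le_co3Sub) = ⊤ := hs_gen _ hN2 h11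
  apply co3_normal_top L
  intro s hs
  have hs' : (s : Co0) ∈ hsSub := (mem_hsSub _).2 ⟨s.2, hs⟩
  have h1 : (⟨s.1, hs'⟩ : hsSub) ∈ L.comap (Subgroup.inclusion hsSub_le_co3Sub) := by
    rw [htop2]
    exact Subgroup.mem_top _
  exact h1

theorem center_co3Sub : Subgroup.center co3Sub = ⊥ := by
  rw [eq_bot_iff]
  intro z hz
  rw [Subgroup.mem_center_iff] at hz
  have hfix : z • Spor.leechU' = Spor.leechU' := by
    by_contra hne
    have hmem : z • Spor.leechU' ∈ (orbit co3Sub Spor.leechU' : Set leechLattice) :=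
      mem_orbit _ _
    rw [orbit_co3Pt] at hmem
    rcases hmem with h | h
    · exact hne h
    · obtain ⟨i, hi⟩ := Set.mem_iUnion.1 h
      have h1 : 1 < (co3Suborb i).ncard := by
        rw [ncard_co3Suborb]
        fin_cases i <;> decide
      obtain ⟨y', hy', hne'⟩ := Set.exists_ne_of_one_lt_ncard h1 (z • Spor.leechU')
      obtain ⟨s, hs, hsy⟩ := co3_suborb_trans i _ hi y' hy'
      apply hne'
      rw [← hsy, ← mul_smul, hz s, mul_smul, hs]
  have hz' : (z : Co0) ∈ hsSub := (mem_hsSub _).2 ⟨z.2, hfix⟩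
  have hc : (⟨z.1, hz'⟩ : hsSub) ∈ Subgroup.center hsSub := by
    rw [Subgroup.mem_center_iff]
    intro h
    apply Subtype.ext
    have h2 : ((Subgroup.inclusion hsSub_le_co3Sub h * z : co3Sub) : Co0) =
        ((z * Subgroup.inclusion hsSub_le_co3Sub h : co3Sub) : Co0) :=
      congrArg Subtype.val (hz (Subgroup.inclusion hsSub_le_co3Sub h))
    exact h2
  rw [center_hsSub, Subgroup.mem_bot] at hc
  rw [Subgroup.mem_bot]
  apply Subtype.ext
  have h2 : ((⟨z.1, hz'⟩ : hsSub) : Co0) = ((1 : hsSub) : Co0) := congrArg Subtype.val hc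
  exact h2

/-! ### Simplicity -/

theorem arith_co3 (p i j : ℕ) (hp : p.Prime) (hp23 : p ≠ 23) (hji : j ≤ i)
    (hdvd : p ^ i ∣ 495766656000) (hmod : p ^ i ≡ p ^ j [MOD 23]) : i = j := by
  by_cases hi : i = 0
  · omega
  have h1 : p ∣ 495766656000 := (dvd_pow_self p hi).trans hdvd
  have e : (495766656000 : ℕ) = 2 ^ 10 * 3 ^ 7 * 5 ^ 3 * 7 * 11 * 23 := by norm_num
  rw [e] at h1
  have key : ∀ q : ℕ, q.Prime → p ∣ q → p = q := fun q hq h =>
    (Nat.prime_dvd_prime_iff_eq hp hq).1 h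
  have hcases : p = 2 ∨ p = 3 ∨ p = 5 ∨ p = 7 ∨ p = 11 := by
    rcases (Nat.Prime.dvd_mul hp).1 h1 with h | h
    · rcases (Nat.Prime.dvd_mul hp).1 h with h | h
      · rcases (Nat.Prime.dvd_mul hp).1 h with h | h
        · rcases (Nat.Prime.dvd_mul hp).1 h with h | h
          · rcases (Nat.Prime.dvd_mul hp).1 h with h | h
            · exact Or.inl (key 2 (by norm_num) (hp.dvd_of_dvd_pow h))
            · exact Or.inr (Or.inl (key 3 (by norm_num) (hp.dvd_of_dvd_pow h)))
          · exact Or.inr (Or.inr (Or.inl (key 5 (by norm_num) (hp.dvd_of_dvd_pow h))))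
        · exact Or.inr (Or.inr (Or.inr (Or.inl (key 7 (by norm_num) h))))
      · exact Or.inr (Or.inr (Or.inr (Or.inr (key 11 (by norm_num) h))))
    · exact absurd (key 23 (by norm_num) h) hp23
  have bound : ∀ (q k : ℕ), ¬ q ^ k ∣ 495766656000 → p = q → i < k := by
    intro q k hk hpq
    by_contra hlt
    apply hk
    rw [← hpq]
    exact (pow_dvd_pow p (by omega)).trans hdvd
  rcases hcases with h | h | h | h | h
  · have hb := bound 2 11 (by decide) h
    subst h
    interval_cases i <;> interval_cases j <;> first | rfl | (exfalso; revert hmod; decide)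
  · have hb := bound 3 8 (by decide) h
    subst h
    interval_cases i <;> interval_cases j <;> first | rfl | (exfalso; revert hmod; decide)
  · have hb := bound 5 4 (by decide) h
    subst h
    interval_cases i <;> interval_cases j <;> first | rfl | (exfalso; revert hmod; decide)
  · have hb := bound 7 2 (by decide) h
    subst h
    interval_cases i <;> interval_cases j <;> first | rfl | (exfalso; revert hmod; decide)
  · have hb := bound 11 2 (by decide) h
    subst h
    interval_cases i <;> interval_cases j <;> first | rfl | (exfalso; revert hmod; decide)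

/-- **The stabiliser of `(-5, -1^23)` is simple.** -/
theorem isSimpleGroup_co3Sub : IsSimpleGroup co3Sub :=
  isSimpleGroup_of_prime_elt co3T 23 (by norm_num) co3T_pow co3T_ne_one
    (by rw [card_co3Sub]; decide)
    (fun p i j hp hpq hji hdvd hmod => arith_co3 p i j hp hpq hji (card_co3Sub ▸ hdvd) hmod)
    co3_gen center_co3Sub

theorem isCo3_co3Sub : IsCo3 co3Sub := ⟨isSimpleGroup_co3Sub, card_co3Sub⟩

/-- **The stabiliser of a vector of squared length 48 is a simple group of order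
`495766656000`.** -/
theorem isCo3_stabilizer (v : leechLattice) (hv : sqNorm (v : GolayPt → ℤ) = 48) :
    IsCo3 ↥(stabilizer Co0 v) := by
  obtain ⟨g, h1⟩ := exists_smul_eq_of_norm48 v Spor.leechV hv sqNorm_leechV
  have key : ∀ x : Co0, x ∈ stabilizer Co0 v ↔ g * x * g⁻¹ ∈ co3Sub := by
    intro x
    rw [mem_stabilizer_iff, mem_co3Sub]
    have e1 : (g * x * g⁻¹) • Spor.leechV = g • x • v := by
      rw [mul_smul, mul_smul, ← h1, inv_smul_smul]
    rw [e1]
    constructor
    · intro a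
      rw [a, h1]
    · intro a
      apply MulAction.injective g
      show g • x • v = g • v
      rw [a, h1]
  let e : ↥(stabilizer Co0 v) ≃* co3Sub := conjEquiv g _ _ key
  have := isSimpleGroup_co3Sub
  exact ⟨e.isSimpleGroup, by rw [Nat.card_congr e.toEquiv, card_co3Sub]⟩

end Cfsg.Agent.Helper92
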