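import Cfsg.Agent.Helper92.LeechXi
import Cfsg.Agent.Helper7.M12

/-!
# Congruence modulo twice the lattice and orbits of `Co0` on the quotient

`Cong x y`: `x - y` is twice a lattice vector.  `Orb x y`: some automorphism carries `x` to a
vector congruent to `y`.  Main result (`orb_cases`): every lattice vector is `Orb`-equivalent to
`0`, `(4,4,0^22)`, `(-5,-1^23)` or `(8,0^23)`.
-/

set_option autoImplicit false

namespace Cfsg.Agent.Helper92

open Cfsg
open scoped Pointwise

/-! ### Congruence -/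

/-- congruence modulo twice the lattice -/
def Cong (x y : leechLattice) : Prop := ∃ z : leechLattice, x = y + (z + z)

theorem Cong.refl (x : leechLattice) : Cong x x := ⟨0, by simp⟩

theorem Cong.symm {x y : leechLattice} (h : Cong x y) : Cong y x := by
  obtain ⟨z, rfl⟩ := h
  exact ⟨-z, by abel⟩

theorem Cong.trans {x y w : leechLattice} (h1 : Cong x y) (h2 : Cong y w) : Cong x w := by
  obtain ⟨z, rfl⟩ := h1
  obtain ⟨z', rfl⟩ := h2
  exact ⟨z + z', by abel⟩

theorem Cong.add {x y x' y' : leechLattice} (h1 : Cong x y) (h2 : Cong x' y') :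
    Cong (x + x') (y + y') := by
  obtain ⟨z, rfl⟩ := h1
  obtain ⟨z', rfl⟩ := h2
  exact ⟨z + z', by abel⟩

theorem Cong.neg_self (x : leechLattice) : Cong (-x) x := ⟨-x, by abel⟩

theorem Cong.smul (g : Co0) {x y : leechLattice} (h : Cong x y) : Cong (g • x) (g • y) := by
  obtain ⟨z, rfl⟩ := h
  exact ⟨g • z, by rw [co0_add, co0_add]⟩

theorem cong_sub_double (x z : leechLattice) : Cong x (x - (z + z)) := ⟨z, by abel⟩

/-! ### Orbits modulo twice the lattice -/

/-- some automorphism carries `x` to a vector congruent to `y` modulo twice the lattice -/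
def Orb (x y : leechLattice) : Prop := ∃ g : Co0, Cong (g • x) y

theorem Orb.refl (x : leechLattice) : Orb x x := ⟨1, by rw [one_smul]; exact Cong.refl x⟩

theorem Orb.of_cong {x y : leechLattice} (h : Cong x y) : Orb x y := ⟨1, by rw [one_smul]; exact h⟩

theorem Orb.of_smul (g : Co0) (x : leechLattice) : Orb x (g • x) := ⟨g, Cong.refl _⟩

theorem Orb.trans {x y w : leechLattice} (h1 : Orb x y) (h2 : Orb y w) : Orb x w := by
  obtain ⟨g, hg⟩ := h1
  obtain ⟨h, hh⟩ := h2
  exact ⟨h * g, by rw [mul_smul]; exact (hg.smul h).trans hh⟩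

theorem Orb.symm {x y : leechLattice} (h : Orb x y) : Orb y x := by
  obtain ⟨g, hg⟩ := h
  refine ⟨g⁻¹, ?_⟩
  have := (hg.symm).smul g⁻¹
  rwa [inv_smul_smul] at this

theorem Orb.of_smul' (g : Co0) (x : leechLattice) : Orb (g • x) x := (Orb.of_smul g x).symm

/-- congruent short vectors have the same squared length -/
theorem Orb.sqNorm_eq {x u : leechLattice} (h : Orb x u)
    (hx : sqNorm (x : GolayPt → ℤ) ≤ 64) (hu : sqNorm (u : GolayPt → ℤ) ≤ 64) :
    sqNorm (x : GolayPt → ℤ) = sqNorm (u : GolayPt → ℤ) := by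
  obtain ⟨g, z, hz⟩ := h
  have hn := co0_sqNorm g x
  have hd : ((g • x : leechLattice) : GolayPt → ℤ) - (u : GolayPt → ℤ) = (2 : ℤ) • (z : GolayPt → ℤ) := by
    rw [hz, two_smul]
    show (u : GolayPt → ℤ) + ((z : GolayPt → ℤ) + (z : GolayPt → ℤ)) - (u : GolayPt → ℤ) = _
    abel
  rcases leech_congr_two u.2 z.2 hd (by rw [hn]; exact hx) hu with h1 | h1 | h1
  · rw [h1, hn]
  · rw [h1, sqNorm_neg, hn]
  · rw [← hn, h1.1, h1.2.1]

/-- a vector of squared length less than 64 in the orbit of `u` modulo twice the lattice is in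
the orbit of `u` -/
theorem Orb.exists_smul_eq {x u : leechLattice} (h : Orb x u)
    (hx : sqNorm (x : GolayPt → ℤ) < 64) (hu : sqNorm (u : GolayPt → ℤ) ≤ 64) :
    ∃ g : Co0, g • x = u := by
  obtain ⟨g, z, hz⟩ := h
  have hn := co0_sqNorm g x
  have hd : ((g • x : leechLattice) : GolayPt → ℤ) - (u : GolayPt → ℤ) = (2 : ℤ) • (z : GolayPt → ℤ) := by
    rw [hz, two_smul]
    show (u : GolayPt → ℤ) + ((z : GolayPt → ℤ) + (z : GolayPt → ℤ)) - (u : GolayPt → ℤ) = _
    abel
  rcases leech_congr_two u.2 z.2 hd (by rw [hn]; exact hx.le) hu with h1 | h1 | h1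
  · exact ⟨g, Subtype.ext h1.symm⟩
  · refine ⟨negAut * g, ?_⟩
    rw [mul_smul, negAut_smul]
    apply Subtype.ext
    show -((g • x : leechLattice) : GolayPt → ℤ) = u
    rw [h1]
  · rw [hn] at h1
    omega

/-! ### Congruences from coordinates -/

theorem cong_of_eight {a b : leechLattice}
    (h8 : ∀ i, ((a : GolayPt → ℤ) i - (b : GolayPt → ℤ) i) % 8 = 0)
    (hs : (∑ i, ((a : GolayPt → ℤ) i - (b : GolayPt → ℤ) i)) % 16 = 0) : Cong a b := by
  have hz : (fun i => ((a : GolayPt → ℤ) i - (b : GolayPt → ℤ) i) / 2) ∈ leechLattice := by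
    apply AddSubgroup.subset_closure
    apply Cfsg.Spor.mem_leechSet_of_const_mod_four _ 0 0 (by decide)
    · intro i
      show ((a : GolayPt → ℤ) i - (b : GolayPt → ℤ) i) / 2 % 4 = 0 % 4
      have := h8 i
      omega
    · have h2 : ∑ i, ((a : GolayPt → ℤ) i - (b : GolayPt → ℤ) i) =
          2 * ∑ i, ((a : GolayPt → ℤ) i - (b : GolayPt → ℤ) i) / 2 := by
        rw [Finset.mul_sum]
        apply Finset.sum_congr rfl
        intro i _
        have := h8 i
        omega
      show (∑ i, ((a : GolayPt → ℤ) i - (b : GolayPt → ℤ) i) / 2) % 8 = (4 * 0) % 8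
      omega
  refine ⟨⟨_, hz⟩, ?_⟩
  apply Subtype.ext
  funext i
  show (a : GolayPt → ℤ) i = (b : GolayPt → ℤ) i +
    (((a : GolayPt → ℤ) i - (b : GolayPt → ℤ) i) / 2 + ((a : GolayPt → ℤ) i - (b : GolayPt → ℤ) i) / 2)
  have := h8 i
  omega

theorem P_diag_apply (j i : GolayPt) : ((P j j : leechLattice) : GolayPt → ℤ) i = if i = j then 8 else 0 := by
  show e4 j i + e4 j i = _
  rw [e4_apply]
  split_ifs <;> norm_num

theorem sum_P_diag (j : GolayPt) : ∑ i, ((P j j : leechLattice) : GolayPt → ℤ) i = 8 := by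
  show ∑ i, (e4 j i + e4 j i) = 8
  rw [Finset.sum_add_distrib, sum_e4]
  norm_num

theorem cong_or_of_eight {a b : leechLattice}
    (h8 : ∀ i, ((a : GolayPt → ℤ) i - (b : GolayPt → ℤ) i) % 8 = 0) (j : GolayPt) :
    Cong a b ∨ Cong a (b + P j j) := by
  have hd : (8 : ℤ) ∣ ∑ i, ((a : GolayPt → ℤ) i - (b : GolayPt → ℤ) i) := by
    apply Finset.dvd_sum
    intro i _
    have := h8 i
    omega
  by_cases hs : (∑ i, ((a : GolayPt → ℤ) i - (b : GolayPt → ℤ) i)) % 16 = 0
  · exact Or.inl (cong_of_eight h8 hs)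
  · right
    apply cong_of_eight
    · intro i
      show ((a : GolayPt → ℤ) i - ((b : GolayPt → ℤ) i + ((P j j : leechLattice) : GolayPt → ℤ) i)) % 8 = 0
      rw [P_diag_apply]
      have := h8 i
      split_ifs <;> omega
    · have : ∑ i, ((a : GolayPt → ℤ) i - ((b + P j j : leechLattice) : GolayPt → ℤ) i) =
          ∑ i, ((a : GolayPt → ℤ) i - (b : GolayPt → ℤ) i) - 8 := by
        rw [← sum_P_diag j, ← Finset.sum_sub_distrib]
        apply Finset.sum_congr rfl
        intro i _
        show (a : GolayPt → ℤ) i - ((b : GolayPt → ℤ) i + ((P j j : leechLattice) : GolayPt → ℤ) i) = _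
        ring
      rw [this]
      omega

/-! ### The descent: reducing the set of large residues modulo the code -/

/-- the positions whose coordinate is `r + 4` modulo 8 -/
def hi (r : ℤ) (x : leechLattice) : Finset GolayPt :=
  Finset.univ.filter fun i => (x : GolayPt → ℤ) i % 8 = r + 4

theorem mem_hi (r : ℤ) (x : leechLattice) (i : GolayPt) :
    i ∈ hi r x ↔ (x : GolayPt → ℤ) i % 8 = r + 4 := by
  simp [hi]

theorem descent (r : ℤ) (hr : r = 0 ∨ r = 1) : ∀ (n : ℕ) (x : leechLattice),
    (∀ i, (x : GolayPt → ℤ) i % 4 = r) → (hi r x).card ≤ n →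
    ∃ y : leechLattice, Cong x y ∧ (∀ i, (y : GolayPt → ℤ) i % 4 = r) ∧ (hi r y).card ≤ 4 := by
  intro n
  induction n with
  | zero =>
    intro x hx hc
    exact ⟨x, Cong.refl x, hx, by omega⟩
  | succ n ih =>
    intro x hx hc
    by_cases h4 : (hi r x).card ≤ 4
    · exact ⟨x, Cong.refl x, hx, h4⟩
    · obtain ⟨t, hts, htc⟩ := Finset.exists_subset_card_eq (s := hi r x) (n := 5) (by omega)
      obtain ⟨o, ho, hto⟩ := Cfsg.Agent.Helper7.exists_octad_superset htc
      let T : leechLattice := ⟨twoVec o, twoVec_mem ho.1⟩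
      have hval : ∀ i, ((x - (T + T) : leechLattice) : GolayPt → ℤ) i =
          (x : GolayPt → ℤ) i - (if i ∈ o then 4 else 0) := by
        intro i
        show (x : GolayPt → ℤ) i - (twoVec o i + twoVec o i) = _
        unfold twoVec
        split_ifs <;> norm_num
      have hx' : ∀ i, ((x - (T + T) : leechLattice) : GolayPt → ℤ) i % 4 = r := by
        intro i
        rw [hval]
        have := hx i
        split_ifs <;> omega
      have hsub : hi r (x - (T + T)) ⊆ (hi r x \ o) ∪ (o \ hi r x) := by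
        intro i hi'
        rw [mem_hi, hval] at hi'
        rw [Finset.mem_union, Finset.mem_sdiff, Finset.mem_sdiff, mem_hi]
        have := hx i
        by_cases hio : i ∈ o
        · rw [if_pos hio] at hi'
          right
          exact ⟨hio, by omega⟩
        · rw [if_neg hio] at hi'
          left
          exact ⟨by omega, hio⟩
      have hc1 := Finset.card_le_card hsub
      have hc2 := Finset.card_union_le (hi r x \ o) (o \ hi r x)
      have hc3 := Finset.card_sdiff_add_card_inter (hi r x) o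
      have hc4 := Finset.card_sdiff_add_card_inter o (hi r x)
      have hc5 : 5 ≤ (hi r x ∩ o).card := by
        rw [← htc]
        exact Finset.card_le_card (Finset.subset_inter hts hto)
      have hc6 : (o ∩ hi r x).card = (hi r x ∩ o).card := by rw [Finset.inter_comm]
      have hoc : o.card = 8 := ho.2
      obtain ⟨y, hy1, hy2, hy3⟩ := ih (x - (T + T)) hx' (by omega)
      exact ⟨y, (cong_sub_double x T).trans hy1, hy2, hy3⟩

theorem sum_mod_hi (r : ℤ) (_hr : r = 0 ∨ r = 1) (y : leechLattice)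
    (hy : ∀ i, (y : GolayPt → ℤ) i % 4 = r) :
    (∑ i, (y : GolayPt → ℤ) i) % 8 = (24 * r + 4 * ((hi r y).card : ℤ)) % 8 := by
  have hd : (8 : ℤ) ∣ ∑ i, ((y : GolayPt → ℤ) i - (r + if i ∈ hi r y then 4 else 0)) := by
    apply Finset.dvd_sum
    intro i _
    have := hy i
    by_cases h : i ∈ hi r y
    · rw [if_pos h]
      rw [mem_hi] at h
      omega
    · rw [if_neg h]
      rw [mem_hi] at h
      omega
  rw [Finset.sum_sub_distrib, Finset.sum_add_distrib, Finset.sum_const, Finset.sum_ite_mem,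
    Finset.univ_inter, Finset.sum_const, Finset.card_univ, card_golayPt] at hd
  simp only [nsmul_eq_mul, Nat.cast_ofNat] at hd
  omega

/-! ### 4-transitivity of `M24` -/

theorem m24_trans4 {p q r s p' q' r' s' : GolayPt} (h : [p, q, r, s].Nodup)
    (h' : [p', q', r', s'].Nodup) :
    ∃ g ∈ M24, g p = p' ∧ g q = q' ∧ g r = r' ∧ g s = s' := by
  obtain ⟨g, hg, h1⟩ := Cfsg.Agent.Helper7.m24_tuple [0, 1, 2, 3] Cfsg.Agent.Helper7.m24chain4
    [p, q, r, s] rfl h
  obtain ⟨g', hg', h1'⟩ := Cfsg.Agent.Helper7.m24_tuple [0, 1, 2, 3] Cfsg.Agent.Helper7.m24chain4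
    [p', q', r', s'] rfl h'
  simp only [List.map_cons, List.map_nil, List.cons.injEq, and_true] at h1 h1'
  refine ⟨g' * g⁻¹, M24.mul_mem hg' (M24.inv_mem hg), ?_, ?_, ?_, ?_⟩
  · rw [Equiv.Perm.mul_apply, ← h1.1, ← h1'.1]; simp
  · rw [Equiv.Perm.mul_apply, ← h1.2.1, ← h1'.2.1]; simp
  · rw [Equiv.Perm.mul_apply, ← h1.2.2.1, ← h1'.2.2.1]; simp
  · rw [Equiv.Perm.mul_apply, ← h1.2.2.2, ← h1'.2.2.2]; simp

/-! ### Vectors with all coordinates divisible by 4 -/

/-- the representative `(8, 0^23)` -/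
def U4 : leechLattice := P none none

theorem leechU_eq : Cfsg.Spor.leechU = P none (some 0) := by
  apply Subtype.ext
  funext k
  show Cfsg.Spor.vecU k = e4 none k + e4 (some 0) k
  simp only [e4_apply]
  revert k
  decide

theorem P_apply (i j k : GolayPt) : ((P i j : leechLattice) : GolayPt → ℤ) k =
    (if k = i then 4 else 0) + (if k = j then 4 else 0) := by
  show e4 i k + e4 j k = _
  rw [e4_apply, e4_apply]

theorem orb_P {i j : GolayPt} (hij : i ≠ j) : Orb (P i j) Cfsg.Spor.leechU := by
  obtain ⟨g, hg, h1, h2⟩ := Cfsg.Agent.Helper7.m24_trans2 (p := i) (q := j) (p' := none)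
    (q' := some 0) hij (by decide)
  have := Orb.of_smul (permAut g hg) (P i j)
  rwa [permAut_P, h1, h2, ← leechU_eq] at this

theorem orb_Pm {i j : GolayPt} (hij : i ≠ j) : Orb (P i j - P j j) Cfsg.Spor.leechU := by
  obtain ⟨C, hC, hjC, hiC⟩ := exists_sep i j hij
  have h : signAut C hC • (P i j - P j j) = P i j := by
    apply Subtype.ext
    funext k
    show signFun C ((e4 i + e4 j) - (e4 j + e4 j)) k = e4 i k + e4 j k
    rw [signFun_apply]
    simp only [Pi.sub_apply, Pi.add_apply, e4_apply]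
    by_cases hki : k = i
    · subst hki
      rw [if_neg hiC]
      simp [hij]
    · by_cases hkj : k = j
      · subst hkj
        rw [if_pos hjC]
        simp [hki]
      · simp [hki, hkj]
  have := Orb.of_smul (signAut C hC) (P i j - P j j)
  rw [h] at this
  exact this.trans (orb_P hij)

/-- the vector `(4, 4, 4, 4)` on the tetrad `{∞, 0, 1, 7}` -/
def Q0 : leechLattice := P none (some 0) + P (some 1) (some 7)

theorem xi_U4 : xi • U4 = Q0 - P none none := by
  apply Subtype.ext
  apply xi_eq_of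
  show ∀ p, xi2 (e4 none + e4 none) p =
    2 * ((e4 none + e4 (some 0) + (e4 (some 1) + e4 (some 7))) - (e4 none + e4 none)) p
  decide

theorem orb_Q1 : Orb (Q0 - P none none) U4 := by
  rw [← xi_U4]
  exact Orb.of_smul' xi U4

theorem signAut_Q0 : signAut oct oct_mem • Q0 = -(Q0 - P none none) := by
  apply Subtype.ext
  funext k
  show signFun oct (e4 none + e4 (some 0) + (e4 (some 1) + e4 (some 7))) k =
    -((e4 none + e4 (some 0) + (e4 (some 1) + e4 (some 7))) - (e4 none + e4 none)) k
  simp only [signFun_apply, mem_oct_iff, Pi.add_apply, Pi.sub_apply, e4_apply]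
  revert k
  decide

theorem orb_Q0 : Orb Q0 U4 := by
  have h1 := Orb.of_smul (signAut oct oct_mem) Q0
  rw [signAut_Q0] at h1
  exact h1.trans ((Orb.of_cong (Cong.neg_self _)).trans orb_Q1)

theorem orb_Q0' : Orb (Q0 + P none none) U4 := by
  have : Cong (Q0 + P none none) (Q0 - P none none) := ⟨P none none, by abel⟩
  exact (Orb.of_cong this).trans orb_Q1

/-- **Vectors with all coordinates divisible by 4** lie in the orbits of `0`, `(4,4,0^22)`,
`(8,0^23)` modulo twice the lattice. -/
theorem orb_of_four_dvd (x : leechLattice) (h4 : ∀ i, (x : GolayPt → ℤ) i % 4 = 0) :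
    Orb x 0 ∨ Orb x Cfsg.Spor.leechU ∨ Orb x U4 := by
  obtain ⟨y, hxy, hy4, hyc⟩ := descent 0 (Or.inl rfl) _ x h4 le_rfl
  suffices h : Orb y 0 ∨ Orb y Cfsg.Spor.leechU ∨ Orb y U4 by
    rcases h with h | h | h
    · exact Or.inl ((Orb.of_cong hxy).trans h)
    · exact Or.inr (Or.inl ((Orb.of_cong hxy).trans h))
    · exact Or.inr (Or.inr ((Orb.of_cong hxy).trans h))
  have hsum := sum_mod_hi 0 (Or.inl rfl) y hy4
  have hy' := (mem_leechLattice_iff _).1 y.2
  rw [mem_leechSet_iff] at hy'
  obtain ⟨m, p1, p2, -⟩ := hy'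
  have hm : (y : GolayPt → ℤ) none % 2 = m % 2 := p1 none
  have p2' : (∑ i, (y : GolayPt → ℤ) i) % 8 = (4 * m) % 8 := p2
  have h4n := hy4 none
  have hmem : ∀ k, k ∈ hi 0 y ↔ (y : GolayPt → ℤ) k % 8 = 4 := by
    intro k; rw [mem_hi]; norm_num
  have hcard : (hi 0 y).card = 0 ∨ (hi 0 y).card = 2 ∨ (hi 0 y).card = 4 := by omega
  rcases hcard with hc | hc | hc
  · -- all coordinates divisible by 8
    rw [Finset.card_eq_zero] at hc
    have h8 : ∀ k, ((y : GolayPt → ℤ) k - ((0 : leechLattice) : GolayPt → ℤ) k) % 8 = 0 := by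
      intro k
      have h1 : k ∉ hi 0 y := by rw [hc]; exact Finset.notMem_empty k
      rw [hmem] at h1
      have := hy4 k
      show ((y : GolayPt → ℤ) k - 0) % 8 = 0
      omega
    rcases cong_or_of_eight h8 none with h | h
    · exact Or.inl (Orb.of_cong h)
    · rw [zero_add] at h
      exact Or.inr (Or.inr (Orb.of_cong h))
  · -- two coordinates congruent to 4 modulo 8
    obtain ⟨i, j, hij, hset⟩ := Finset.card_eq_two.1 hc
    have h8 : ∀ k, ((y : GolayPt → ℤ) k - ((P i j : leechLattice) : GolayPt → ℤ) k) % 8 = 0 := by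
      intro k
      rw [P_apply]
      have h1 := hmem k
      rw [hset, Finset.mem_insert, Finset.mem_singleton] at h1
      have := hy4 k
      by_cases hki : k = i
      · have hkj : k ≠ j := fun h => hij (hki ▸ h)
        have := h1.1 (Or.inl hki)
        rw [if_pos hki, if_neg hkj]
        omega
      · by_cases hkj : k = j
        · have := h1.1 (Or.inr hkj)
          rw [if_neg hki, if_pos hkj]
          omega
        · have : ¬ (y : GolayPt → ℤ) k % 8 = 4 := fun h => by
            rcases h1.2 h with h | h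
            · exact hki h
            · exact hkj h
          rw [if_neg hki, if_neg hkj]
          omega
    right; left
    rcases cong_or_of_eight h8 j with h | h
    · exact (Orb.of_cong h).trans (orb_P hij)
    · have h' : Cong (P i j + P j j) (P i j - P j j) := ⟨P j j, by abel⟩
      exact (Orb.of_cong (h.trans h')).trans (orb_Pm hij)
  · -- four coordinates congruent to 4 modulo 8
    have hpos : 0 < (hi 0 y).card := by omega
    obtain ⟨i, hi1⟩ := Finset.card_pos.1 hpos
    have hc3 : ((hi 0 y).erase i).card = 3 := by rw [Finset.card_erase_of_mem hi1, hc]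
    obtain ⟨j, k, l, hjk, hjl, hkl, hset⟩ := Finset.card_eq_three.1 hc3
    have hmem' : ∀ a, (y : GolayPt → ℤ) a % 8 = 4 ↔ a = i ∨ a = j ∨ a = k ∨ a = l := by
      intro a
      rw [← hmem]
      by_cases hai : a = i
      · subst hai
        simp [hi1]
      · have : a ∈ (hi 0 y).erase i ↔ a ∈ hi 0 y := by
          rw [Finset.mem_erase]; simp [hai]
        rw [← this, hset]
        simp [hai]
    have hij : i ≠ j := by
      intro h
      have : j ∈ (hi 0 y).erase i := by rw [hset]; simp
      rw [← h] at this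
      exact (Finset.notMem_erase i _) this
    have hik : i ≠ k := by
      intro h
      have : k ∈ (hi 0 y).erase i := by rw [hset]; simp
      rw [← h] at this
      exact (Finset.notMem_erase i _) this
    have hil : i ≠ l := by
      intro h
      have : l ∈ (hi 0 y).erase i := by rw [hset]; simp
      rw [← h] at this
      exact (Finset.notMem_erase i _) this
    have h8 : ∀ a, ((y : GolayPt → ℤ) a - ((P i j + P k l : leechLattice) : GolayPt → ℤ) a) % 8 = 0 := by
      intro a
      show ((y : GolayPt → ℤ) a - (((P i j : leechLattice) : GolayPt → ℤ) a +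
        ((P k l : leechLattice) : GolayPt → ℤ) a)) % 8 = 0
      rw [P_apply, P_apply]
      have h1 := hmem' a
      have := hy4 a
      by_cases hai : a = i
      · subst hai
        have := h1.2 (Or.inl rfl)
        rw [if_pos rfl, if_neg hij, if_neg hik, if_neg hil]
        omega
      · by_cases haj : a = j
        · subst haj
          have := h1.2 (Or.inr (Or.inl rfl))
          rw [if_neg hai, if_pos rfl, if_neg hjk, if_neg hjl]
          omega
        · by_cases hak : a = k
          · subst hak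
            have := h1.2 (Or.inr (Or.inr (Or.inl rfl)))
            rw [if_neg hai, if_neg haj, if_pos rfl, if_neg hkl]
            omega
          · by_cases hal : a = l
            · subst hal
              have := h1.2 (Or.inr (Or.inr (Or.inr rfl)))
              rw [if_neg hai, if_neg haj, if_neg hak, if_pos rfl]
              omega
            · have : ¬ (y : GolayPt → ℤ) a % 8 = 4 := fun h => by
                rcases h1.1 h with h | h | h | h
                · exact hai h
                · exact haj h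
                · exact hak h
                · exact hal h
              rw [if_neg hai, if_neg haj, if_neg hak, if_neg hal]
              omega
    obtain ⟨g, hg, g1, g2, g3, g4⟩ := m24_trans4 (p := i) (q := j) (r := k) (s := l)
      (p' := none) (q' := some 0) (r' := some 1) (s' := some 7)
      (by simp [hij, hik, hil, hjk, hjl, hkl]) (by decide)
    have e1 : permAut g hg • (P i j + P k l) = Q0 := by
      rw [co0_add, permAut_P, permAut_P, g1, g2, g3, g4]
      rfl
    have e2 : permAut g hg • (P i j + P k l + P i i) = Q0 + P none none := by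
      rw [co0_add, e1, permAut_P, g1]
    right; right
    rcases cong_or_of_eight h8 i with h | h
    · have h2 := Orb.of_smul (permAut g hg) (P i j + P k l)
      rw [e1] at h2
      exact (Orb.of_cong h).trans (h2.trans orb_Q0)
    · have h2 := Orb.of_smul (permAut g hg) (P i j + P k l + P i i)
      rw [e2] at h2
      exact (Orb.of_cong h).trans (h2.trans orb_Q0')

/-! ### Odd vectors -/

/-- the vector with `-3` on `w` and `1` elsewhere -/
def ov (w : Finset GolayPt) : GolayPt → ℤ := fun i => if i ∈ w then -3 else 1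

theorem ov_mem (w : Finset GolayPt) (hw : w.card % 2 = 1) : ov w ∈ leechLattice := by
  apply AddSubgroup.subset_closure
  apply Cfsg.Spor.mem_leechSet_of_const_mod_four _ 1 1 (by decide)
  · intro i
    show ov w i % 4 = 1 % 4
    unfold ov
    split_ifs <;> norm_num
  · have h : ∑ i, ov w i = 24 - 4 * (w.card : ℤ) := by
      have h1 : ∀ i, ov w i = 1 - (if i ∈ w then 4 else 0) := by
        intro i
        unfold ov
        split_ifs <;> norm_num
      simp only [h1]
      rw [Finset.sum_sub_distrib, Finset.sum_const, Finset.sum_ite_mem, Finset.univ_inter,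
        Finset.sum_const, Finset.card_univ, card_golayPt]
      simp only [nsmul_eq_mul, Nat.cast_ofNat]
      ring
    show (∑ i, ov w i) % 8 = (4 * 1) % 8
    rw [h]
    omega

/-- the lattice vector with `-3` on `w` and `1` elsewhere -/
def ovL (w : Finset GolayPt) (hw : w.card % 2 = 1) : leechLattice := ⟨ov w, ov_mem w hw⟩

theorem permFun_eq_of (g : Equiv.Perm GolayPt) (x y : GolayPt → ℤ) (h : ∀ j, x j = y (g j)) :
    permFun g x = y := by
  funext i
  rw [permFun_apply, h, Equiv.apply_symm_apply]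

/-- the octad `{3, 4, 5, 6, 7, 10, 13, 15}` -/
def oct1 : Finset GolayPt := Cfsg.Agent.Helper7.setOf 0xa4f8

theorem oct1_mem : oct1 ∈ supports (golayCode : Set (GolayPt → ZMod 2)) :=
  (Cfsg.Agent.Helper7.setOf_mem_wordsOfWeight (m := 0xa4f8) (by decide +kernel)).1

/-- `(-3, 1^23)` with the `-3` at the extra point -/
def O2 : leechLattice := ovL {none} (by decide)

/-- `(-3, -3, -3, 1^21)` with the `-3` at `∞, 0, 1` -/
def O3b : leechLattice := ovL {none, some 0, some 1} (by decide)

theorem sqNorm_O2 : sqNorm (O2 : GolayPt → ℤ) = 32 := by decide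

theorem sqNorm_O3b : sqNorm (O3b : GolayPt → ℤ) = 48 := by decide

theorem sqNorm_U4 : sqNorm (U4 : GolayPt → ℤ) = 64 := sqNorm_F none

theorem sqNorm_leechU : sqNorm (Cfsg.Spor.leechU : GolayPt → ℤ) = 32 := by decide

theorem sqNorm_leechV : sqNorm (Cfsg.Spor.leechV : GolayPt → ℤ) = 48 := by decide

theorem sqNorm_zero' : sqNorm ((0 : leechLattice) : GolayPt → ℤ) = 0 := by decide

/-- the chain `(-3, 1^23) → (2^8) → (4, -4)` -/
theorem orb_O2 : Orb O2 Cfsg.Spor.leechU := by
  have e1 : ((signAut oct1 oct1_mem • O2 : leechLattice) : GolayPt → ℤ) =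
      vecL [1, 1, 1, -1, -1, -1, -1, -1, 1, 1, -1, 1, 1, -1, 1, -1, 1, 1, 1, 1, 1, 1, 1, -3] := by
    funext k
    show signFun oct1 (ov {none}) k = _
    revert k
    decide
  have e2 : ((xi • (signAut oct1 oct1_mem • O2) : leechLattice) : GolayPt → ℤ) =
      vecL [-2, -2, 0, -2, 0, 0, -2, 0, 2, 0, -2, 0, 0, -2, 0, 0, 0, 0, 0, 0, 0, 0, 0, 2] := by
    apply xi_eq_of
    rw [e1]
    decide
  have e3 : ((permAut cubeTwist Cfsg.Agent.Helper7.cubeTwist_mem •
      (xi • (signAut oct1 oct1_mem • O2)) : leechLattice) : GolayPt → ℤ) =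
      vecL [-2, -2, 0, -2, 0, 0, 0, -2, 0, -2, 0, 0, 0, 0, 0, 0, 2, 0, -2, 0, 0, 0, 0, 2] := by
    rw [permAut_smul]
    apply permFun_eq_of
    rw [e2]
    decide
  have e4 : ((xi • (permAut cubeTwist Cfsg.Agent.Helper7.cubeTwist_mem •
      (xi • (signAut oct1 oct1_mem • O2))) : leechLattice) : GolayPt → ℤ) =
      vecL [0, 0, 0, 0, 0, 0, 0, 0, 0, 0, 0, 0, 0, 0, 0, 0, 4, 0, 0, 0, 0, 0, 0, -4] := by
    apply xi_eq_of
    rw [e3]
    decide
  have horb : Orb O2 (xi • (permAut cubeTwist Cfsg.Agent.Helper7.cubeTwist_mem •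
      (xi • (signAut oct1 oct1_mem • O2)))) :=
    ((Orb.of_smul _ _).trans (Orb.of_smul _ _)).trans ((Orb.of_smul _ _).trans (Orb.of_smul _ _))
  have hn : sqNorm ((xi • (permAut cubeTwist Cfsg.Agent.Helper7.cubeTwist_mem •
      (xi • (signAut oct1 oct1_mem • O2))) : leechLattice) : GolayPt → ℤ) = 32 := by
    rw [co0_sqNorm, co0_sqNorm, co0_sqNorm, co0_sqNorm, sqNorm_O2]
  have h4 : ∀ i, ((xi • (permAut cubeTwist Cfsg.Agent.Helper7.cubeTwist_mem •
      (xi • (signAut oct1 oct1_mem • O2))) : leechLattice) : GolayPt → ℤ) i % 4 = 0 := by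
    rw [e4]
    decide
  rcases orb_of_four_dvd _ h4 with h | h | h
  · have := h.sqNorm_eq (by rw [hn]; norm_num) (by rw [sqNorm_zero']; norm_num)
    rw [hn, sqNorm_zero'] at this
    omega
  · exact horb.trans h
  · have := h.sqNorm_eq (by rw [hn]; norm_num) (by rw [sqNorm_U4])
    rw [hn, sqNorm_U4] at this
    omega

theorem orb_O3a : Orb (O2 + P none none) Cfsg.Spor.leechV := by
  have h : O2 + P none none = -Cfsg.Spor.leechV := by
    apply Subtype.ext
    funext k
    show ov {none} k + (e4 none k + e4 none k) = -Cfsg.Spor.vecV k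
    simp only [e4_apply]
    revert k
    decide
  rw [h]
  exact Orb.of_cong (Cong.neg_self _)

theorem orb_O3b : Orb O3b Cfsg.Spor.leechV := by
  have e1 : ((xi • O3b : leechLattice) : GolayPt → ℤ) = fun j => if j = some 7 then -5 else -1 := by
    apply xi_eq_of
    show ∀ p, xi2 (ov {none, some 0, some 1}) p = 2 * (if p = some 7 then -5 else -1)
    decide
  obtain ⟨g, hg, h1⟩ := Cfsg.Agent.Helper7.m24_trans1 (some 7) none
  have e2 : permAut g hg • (xi • O3b) = Cfsg.Spor.leechV := by
    apply Subtype.ext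
    rw [permAut_smul]
    apply permFun_eq_of
    rw [e1]
    intro j
    show (if j = some 7 then (-5 : ℤ) else -1) = if g j = none then -5 else -1
    by_cases hj : j = some 7
    · rw [if_pos hj, hj, h1, if_pos rfl]
    · have : g j ≠ none := fun h => hj (g.injective (h.trans h1.symm))
      rw [if_neg hj, if_neg this]
  have := (Orb.of_smul xi O3b).trans (Orb.of_smul (permAut g hg) (xi • O3b))
  rwa [e2] at this

/-- the chain `(5, -3, -3, 1^21) → (6, 2^7) → (4^4)` -/
theorem orb_O4 : Orb (O3b + P none none) U4 := by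
  have e1 : ((signAut oct1 oct1_mem • (O3b + P none none) : leechLattice) : GolayPt → ℤ) =
      vecL [-3, -3, 1, -1, -1, -1, -1, -1, 1, 1, -1, 1, 1, -1, 1, -1, 1, 1, 1, 1, 1, 1, 1, 5] := by
    funext k
    show signFun oct1 (ov {none, some 0, some 1} + (e4 none + e4 none)) k = _
    simp only [signFun_apply, Pi.add_apply, e4_apply]
    revert k
    decide
  have e2 : ((xi • (signAut oct1 oct1_mem • (O3b + P none none)) : leechLattice) : GolayPt → ℤ) =
      vecL [2, 2, 0, -2, 0, 0, -2, 0, 2, 0, -2, 0, 0, -2, 0, 0, 0, 0, 0, 0, 0, 0, 0, -6] := by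
    apply xi_eq_of
    rw [e1]
    decide
  have e3 : ((permAut cubeTwist Cfsg.Agent.Helper7.cubeTwist_mem •
      (xi • (signAut oct1 oct1_mem • (O3b + P none none))) : leechLattice) : GolayPt → ℤ) =
      vecL [2, -2, 0, -2, 0, 0, 0, -2, 0, -2, 0, 0, 0, 0, 0, 0, 2, 0, 2, 0, 0, 0, 0, -6] := by
    rw [permAut_smul]
    apply permFun_eq_of
    rw [e2]
    decide
  have e4 : ((signAut oct oct_mem • (permAut cubeTwist Cfsg.Agent.Helper7.cubeTwist_mem •
      (xi • (signAut oct1 oct1_mem • (O3b + P none none)))) : leechLattice) : GolayPt → ℤ) =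
      vecL [-2, 2, 0, 2, 0, 0, 0, 2, 0, -2, 0, 0, 0, 0, 0, 0, 2, 0, 2, 0, 0, 0, 0, -6] := by
    rw [signAut_smul, e3]
    funext k
    simp only [signFun_apply, mem_oct_iff]
    revert k
    decide
  have e5 : ((xi • (signAut oct oct_mem • (permAut cubeTwist Cfsg.Agent.Helper7.cubeTwist_mem •
      (xi • (signAut oct1 oct1_mem • (O3b + P none none))))) : leechLattice) : GolayPt → ℤ) =
      vecL [0, -4, 0, 0, 0, 0, 0, -4, 0, -4, 0, 0, 0, 0, 0, 0, 0, 0, 0, 0, 0, 0, 0, 4] := by
    apply xi_eq_of
    rw [e4]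
    decide
  have horb : Orb (O3b + P none none) (xi • (signAut oct oct_mem •
      (permAut cubeTwist Cfsg.Agent.Helper7.cubeTwist_mem •
        (xi • (signAut oct1 oct1_mem • (O3b + P none none)))))) :=
    ((Orb.of_smul _ _).trans (Orb.of_smul _ _)).trans
      ((Orb.of_smul _ _).trans ((Orb.of_smul _ _).trans (Orb.of_smul _ _)))
  have hn0 : sqNorm ((O3b + P none none : leechLattice) : GolayPt → ℤ) = 64 := by decide
  have hn : sqNorm ((xi • (signAut oct oct_mem •
      (permAut cubeTwist Cfsg.Agent.Helper7.cubeTwist_mem •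
        (xi • (signAut oct1 oct1_mem • (O3b + P none none))))) : leechLattice) : GolayPt → ℤ) = 64 := by
    rw [co0_sqNorm, co0_sqNorm, co0_sqNorm, co0_sqNorm, co0_sqNorm, hn0]
  have h4 : ∀ i, ((xi • (signAut oct oct_mem •
      (permAut cubeTwist Cfsg.Agent.Helper7.cubeTwist_mem •
        (xi • (signAut oct1 oct1_mem • (O3b + P none none))))) : leechLattice) : GolayPt → ℤ) i % 4 = 0 := by
    rw [e5]
    decide
  rcases orb_of_four_dvd _ h4 with h | h | h
  · have := h.sqNorm_eq (by rw [hn]) (by rw [sqNorm_zero']; norm_num)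
    rw [hn, sqNorm_zero'] at this
    omega
  · have := h.sqNorm_eq (by rw [hn]) (by rw [sqNorm_leechU]; norm_num)
    rw [hn, sqNorm_leechU] at this
    omega
  · exact horb.trans h

theorem exists_sign_one_mod (x : leechLattice) (ho : (x : GolayPt → ℤ) none % 2 = 1) :
    ∃ g : Co0, ∀ i, ((g • x : leechLattice) : GolayPt → ℤ) i % 4 = 1 := by
  have hx' := (mem_leechLattice_iff _).1 x.2
  obtain ⟨m, h1, -, h3⟩ := hx'
  refine ⟨signAut _ (h3 3), fun i => ?_⟩
  rw [signAut_smul, signFun_apply]
  have hi : (x : GolayPt → ℤ) i % 2 = m % 2 := h1 i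
  have hn : (x : GolayPt → ℤ) none % 2 = m % 2 := h1 none
  by_cases hc : i ∈ Finset.univ.filter fun i => (x : GolayPt → ℤ) i ≡ 3 [ZMOD 4]
  · rw [if_pos hc]
    rw [Finset.mem_filter] at hc
    have : (x : GolayPt → ℤ) i % 4 = 3 % 4 := hc.2
    omega
  · rw [if_neg hc]
    rw [Finset.mem_filter] at hc
    have : ¬ (x : GolayPt → ℤ) i % 4 = 3 % 4 := fun h => hc ⟨Finset.mem_univ _, h⟩
    omega

theorem permAut_ovL_one (g : Equiv.Perm GolayPt) (hg : g ∈ M24) (p : GolayPt)
    (w : Finset GolayPt) (hw : w.card % 2 = 1) (hset : w = {p}) (hp : g p = none) :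
    permAut g hg • ovL w hw = O2 := by
  subst hset
  apply Subtype.ext
  rw [permAut_smul]
  apply permFun_eq_of
  intro j
  show ov {p} j = ov {none} (g j)
  unfold ov
  by_cases hj : j = p
  · have h1 : j ∈ ({p} : Finset GolayPt) := by rw [hj]; exact Finset.mem_singleton_self p
    have h2 : g j ∈ ({none} : Finset GolayPt) := by rw [hj, hp]; exact Finset.mem_singleton_self _
    rw [if_pos h1, if_pos h2]
  · have h1 : j ∉ ({p} : Finset GolayPt) := by rw [Finset.mem_singleton]; exact hj
    have h2 : g j ∉ ({none} : Finset GolayPt) := by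
      rw [Finset.mem_singleton]; exact fun h => hj (g.injective (h.trans hp.symm))
    rw [if_neg h1, if_neg h2]

theorem permAut_ovL_three (g : Equiv.Perm GolayPt) (hg : g ∈ M24) (p q r : GolayPt)
    (w : Finset GolayPt) (hw : w.card % 2 = 1) (hset : w = {p, q, r}) (hp : g p = none)
    (hq : g q = some 0) (hr : g r = some 1) :
    permAut g hg • ovL w hw = O3b := by
  subst hset
  apply Subtype.ext
  rw [permAut_smul]
  apply permFun_eq_of
  intro j
  show ov {p, q, r} j = ov {none, some 0, some 1} (g j)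
  unfold ov
  simp only [Finset.mem_insert, Finset.mem_singleton]
  have e1 : g j = none ↔ j = p := by rw [← hp]; exact g.injective.eq_iff
  have e2 : g j = some 0 ↔ j = q := by rw [← hq]; exact g.injective.eq_iff
  have e3 : g j = some 1 ↔ j = r := by rw [← hr]; exact g.injective.eq_iff
  simp only [e1, e2, e3]

/-- **Odd vectors** lie in the orbits of `(4,4,0^22)`, `(-5,-1^23)`, `(8,0^23)` modulo twice the
lattice. -/
theorem orb_of_odd (x : leechLattice) (ho : (x : GolayPt → ℤ) none % 2 = 1) :
    Orb x Cfsg.Spor.leechU ∨ Orb x Cfsg.Spor.leechV ∨ Orb x U4 := by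
  obtain ⟨g, hg⟩ := exists_sign_one_mod x ho
  obtain ⟨y, hxy, hy1, hyc⟩ := descent 1 (Or.inr rfl) _ (g • x) hg le_rfl
  have hxy' : Orb x y := (Orb.of_smul g x).trans (Orb.of_cong hxy)
  suffices h : Orb y Cfsg.Spor.leechU ∨ Orb y Cfsg.Spor.leechV ∨ Orb y U4 by
    rcases h with h | h | h
    · exact Or.inl (hxy'.trans h)
    · exact Or.inr (Or.inl (hxy'.trans h))
    · exact Or.inr (Or.inr (hxy'.trans h))
  have hsum := sum_mod_hi 1 (Or.inr rfl) y hy1
  have hy' := (mem_leechLattice_iff _).1 y.2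
  rw [mem_leechSet_iff] at hy'
  obtain ⟨m, p1, p2, -⟩ := hy'
  have hm : (y : GolayPt → ℤ) none % 2 = m % 2 := p1 none
  have p2' : (∑ i, (y : GolayPt → ℤ) i) % 8 = (4 * m) % 8 := p2
  have h1n := hy1 none
  have hodd : (hi 1 y).card % 2 = 1 := by omega
  have hmem : ∀ k, k ∈ hi 1 y ↔ (y : GolayPt → ℤ) k % 8 = 5 := by
    intro k; rw [mem_hi]; norm_num
  have h8 : ∀ k, ((y : GolayPt → ℤ) k - ((ovL (hi 1 y) hodd : leechLattice) : GolayPt → ℤ) k) % 8 = 0 := by
    intro k
    show ((y : GolayPt → ℤ) k - ov (hi 1 y) k) % 8 = 0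
    unfold ov
    have := hy1 k
    by_cases hk : k ∈ hi 1 y
    · rw [if_pos hk]
      rw [hmem] at hk
      omega
    · rw [if_neg hk]
      rw [hmem] at hk
      omega
  have hcard : (hi 1 y).card = 1 ∨ (hi 1 y).card = 3 := by omega
  rcases hcard with hc | hc
  · obtain ⟨p, hset⟩ := Finset.card_eq_one.1 hc
    obtain ⟨σ, hσ, hσp⟩ := Cfsg.Agent.Helper7.m24_trans1 p none
    have e1 := permAut_ovL_one σ hσ p (hi 1 y) hodd hset hσp
    rcases cong_or_of_eight h8 p with h | h
    · left
      have h2 := Orb.of_smul (permAut σ hσ) (ovL (hi 1 y) hodd)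
      rw [e1] at h2
      exact (Orb.of_cong h).trans (h2.trans orb_O2)
    · right; left
      have h2 := Orb.of_smul (permAut σ hσ) (ovL (hi 1 y) hodd + P p p)
      rw [co0_add, e1, permAut_P, hσp] at h2
      exact (Orb.of_cong h).trans (h2.trans orb_O3a)
  · obtain ⟨p, q, r, hpq, hpr, hqr, hset⟩ := Finset.card_eq_three.1 hc
    obtain ⟨σ, hσ, hσp, hσq, hσr⟩ := Cfsg.Agent.Helper7.m24_trans3 (p := p) (q := q) (r := r)
      (p' := none) (q' := some 0) (r' := some 1) hpq hpr hqr (by decide) (by decide) (by decide)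
    have e1 := permAut_ovL_three σ hσ p q r (hi 1 y) hodd hset hσp hσq hσr
    rcases cong_or_of_eight h8 p with h | h
    · right; left
      have h2 := Orb.of_smul (permAut σ hσ) (ovL (hi 1 y) hodd)
      rw [e1] at h2
      exact (Orb.of_cong h).trans (h2.trans orb_O3b)
    · right; right
      have h2 := Orb.of_smul (permAut σ hσ) (ovL (hi 1 y) hodd + P p p)
      rw [co0_add, e1, permAut_P, hσp] at h2
      exact (Orb.of_cong h).trans (h2.trans orb_O4)

/-! ### Even vectors and the main theorem -/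

theorem tsum_zero (x : GolayPt → ℤ) : tsum x 0 = x none + x (some 0) + x (some 1) + x (some 7) := by
  unfold tsum
  rw [← Finset.sum_filter]
  have : (Finset.univ.filter fun q : GolayPt => tau q = 0) = {none, some 0, some 1, some 7} := by
    decide
  rw [this, Finset.sum_insert (by decide), Finset.sum_insert (by decide),
    Finset.sum_insert (by decide), Finset.sum_singleton]
  ring

theorem xi_odd (x : leechLattice) (he : (x : GolayPt → ℤ) none % 2 = 0)
    (h : ((x : GolayPt → ℤ) none + (x : GolayPt → ℤ) (some 0) + (x : GolayPt → ℤ) (some 1) +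
      (x : GolayPt → ℤ) (some 7)) % 4 = 2) :
    ((xi • x : leechLattice) : GolayPt → ℤ) none % 2 = 1 := by
  have h2 := two_xi x none
  have h3 : tau none = 0 := rfl
  have h4 : sg none = -1 := rfl
  rw [h3, h4, tsum_zero] at h2
  omega

theorem orb_of_even_aux (x : leechLattice) (he : ∀ i, (x : GolayPt → ℤ) i % 2 = 0)
    (g : Equiv.Perm GolayPt) (hg : g ∈ M24)
    (h : ((x : GolayPt → ℤ) (g none) + (x : GolayPt → ℤ) (g (some 0)) +
      (x : GolayPt → ℤ) (g (some 1)) + (x : GolayPt → ℤ) (g (some 7))) % 4 = 2) :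
    Orb x Cfsg.Spor.leechU ∨ Orb x Cfsg.Spor.leechV ∨ Orb x U4 := by
  have hval : ∀ i, ((permAut g⁻¹ (inv_mem hg) • x : leechLattice) : GolayPt → ℤ) i =
      (x : GolayPt → ℤ) (g i) := fun i => rfl
  have ho := xi_odd (permAut g⁻¹ (inv_mem hg) • x) (by rw [hval]; exact he _)
    (by rw [hval, hval, hval, hval]; exact h)
  have horb : Orb x (xi • (permAut g⁻¹ (inv_mem hg) • x)) :=
    (Orb.of_smul _ _).trans (Orb.of_smul _ _)
  rcases orb_of_odd _ ho with h | h | h
  · exact Or.inl (horb.trans h)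
  · exact Or.inr (Or.inl (horb.trans h))
  · exact Or.inr (Or.inr (horb.trans h))

theorem apply_mem_smul_iff (g : Equiv.Perm GolayPt) (i : GolayPt) (s : Finset GolayPt) :
    g i ∈ g • s ↔ i ∈ s := Finset.smul_mem_smul_finset_iff (s := s) (b := i) g

/-- **Orbits of the automorphism group on the lattice modulo twice the lattice**: every lattice
vector is carried by an automorphism to a vector congruent to `0`, `(4,4,0^22)`, `(-5,-1^23)` or
`(8,0^23)`. -/
theorem orb_cases (x : leechLattice) :
    Orb x 0 ∨ Orb x Cfsg.Spor.leechU ∨ Orb x Cfsg.Spor.leechV ∨ Orb x U4 := by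
  by_cases hpar : (x : GolayPt → ℤ) none % 2 = 0
  swap
  · rcases orb_of_odd x (by omega) with h | h | h
    · exact Or.inr (Or.inl h)
    · exact Or.inr (Or.inr (Or.inl h))
    · exact Or.inr (Or.inr (Or.inr h))
  have hx' := (mem_leechLattice_iff _).1 x.2
  obtain ⟨m, h1, -, h3⟩ := hx'
  have he : ∀ i, (x : GolayPt → ℤ) i % 2 = 0 := by
    intro i
    have hi : (x : GolayPt → ℤ) i % 2 = m % 2 := h1 i
    have hn : (x : GolayPt → ℤ) none % 2 = m % 2 := h1 none
    omega
  have hc2 := h3 2
  have hmem : ∀ i, i ∈ (Finset.univ.filter fun i => (x : GolayPt → ℤ) i ≡ 2 [ZMOD 4]) ↔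
      (x : GolayPt → ℤ) i % 4 = 2 := by
    intro i
    rw [Finset.mem_filter]
    simp only [Finset.mem_univ, true_and]
    exact Iff.rfl
  have aux3 : ∀ T : Prop, (Orb x Cfsg.Spor.leechU ∨ Orb x Cfsg.Spor.leechV ∨ Orb x U4) →
      (Orb x 0 ∨ Orb x Cfsg.Spor.leechU ∨ Orb x Cfsg.Spor.leechV ∨ Orb x U4) := fun _ h => Or.inr h
  rcases Cfsg.Agent.Helper26.card_of_mem_supports hc2 with h | h | h | h | h
  · -- all coordinates divisible by 4
    rw [Finset.card_eq_zero] at h
    have h4 : ∀ i, (x : GolayPt → ℤ) i % 4 = 0 := by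
      intro i
      have h1 : i ∉ (Finset.univ.filter fun i => (x : GolayPt → ℤ) i ≡ 2 [ZMOD 4]) := by
        rw [h]; exact Finset.notMem_empty i
      rw [hmem] at h1
      have := he i
      omega
    rcases orb_of_four_dvd x h4 with h | h | h
    · exact Or.inl h
    · exact Or.inr (Or.inl h)
    · exact Or.inr (Or.inr (Or.inr h))
  · -- an octad
    obtain ⟨g, hg, hgo⟩ := Cfsg.Agent.Helper7.octad_eq_smul_O0 (o := _) ⟨hc2, h⟩
    have hin : ∀ i, (x : GolayPt → ℤ) (g i) % 4 = 2 ↔ i ∈ oct := by
      intro i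
      rw [← hmem, ← hgo, apply_mem_smul_iff]
      rfl
    apply aux3 True
    apply orb_of_even_aux x he g hg
    have a0 : ¬ (x : GolayPt → ℤ) (g none) % 4 = 2 := fun h => none_not_mem_oct ((hin _).1 h)
    have a1 := (hin (some 0)).2 ((mem_oct_iff _).2 (by decide))
    have a2 := (hin (some 1)).2 ((mem_oct_iff _).2 (by decide))
    have a3 := (hin (some 7)).2 ((mem_oct_iff _).2 (by decide))
    have := he (g none)
    omega
  · -- a dodecad
    obtain ⟨g, hg, hgo⟩ := Cfsg.Agent.Helper7.dodecad_eq_smul_D1 (d := _) ⟨hc2, h⟩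
    have hin : ∀ i, (x : GolayPt → ℤ) (g i) % 4 = 2 ↔
        i ∈ Cfsg.Agent.Helper7.setOf Cfsg.Agent.Helper7.D1 := by
      intro i
      rw [← hmem, ← hgo, apply_mem_smul_iff]
    apply aux3 True
    apply orb_of_even_aux x he g hg
    have a0 := (hin none).2 (by decide)
    have a1 := (hin (some 0)).2 (by decide)
    have a2 := (hin (some 1)).2 (by decide)
    have a3 : ¬ (x : GolayPt → ℤ) (g (some 7)) % 4 = 2 := fun h => by
      have := (hin _).1 h
      revert this
      decide
    have := he (g (some 7))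
    omega
  · -- the complement of an octad
    have hcc : ((Finset.univ.filter fun i => (x : GolayPt → ℤ) i ≡ 2 [ZMOD 4])ᶜ).card = 8 := by
      rw [Finset.card_compl, h, card_golayPt]
    obtain ⟨g, hg, hgo⟩ := Cfsg.Agent.Helper7.octad_eq_smul_O0 (o := _)
      ⟨Cfsg.Agent.Helper26.supports_compl hc2, hcc⟩
    have hin : ∀ i, (x : GolayPt → ℤ) (g i) % 4 = 2 ↔ i ∉ oct := by
      intro i
      rw [← hmem]
      have : g i ∈ (Finset.univ.filter fun i => (x : GolayPt → ℤ) i ≡ 2 [ZMOD 4])ᶜ ↔ i ∈ oct := by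
        rw [← hgo, apply_mem_smul_iff]
        rfl
      rw [Finset.mem_compl] at this
      tauto
    apply aux3 True
    apply orb_of_even_aux x he g hg
    have a0 := (hin none).2 none_not_mem_oct
    have a1 : ¬ (x : GolayPt → ℤ) (g (some 0)) % 4 = 2 :=
      fun h => (hin _).1 h ((mem_oct_iff _).2 (by decide))
    have a2 : ¬ (x : GolayPt → ℤ) (g (some 1)) % 4 = 2 :=
      fun h => (hin _).1 h ((mem_oct_iff _).2 (by decide))
    have a3 : ¬ (x : GolayPt → ℤ) (g (some 7)) % 4 = 2 :=
      fun h => (hin _).1 h ((mem_oct_iff _).2 (by decide))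
    have b1 := he (g (some 0))
    have b2 := he (g (some 1))
    have b3 := he (g (some 7))
    omega
  · -- all coordinates congruent to 2 modulo 4
    have h2 : ∀ i, (x : GolayPt → ℤ) i % 4 = 2 := by
      intro i
      rw [← hmem]
      have : (Finset.univ.filter fun i => (x : GolayPt → ℤ) i ≡ 2 [ZMOD 4]) = Finset.univ := by
        apply Finset.eq_univ_of_card
        rw [h, card_golayPt]
      rw [this]
      exact Finset.mem_univ i
    have hc := cong_sub_double x Cfsg.Spor.leechV
    have h4 : ∀ i, ((x - (Cfsg.Spor.leechV + Cfsg.Spor.leechV) : leechLattice) : GolayPt → ℤ) i % 4 = 0 := by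
      intro i
      show ((x : GolayPt → ℤ) i - (Cfsg.Spor.vecV i + Cfsg.Spor.vecV i)) % 4 = 0
      have := h2 i
      have := vecV_odd i
      omega
    rcases orb_of_four_dvd _ h4 with h | h | h
    · exact Or.inl ((Orb.of_cong hc).trans h)
    · exact Or.inr (Or.inl ((Orb.of_cong hc).trans h))
    · exact Or.inr (Or.inr (Or.inr ((Orb.of_cong hc).trans h)))

end Cfsg.Agent.Helper92
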