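import Cfsg.Agent.Helper92.LeechIrr

/-!
# Crosses of the lattice

* `cross_single`: the cross through `(8, 0^23)` is the standard cross.
* `ncard_stdCross`: the standard cross has 48 members.
* `ncard_cross`: every cross through a vector of squared length 64 has 48 members.
-/

set_option autoImplicit false

open scoped Pointwise

namespace Cfsg.Agent.Helper92

open Cfsg Cfsg.Agent.Helper26

/-- a lattice vector of squared length 32 with a nonzero coordinate divisible by 4 has all
coordinates divisible by 4 -/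
theorem four_dvd_of_min {z : GolayPt → ℤ} (hz : z ∈ leechLattice) (hn : sqNorm z = 32)
    (j : GolayPt) (hj : z j % 4 = 0) (hj0 : z j ≠ 0) : ∀ i, z i % 4 = 0 := by
  obtain ⟨m, h1, h2, h3⟩ := (mem_leechLattice_iff z).1 hz
  have hm : m % 2 = 0 := by
    have : z j % 2 = m % 2 := h1 j
    omega
  have hE := h3 2
  have hc := card_of_mem_supports hE
  have hlow : 4 * ((Finset.univ.filter fun i => z i ≡ 2 [ZMOD 4]).card : ℤ) + 16 ≤ sqNorm z := by
    rw [Finset.card_filter]
    push_cast
    rw [Finset.mul_sum]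
    have h16 : (16 : ℤ) = ∑ i : GolayPt, if i = j then 16 else 0 := by simp
    rw [h16, ← Finset.sum_add_distrib]
    apply Finset.sum_le_sum
    intro i _
    by_cases hi : i = j
    · subst hi
      have hne : ¬ (z i ≡ 2 [ZMOD 4]) := by
        show ¬ (z i % 4 = 2 % 4)
        omega
      rw [if_neg hne, if_pos rfl]
      have := sixteen_le_sq _ hj hj0
      linarith
    · rw [if_neg hi]
      split_ifs with hi2
      · have := four_le_sq_of_mod (z i) hi2
        linarith
      · have := sq_nonneg (z i)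
        linarith
  have hc0 : (Finset.univ.filter fun i => z i ≡ 2 [ZMOD 4]).card = 0 := by
    rw [hn] at hlow
    rcases hc with h | h | h | h | h
    · exact h
    all_goals (rw [h] at hlow; norm_num at hlow)
  intro i
  have hi : z i % 2 = m % 2 := h1 i
  have hni : i ∉ Finset.univ.filter fun i => z i ≡ 2 [ZMOD 4] := by
    rw [Finset.card_eq_zero] at hc0
    rw [hc0]
    exact Finset.notMem_empty i
  rw [Finset.mem_filter] at hni
  have h' : ¬ (z i % 4 = 2 % 4) := fun h => hni ⟨Finset.mem_univ _, h⟩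
  omega

theorem sqNorm_single (j : GolayPt) (s : ℤ) : sqNorm (Pi.single j s : GolayPt → ℤ) = s ^ 2 := by
  unfold sqNorm
  rw [Finset.sum_eq_single j]
  · simp
  · intro k _ hk
    simp [hk]
  · intro h
    exact absurd (Finset.mem_univ j) h

theorem dotInt_single_left (j : GolayPt) (s : ℤ) (y : GolayPt → ℤ) :
    dotInt (Pi.single j s : GolayPt → ℤ) y = s * y j := by
  unfold dotInt
  rw [Finset.sum_eq_single j]
  · simp
  · intro k _ hk
    simp [hk]
  · intro h
    exact absurd (Finset.mem_univ j) h

/-- an integer vector of squared length 64 with all coordinates divisible by 8 is in the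
standard cross -/
theorem mem_stdCross_of_eight {y : GolayPt → ℤ} (h8 : ∀ i, y i % 8 = 0) (hn : sqNorm y = 64) :
    y ∈ stdCross := by
  have hy0 : y ≠ 0 := by
    rintro rfl
    simp [sqNorm] at hn
  obtain ⟨i₀, hi₀⟩ : ∃ i, y i ≠ 0 := by
    by_contra hcon
    push Not at hcon
    exact hy0 (funext hcon)
  have hsplit : sqNorm y = y i₀ ^ 2 + ∑ i ∈ Finset.univ.erase i₀, y i ^ 2 :=
    (Finset.add_sum_erase _ _ (Finset.mem_univ i₀)).symm
  have h64 := sixtyfour_le_sq _ (h8 i₀) hi₀
  have hnn : 0 ≤ ∑ i ∈ Finset.univ.erase i₀, y i ^ 2 := Finset.sum_nonneg (fun i _ => sq_nonneg _)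
  have hz : ∑ i ∈ Finset.univ.erase i₀, y i ^ 2 = 0 := by linarith
  have hsq : y i₀ ^ 2 = 64 := by linarith
  have hrest : ∀ i, i ≠ i₀ → y i = 0 := by
    intro i hi
    have := (Finset.sum_eq_zero_iff_of_nonneg (fun i _ => sq_nonneg (y i))).1 hz i
      (Finset.mem_erase.2 ⟨hi, Finset.mem_univ _⟩)
    exact (pow_eq_zero_iff two_ne_zero).1 this
  have hval : y i₀ = 8 ∨ y i₀ = -8 := by
    have : (y i₀ - 8) * (y i₀ + 8) = 0 := by linarith [hsq]
    rcases mul_eq_zero.1 this with h | h
    · left; linarith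
    · right; linarith
  refine ⟨i₀, y i₀, hval, ?_⟩
  funext k
  by_cases hk : k = i₀
  · subst hk; simp
  · rw [Pi.single_apply, if_neg hk]
    exact hrest k hk

/-- a lattice vector of squared length 64 congruent to `±8 e_j` modulo twice the lattice is in
the standard cross -/
theorem mem_stdCross_of_cong {y z : GolayPt → ℤ} (hy : y ∈ leechLattice) (hz : z ∈ leechLattice)
    (j : GolayPt) (s : ℤ) (hs : s = 8 ∨ s = -8) (hyn : sqNorm y = 64)
    (h : Pi.single j s - y = (2 : ℤ) • z) : y ∈ stdCross := by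
  have hvn : sqNorm (Pi.single j s : GolayPt → ℤ) = 64 := by
    rw [sqNorm_single]
    rcases hs with h | h <;> rw [h] <;> norm_num
  rcases leech_congr_two hy hz h hvn.le hyn.le with h1 | h1 | ⟨-, -, h1⟩
  · rw [h1]
    exact ⟨j, s, hs, rfl⟩
  · rw [h1]
    refine ⟨j, -s, by omega, ?_⟩
    rw [Pi.single_neg]
  · rw [dotInt_single_left] at h1
    have hyj : y j = 0 := by
      rcases mul_eq_zero.1 h1 with h0 | h0
      · omega
      · exact h0
    have hzj : 2 * z j = s := by
      have := congrFun h j
      simp only [Pi.sub_apply, Pi.single_eq_same, Pi.smul_apply, smul_eq_mul] at this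
      rw [hyj] at this
      linarith
    have hzn : sqNorm z = 32 := by
      have e1 : sqNorm (Pi.single j s - y) = 4 * sqNorm z := by rw [h, sqNorm_two_zsmul]
      rw [sqNorm_sub, hvn, hyn, dotInt_single_left, h1] at e1
      omega
    have h4 := four_dvd_of_min hz hzn j (by omega) (by omega)
    apply mem_stdCross_of_eight _ hyn
    intro i
    have h5 := congrFun h i
    simp only [Pi.sub_apply, Pi.smul_apply, smul_eq_mul] at h5
    have h6 := h4 i
    by_cases hi : i = j
    · rw [hi, hyj]
      rfl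
    · rw [Pi.single_apply, if_neg hi] at h5
      omega

theorem single_eight_sub : ∀ i : GolayPt,
    (Pi.single none 8 : GolayPt → ℤ) - Pi.single i 8 =
      (2 : ℤ) • ((P none i - P i i : leechLattice) : GolayPt → ℤ) := by
  decide

theorem single_eight_add : ∀ i : GolayPt,
    (Pi.single none 8 : GolayPt → ℤ) - Pi.single i (-8) =
      (2 : ℤ) • ((P none i : leechLattice) : GolayPt → ℤ) := by
  decide

/-- the cross through `(8, 0^23)` is the standard cross -/
theorem cross_single : cross (Pi.single none 8 : GolayPt → ℤ) = stdCross := by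
  ext y
  constructor
  · rintro ⟨hy, hyn, z, hz, h⟩
    rw [sqNorm_single] at hyn
    have h' : (Pi.single none 8 : GolayPt → ℤ) - y = (2 : ℤ) • z := by
      rw [h, two_smul, two_smul]
    exact mem_stdCross_of_cong hy hz none 8 (Or.inl rfl) (by rw [hyn]; norm_num) h'
  · rintro ⟨i, s, hs, rfl⟩
    rcases hs with hs | hs
    · subst hs
      refine ⟨?_, ?_, ((P none i - P i i : leechLattice) : GolayPt → ℤ), (P none i - P i i).2, ?_⟩
      · rw [← P_diag_val]
        exact (P i i).2
      · rw [sqNorm_single, sqNorm_single]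
      · rw [single_eight_sub, two_smul, two_smul]
    · subst hs
      refine ⟨?_, ?_, ((P none i : leechLattice) : GolayPt → ℤ), (P none i).2, ?_⟩
      · rw [Pi.single_neg, ← P_diag_val]
        exact neg_mem (P i i).2
      · rw [sqNorm_single, sqNorm_single]
        norm_num
      · rw [single_eight_add, two_smul, two_smul]

theorem ncard_stdCross : stdCross.ncard = 48 := by
  have h : stdCross = Set.range (fun p : GolayPt × Bool =>
      (Pi.single p.1 (if p.2 then 8 else -8) : GolayPt → ℤ)) := by
    ext y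
    constructor
    · rintro ⟨i, s, hs, rfl⟩
      rcases hs with hs | hs
      · exact ⟨(i, true), by simp [hs]⟩
      · exact ⟨(i, false), by simp [hs]⟩
    · rintro ⟨⟨i, b⟩, rfl⟩
      refine ⟨i, if b then 8 else -8, ?_, rfl⟩
      cases b
      · right; rfl
      · left; rfl
  have hinj : Function.Injective (fun p : GolayPt × Bool =>
      (Pi.single p.1 (if p.2 then 8 else -8) : GolayPt → ℤ)) := by
    rintro ⟨i, b⟩ ⟨i', b'⟩ hh
    have h1 := congrFun hh i
    simp only [Pi.single_eq_same] at h1
    have hii : i = i' := by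
      by_contra hne
      rw [Pi.single_apply, if_neg hne] at h1
      cases b <;> simp at h1
    subst hii
    simp only [Pi.single_eq_same] at h1
    have hb : b = b' := by
      cases b <;> cases b' <;> simp at h1 <;> rfl
    rw [hb]
  rw [h, ← Set.image_univ, Set.ncard_image_of_injective _ hinj, Set.ncard_univ,
    Nat.card_eq_fintype_card, Fintype.card_prod]
  decide

theorem mem_cross_iff (x : leechLattice) (y : GolayPt → ℤ) :
    y ∈ cross (x : GolayPt → ℤ) ↔
      ∃ hy : y ∈ leechLattice, sqNorm y = sqNorm (x : GolayPt → ℤ) ∧ Cong x ⟨y, hy⟩ := by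
  constructor
  · rintro ⟨hy, hyn, z, hz, h⟩
    refine ⟨hy, hyn, ⟨z, hz⟩, Subtype.ext ?_⟩
    show (x : GolayPt → ℤ) = y + (z + z)
    rw [two_smul] at h
    rw [← h]
    abel
  · rintro ⟨hy, hyn, z, h⟩
    refine ⟨hy, hyn, (z : GolayPt → ℤ), z.2, ?_⟩
    have h1 : (x : GolayPt → ℤ) = y + ((z : GolayPt → ℤ) + (z : GolayPt → ℤ)) :=
      congrArg Subtype.val h
    rw [h1, two_smul]
    abel

/-- crosses through vectors in the same orbit modulo twice the lattice are equinumerous -/
theorem ncard_cross_congr (g : Co0) (x u : leechLattice) (h : Cong (g • x) u)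
    (hn : sqNorm (x : GolayPt → ℤ) = sqNorm (u : GolayPt → ℤ)) :
    (cross (x : GolayPt → ℤ)).ncard = (cross (u : GolayPt → ℤ)).ncard := by
  apply Set.ncard_congr
    (fun y hy => ((g • (⟨y, hy.1⟩ : leechLattice) : leechLattice) : GolayPt → ℤ))
  · intro y hy
    obtain ⟨hy1, hy2, hy3⟩ := (mem_cross_iff x y).1 hy
    refine (mem_cross_iff u _).2 ⟨(g • (⟨y, hy1⟩ : leechLattice) : leechLattice).2, ?_, ?_⟩
    · rw [co0_sqNorm, ← hn]
      exact hy2
    · exact h.symm.trans (hy3.smul g)
  · intro a b ha hb hab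
    have h1 : g • (⟨a, ha.1⟩ : leechLattice) = g • (⟨b, hb.1⟩ : leechLattice) := Subtype.ext hab
    have h2 := MulAction.injective g h1
    exact congrArg Subtype.val h2
  · intro w hw
    obtain ⟨hw1, hw2, hw3⟩ := (mem_cross_iff u w).1 hw
    refine ⟨((g⁻¹ • (⟨w, hw1⟩ : leechLattice) : leechLattice) : GolayPt → ℤ),
      (mem_cross_iff x _).2 ⟨(g⁻¹ • (⟨w, hw1⟩ : leechLattice) : leechLattice).2, ?_, ?_⟩, ?_⟩
    · rw [co0_sqNorm, hn]
      exact hw2
    · have := (h.trans hw3).smul g⁻¹
      rwa [inv_smul_smul] at this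
    · show ((g • (g⁻¹ • (⟨w, hw1⟩ : leechLattice)) : leechLattice) : GolayPt → ℤ) = w
      rw [smul_inv_smul]

/-- **Every cross has 48 members.** -/
theorem ncard_cross (x : GolayPt → ℤ) (hx : x ∈ leechLattice) (hxn : sqNorm x = 64) :
    (cross x).ncard = 48 := by
  obtain ⟨g, hg⟩ := orb_U4_of_norm ⟨x, hx⟩ hxn
  have h1 := ncard_cross_congr g ⟨x, hx⟩ U4 hg (by rw [sqNorm_U4]; exact hxn)
  have h2 : ((U4 : leechLattice) : GolayPt → ℤ) = Pi.single none 8 := P_diag_val none
  rw [h2, cross_single, ncard_stdCross] at h1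
  exact h1

end Cfsg.Agent.Helper92
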