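import Cfsg.Agent.Helper92.LeechCong

/-!
# The lattice modulo twice itself has `2^24` elements

`dblSub` is the subgroup of doubles of lattice vectors, and `index_dblSub : dblSub.index = 2^24`.
Also a general fibre-counting lemma for sets.
-/

set_option autoImplicit false

namespace Cfsg.Agent.Helper92

open Cfsg

/-- doubling on integer vectors -/
def dblA : (GolayPt → ℤ) →+ (GolayPt → ℤ) where
  toFun x := x + x
  map_zero' := by simp
  map_add' x y := by abel

theorem dblA_apply (x : GolayPt → ℤ) : dblA x = x + x := rfl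

theorem dblA_injective : Function.Injective dblA := by
  intro x y h
  funext i
  have := congrFun h i
  rw [dblA_apply, dblA_apply] at this
  simp only [Pi.add_apply] at this
  omega

/-- reduction modulo `n` -/
def redMod (n : ℕ) : (GolayPt → ℤ) →+ (GolayPt → ZMod n) where
  toFun x := fun i => (x i : ZMod n)
  map_zero' := by
    funext i
    simp
  map_add' x y := by
    funext i
    simp

theorem redMod_apply (n : ℕ) (x : GolayPt → ℤ) (i : GolayPt) : redMod n x i = (x i : ZMod n) :=
  rfl

theorem redMod_two_ker : (redMod 2).ker = dblA.range := by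
  ext x
  rw [AddMonoidHom.mem_ker, AddMonoidHom.mem_range]
  constructor
  · intro h
    have h2 : ∀ i, (2 : ℤ) ∣ x i := fun i => by
      have h1 := congrFun h i
      rw [redMod_apply] at h1
      exact (ZMod.intCast_zmod_eq_zero_iff_dvd (x i) 2).1 h1
    refine ⟨fun i => x i / 2, ?_⟩
    funext i
    show x i / 2 + x i / 2 = x i
    have := h2 i
    omega
  · rintro ⟨y, rfl⟩
    funext i
    rw [redMod_apply, dblA_apply]
    show ((y i + y i : ℤ) : ZMod 2) = 0
    push_cast
    exact CharTwo.add_self_eq_zero _

theorem redMod_surjective (n : ℕ) [NeZero n] : Function.Surjective (redMod n) := by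
  intro y
  refine ⟨fun i => ((y i).val : ℤ), ?_⟩
  funext i
  rw [redMod_apply]
  simp

theorem index_dblA_range : dblA.range.index = 2 ^ 24 := by
  rw [← redMod_two_ker, AddSubgroup.index_ker,
    AddMonoidHom.range_eq_top.2 (redMod_surjective 2),
    Nat.card_congr AddSubgroup.topEquiv.toEquiv, Nat.card_eq_fintype_card, Fintype.card_fun,
    ZMod.card, card_golayPt]

theorem redMod_eight_ker_le : (redMod 8).ker ≤ leechLattice := by
  intro x hx
  rw [AddMonoidHom.mem_ker] at hx
  have h8 : ∀ i, (8 : ℤ) ∣ x i := fun i => by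
    have h1 := congrFun hx i
    rw [redMod_apply] at h1
    exact (ZMod.intCast_zmod_eq_zero_iff_dvd (x i) 8).1 h1
  apply AddSubgroup.subset_closure
  apply Cfsg.Spor.mem_leechSet_of_const_mod_four x 0 0 (by decide)
  · intro i
    show x i % 4 = 0 % 4
    have := h8 i
    omega
  · show (∑ i, x i) % 8 = (4 * 0) % 8
    have := Finset.dvd_sum (fun i (_ : i ∈ (Finset.univ : Finset GolayPt)) => h8 i)
    omega

theorem index_leech_ne_zero : leechLattice.index ≠ 0 := by
  have h1 : (redMod 8).ker.index ≠ 0 := by
    rw [AddSubgroup.index_ker]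
    exact Nat.card_pos.ne'
  intro h
  have h2 := AddSubgroup.index_dvd_of_le redMod_eight_ker_le
  rw [h] at h2
  exact h1 (Nat.eq_zero_of_zero_dvd h2)

/-- the subgroup of doubles of lattice vectors -/
def dblSub : AddSubgroup leechLattice := (leechLattice.map dblA).addSubgroupOf leechLattice

theorem mem_dblSub (x : leechLattice) : x ∈ dblSub ↔ ∃ z : leechLattice, x = z + z := by
  unfold dblSub
  rw [AddSubgroup.mem_addSubgroupOf, AddSubgroup.mem_map]
  constructor
  · rintro ⟨z, hz, h⟩
    exact ⟨⟨z, hz⟩, Subtype.ext h.symm⟩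
  · rintro ⟨z, rfl⟩
    exact ⟨z, z.2, rfl⟩

/-- **The lattice modulo twice itself has `2^24` elements.** -/
theorem index_dblSub : dblSub.index = 2 ^ 24 := by
  have h1 := AddSubgroup.index_map_of_injective leechLattice dblA_injective
  have hle : leechLattice.map dblA ≤ leechLattice := by
    rintro _ ⟨z, hz, rfl⟩
    rw [dblA_apply]
    exact leechLattice.add_mem hz hz
  have h2 := AddSubgroup.relIndex_mul_index hle
  rw [h1, index_dblA_range, mul_comm] at h2
  exact Nat.eq_of_mul_eq_mul_left (Nat.pos_of_ne_zero index_leech_ne_zero) h2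

theorem card_quot_dblSub : Nat.card (leechLattice ⧸ dblSub) = 2 ^ 24 := index_dblSub

/-- two lattice vectors have the same class iff they are congruent modulo twice the lattice -/
theorem mk_eq_iff (x y : leechLattice) :
    (QuotientAddGroup.mk x : leechLattice ⧸ dblSub) = QuotientAddGroup.mk y ↔ Cong x y := by
  rw [QuotientAddGroup.eq, mem_dblSub]
  constructor
  · rintro ⟨z, hz⟩
    exact ⟨-z, by
      have : y = x + (z + z) := by rw [← hz]; abel
      rw [this]; abel⟩
  · rintro ⟨z, hz⟩
    exact ⟨-z, by rw [hz]; abel⟩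

/-- counting through fibres of constant size, for finsets -/
theorem fiber_count_finset {α β : Type*} [DecidableEq β] (s : Finset α) (t : Finset β)
    (f : α → β) (c : ℕ) (hmaps : ∀ a ∈ s, f a ∈ t)
    (hfib : ∀ b ∈ t, (s.filter (fun a => f a = b)).card = c) : s.card = t.card * c := by
  rw [Finset.card_eq_sum_card_fiberwise hmaps, Finset.sum_congr rfl hfib, Finset.sum_const,
    smul_eq_mul]

/-- counting through fibres of constant size, for sets -/
theorem ncard_eq_mul_of_fibers {α β : Type*} (s : Set α) (hs : s.Finite) (f : α → β) (c : ℕ)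
    (hfib : ∀ a ∈ s, {a' | a' ∈ s ∧ f a' = f a}.ncard = c) : s.ncard = (f '' s).ncard * c := by
  classical
  have h := fiber_count_finset hs.toFinset (hs.toFinset.image f) f c
    (fun a ha => Finset.mem_image_of_mem f ha)
    (fun b hb => by
      obtain ⟨a, ha, rfl⟩ := Finset.mem_image.1 hb
      rw [← hfib a (hs.mem_toFinset.1 ha), ← Set.ncard_coe_finset]
      congr 1
      ext a'
      simp [Set.Finite.mem_toFinset])
  rw [Set.ncard_eq_toFinset_card s hs, h]
  congr 1
  rw [← Set.ncard_coe_finset]
  congr 1
  ext b
  simp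

end Cfsg.Agent.Helper92
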