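import Cfsg.Agent.Helper92.LeechGen
import Cfsg.Agent.Helper92.LeechCo2
import Cfsg.Agent.S5393
import Cfsg.Agent.S0365

/-!
# Subgroups of the monomial group normalised by it

Let `L` be a subgroup of `Co0` normalised by the stabiliser of the standard cross.

* `sign_mem_of_sign`: if `L` contains a sign change other than `±1`, it contains all sign changes;
* `stab_mem_of_not_sign`: if `L` contains a monomial element that is not a sign change, it
  contains the whole stabiliser of the standard cross.
-/

set_option autoImplicit false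

namespace Cfsg.Agent.Helper92

open Cfsg Cfsg.Agent.Helper26
open scoped Pointwise

/-! ### Coordinate permutations -/

theorem permAut_mul (σ τ : Equiv.Perm GolayPt) (hσ : σ ∈ M24) (hτ : τ ∈ M24) :
    permAut (σ * τ) (mul_mem hσ hτ) = permAut σ hσ * permAut τ hτ := by
  apply co0_ext
  intro x
  apply Subtype.ext
  funext k
  rfl

theorem permAut_congr {σ σ' : Equiv.Perm GolayPt} (h : σ = σ') (hσ : σ ∈ M24) (hσ' : σ' ∈ M24) :
    permAut σ hσ = permAut σ' hσ' := by
  subst h
  rfl

theorem permAut_inv' (σ : Equiv.Perm GolayPt) (hσ : σ ∈ M24) :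
    permAut σ⁻¹ (inv_mem hσ) = (permAut σ hσ)⁻¹ := by
  apply eq_inv_of_mul_eq_one_left
  rw [← permAut_mul, permAut_congr (inv_mul_cancel σ) _ (one_mem _), permAut_one]

theorem permAut_mul_signAut (σ : Equiv.Perm GolayPt) (hσ : σ ∈ M24) (c : Finset GolayPt)
    (hc : c ∈ supports (golayCode : Set (GolayPt → ZMod 2))) :
    permAut σ hσ * signAut c hc = signAut (σ • c) (smul_mem_supports hσ hc) * permAut σ hσ := by
  rw [← permAut_conj_signAut σ hσ c hc]
  group

theorem stabCross_signAut (c : Finset GolayPt)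
    (hc : c ∈ supports (golayCode : Set (GolayPt → ZMod 2))) : StabCross (signAut c hc) := by
  have h := stabCross_monomial c hc 1 (one_mem _)
  rwa [permAut_one, mul_one] at h

/-- sign changes -/
def IsSign (γ : Co0) : Prop :=
  ∃ c, ∃ hc : c ∈ supports (golayCode : Set (GolayPt → ZMod 2)), γ = signAut c hc

/-! ### Sign changes in a subgroup normalised by the monomial group -/

/-- the octad `oct ∆ oct1` -/
def oct2 : Finset GolayPt := Cfsg.Agent.Helper7.setOf 0xb067

theorem oct2_mem : oct2 ∈ octads := by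
  have h := Cfsg.Agent.Helper7.setOf_mem_wordsOfWeight (m := 0xb067) (by decide +kernel)
  have h2 : Cfsg.Agent.Helper7.wt 0xb067 = 8 := by decide +kernel
  rw [h2] at h
  exact h

theorem oct2_eq : symmDiff oct oct1 = oct2 := by decide

theorem oct_mem_octads : oct ∈ octads := Cfsg.Agent.Helper7.setOf_O0_mem

theorem oct1_mem_octads : oct1 ∈ octads := by
  have h := Cfsg.Agent.Helper7.setOf_mem_wordsOfWeight (m := 0xa4f8) (by decide +kernel)
  have h2 : Cfsg.Agent.Helper7.wt 0xa4f8 = 8 := by decide +kernel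
  rw [h2] at h
  exact h

/-- two octads completing `oct` to a partition of the 24 points -/
def octA : Finset GolayPt := Cfsg.Agent.Helper7.setOf 0xb66020

/-- two octads completing `oct` to a partition of the 24 points -/
def octB : Finset GolayPt := Cfsg.Agent.Helper7.setOf 0x498b40

theorem octA_mem : octA ∈ octads := by
  have h := Cfsg.Agent.Helper7.setOf_mem_wordsOfWeight (m := 0xb66020) (by decide +kernel)
  have h2 : Cfsg.Agent.Helper7.wt 0xb66020 = 8 := by decide +kernel
  rw [h2] at h
  exact h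

theorem octB_mem : octB ∈ octads := by
  have h := Cfsg.Agent.Helper7.setOf_mem_wordsOfWeight (m := 0x498b40) (by decide +kernel)
  have h2 : Cfsg.Agent.Helper7.wt 0x498b40 = 8 := by decide +kernel
  rw [h2] at h
  exact h

theorem trio_eq : symmDiff (symmDiff oct octA) octB = Finset.univ := by decide

theorem octads_smul {o o' : Finset GolayPt} (ho : o ∈ octads) (ho' : o' ∈ octads) :
    ∃ σ ∈ M24, σ • o = o' := by
  obtain ⟨g, hg, rfl⟩ := Cfsg.Agent.Helper7.octad_eq_smul_O0 ho
  obtain ⟨g', hg', rfl⟩ := Cfsg.Agent.Helper7.octad_eq_smul_O0 ho'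
  exact ⟨g' * g⁻¹, mul_mem hg' (inv_mem hg), by rw [mul_smul, inv_smul_smul]⟩

/-- if a subgroup normalised by the coordinate permutations contains the sign change on one
octad, it contains the sign changes on all octads -/
theorem sign_octads (L : Subgroup Co0)
    (hnorm : ∀ σ : Co0, StabCross σ → ∀ γ ∈ L, σ * γ * σ⁻¹ ∈ L)
    {o : Finset GolayPt} (ho : o ∈ octads) (h : signAut o ho.1 ∈ L)
    {o' : Finset GolayPt} (ho' : o' ∈ octads) : signAut o' ho'.1 ∈ L := by
  obtain ⟨σ, hσ, rfl⟩ := octads_smul ho ho'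
  have h1 := hnorm _ (stabCross_permAut σ hσ) _ h
  rwa [permAut_conj_signAut] at h1

/-- **Sign changes in a subgroup normalised by the monomial group**: if it contains a sign change
other than `±1`, it contains them all. -/
theorem sign_mem_of_sign (L : Subgroup Co0)
    (hnorm : ∀ σ : Co0, StabCross σ → ∀ γ ∈ L, σ * γ * σ⁻¹ ∈ L)
    (c₀ : Finset GolayPt) (hc₀ : c₀ ∈ supports (golayCode : Set (GolayPt → ZMod 2)))
    (h0 : signAut c₀ hc₀ ∈ L) (hne : c₀ ≠ ∅) (hnu : c₀ ≠ Finset.univ)
    (c : Finset GolayPt) (hc : c ∈ supports (golayCode : Set (GolayPt → ZMod 2))) :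
    signAut c hc ∈ L := by
  -- the submodule of words whose sign change lies in `L` up to sign
  let W : Submodule (ZMod 2) (GolayPt → ZMod 2) :=
    { carrier := {w | w ∈ golayCode ∧
        ∃ hw : support₂ w ∈ supports (golayCode : Set (GolayPt → ZMod 2)),
          signAut (support₂ w) hw ∈ L ∨ negAut * signAut (support₂ w) hw ∈ L}
      zero_mem' := by
        refine ⟨golayCode.zero_mem, ?_, ?_⟩
        · rw [support₂_zero]; exact supports_empty
        · left
          rw [signAut_congr support₂_zero _ supports_empty, signAut_empty]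
          exact one_mem L
      add_mem' := by
        rintro x y ⟨hx, hx', hx''⟩ ⟨hy, hy', hy''⟩
        refine ⟨golayCode.add_mem hx hy, ?_, ?_⟩
        · rw [support₂_add]; exact supports_symmDiff hx' hy'
        · rw [signAut_congr (support₂_add x y) _ (supports_symmDiff hx' hy'), ← signAut_mul]
          rcases hx'' with h1 | h1 <;> rcases hy'' with h2 | h2
          · exact Or.inl (mul_mem h1 h2)
          · right
            have := mul_mem h1 h2
            rwa [← mul_assoc, ← negAut_comm, mul_assoc] at this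
          · right
            have := mul_mem h1 h2
            rwa [mul_assoc] at this
          · left
            have := mul_mem h1 h2
            rwa [mul_assoc, ← mul_assoc _ negAut, ← negAut_comm, ← mul_assoc, ← mul_assoc,
              negAut_mul_self, one_mul] at this
      smul_mem' := by
        intro a x hx
        have ha : a = 0 ∨ a = 1 := by revert a; decide
        rcases ha with rfl | rfl
        · rw [zero_smul]
          refine ⟨golayCode.zero_mem, ?_, ?_⟩
          · rw [support₂_zero]; exact supports_empty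
          · left
            rw [signAut_congr support₂_zero _ supports_empty, signAut_empty]
            exact one_mem L
        · rw [one_smul]; exact hx }
  have hmem : ∀ w, w ∈ W ↔ w ∈ golayCode ∧
        ∃ hw : support₂ w ∈ supports (golayCode : Set (GolayPt → ZMod 2)),
          signAut (support₂ w) hw ∈ L ∨ negAut * signAut (support₂ w) hw ∈ L := fun w => Iff.rfl
  have hS := Cfsg.Agent.S5393.result
  have hone : (fun _ : GolayPt => (1 : ZMod 2)) ∈ W := by
    rw [hmem]
    have e : support₂ (fun _ : GolayPt => (1 : ZMod 2)) = Finset.univ := support₂_one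
    refine ⟨hS.1, ?_, ?_⟩
    · rw [e]; exact supports_univ
    · right
      rw [signAut_congr e _ supports_univ, signAut_univ, negAut_mul_self]
      exact one_mem L
  have hle : W ≤ golayCode := fun w hw => ((hmem w).1 hw).1
  have hinv : ∀ σ ∈ M24, ∀ w ∈ W, (fun p => w (σ.symm p)) ∈ W := by
    intro σ hσ w hw
    obtain ⟨h1, h2, h3⟩ := (hmem w).1 hw
    rw [hmem]
    have e := Cfsg.Agent.Helper7.support_comp_symm σ w
    refine ⟨Cfsg.Agent.Helper7.preserves_of_mem_M24 hσ h1, ?_, ?_⟩
    · rw [e]; exact smul_mem_supports hσ h2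
    · rw [signAut_congr e _ (smul_mem_supports hσ h2), ← permAut_conj_signAut σ hσ]
      rcases h3 with h3 | h3
      · exact Or.inl (hnorm _ (stabCross_permAut σ hσ) _ h3)
      · right
        have := hnorm _ (stabCross_permAut σ hσ) _ h3
        rwa [← mul_assoc, ← negAut_comm, mul_assoc, mul_assoc, ← mul_assoc _ _ (permAut σ hσ)⁻¹,
          ← mul_assoc _ _ (permAut σ hσ)⁻¹] at this
  have hW : W = golayCode := by
    rcases hS.2 W hone hle hinv with h | h
    · exfalso
      obtain ⟨w₀, hw₀, rfl⟩ := hc₀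
      have hw : w₀ ∈ W := (hmem w₀).2 ⟨hw₀, Set.mem_image_of_mem _ hw₀, Or.inl h0⟩
      rw [h, Submodule.mem_span_singleton] at hw
      obtain ⟨a, rfl⟩ := hw
      have key : ∀ a : ZMod 2, a = 0 ∨ a = 1 := by decide
      rcases key a with rfl | rfl
      · apply hne
        rw [zero_smul, support₂_zero]
      · apply hnu
        rw [one_smul]
        exact support₂_one
    · exact h
  have hall : ∀ (d : Finset GolayPt) (hd : d ∈ supports (golayCode : Set (GolayPt → ZMod 2))),
      signAut d hd ∈ L ∨ negAut * signAut d hd ∈ L := by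
    rintro _ ⟨w, hw, rfl⟩
    have h1 : w ∈ W := by rw [hW]; exact hw
    obtain ⟨-, h2, h3⟩ := (hmem w).1 h1
    exact h3
  -- some octad
  have hoct : ∃ o, ∃ ho : o ∈ octads, signAut o ho.1 ∈ L := by
    rcases hall oct oct_mem with h | h
    · exact ⟨oct, oct_mem_octads, h⟩
    · rcases hall oct1 oct1_mem with h' | h'
      · exact ⟨oct1, oct1_mem_octads, h'⟩
      · refine ⟨oct2, oct2_mem, ?_⟩
        have := mul_mem h h'
        rwa [mul_assoc, ← mul_assoc _ negAut, ← negAut_comm, ← mul_assoc, ← mul_assoc,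
          negAut_mul_self, one_mul, signAut_mul, signAut_congr oct2_eq _ oct2_mem.1] at this
  obtain ⟨o, ho, hoL⟩ := hoct
  have h1 := sign_octads L hnorm ho hoL oct_mem_octads
  have h2 := sign_octads L hnorm ho hoL octA_mem
  have h3 := sign_octads L hnorm ho hoL octB_mem
  have hneg : negAut ∈ L := by
    have := mul_mem (mul_mem h1 h2) h3
    rwa [signAut_mul, signAut_mul, signAut_congr trio_eq _ supports_univ, signAut_univ] at this
  rcases hall c hc with h | h
  · exact h
  · have := mul_mem hneg h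
    rwa [← mul_assoc, negAut_mul_self, one_mul] at this

/-! ### The permutation parts -/

/-- the permutation parts of the monomial elements of `L` -/
def permSub (L : Subgroup Co0) : Subgroup M24 where
  carrier := {π | ∃ c, ∃ hc : c ∈ supports (golayCode : Set (GolayPt → ZMod 2)),
    signAut c hc * permAut π.1 π.2 ∈ L}
  one_mem' := by
    refine ⟨∅, supports_empty, ?_⟩
    rw [signAut_empty, one_mul]
    show permAut 1 (one_mem _) ∈ L
    rw [permAut_one]
    exact one_mem L
  mul_mem' := by
    rintro ⟨π, hπ⟩ ⟨π', hπ'⟩ ⟨c, hc, h⟩ ⟨c', hc', h'⟩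
    refine ⟨symmDiff c (π • c'), supports_symmDiff hc (smul_mem_supports hπ hc'), ?_⟩
    have := mul_mem h h'
    rw [mul_assoc, ← mul_assoc (permAut π hπ), permAut_mul_signAut, mul_assoc, ← permAut_mul,
      ← mul_assoc, signAut_mul] at this
    exact this
  inv_mem' := by
    rintro ⟨π, hπ⟩ ⟨c, hc, h⟩
    refine ⟨π⁻¹ • c, smul_mem_supports (inv_mem hπ) hc, ?_⟩
    have := inv_mem h
    rw [mul_inv_rev, signAut_inv, ← permAut_inv', permAut_mul_signAut] at this
    exact this

theorem mem_permSub (L : Subgroup Co0) (π : Equiv.Perm GolayPt) (hπ : π ∈ M24) :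
    (⟨π, hπ⟩ : M24) ∈ permSub L ↔ ∃ c, ∃ hc : c ∈ supports (golayCode : Set (GolayPt → ZMod 2)),
      signAut c hc * permAut π hπ ∈ L := Iff.rfl

theorem permSub_normal (L : Subgroup Co0)
    (hnorm : ∀ σ : Co0, StabCross σ → ∀ γ ∈ L, σ * γ * σ⁻¹ ∈ L) : (permSub L).Normal := by
  constructor
  rintro ⟨π, hπ⟩ ⟨c, hc, h⟩ ⟨ρ, hρ⟩
  refine ⟨ρ • c, smul_mem_supports hρ hc, ?_⟩
  have h1 := hnorm _ (stabCross_permAut ρ hρ) _ h
  show signAut (ρ • c) _ * permAut (ρ * π * ρ⁻¹) (mul_mem (mul_mem hρ hπ) (inv_mem hρ)) ∈ L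
  have e : permAut (ρ * π * ρ⁻¹) (mul_mem (mul_mem hρ hπ) (inv_mem hρ)) =
      permAut ρ hρ * permAut π hπ * (permAut ρ hρ)⁻¹ := by
    rw [permAut_mul (ρ * π) ρ⁻¹ (mul_mem hρ hπ) (inv_mem hρ), permAut_mul ρ π hρ hπ, permAut_inv']
  have e2 : permAut ρ hρ * (signAut c hc * permAut π hπ) * (permAut ρ hρ)⁻¹ =
      (permAut ρ hρ * signAut c hc * (permAut ρ hρ)⁻¹) *
        (permAut ρ hρ * permAut π hπ * (permAut ρ hρ)⁻¹) := by group
  rw [e, ← permAut_conj_signAut ρ hρ c hc, ← e2]
  exact h1

theorem oct2_ne_empty : oct2 ≠ ∅ := by decide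

theorem oct2_ne_univ : oct2 ≠ Finset.univ := by decide

/-- **Subgroups normalised by the monomial group**: if such a subgroup contains a monomial
element that is not a sign change, it contains the whole monomial group. -/
theorem stab_mem_of_not_sign (L : Subgroup Co0)
    (hnorm : ∀ σ : Co0, StabCross σ → ∀ γ ∈ L, σ * γ * σ⁻¹ ∈ L)
    (γ₀ : Co0) (h0 : γ₀ ∈ L) (hs : StabCross γ₀) (hns : ¬ IsSign γ₀)
    (g : Co0) (hg : StabCross g) : g ∈ L := by
  have := permSub_normal L hnorm
  have : IsSimpleGroup M24 := Cfsg.Agent.S0365.result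
  have htop : permSub L = ⊤ := by
    rcases Subgroup.Normal.eq_bot_or_eq_top (H := permSub L) inferInstance with h | h
    · exfalso
      obtain ⟨c, hc, σ, hσ, rfl⟩ := stabCross_eq hs
      have h1 : (⟨σ, hσ⟩ : M24) ∈ permSub L := ⟨c, hc, h0⟩
      rw [h, Subgroup.mem_bot] at h1
      have h2 : σ = 1 := congrArg Subtype.val h1
      subst h2
      exact hns ⟨c, hc, by rw [permAut_one, mul_one]⟩
    · exact h
  have hperm : ∀ (π : Equiv.Perm GolayPt) (hπ : π ∈ M24),
      ∃ c, ∃ hc : c ∈ supports (golayCode : Set (GolayPt → ZMod 2)),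
        signAut c hc * permAut π hπ ∈ L := by
    intro π hπ
    have : (⟨π, hπ⟩ : M24) ∈ permSub L := by rw [htop]; exact Subgroup.mem_top _
    exact this
  -- a sign change on an octad
  have hoct : signAut oct2 oct2_mem.1 ∈ L := by
    obtain ⟨σ, hσ, hσo⟩ := octads_smul oct1_mem_octads oct_mem_octads
    obtain ⟨c, hc, hk⟩ := hperm σ hσ
    have h1 := hnorm _ (stabCross_signAut oct1 oct1_mem) _ (inv_mem hk)
    have h2 := mul_mem hk h1
    have e : signAut c hc * permAut σ hσ *
        (signAut oct1 oct1_mem * (signAut c hc * permAut σ hσ)⁻¹ * (signAut oct1 oct1_mem)⁻¹) =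
        signAut c hc * (permAut σ hσ * signAut oct1 oct1_mem * (permAut σ hσ)⁻¹) *
          (signAut c hc)⁻¹ * (signAut oct1 oct1_mem)⁻¹ := by group
    rw [e, permAut_conj_signAut, signAut_inv, signAut_inv, signAut_mul, signAut_mul,
      signAut_mul] at h2
    have e2 : symmDiff (symmDiff (symmDiff c (σ • oct1)) c) oct1 = oct2 := by
      rw [hσo, symmDiff_comm c oct, symmDiff_symmDiff_cancel_right, oct2_eq]
    rwa [signAut_congr e2 _ oct2_mem.1] at h2
  have hsign := sign_mem_of_sign L hnorm oct2 oct2_mem.1 hoct oct2_ne_empty oct2_ne_univ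
  obtain ⟨c, hc, σ, hσ, rfl⟩ := stabCross_eq hg
  obtain ⟨c', hc', hk⟩ := hperm σ hσ
  have h3 := mul_mem (hsign (symmDiff c c') (supports_symmDiff hc hc')) hk
  rw [← mul_assoc, signAut_mul] at h3
  have e3 : symmDiff (symmDiff c c') c' = c := symmDiff_symmDiff_cancel_right c' c
  rwa [signAut_congr e3 _ hc] at h3

end Cfsg.Agent.Helper92
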