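import Cfsg.Agent.Helper92.LeechCenter
import Cfsg.Prelude.Def_SporadicCombinatorics

/-!
# The stabiliser of the standard cross in `Cfsg.Co0` is the monomial group
-/

set_option autoImplicit false

open scoped Pointwise

namespace Cfsg.Agent.Helper92

open Cfsg

/-- the condition of stabilising the standard cross -/
def StabCross (g : Co0) : Prop :=
  ∀ v : leechLattice, (v : GolayPt → ℤ) ∈ stdCross →
    ((g • v : leechLattice) : GolayPt → ℤ) ∈ stdCross

theorem P_diag_val (i : GolayPt) : ((P i i : leechLattice) : GolayPt → ℤ) = Pi.single i 8 := by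
  show e4 i + e4 i = Pi.single i 8
  unfold e4
  rw [← Pi.single_add]
  norm_num

theorem P_diag_mem (i : GolayPt) : ((P i i : leechLattice) : GolayPt → ℤ) ∈ stdCross :=
  ⟨i, 8, Or.inl rfl, P_diag_val i⟩

theorem signFun_single (c : Finset GolayPt) (j : GolayPt) (a : ℤ) :
    signFun c (Pi.single j a) = Pi.single j (if j ∈ c then -a else a) := by
  funext k
  rw [signFun_apply, Pi.single_apply, Pi.single_apply]
  by_cases hk : k = j
  · subst hk
    simp
  · simp [hk]

theorem dotInt_single (i j : GolayPt) (a b : ℤ) :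
    dotInt (Pi.single i a : GolayPt → ℤ) (Pi.single j b) = if i = j then a * b else 0 := by
  unfold dotInt
  by_cases h : i = j
  · subst h
    rw [if_pos rfl, Finset.sum_eq_single i]
    · simp
    · intro k _ hk
      simp [hk]
    · intro h; exact absurd (Finset.mem_univ i) h
  · rw [if_neg h]
    apply Finset.sum_eq_zero
    intro k _
    by_cases hk : k = i
    · subst hk
      simp [h]
    · simp [hk]

theorem mem_M24_of_smul_mem {σ : Equiv.Perm GolayPt}
    (h : ∀ b ∈ supports (golayCode : Set (GolayPt → ZMod 2)),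
      σ • b ∈ supports (golayCode : Set (GolayPt → ZMod 2))) : σ ∈ M24 := by
  rw [Cfsg.Agent.Helper7.mem_M24_iff]
  apply Set.eq_of_subset_of_ncard_le
  · rintro x ⟨b, hb, rfl⟩
    exact h b hb
  · rw [← Set.image_smul, Set.ncard_image_of_injective _ (MulAction.injective σ)]
  · exact Set.toFinite _

/-- the vector with `2` on a code set -/
def twoVec (b : Finset GolayPt) : GolayPt → ℤ := fun k => if k ∈ b then 2 else 0

theorem twoVec_mem {b : Finset GolayPt}
    (hb : b ∈ supports (golayCode : Set (GolayPt → ZMod 2))) : twoVec b ∈ leechLattice := by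
  rw [mem_leechLattice_iff, mem_leechSet_iff]
  refine ⟨0, ?_, ?_, ?_⟩
  · intro k
    show (twoVec b k) % 2 = 0 % 2
    unfold twoVec
    split_ifs <;> decide
  · show (∑ k, twoVec b k) % 8 = (4 * 0) % 8
    unfold twoVec
    rw [Finset.sum_ite_mem, Finset.univ_inter, Finset.sum_const]
    have hc := Cfsg.Agent.Helper26.card_of_mem_supports hb
    rcases hc with h | h | h | h | h <;> rw [h] <;> decide
  · have : lvl (twoVec b) 0 = b := by
      ext k
      rw [mem_lvl]
      show (twoVec b k) % 4 = (0 + 2) % 4 ↔ _
      unfold twoVec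
      by_cases hk : k ∈ b
      · simp [hk]
      · simp [hk]
    rw [this]
    exact hb

theorem vecV_mod : ∀ i : GolayPt, Cfsg.Spor.vecV i % 4 = 3 := by decide

/-- **Every automorphism stabilising the standard cross is monomial.** -/
theorem stabCross_eq {g : Co0} (hg : StabCross g) :
    ∃ (c : Finset GolayPt) (hc : c ∈ supports (golayCode : Set (GolayPt → ZMod 2)))
      (σ : Equiv.Perm GolayPt) (hσ : σ ∈ M24), g = signAut c hc * permAut σ hσ := by
  choose π s hπ using fun i => hg (P i i) (P_diag_mem i)
  have hs : ∀ i, s i = 8 ∨ s i = -8 := fun i => (hπ i).1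
  have hval : ∀ i, ((g • P i i : leechLattice) : GolayPt → ℤ) = Pi.single (π i) (s i) :=
    fun i => (hπ i).2
  have hinj : Function.Injective π := by
    intro i j hij
    by_contra hne
    have h1 := co0_dotInt g (P i i) (P j j)
    rw [hval, hval, P_diag_val, P_diag_val, dotInt_single, dotInt_single, if_pos hij,
      if_neg hne] at h1
    rcases hs i with hi | hi <;> rcases hs j with hj | hj <;> rw [hi, hj] at h1 <;> omega
  have hbij : Function.Bijective π := ⟨hinj, Finite.injective_iff_surjective.1 hinj⟩
  let σ : Equiv.Perm GolayPt := Equiv.ofBijective π hbij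
  have hσ_apply : ∀ i, σ i = π i := fun i => rfl
  have h8 : ∀ (x : leechLattice) (k : GolayPt),
      8 * ((g • x : leechLattice) : GolayPt → ℤ) k =
        (x : GolayPt → ℤ) (σ.symm k) * s (σ.symm k) := by
    intro x k
    have h1 : g • ((8 : ℤ) • x) = ∑ i, ((x : GolayPt → ℤ) i) • (g • P i i) := by
      rw [eight_smul_eq, co0_sum]
      apply Finset.sum_congr rfl
      intro i _
      rw [co0_zsmul]
    rw [co0_zsmul] at h1
    have h2 := congrFun (congrArg Subtype.val h1) k
    simp only [AddSubgroup.coe_zsmul, AddSubgroup.val_finsetSum, Pi.smul_apply,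
      Finset.sum_apply, smul_eq_mul] at h2
    rw [h2, Finset.sum_eq_single (σ.symm k)]
    · rw [hval, ← hσ_apply, Equiv.apply_symm_apply, Pi.single_eq_same]
    · intro i _ hi
      rw [hval, Pi.single_apply, if_neg, mul_zero]
      intro hk
      apply hi
      rw [hk, ← hσ_apply, Equiv.symm_apply_apply]
    · intro h; exact absurd (Finset.mem_univ _) h
  let c : Finset GolayPt := Finset.univ.filter (fun k => s (σ.symm k) = -8)
  have hform : ∀ (x : leechLattice),
      ((g • x : leechLattice) : GolayPt → ℤ) = signFun c (permFun σ (x : GolayPt → ℤ)) := by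
    intro x
    funext k
    have h := h8 x k
    rw [signFun_apply, permFun_apply]
    by_cases hk : k ∈ c
    · have hk' : s (σ.symm k) = -8 := (Finset.mem_filter.1 hk).2
      rw [if_pos hk]
      rw [hk'] at h
      omega
    · have hk' : s (σ.symm k) = 8 := by
        rcases hs (σ.symm k) with h' | h'
        · exact h'
        · have hkc : k ∈ c := Finset.mem_filter.2 ⟨Finset.mem_univ k, h'⟩
          exact absurd hkc hk
      rw [if_neg hk]
      rw [hk'] at h
      omega
  have hσ : σ ∈ M24 := by
    apply mem_M24_of_smul_mem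
    intro b hb
    have hmem : ((g • (⟨twoVec b, twoVec_mem hb⟩ : leechLattice) : leechLattice) :
        GolayPt → ℤ) ∈ leechLattice := Subtype.property _
    rw [hform, mem_leechLattice_iff] at hmem
    obtain ⟨m, -, -, h3⟩ := hmem
    have h32 := h3 2
    have : (Finset.univ.filter fun i =>
        signFun c (permFun σ (twoVec b)) i ≡ 2 [ZMOD 4]) = σ • b := by
      ext k
      rw [Finset.mem_filter, ← Finset.inv_smul_mem_iff]
      simp only [Finset.mem_univ, true_and]
      show (signFun c (permFun σ (twoVec b)) k) % 4 = 2 % 4 ↔ σ.symm k ∈ b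
      rw [signFun_apply, permFun_apply]
      unfold twoVec
      by_cases hk : σ.symm k ∈ b
      · simp only [hk, if_true]
        split_ifs <;> simp
      · simp only [hk, if_false]
        split_ifs <;> simp
    rw [this] at h32
    exact h32
  have hc : c ∈ supports (golayCode : Set (GolayPt → ZMod 2)) := by
    have hmem : ((g • Cfsg.Spor.leechV : leechLattice) : GolayPt → ℤ) ∈ leechLattice :=
      Subtype.property _
    rw [hform, mem_leechLattice_iff] at hmem
    obtain ⟨m, -, -, h3⟩ := hmem
    have h31 : (Finset.univ.filter fun i =>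
        signFun c (permFun σ Cfsg.Spor.vecV) i ≡ 1 [ZMOD 4]) ∈
        supports (golayCode : Set (GolayPt → ZMod 2)) := h3 1
    have : (Finset.univ.filter fun i =>
        signFun c (permFun σ Cfsg.Spor.vecV) i ≡ 1 [ZMOD 4]) = c := by
      ext k
      rw [Finset.mem_filter]
      simp only [Finset.mem_univ, true_and]
      show (signFun c (permFun σ Cfsg.Spor.vecV) k) % 4 = 1 % 4 ↔ k ∈ c
      rw [signFun_apply, permFun_apply]
      have hv := vecV_mod (σ.symm k)
      by_cases hk : k ∈ c
      · simp only [hk, if_true, iff_true]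
        omega
      · simp only [hk, if_false, iff_false]
        omega
    rw [this] at h31
    exact h31
  refine ⟨c, hc, σ, hσ, ?_⟩
  apply co0_ext
  intro x
  apply Subtype.ext
  rw [hform]
  rfl

theorem stabCross_monomial (c : Finset GolayPt)
    (hc : c ∈ supports (golayCode : Set (GolayPt → ZMod 2)))
    (σ : Equiv.Perm GolayPt) (hσ : σ ∈ M24) : StabCross (signAut c hc * permAut σ hσ) := by
  rintro v ⟨i, a, ha, hv⟩
  have h1 : (((signAut c hc * permAut σ hσ) • v : leechLattice) : GolayPt → ℤ) =
      signFun c (permFun σ (v : GolayPt → ℤ)) := rfl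
  rw [h1, hv, permFun_single, signFun_single]
  refine ⟨σ i, _, ?_, rfl⟩
  split_ifs <;> rcases ha with h | h <;> rw [h] <;> simp

theorem monomial_injective (c c' : Finset GolayPt)
    (hc : c ∈ supports (golayCode : Set (GolayPt → ZMod 2)))
    (hc' : c' ∈ supports (golayCode : Set (GolayPt → ZMod 2)))
    (σ σ' : Equiv.Perm GolayPt) (hσ : σ ∈ M24) (hσ' : σ' ∈ M24)
    (h : signAut c hc * permAut σ hσ = signAut c' hc' * permAut σ' hσ') : c = c' ∧ σ = σ' := by
  have key : ∀ i, (Pi.single (σ i) (if σ i ∈ c then (-8 : ℤ) else 8) : GolayPt → ℤ) =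
      Pi.single (σ' i) (if σ' i ∈ c' then (-8 : ℤ) else 8) := by
    intro i
    have h1 : (((signAut c hc * permAut σ hσ) • P i i : leechLattice) : GolayPt → ℤ) =
        signFun c (permFun σ ((P i i : leechLattice) : GolayPt → ℤ)) := rfl
    have h2 : (((signAut c' hc' * permAut σ' hσ') • P i i : leechLattice) : GolayPt → ℤ) =
        signFun c' (permFun σ' ((P i i : leechLattice) : GolayPt → ℤ)) := rfl
    rw [h, h2, P_diag_val, permFun_single, signFun_single, permFun_single, signFun_single] at h1
    exact h1.symm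
  have hσσ : ∀ i, σ i = σ' i := by
    intro i
    have h1 := congrFun (key i) (σ i)
    rw [Pi.single_eq_same, Pi.single_apply] at h1
    by_contra hne
    rw [if_neg hne] at h1
    split_ifs at h1 <;> omega
  have hσeq : σ = σ' := Equiv.ext hσσ
  refine ⟨?_, hσeq⟩
  ext k
  have h1 := congrFun (key (σ.symm k)) k
  rw [← hσσ, Equiv.apply_symm_apply, Pi.single_eq_same, Pi.single_eq_same] at h1
  by_cases hk : k ∈ c
  · by_cases hk' : k ∈ c'
    · simp only [hk, hk']
    · simp only [hk, hk', if_true, if_false] at h1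
      omega
  · by_cases hk' : k ∈ c'
    · simp only [hk, hk', if_true, if_false] at h1
      omega
    · simp only [hk, hk']

theorem card_supports : Nat.card ↥(supports (golayCode : Set (GolayPt → ZMod 2))) = 4096 := by
  rw [← Cfsg.Agent.Helper26.coe_codeF, Nat.card_coe_set_eq, Set.ncard_coe_finset,
    Cfsg.Agent.Helper26.card_codeF]

/-- **The stabiliser of the standard cross has order `4096 * |M24|`.** -/
theorem card_stabCross : Nat.card {g : Co0 // StabCross g} = 4096 * 244823040 := by
  let Φ : ↥(supports (golayCode : Set (GolayPt → ZMod 2))) × ↥M24 → {g : Co0 // StabCross g} :=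
    fun p => ⟨signAut p.1.1 p.1.2 * permAut p.2.1 p.2.2, stabCross_monomial _ _ _ _⟩
  have hΦ : Function.Bijective Φ := by
    constructor
    · rintro ⟨⟨c, hc⟩, ⟨σ, hσ⟩⟩ ⟨⟨c', hc'⟩, ⟨σ', hσ'⟩⟩ h
      have h' := congrArg Subtype.val h
      obtain ⟨h1, h2⟩ := monomial_injective c c' hc hc' σ σ' hσ hσ' h'
      subst h1
      subst h2
      rfl
    · rintro ⟨g, hg⟩
      obtain ⟨c, hc, σ, hσ, rfl⟩ := stabCross_eq hg
      exact ⟨⟨⟨c, hc⟩, ⟨σ, hσ⟩⟩, rfl⟩
  rw [← Nat.card_congr (Equiv.ofBijective Φ hΦ), Nat.card_prod, card_supports,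
    Cfsg.Agent.Helper7.card_M24]

end Cfsg.Agent.Helper92
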