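import Cfsg.Agent.Helper92.LeechAut
import Cfsg.Prelude.Def_Spor_Conway

/-!
# Negation as an element of `Cfsg.Co0`, and linearity of lattice automorphisms
-/

set_option autoImplicit false

namespace Cfsg.Agent.Helper92

open Cfsg

theorem co0_add (g : Co0) (u v : leechLattice) : g • (u + v) = g • u + g • v :=
  g.2.1 u v

theorem co0_sqNorm (g : Co0) (v : leechLattice) :
    sqNorm ((g • v : leechLattice) : GolayPt → ℤ) = sqNorm (v : GolayPt → ℤ) :=
  g.2.2 v

theorem co0_zero (g : Co0) : g • (0 : leechLattice) = 0 := by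
  have h := co0_add g 0 0
  rw [add_zero] at h
  exact left_eq_add.1 h

theorem co0_neg (g : Co0) (v : leechLattice) : g • (-v) = -(g • v) := by
  have h := co0_add g v (-v)
  rw [add_neg_cancel, co0_zero] at h
  exact (neg_eq_of_add_eq_zero_right h.symm).symm

/-- a lattice automorphism as an additive map -/
def co0Hom (g : Co0) : leechLattice →+ leechLattice where
  toFun v := g • v
  map_zero' := co0_zero g
  map_add' := co0_add g

theorem co0_zsmul (g : Co0) (k : ℤ) (v : leechLattice) : g • (k • v) = k • (g • v) :=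
  map_zsmul (co0Hom g) k v

theorem co0_sum {ι : Type*} (g : Co0) (s : Finset ι) (f : ι → leechLattice) :
    g • (∑ i ∈ s, f i) = ∑ i ∈ s, g • f i :=
  map_sum (co0Hom g) f s

theorem co0_dotInt (g : Co0) (u v : leechLattice) :
    dotInt ((g • u : leechLattice) : GolayPt → ℤ) ((g • v : leechLattice) : GolayPt → ℤ) =
      dotInt (u : GolayPt → ℤ) (v : GolayPt → ℤ) := by
  have h1 := co0_sqNorm g (u + v)
  rw [co0_add] at h1
  have h2 : sqNorm (((g • u : leechLattice) : GolayPt → ℤ) + ((g • v : leechLattice) : GolayPt → ℤ)) =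
      sqNorm ((u : GolayPt → ℤ) + (v : GolayPt → ℤ)) := h1
  rw [sqNorm_add, sqNorm_add, co0_sqNorm, co0_sqNorm] at h2
  omega

theorem co0_ext {g h : Co0} (hgh : ∀ v : leechLattice, g • v = h • v) : g = h := by
  apply Subtype.ext
  apply Equiv.ext
  exact hgh

/-- negation as a lattice automorphism -/
def negAut : Co0 :=
  ⟨Equiv.neg leechLattice, ⟨fun v w => neg_add v w, fun v => sqNorm_neg (v : GolayPt → ℤ)⟩⟩

theorem negAut_smul (x : leechLattice) : negAut • x = -x := rfl

theorem negAut_mul_self : negAut * negAut = 1 := by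
  apply co0_ext
  intro v
  show negAut • (negAut • v) = v
  rw [negAut_smul, negAut_smul, neg_neg]

theorem negAut_comm (g : Co0) : negAut * g = g * negAut := by
  apply co0_ext
  intro v
  show negAut • (g • v) = g • (negAut • v)
  rw [negAut_smul, negAut_smul, co0_neg]

theorem negAut_ne_one : negAut ≠ 1 := by
  intro h
  have h1 : negAut • Cfsg.Spor.leechU = Cfsg.Spor.leechU := by rw [h]; rfl
  rw [negAut_smul] at h1
  have h2 : (-Cfsg.Spor.vecU) none = Cfsg.Spor.vecU none := congrFun (congrArg Subtype.val h1) none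
  revert h2
  decide

end Cfsg.Agent.Helper92
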