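import Cfsg.Agent.Helper92.LeechCong

/-!
# The type form on the lattice modulo 2

Every invariant quadratic form on `leechLattice` modulo twice the lattice that is not identically
zero is `x ↦ sqNorm x / 16 mod 2` (`IsInvQuad.eq_type`).
-/

set_option autoImplicit false

namespace Cfsg.Agent.Helper92

open Cfsg

theorem dotInt_add_right' {α : Type*} [Fintype α] (u v w : α → ℤ) :
    dotInt u (v + w) = dotInt u v + dotInt u w := by
  unfold dotInt
  rw [← Finset.sum_add_distrib]
  apply Finset.sum_congr rfl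
  intro i _
  simp only [Pi.add_apply]
  ring

/-- squared lengths modulo 32 are invariants of the orbits of `Co0` modulo twice the lattice -/
theorem Orb.sqNorm_mod {x u : leechLattice} (h : Orb x u) :
    sqNorm (x : GolayPt → ℤ) % 32 = sqNorm (u : GolayPt → ℤ) % 32 := by
  obtain ⟨g, z, hz⟩ := h
  have hn := co0_sqNorm g x
  have h1 : ((g • x : leechLattice) : GolayPt → ℤ) =
      (u : GolayPt → ℤ) + ((z : GolayPt → ℤ) + (z : GolayPt → ℤ)) := by
    rw [hz]; rfl
  rw [← hn, h1, sqNorm_add, dotInt_add_right', sqNorm_add, dotInt_self]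
  have a := leech_sixteen_dvd z.2
  have b := leech_eight_dvd_dotInt u.2 z.2
  omega

theorem IsInvQuad.orb {κ : leechLattice → ZMod 2} (h : IsInvQuad κ) {x u : leechLattice}
    (ho : Orb x u) : κ x = κ u := by
  obtain ⟨g, z, hz⟩ := ho
  rw [← h.inv g x, hz, h.coset]

theorem cast_div_sixteen {a b : ℤ} (ha : (16 : ℤ) ∣ a) (hb : (16 : ℤ) ∣ b)
    (h : a % 32 = b % 32) : ((a / 16 : ℤ) : ZMod 2) = ((b / 16 : ℤ) : ZMod 2) := by
  rw [ZMod.intCast_eq_intCast_iff_dvd_sub]
  push_cast
  omega

theorem z2_ne_zero : ∀ a : ZMod 2, a ≠ 0 → a = 1 := by decide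

/-- **Uniqueness of the invariant quadratic form**: a nonzero invariant quadratic form on the
lattice modulo 2 is the squared length divided by 16, modulo 2. -/
theorem IsInvQuad.eq_type {κ : leechLattice → ZMod 2} (h : IsInvQuad κ)
    (hne : ∃ v : leechLattice, κ v ≠ 0) (v : leechLattice) :
    κ v = ((sqNorm (v : GolayPt → ℤ) / 16 : ℤ) : ZMod 2) := by
  have k0 : κ 0 = 0 := h.zero
  have kU : κ Cfsg.Spor.leechU = 0 := by rw [leechU_eq]; exact h.kappa_P_zero' _ _
  have k4 : κ U4 = 0 := h.kappa_P_zero' _ _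
  have kV : κ Cfsg.Spor.leechV = 1 := by
    obtain ⟨w, hw⟩ := hne
    rcases orb_cases w with ho | ho | ho | ho
    · rw [h.orb ho] at hw; exact absurd k0 hw
    · rw [h.orb ho] at hw; exact absurd kU hw
    · rw [h.orb ho] at hw; exact z2_ne_zero _ hw
    · rw [h.orb ho] at hw; exact absurd k4 hw
  rcases orb_cases v with ho | ho | ho | ho
  · rw [h.orb ho, cast_div_sixteen (leech_sixteen_dvd v.2) (leech_sixteen_dvd (0 : leechLattice).2)
      ho.sqNorm_mod, sqNorm_zero', k0]
    decide
  · rw [h.orb ho, cast_div_sixteen (leech_sixteen_dvd v.2) (leech_sixteen_dvd Cfsg.Spor.leechU.2)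
      ho.sqNorm_mod, sqNorm_leechU, kU]
    decide
  · rw [h.orb ho, cast_div_sixteen (leech_sixteen_dvd v.2) (leech_sixteen_dvd Cfsg.Spor.leechV.2)
      ho.sqNorm_mod, sqNorm_leechV, kV]
    decide
  · rw [h.orb ho, cast_div_sixteen (leech_sixteen_dvd v.2) (leech_sixteen_dvd U4.2)
      ho.sqNorm_mod, sqNorm_U4, k4]
    decide

end Cfsg.Agent.Helper92
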