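import Cfsg.Agent.Helper92.LeechMonomial

/-!
# A non-monomial automorphism of the rank-24 lattice

For the sextet containing the tetrad `{∞, 0, 1, 7}` we construct Conway's automorphism
`xi : Co0`: `x ↦ ε (x - ½ (tetrad sums))`, where `ε` changes the sign on the tetrad `{∞, 0, 1, 7}`.
It is defined through its double `xi2`, an additive map of all integer vectors.
-/

set_option autoImplicit false

namespace Cfsg.Agent.Helper92

open Cfsg

/-! ### Explicit vectors and a Boolean membership test -/

/-- the integer vector given by a list of 24 entries (entry `j` at the point of index `j`,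
the extra point having index 23) -/
def vecL (l : List ℤ) : GolayPt → ℤ := fun p => l.getD (Cfsg.Agent.Helper26.idx p) 0

/-- Boolean membership test for the lattice -/
def leechB (x : GolayPt → ℤ) : Bool :=
  decide (∀ i, x i % 2 = x none % 2) && decide ((∑ i, x i) % 8 = (4 * x none) % 8) &&
    Cfsg.Agent.Helper26.isCode (Cfsg.Agent.Helper26.enc (lvl x (x none)))

theorem mem_of_leechB {x : GolayPt → ℤ} (h : leechB x = true) : x ∈ leechLattice := by
  unfold leechB at h
  simp only [Bool.and_eq_true, decide_eq_true_eq] at h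
  obtain ⟨⟨h1, h2⟩, h3⟩ := h
  rw [mem_leechLattice_iff, mem_leechSet_iff]
  exact ⟨x none, h1, h2, (Cfsg.Agent.Helper26.mem_supports_iff _).2 h3⟩

/-! ### The sextet and the doubled map -/

/-- tetrad index of each point: the tetrads are `{0,1,7,∞}`, `{2,6,19,21}`, `{3,9,16,18}`,
`{4,5,8,15}`, `{10,11,17,22}`, `{12,13,14,20}` -/
def tauL : List ℕ := [0, 0, 1, 2, 3, 3, 1, 0, 3, 2, 4, 4, 5, 5, 5, 3, 2, 4, 2, 1, 5, 1, 4, 0]

/-- the index of the tetrad containing a point -/
def tau (p : GolayPt) : ℕ := tauL.getD (Cfsg.Agent.Helper26.idx p) 0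

/-- sum of the coordinates over the tetrad of index `t` -/
def tsum (x : GolayPt → ℤ) (t : ℕ) : ℤ := ∑ q, if tau q = t then x q else 0

/-- the sign `-1` on the first tetrad, `1` elsewhere -/
def sg (p : GolayPt) : ℤ := if tau p = 0 then -1 else 1

/-- twice the map `x ↦ x - ½ (tetrad sums)` -/
def dmap (x : GolayPt → ℤ) : GolayPt → ℤ := fun p => 2 * x p - tsum x (tau p)

/-- twice the automorphism `xi` -/
def xi2 (x : GolayPt → ℤ) : GolayPt → ℤ := fun p => sg p * dmap x p

/-- twice the inverse of `xi` -/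
def xi2' (x : GolayPt → ℤ) : GolayPt → ℤ := dmap (fun p => sg p * x p)

theorem tau_lt : ∀ p : GolayPt, tau p < 6 := by decide

theorem fiber_card : ∀ t ∈ Finset.range 6, (∑ p : GolayPt, if tau p = t then (1 : ℤ) else 0) = 4 := by
  decide

theorem fiber_card' (p : GolayPt) : (∑ q : GolayPt, if tau q = tau p then (1 : ℤ) else 0) = 4 :=
  fiber_card _ (Finset.mem_range.2 (tau_lt p))

theorem sg_mul_self (p : GolayPt) : sg p * sg p = 1 := by
  unfold sg; split_ifs <;> norm_num

theorem tsum_add (x y : GolayPt → ℤ) (t : ℕ) : tsum (x + y) t = tsum x t + tsum y t := by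
  unfold tsum
  rw [← Finset.sum_add_distrib]
  apply Finset.sum_congr rfl
  intro q _
  split_ifs <;> simp

theorem dmap_add (x y : GolayPt → ℤ) : dmap (x + y) = dmap x + dmap y := by
  funext p
  simp only [dmap, tsum_add, Pi.add_apply]
  ring

theorem xi2_add (x y : GolayPt → ℤ) : xi2 (x + y) = xi2 x + xi2 y := by
  funext p
  simp only [xi2, dmap_add, Pi.add_apply]
  ring

theorem xi2'_add (x y : GolayPt → ℤ) : xi2' (x + y) = xi2' x + xi2' y := by
  unfold xi2'
  rw [← dmap_add]
  congr 1
  funext p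
  simp only [Pi.add_apply]
  ring

theorem tsum_dmap (x : GolayPt → ℤ) (p : GolayPt) :
    tsum (dmap x) (tau p) = -2 * tsum x (tau p) := by
  have h1 : tsum (dmap x) (tau p) =
      ∑ q, (2 * (if tau q = tau p then x q else 0) -
        tsum x (tau p) * (if tau q = tau p then (1 : ℤ) else 0)) := by
    unfold tsum dmap
    apply Finset.sum_congr rfl
    intro q _
    by_cases h : tau q = tau p
    · simp only [h, if_true]
      show 2 * x q - tsum x (tau p) = _
      unfold tsum
      ring
    · simp only [h, if_false]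
      ring
  rw [h1, Finset.sum_sub_distrib, ← Finset.mul_sum, ← Finset.mul_sum, fiber_card']
  unfold tsum
  ring

theorem dmap_dmap (x : GolayPt → ℤ) (p : GolayPt) : dmap (dmap x) p = 4 * x p := by
  show 2 * dmap x p - tsum (dmap x) (tau p) = 4 * x p
  rw [tsum_dmap]
  unfold dmap
  ring

theorem xi2_xi2' (x : GolayPt → ℤ) (p : GolayPt) : xi2 (xi2' x) p = 4 * x p := by
  show sg p * dmap (dmap (fun q => sg q * x q)) p = 4 * x p
  rw [dmap_dmap]
  have := sg_mul_self p
  linear_combination 4 * x p * this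

theorem xi2'_xi2 (x : GolayPt → ℤ) (p : GolayPt) : xi2' (xi2 x) p = 4 * x p := by
  have h : (fun q => sg q * xi2 x q) = dmap x := by
    funext q
    show sg q * (sg q * dmap x q) = dmap x q
    have := sg_mul_self q
    linear_combination dmap x q * this
  show dmap (fun q => sg q * xi2 x q) p = 4 * x p
  rw [h, dmap_dmap]

theorem sum_fiber (f : GolayPt → ℤ) :
    ∑ p, f p = ∑ t ∈ Finset.range 6, ∑ p, if tau p = t then f p else 0 := by
  rw [Finset.sum_comm]
  apply Finset.sum_congr rfl
  intro p _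
  rw [Finset.sum_ite_eq]
  simp [tau_lt p]

theorem sqNorm_dmap (x : GolayPt → ℤ) : sqNorm (dmap x) = 4 * sqNorm x := by
  have hA : ∑ p, x p * tsum x (tau p) = ∑ t ∈ Finset.range 6, tsum x t ^ 2 := by
    rw [sum_fiber]
    apply Finset.sum_congr rfl
    intro t _
    have : ∀ p, (if tau p = t then x p * tsum x (tau p) else 0) =
        tsum x t * (if tau p = t then x p else 0) := by
      intro p
      by_cases h : tau p = t
      · simp only [h, if_true]; ring
      · simp only [h, if_false]; ring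
    simp only [this]
    rw [← Finset.mul_sum]
    unfold tsum
    ring
  have hB : ∑ p, tsum x (tau p) ^ 2 = 4 * ∑ t ∈ Finset.range 6, tsum x t ^ 2 := by
    rw [sum_fiber, Finset.mul_sum]
    apply Finset.sum_congr rfl
    intro t ht
    have : ∀ p, (if tau p = t then tsum x (tau p) ^ 2 else 0) =
        tsum x t ^ 2 * (if tau p = t then (1 : ℤ) else 0) := by
      intro p
      by_cases h : tau p = t
      · simp only [h, if_true]; ring
      · simp only [h, if_false]; ring
    simp only [this]
    rw [← Finset.mul_sum, fiber_card t ht]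
    ring
  unfold sqNorm
  have hexp : ∀ p, dmap x p ^ 2 = 4 * x p ^ 2 - 4 * (x p * tsum x (tau p)) + tsum x (tau p) ^ 2 := by
    intro p
    unfold dmap
    ring
  simp only [hexp]
  rw [Finset.sum_add_distrib, Finset.sum_sub_distrib, ← Finset.mul_sum, ← Finset.mul_sum, hA, hB]
  ring

theorem sqNorm_xi2 (x : GolayPt → ℤ) : sqNorm (xi2 x) = 4 * sqNorm x := by
  rw [← sqNorm_dmap]
  unfold sqNorm
  apply Finset.sum_congr rfl
  intro p _
  show (sg p * dmap x p) ^ 2 = dmap x p ^ 2
  have := sg_mul_self p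
  linear_combination dmap x p ^ 2 * this

theorem sqNorm_xi2' (x : GolayPt → ℤ) : sqNorm (xi2' x) = 4 * sqNorm x := by
  unfold xi2'
  rw [sqNorm_dmap]
  congr 1
  unfold sqNorm
  apply Finset.sum_congr rfl
  intro p _
  show (sg p * x p) ^ 2 = x p ^ 2
  have := sg_mul_self p
  linear_combination x p ^ 2 * this

/-! ### A finite generating set of the lattice -/

/-- generators of the lattice: the vectors `4 e_i + 4 e_∞`, the vector `(-5, -1^23)` and the
vectors `2` on the twelve basis code words -/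
def gens : Set (GolayPt → ℤ) :=
  Set.range (fun i : GolayPt => e4 i + e4 none) ∪ {Cfsg.Spor.vecV} ∪
    (fun b => twoVec (Cfsg.Agent.Helper7.setOf b)) '' {b | b ∈ Cfsg.Agent.Helper7.basis}

theorem setOf_basis_mem {b : ℕ} (hb : b ∈ Cfsg.Agent.Helper7.basis) :
    Cfsg.Agent.Helper7.setOf b ∈ supports (golayCode : Set (GolayPt → ZMod 2)) :=
  ⟨Cfsg.Agent.Helper7.wordOf b, Cfsg.Agent.Helper7.wordOf_basis_mem b hb,
    Cfsg.Agent.Helper7.support_wordOf b⟩

theorem gens_subset : gens ⊆ (leechLattice : Set (GolayPt → ℤ)) := by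
  rintro g ((⟨i, rfl⟩ | hg) | ⟨b, hb, rfl⟩)
  · exact p_mem i none
  · rw [Set.mem_singleton_iff] at hg
    subst hg
    exact AddSubgroup.subset_closure Cfsg.Spor.vecV_mem_leechSet
  · exact twoVec_mem (setOf_basis_mem hb)

theorem closure_gens_le : AddSubgroup.closure gens ≤ leechLattice :=
  (AddSubgroup.closure_le _).2 gens_subset

theorem four_dvd_mem_gens {x : GolayPt → ℤ} (hx : x ∈ leechLattice)
    (h4 : ∀ i, x i % 4 = 0) : x ∈ AddSubgroup.closure gens := by
  have hx' := (mem_leechLattice_iff x).1 hx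
  rw [mem_leechSet_iff] at hx'
  obtain ⟨m, p1, p2, -⟩ := hx'
  have hm : x none % 2 = m % 2 := p1 none
  have p2' : (∑ i, x i) % 8 = (4 * m) % 8 := p2
  have h4n := h4 none
  have hs : (∑ i, x i) % 8 = 0 := by omega
  have hN : ∑ i, x i = 4 * ∑ i, x i / 4 := by
    rw [Finset.mul_sum]
    apply Finset.sum_congr rfl
    intro i _
    have := h4 i
    omega
  have hN2 : (∑ i, x i / 4) % 2 = 0 := by omega
  have key : x = ∑ i, (x i / 4) • (e4 i + e4 none) -
      ((∑ i, x i / 4) / 2) • (e4 none + e4 none) := by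
    funext k
    have hk := h4 k
    simp only [Pi.sub_apply, Pi.smul_apply, Finset.sum_apply, smul_eq_mul, Pi.add_apply, e4_apply]
    have s1 : ∑ i, x i / 4 * ((if k = i then 4 else 0) + (if k = none then 4 else 0)) =
        4 * (x k / 4) + (if k = none then 4 else 0) * ∑ i, x i / 4 := by
      simp only [mul_add, Finset.sum_add_distrib, mul_ite, mul_zero]
      rw [Finset.sum_ite_eq Finset.univ k (fun i => x i / 4 * 4)]
      simp only [Finset.mem_univ, if_true]
      by_cases hkn : k = none
      · simp only [hkn, if_true]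
        rw [← Finset.sum_mul]
        ring
      · simp only [hkn, if_false, Finset.sum_const_zero]
        ring
    rw [s1]
    by_cases hkn : k = none
    · simp only [hkn, if_true]
      subst hkn
      omega
    · simp only [hkn, if_false]
      omega
  rw [key]
  apply sub_mem
  · apply sum_mem
    intro i _
    apply zsmul_mem
    apply AddSubgroup.subset_closure
    left; left
    exact ⟨i, rfl⟩
  · apply zsmul_mem
    apply AddSubgroup.subset_closure
    left; left
    exact ⟨none, rfl⟩

/-- the sum of the vectors `2` on the basis code words selected by the bits of `c` -/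
def tvL : List ℕ → ℕ → (GolayPt → ℤ)
  | [], _ => 0
  | b :: bs, c => ((c % 2 : ℕ) : ℤ) • twoVec (Cfsg.Agent.Helper7.setOf b) + tvL bs (c / 2)

theorem tvL_mod (bs : List ℕ) (c : ℕ) (i : GolayPt) :
    tvL bs c i % 4 = if i ∈ Cfsg.Agent.Helper7.setOf (Cfsg.Agent.Helper7.encL bs c) then 2 else 0 := by
  induction bs generalizing c with
  | nil =>
    show (0 : ℤ) % 4 = if i ∈ Cfsg.Agent.Helper7.setOf 0 then 2 else 0
    rw [Cfsg.Agent.Helper7.setOf_zero]
    simp
  | cons b bs ih =>
    have ih' := ih (c / 2)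
    rw [Cfsg.Agent.Helper7.encL_cons]
    show (((c % 2 : ℕ) : ℤ) * twoVec (Cfsg.Agent.Helper7.setOf b) i + tvL bs (c / 2) i) % 4 = _
    simp only [Cfsg.Agent.Helper7.mem_setOf, Nat.testBit_xor] at ih' ⊢
    unfold twoVec
    simp only [Cfsg.Agent.Helper7.mem_setOf]
    rcases Nat.mod_two_eq_zero_or_one c with h | h
    · rw [h]
      simp only [Nat.cast_zero, zero_mul, zero_add, Nat.zero_testBit, Bool.false_bne]
      exact ih'
    · rw [h]
      simp only [Nat.cast_one, one_mul]
      rcases Bool.eq_false_or_eq_true (b.testBit (Cfsg.Agent.Helper7.idx i)) with hb | hb <;>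
        rcases Bool.eq_false_or_eq_true
          ((Cfsg.Agent.Helper7.encL bs (c / 2)).testBit (Cfsg.Agent.Helper7.idx i)) with he | he
      all_goals simp only [hb, he, Bool.true_bne, Bool.false_bne, Bool.not_true, Bool.not_false,
        if_true, if_false, Bool.false_eq_true] at ih' ⊢
      all_goals omega

theorem tvL_mem_gens (bs : List ℕ) (h : ∀ b ∈ bs, b ∈ Cfsg.Agent.Helper7.basis) (c : ℕ) :
    tvL bs c ∈ AddSubgroup.closure gens := by
  induction bs generalizing c with
  | nil => exact zero_mem _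
  | cons b bs ih =>
    show ((c % 2 : ℕ) : ℤ) • twoVec (Cfsg.Agent.Helper7.setOf b) + tvL bs (c / 2) ∈ _
    apply add_mem
    · apply zsmul_mem
      apply AddSubgroup.subset_closure
      right
      exact ⟨b, h b List.mem_cons_self, rfl⟩
    · exact ih (fun b' hb' => h b' (List.mem_cons_of_mem _ hb')) _

/-- lattice vectors with even coordinates are generated by `gens` -/
theorem even_mem_gens {x : GolayPt → ℤ} (hx : x ∈ leechLattice) (he : x none % 2 = 0) :
    x ∈ AddSubgroup.closure gens := by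
  have hx' := (mem_leechLattice_iff x).1 hx
  obtain ⟨m, h1, -, h3⟩ := hx'
  obtain ⟨w, hw, hS⟩ := h3 2
  obtain ⟨c, -, rfl⟩ := Cfsg.Agent.Helper7.exists_enc_of_mem hw
  rw [Cfsg.Agent.Helper7.support_wordOf] at hS
  have hmem : ∀ i, i ∈ Cfsg.Agent.Helper7.setOf (Cfsg.Agent.Helper7.encL Cfsg.Agent.Helper7.basis c) ↔
      x i % 4 = 2 := by
    intro i
    have : Cfsg.Agent.Helper7.enc c = Cfsg.Agent.Helper7.encL Cfsg.Agent.Helper7.basis c := rfl
    rw [← this, hS, Finset.mem_filter]
    simp only [Finset.mem_univ, true_and]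
    exact Iff.rfl
  have hdec : x = (x - tvL Cfsg.Agent.Helper7.basis c) + tvL Cfsg.Agent.Helper7.basis c := by abel
  rw [hdec]
  have ht := tvL_mem_gens Cfsg.Agent.Helper7.basis (fun b hb => hb) c
  apply add_mem _ ht
  apply four_dvd_mem_gens (sub_mem hx (closure_gens_le ht))
  intro i
  show (x i - tvL Cfsg.Agent.Helper7.basis c i) % 4 = 0
  have ht4 := tvL_mod Cfsg.Agent.Helper7.basis c i
  have hi : x i % 2 = m % 2 := h1 i
  have hn : x none % 2 = m % 2 := h1 none
  by_cases hm : i ∈ Cfsg.Agent.Helper7.setOf (Cfsg.Agent.Helper7.encL Cfsg.Agent.Helper7.basis c)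
  · rw [if_pos hm] at ht4
    have := (hmem i).1 hm
    omega
  · rw [if_neg hm] at ht4
    have : ¬ x i % 4 = 2 := fun h => hm ((hmem i).2 h)
    omega

/-- **The lattice is generated by `gens`.** -/
theorem leech_le_gens : leechLattice ≤ AddSubgroup.closure gens := by
  intro x hx
  by_cases he : x none % 2 = 0
  · exact even_mem_gens hx he
  · have hv : Cfsg.Spor.vecV ∈ leechLattice := AddSubgroup.subset_closure Cfsg.Spor.vecV_mem_leechSet
    have hdec : x = (x - Cfsg.Spor.vecV) + Cfsg.Spor.vecV := by abel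
    rw [hdec]
    apply add_mem
    · apply even_mem_gens (sub_mem hx hv)
      show (x none - Cfsg.Spor.vecV none) % 2 = 0
      have : Cfsg.Spor.vecV none = -5 := rfl
      omega
    · apply AddSubgroup.subset_closure
      left; right
      rfl

theorem closure_gens_eq : AddSubgroup.closure gens = leechLattice :=
  le_antisymm closure_gens_le leech_le_gens

/-! ### The doubled maps send the lattice into twice the lattice -/

/-- twice the lattice -/
def twoLeech : AddSubgroup (GolayPt → ℤ) where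
  carrier := {x | ∃ y ∈ leechLattice, x = (2 : ℤ) • y}
  zero_mem' := ⟨0, zero_mem _, by simp⟩
  add_mem' := by
    rintro a b ⟨y, hy, rfl⟩ ⟨z, hz, rfl⟩
    exact ⟨y + z, add_mem hy hz, by rw [smul_add]⟩
  neg_mem' := by
    rintro a ⟨y, hy, rfl⟩
    exact ⟨-y, neg_mem hy, by rw [smul_neg]⟩

theorem mem_twoLeech {x : GolayPt → ℤ} : x ∈ twoLeech ↔ ∃ y ∈ leechLattice, x = (2 : ℤ) • y :=
  Iff.rfl

theorem mem_twoLeech_of_check (x : GolayPt → ℤ)
    (h : (decide (∀ p, x p % 2 = 0) && leechB (fun p => x p / 2)) = true) : x ∈ twoLeech := by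
  simp only [Bool.and_eq_true, decide_eq_true_eq] at h
  refine ⟨fun p => x p / 2, mem_of_leechB h.2, ?_⟩
  funext p
  have := h.1 p
  show x p = 2 * (x p / 2)
  omega

/-- `xi2` as an additive map -/
def xi2Hom : (GolayPt → ℤ) →+ (GolayPt → ℤ) := AddMonoidHom.mk' xi2 xi2_add

/-- `xi2'` as an additive map -/
def xi2Hom' : (GolayPt → ℤ) →+ (GolayPt → ℤ) := AddMonoidHom.mk' xi2' xi2'_add

theorem xi2_check_e : ∀ i : GolayPt, (decide (∀ p, xi2 (e4 i + e4 none) p % 2 = 0) &&
    leechB (fun p => xi2 (e4 i + e4 none) p / 2)) = true := by decide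

theorem xi2'_check_e : ∀ i : GolayPt, (decide (∀ p, xi2' (e4 i + e4 none) p % 2 = 0) &&
    leechB (fun p => xi2' (e4 i + e4 none) p / 2)) = true := by decide

theorem xi2_check_v : (decide (∀ p, xi2 Cfsg.Spor.vecV p % 2 = 0) &&
    leechB (fun p => xi2 Cfsg.Spor.vecV p / 2)) = true := by decide

theorem xi2'_check_v : (decide (∀ p, xi2' Cfsg.Spor.vecV p % 2 = 0) &&
    leechB (fun p => xi2' Cfsg.Spor.vecV p / 2)) = true := by decide

theorem xi2_check_b : ∀ b ∈ Cfsg.Agent.Helper7.basis,
    (decide (∀ p, xi2 (twoVec (Cfsg.Agent.Helper7.setOf b)) p % 2 = 0) &&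
      leechB (fun p => xi2 (twoVec (Cfsg.Agent.Helper7.setOf b)) p / 2)) = true := by decide

theorem xi2'_check_b : ∀ b ∈ Cfsg.Agent.Helper7.basis,
    (decide (∀ p, xi2' (twoVec (Cfsg.Agent.Helper7.setOf b)) p % 2 = 0) &&
      leechB (fun p => xi2' (twoVec (Cfsg.Agent.Helper7.setOf b)) p / 2)) = true := by decide

theorem xi2_mem {x : GolayPt → ℤ} (hx : x ∈ leechLattice) : xi2 x ∈ twoLeech := by
  have h : AddSubgroup.closure gens ≤ twoLeech.comap xi2Hom := by
    rw [AddSubgroup.closure_le]
    rintro g ((⟨i, rfl⟩ | hg) | ⟨b, hb, rfl⟩)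
    · exact mem_twoLeech_of_check _ (xi2_check_e i)
    · rw [Set.mem_singleton_iff] at hg
      subst hg
      exact mem_twoLeech_of_check _ xi2_check_v
    · exact mem_twoLeech_of_check _ (xi2_check_b b hb)
  exact h (leech_le_gens hx)

theorem xi2'_mem {x : GolayPt → ℤ} (hx : x ∈ leechLattice) : xi2' x ∈ twoLeech := by
  have h : AddSubgroup.closure gens ≤ twoLeech.comap xi2Hom' := by
    rw [AddSubgroup.closure_le]
    rintro g ((⟨i, rfl⟩ | hg) | ⟨b, hb, rfl⟩)
    · exact mem_twoLeech_of_check _ (xi2'_check_e i)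
    · rw [Set.mem_singleton_iff] at hg
      subst hg
      exact mem_twoLeech_of_check _ xi2'_check_v
    · exact mem_twoLeech_of_check _ (xi2'_check_b b hb)
  exact h (leech_le_gens hx)

/-! ### The automorphism -/

/-- half of an integer vector -/
def halfV (x : GolayPt → ℤ) : GolayPt → ℤ := fun p => x p / 2

theorem halfV_two (y : GolayPt → ℤ) : halfV ((2 : ℤ) • y) = y := by
  funext p
  show (2 * y p) / 2 = y p
  omega

theorem two_halfV {x : GolayPt → ℤ} (hx : x ∈ twoLeech) : (2 : ℤ) • halfV x = x := by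
  obtain ⟨y, -, rfl⟩ := hx
  rw [halfV_two]

theorem halfV_mem {x : GolayPt → ℤ} (hx : x ∈ twoLeech) : halfV x ∈ leechLattice := by
  obtain ⟨y, hy, rfl⟩ := hx
  rw [halfV_two]
  exact hy

theorem two_smul_inj {x y : GolayPt → ℤ} (h : (2 : ℤ) • x = (2 : ℤ) • y) : x = y := by
  funext p
  have := congrFun h p
  simp only [Pi.smul_apply, smul_eq_mul] at this
  omega

theorem xi2_smul (x : GolayPt → ℤ) : xi2 ((2 : ℤ) • x) = (2 : ℤ) • xi2 x := by
  rw [two_smul, two_smul, xi2_add]

theorem xi2'_smul (x : GolayPt → ℤ) : xi2' ((2 : ℤ) • x) = (2 : ℤ) • xi2' x := by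
  rw [two_smul, two_smul, xi2'_add]

/-- Conway's automorphism for the sextet of `{∞, 0, 1, 7}` as a function on the lattice -/
def xiFun (x : leechLattice) : leechLattice := ⟨halfV (xi2 x.1), halfV_mem (xi2_mem x.2)⟩

/-- its inverse -/
def xiFun' (x : leechLattice) : leechLattice := ⟨halfV (xi2' x.1), halfV_mem (xi2'_mem x.2)⟩

theorem two_xiFun (x : leechLattice) : (2 : ℤ) • (xiFun x).1 = xi2 x.1 := two_halfV (xi2_mem x.2)

theorem two_xiFun' (x : leechLattice) : (2 : ℤ) • (xiFun' x).1 = xi2' x.1 := two_halfV (xi2'_mem x.2)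

theorem xiFun'_xiFun (x : leechLattice) : xiFun' (xiFun x) = x := by
  apply Subtype.ext
  apply two_smul_inj
  apply two_smul_inj
  rw [two_xiFun', ← xi2'_smul, two_xiFun]
  funext p
  rw [xi2'_xi2]
  simp only [Pi.smul_apply, smul_eq_mul]
  ring

theorem xiFun_xiFun' (x : leechLattice) : xiFun (xiFun' x) = x := by
  apply Subtype.ext
  apply two_smul_inj
  apply two_smul_inj
  rw [two_xiFun, ← xi2_smul, two_xiFun']
  funext p
  rw [xi2_xi2']
  simp only [Pi.smul_apply, smul_eq_mul]
  ring

/-- **Conway's automorphism `ξ` of the lattice** (for the sextet of `{∞, 0, 1, 7}`). -/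
def xi : Co0 :=
  ⟨{ toFun := xiFun
     invFun := xiFun'
     left_inv := xiFun'_xiFun
     right_inv := xiFun_xiFun' },
   ⟨fun v w => by
      apply Subtype.ext
      apply two_smul_inj
      show (2 : ℤ) • (xiFun (v + w)).1 = (2 : ℤ) • ((xiFun v).1 + (xiFun w).1)
      rw [smul_add, two_xiFun, two_xiFun, two_xiFun]
      exact xi2_add v.1 w.1,
    fun v => by
      show sqNorm (xiFun v).1 = sqNorm v.1
      have h1 : sqNorm ((2 : ℤ) • (xiFun v).1) = 4 * sqNorm (xiFun v).1 := sqNorm_two_zsmul _
      rw [two_xiFun, sqNorm_xi2] at h1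
      omega⟩⟩

theorem xi_smul (x : leechLattice) : xi • x = xiFun x := rfl

theorem xi_inv_smul (x : leechLattice) : xi⁻¹ • x = xiFun' x := rfl

/-- the defining formula: `2 (ξ x)_p = ± (2 x_p - (sum of x over the tetrad of p))` -/
theorem two_xi (x : leechLattice) (p : GolayPt) :
    2 * ((xi • x : leechLattice) : GolayPt → ℤ) p = sg p * (2 * (x : GolayPt → ℤ) p - tsum x.1 (tau p)) := by
  have := congrFun (two_xiFun x) p
  exact this

/-- computing `ξ` on an explicit vector -/
theorem xi_eq_of (x : leechLattice) (w : GolayPt → ℤ) (h : ∀ p, xi2 x.1 p = 2 * w p) :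
    ((xi • x : leechLattice) : GolayPt → ℤ) = w := by
  apply two_smul_inj
  rw [xi_smul, two_xiFun]
  funext p
  exact h p

end Cfsg.Agent.Helper92
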