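import Mathlib
import Cfsg.Agent.Helper48.M11UGeo
import Cfsg.Agent.Helper92.M11UAux

set_option autoImplicit false
set_option linter.unusedSectionVars false
set_option linter.unusedVariables false
set_option linter.style.haveILetI false
open scoped Pointwise

namespace Cfsg.Agent.Helper92

open Cfsg.Agent.Helper48.M11U
open Cfsg.Agent.Helper92.M11UAux

universe u
variable {G : Type u} [Group G] [Finite G]

theorem m11u_nn_mu (h : M11Gr G)
    (hthird : ∀ (z : G) (R S U : Sylow 3 G), orderOf z = 2 → Inv z R → Inv z S → R ≠ S →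
      Adj U R → Adj U S → Inv z U)
    (hrn : ∀ z : G, orderOf z = 2 → ∀ P : Sylow 3 G, ¬ Inv z P →
      (∀ Q : Sylow 3 G, Inv z Q → ¬ Adj P Q) → z • P = P)
    (hone : ∀ R P : Sylow 3 G, R ≠ P → ¬ Adj R P →
      ∃ z : G, orderOf z = 2 ∧ Inv z R ∧ ∀ Q : Sylow 3 G, Inv z Q → ¬ Adj P Q)
    (R P : Sylow 3 G) (hne : R ≠ P) (hna : ¬ Adj R P) :
    Nat.card {U : Sylow 3 G // Adj U R ∧ Adj U P} = 8 := by
  classical
  haveI : Fintype (Sylow 3 G) := Fintype.ofFinite _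
  haveI : Fintype G := Fintype.ofFinite _
  obtain ⟨z₀, hz₀, hz₀R, hz₀P⟩ := hone R P hne hna
  have hz₀nP : ¬ Inv z₀ P := fun hP => hna (adj_of_inv hz₀ hz₀R hP hne)
  have hz₀fix : z₀ • P = P := hrn z₀ hz₀ P hz₀nP hz₀P
  have cI : (Finset.univ.filter (fun z : G => orderOf z = 2 ∧ Inv z R)).card = 9 := by
    rw [← natCard_subtype_eq_filter]; exact h.geo.l1.invcount R
  have hz₀I : z₀ ∈ Finset.univ.filter (fun z : G => orderOf z = 2 ∧ Inv z R) := by
    rw [Finset.mem_filter]; exact ⟨Finset.mem_univ _, hz₀, hz₀R⟩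
  have cI' : ((Finset.univ.filter (fun z : G => orderOf z = 2 ∧ Inv z R)).erase z₀).card = 8 := by
    rw [Finset.card_erase_of_mem hz₀I, cI]
  have cW : ∀ z' ∈ ((Finset.univ.filter (fun z : G => orderOf z = 2 ∧ Inv z R)).erase z₀),
      (Finset.univ.filter (fun U : Sylow 3 G => Inv z' U ∧ U ≠ R ∧ Adj U P)).card = 1 := by
    intro z' hz'
    rw [Finset.mem_erase, Finset.mem_filter] at hz'
    obtain ⟨hz'ne, -, hz'2, hz'R⟩ := hz'
    have hex : ∃ Q : Sylow 3 G, Inv z' Q ∧ Adj P Q := by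
      by_contra hcon
      have hcon' : ∀ Q : Sylow 3 G, Inv z' Q → ¬ Adj P Q := fun Q hQ hPQ => hcon ⟨Q, hQ, hPQ⟩
      have hnP : ¬ Inv z' P := fun hP => hna (adj_of_inv hz'2 hz'R hP hne)
      have hfix := hrn z' hz'2 P hnP hcon'
      exact hz'ne (inverter_eq_of_normalize h.geo.l1 hz'2 hz₀ hz'R hz₀R hfix hz₀fix hne)
    obtain ⟨Q, hQ, hPQ⟩ := hex
    have hQR : Q ≠ R := fun e => hna (by rw [← e]; exact adj_symm hPQ)
    rw [Finset.card_eq_one]
    refine ⟨Q, ?_⟩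
    rw [Finset.eq_singleton_iff_unique_mem]
    refine ⟨by rw [Finset.mem_filter]; exact ⟨Finset.mem_univ _, hQ, hQR, adj_symm hPQ⟩, ?_⟩
    intro U hU
    rw [Finset.mem_filter] at hU
    obtain ⟨-, hU1, hU2, hU3⟩ := hU
    by_contra hUQ
    have hP := hthird z' U Q P hz'2 hU1 hQ hUQ (adj_symm hU3) hPQ
    exact hna (adj_of_inv hz'2 hz'R hP hne)
  have hdisj : ∀ z' ∈ ((Finset.univ.filter (fun z : G => orderOf z = 2 ∧ Inv z R)).erase z₀),
      ∀ z'' ∈ ((Finset.univ.filter (fun z : G => orderOf z = 2 ∧ Inv z R)).erase z₀), z' ≠ z'' →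
      Disjoint (Finset.univ.filter (fun U : Sylow 3 G => Inv z' U ∧ U ≠ R ∧ Adj U P))
        (Finset.univ.filter (fun U : Sylow 3 G => Inv z'' U ∧ U ≠ R ∧ Adj U P)) := by
    intro z' hz' z'' hz'' hzz
    rw [Finset.mem_erase, Finset.mem_filter] at hz' hz''
    obtain ⟨-, -, hz'2, hz'R⟩ := hz'
    obtain ⟨-, -, hz''2, hz''R⟩ := hz''
    rw [Finset.disjoint_left]
    intro U h1 h2
    rw [Finset.mem_filter] at h1 h2
    exact hzz (h.geo.l1.uniq z' z'' R U hz'2 hz''2 (fun e => h1.2.2.1 e.symm) hz'R h1.2.1 hz''R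
      h2.2.1)
  have hW : Finset.univ.filter (fun U : Sylow 3 G => Adj U R ∧ Adj U P) =
      ((Finset.univ.filter (fun z : G => orderOf z = 2 ∧ Inv z R)).erase z₀).biUnion
        (fun z' => Finset.univ.filter (fun U : Sylow 3 G => Inv z' U ∧ U ≠ R ∧ Adj U P)) := by
    ext U
    simp only [Finset.mem_filter, Finset.mem_univ, true_and, Finset.mem_biUnion, Finset.mem_erase]
    constructor
    · rintro ⟨hUR, hUP⟩
      obtain ⟨hne', z', hz'2, hz'U, hz'R⟩ := hUR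
      refine ⟨z', ⟨?_, hz'2, hz'R⟩, hz'U, hne', hUP⟩
      intro e
      rw [e] at hz'U
      exact hz₀P U hz'U (adj_symm hUP)
    · rintro ⟨z', ⟨hz'ne, hz'2, hz'R⟩, hz'U, hUR, hUP⟩
      exact ⟨⟨hUR, z', hz'2, hz'U, hz'R⟩, hUP⟩
  rw [natCard_subtype_eq_filter, hW, Finset.card_biUnion hdisj, Finset.sum_congr rfl cW,
    Finset.sum_const, cI']
  rfl

end Cfsg.Agent.Helper92
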