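import Mathlib
import Cfsg.Agent.Helper48.M11UGeo
import Cfsg.Agent.Helper92.M11UAux

set_option autoImplicit false
set_option linter.unusedSectionVars false
set_option linter.unusedVariables false
set_option linter.style.haveILetI false
open scoped Pointwise

namespace Cfsg.Agent.Helper92

open Cfsg.Agent.Helper48.M11U
open Cfsg.Agent.Helper92.M11UAux

universe u
variable {G : Type u} [Group G] [Finite G]

theorem m11u_nn_one (h : M11Gr G)
    (hr4 : ∀ z : G, orderOf z = 2 →
      Nat.card {P : Sylow 3 G // ¬ Inv z P ∧ ∀ Q : Sylow 3 G, Inv z Q → ¬ Adj P Q} = 4)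
    (hrn : ∀ z : G, orderOf z = 2 → ∀ P : Sylow 3 G, ¬ Inv z P →
      (∀ Q : Sylow 3 G, Inv z Q → ¬ Adj P Q) → z • P = P)
    (R P : Sylow 3 G) (hne : R ≠ P) (hna : ¬ Adj R P) :
    ∃ z : G, orderOf z = 2 ∧ Inv z R ∧ ∀ Q : Sylow 3 G, Inv z Q → ¬ Adj P Q := by
  classical
  haveI : Fintype (Sylow 3 G) := Fintype.ofFinite _
  haveI : Fintype G := Fintype.ofFinite _
  have cI : (Finset.univ.filter (fun z : G => orderOf z = 2 ∧ Inv z R)).card = 9 := by
    rw [← natCard_subtype_eq_filter]; exact h.geo.l1.invcount R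
  have cF : ∀ z ∈ (Finset.univ.filter (fun z : G => orderOf z = 2 ∧ Inv z R)),
      (Finset.univ.filter
        (fun P : Sylow 3 G => ¬ Inv z P ∧ ∀ Q : Sylow 3 G, Inv z Q → ¬ Adj P Q)).card = 4 := by
    intro z hz
    have hz2 : orderOf z = 2 := (Finset.mem_filter.1 hz).2.1
    rw [← natCard_subtype_eq_filter]; exact hr4 z hz2
  have c55 : Fintype.card (Sylow 3 G) = 55 := by
    rw [← Nat.card_eq_fintype_card]; exact h.geo.l1.raw.num3
  have cN : (Finset.univ.filter (fun U : Sylow 3 G => Adj R U)).card = 18 := by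
    rw [← natCard_subtype_eq_filter]; exact h.valency R
  have cY : (Finset.univ.filter (fun P' : Sylow 3 G => P' ≠ R ∧ ¬ Adj R P')).card = 36 := by
    have e : Finset.univ.filter (fun P' : Sylow 3 G => P' ≠ R ∧ ¬ Adj R P') =
        (insert R (Finset.univ.filter (fun U : Sylow 3 G => Adj R U)))ᶜ := by
      ext P'
      simp only [Finset.mem_filter, Finset.mem_univ, true_and, Finset.mem_compl,
        Finset.mem_insert, not_or]
    have hnm : R ∉ Finset.univ.filter (fun U : Sylow 3 G => Adj R U) := by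
      simp only [Finset.mem_filter, Finset.mem_univ, true_and]; exact adj_irrefl R
    rw [e, Finset.card_compl, Finset.card_insert_of_notMem hnm, cN, c55]
  have hsub : (Finset.univ.filter (fun z : G => orderOf z = 2 ∧ Inv z R)).biUnion
      (fun z => Finset.univ.filter
        (fun P : Sylow 3 G => ¬ Inv z P ∧ ∀ Q : Sylow 3 G, Inv z Q → ¬ Adj P Q)) ⊆
      Finset.univ.filter (fun P' : Sylow 3 G => P' ≠ R ∧ ¬ Adj R P') := by
    intro P' hP'
    rw [Finset.mem_biUnion] at hP'
    obtain ⟨z, hzI, hP'⟩ := hP'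
    have hz := (Finset.mem_filter.1 hzI).2
    have hP'' := (Finset.mem_filter.1 hP').2
    rw [Finset.mem_filter]
    refine ⟨Finset.mem_univ _, fun e => hP''.1 (by rw [e]; exact hz.2),
      fun e => hP''.2 R hz.2 (adj_symm e)⟩
  have hdisj : ∀ z ∈ (Finset.univ.filter (fun z : G => orderOf z = 2 ∧ Inv z R)),
      ∀ z' ∈ (Finset.univ.filter (fun z : G => orderOf z = 2 ∧ Inv z R)), z ≠ z' →
      Disjoint (Finset.univ.filter
        (fun P : Sylow 3 G => ¬ Inv z P ∧ ∀ Q : Sylow 3 G, Inv z Q → ¬ Adj P Q))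
        (Finset.univ.filter
        (fun P : Sylow 3 G => ¬ Inv z' P ∧ ∀ Q : Sylow 3 G, Inv z' Q → ¬ Adj P Q)) := by
    intro z hzI z' hz'I hzz'
    rw [Finset.disjoint_left]
    intro P' h1 h2
    have hz := (Finset.mem_filter.1 hzI).2
    have hz' := (Finset.mem_filter.1 hz'I).2
    have h1' := (Finset.mem_filter.1 h1).2
    have h2' := (Finset.mem_filter.1 h2).2
    have e1 := hrn z hz.1 P' h1'.1 h1'.2
    have e2 := hrn z' hz'.1 P' h2'.1 h2'.2
    have hRP' : R ≠ P' := fun e => h1'.1 (by rw [← e]; exact hz.2)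
    exact hzz' (inverter_eq_of_normalize h.geo.l1 hz.1 hz'.1 hz.2 hz'.2 e1 e2 hRP')
  have cU : ((Finset.univ.filter (fun z : G => orderOf z = 2 ∧ Inv z R)).biUnion
      (fun z => Finset.univ.filter
        (fun P : Sylow 3 G => ¬ Inv z P ∧ ∀ Q : Sylow 3 G, Inv z Q → ¬ Adj P Q))).card = 36 := by
    rw [Finset.card_biUnion hdisj, Finset.sum_congr rfl cF, Finset.sum_const, cI]; rfl
  have heq := Finset.eq_of_subset_of_card_le hsub (by rw [cY, cU])
  have hPY : P ∈ Finset.univ.filter (fun P' : Sylow 3 G => P' ≠ R ∧ ¬ Adj R P') := by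
    rw [Finset.mem_filter]; exact ⟨Finset.mem_univ _, fun e => hne e.symm, hna⟩
  rw [← heq, Finset.mem_biUnion] at hPY
  obtain ⟨z, hzI, hPz⟩ := hPY
  have hz := (Finset.mem_filter.1 hzI).2
  exact ⟨z, hz.1, hz.2, ((Finset.mem_filter.1 hPz).2).2⟩

end Cfsg.Agent.Helper92
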