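import Cfsg.Agent.Helper92.McLCent

/-!
# The outer automorphism group of `McL` has order 2

An automorphism is normalised on the Frobenius group `11:5` generated by the coordinate
permutations `pB` and `pW`.  The images of the element `yE` of order 5 (which centralises `pW`)
and of the coordinate permutation `pU` (which normalises `⟨pW⟩`) lie in explicit cosets of the
centraliser `⟨yE⟩ × ⟨pW⟩` of `pW`; all but two of the possibilities are excluded by three
relations, and the remaining two are the identity and the conjugation by the involution `tE` of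
`Co3`.
-/

set_option autoImplicit false

namespace Cfsg.Agent.Helper92

theorem card_out_congr {G H : Type*} [Group G] [Group H] (e : G ≃* H) :
    Nat.card (Cfsg.Out G) = Nat.card (Cfsg.Out H) := by
  show (Cfsg.Inn G).index = (Cfsg.Inn H).index
  have h : (Cfsg.Inn G).map ((MulAut.congr e : MulAut G ≃* MulAut H) : MulAut G →* MulAut H) =
      Cfsg.Inn H := by
    ext f
    constructor
    · rintro ⟨_, ⟨g, rfl⟩, rfl⟩
      refine ⟨e g, ?_⟩
      ext x
      simp [MulAut.congr, MulAut.conj_apply]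
    · rintro ⟨h, rfl⟩
      refine ⟨MulAut.conj (e.symm h), ⟨e.symm h, rfl⟩, ?_⟩
      ext x
      simp [MulAut.congr, MulAut.conj_apply]
  rw [← h, Subgroup.index_map_equiv]

namespace McLOut

open Cfsg MulAction Cfsg.Agent.Helper92.Mat Cfsg.Agent.Helper92.Co3Out
open Cfsg.Agent.Helper7 (gA gDbl gA_mem gDbl_mem cubeTwist_mem isTbl_gA isTbl_gDbl
  isTbl_cubeTwist cA cDbl cC cU22 gU22 gU22_mem isTbl_gU22 permOf codeM24 inCode powC tbl IsTbl
  setOf isTbl_pow idx pt gDbl_none gDbl_zero cubeTwist_none cubeTwist_zero gU22_none gU22_zero)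

/-! ### Fingerprints -/

/-- the test vector `yE • (8, 0^23)` -/
def y1L : List ℤ := [3, 1, 1, 3, 1, 1, 1, 1, 1, 1, 1, -1, 1, 1, -1, -1, 1, -1, 1, -1, 1, 1, -1, 5]

theorem yv1_vec' : ((yv1 : leechLattice) : GolayPt → ℤ) = vecL y1L := yv1_vec

/-- the packed word of `yE ^ k * pW ^ i` -/
def ywP (k i : ℕ) : List (List ℕ) := List.replicate k yP ++ List.replicate i wP

/-- the word `yE ^ k * pW ^ i` -/
noncomputable def ywG (k i : ℕ) : List Co0 := List.replicate k yE ++ List.replicate i pW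

theorem ywG_prod (k i : ℕ) : (ywG k i).prod = yE ^ k * pW ^ i := by
  rw [ywG, List.prod_append, List.prod_replicate, List.prod_replicate]

theorem isPk_yw (k i : ℕ) : List.Forall₂ IsPk (ywG k i) (ywP k i) :=
  forall2_append_pk (forall2_replicate_pk isPk_y k) (forall2_replicate_pk isPk_w i)

/-- the first relation moves the test vector -/
def chk1a (bp : List ℕ) (k i : ℕ) : Bool :=
  normOk y1L && decide (pitv ([bp, bp] ++ (ywP k i ++ (ywP k i ++ ([bp] ++ ywP k i)))) 7
    (pkL y1L) ≠ pkL y1L)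

/-- the second relation moves the test vector -/
def chk1b (bp : List ℕ) (k i : ℕ) : Bool :=
  normOk y1L && decide (pitv (ywP k i ++ (ywP k i ++ [bp, bp, bp])) 7 (pkL y1L) ≠ pkL y1L)

theorem fp1_gen {b : Co0} {bp : List ℕ} (hb : IsPk b bp) (k i : ℕ)
    (h : (chk1a bp k i || chk1b bp k i) = true)
    (h1 : (b * (b * (yE ^ k * pW ^ i * (yE ^ k * pW ^ i * (b * (yE ^ k * pW ^ i)))))) ^ 7 = 1)
    (h2 : (yE ^ k * pW ^ i * (yE ^ k * pW ^ i * (b * (b * b)))) ^ 7 = 1) : False := by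
  rw [Bool.or_eq_true] at h
  rcases h with h | h
  · have hF : List.Forall₂ IsPk ([b, b] ++ (ywG k i ++ (ywG k i ++ ([b] ++ ywG k i))))
        ([bp, bp] ++ (ywP k i ++ (ywP k i ++ ([bp] ++ ywP k i)))) :=
      forall2_append_pk (.cons hb (.cons hb .nil)) (forall2_append_pk (isPk_yw k i)
        (forall2_append_pk (isPk_yw k i) (forall2_append_pk (.cons hb .nil) (isPk_yw k i))))
    have e : ([b, b] ++ (ywG k i ++ (ywG k i ++ ([b] ++ ywG k i)))).prod =
        b * (b * (yE ^ k * pW ^ i * (yE ^ k * pW ^ i * (b * (yE ^ k * pW ^ i))))) := by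
      simp only [List.prod_append, List.prod_cons, List.prod_nil, mul_one, ywG_prod, mul_assoc]
    have hne := pow_ne_one_pk hF yv1_vec' 7 h
    rw [e] at hne
    exact hne h1
  · have hF : List.Forall₂ IsPk (ywG k i ++ (ywG k i ++ [b, b, b]))
        (ywP k i ++ (ywP k i ++ [bp, bp, bp])) :=
      forall2_append_pk (isPk_yw k i) (forall2_append_pk (isPk_yw k i)
        (.cons hb (.cons hb (.cons hb .nil))))
    have e : (ywG k i ++ (ywG k i ++ [b, b, b])).prod =
        yE ^ k * pW ^ i * (yE ^ k * pW ^ i * (b * (b * b))) := by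
      simp only [List.prod_append, List.prod_cons, List.prod_nil, mul_one, ywG_prod, mul_assoc]
    have hne := pow_ne_one_pk hF yv1_vec' 7 h
    rw [e] at hne
    exact hne h2

theorem chk1_all : (List.range 5).all (fun k => (List.range 5).all fun i =>
    (chk1a biP k i || chk1b biP k i) &&
      ((i == 0 && (k == 1 || k == 4)) || (chk1a bP k i || chk1b bP k i))) = true := by
  decide +kernel

/-- **The first fingerprint**: the images of `pB` and `yE`. -/
theorem fp1 (ε k i : ℕ) (hε : ε = 1 ∨ ε = 10) (hk : k < 5) (hi : i < 5)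
    (h1 : (pB ^ ε * (pB ^ ε * (yE ^ k * pW ^ i * (yE ^ k * pW ^ i *
      (pB ^ ε * (yE ^ k * pW ^ i)))))) ^ 7 = 1)
    (h2 : (yE ^ k * pW ^ i * (yE ^ k * pW ^ i * (pB ^ ε * (pB ^ ε * pB ^ ε)))) ^ 7 = 1) :
    ε = 1 ∧ i = 0 ∧ (k = 1 ∨ k = 4) := by
  have hall := List.all_eq_true.1 (List.all_eq_true.1 chk1_all k (List.mem_range.2 hk)) i
    (List.mem_range.2 hi)
  rw [Bool.and_eq_true] at hall
  rcases hε with rfl | rfl
  · rw [pow_one] at h1 h2
    have h3 := hall.2
    rw [Bool.or_eq_true] at h3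
    rcases h3 with h3 | h3
    · refine ⟨rfl, ?_⟩
      rw [Bool.and_eq_true, Bool.or_eq_true] at h3
      refine ⟨eq_of_beq h3.1, ?_⟩
      rcases h3.2 with h4 | h4
      · exact Or.inl (eq_of_beq h4)
      · exact Or.inr (eq_of_beq h4)
    · exact (fp1_gen isPk_b k i h3 h1 h2).elim
  · rw [← pB10_eq] at h1 h2
    exact (fp1_gen isPk_bi k i hall.1 h1 h2).elim

/-- the third relation moves the test vector -/
def chk2 (k i : ℕ) : Bool :=
  normOk y1L && decide (pitv ([bP, yP, yP, uP] ++ ywP k i) 3 (pkL y1L) ≠ pkL y1L)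

theorem chk2_all : (List.range 5).all (fun k => (List.range 5).all fun i =>
    (i == 0 && k == 0) || chk2 k i) = true := by
  decide +kernel

/-- **The second fingerprint**: the image of `pU`. -/
theorem fp2 (k i : ℕ) (hk : k < 5) (hi : i < 5)
    (h : (pB * (yE * (yE * (pU * (yE ^ k * pW ^ i))))) ^ 3 = 1) : i = 0 ∧ k = 0 := by
  have hall := List.all_eq_true.1 (List.all_eq_true.1 chk2_all k (List.mem_range.2 hk)) i
    (List.mem_range.2 hi)
  rw [Bool.or_eq_true] at hall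
  rcases hall with h3 | h3
  · rw [Bool.and_eq_true] at h3
    exact ⟨eq_of_beq h3.1, eq_of_beq h3.2⟩
  · exfalso
    have hF : List.Forall₂ IsPk ([pB, yE, yE, pU] ++ ywG k i) ([bP, yP, yP, uP] ++ ywP k i) :=
      forall2_append_pk (.cons isPk_b (.cons isPk_y (.cons isPk_y (.cons isPk_u .nil))))
        (isPk_yw k i)
    have e : ([pB, yE, yE, pU] ++ ywG k i).prod = pB * (yE * (yE * (pU * (yE ^ k * pW ^ i)))) := by
      simp only [List.prod_append, List.prod_cons, List.prod_nil, mul_one, ywG_prod, mul_assoc]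
    have hne := pow_ne_one_pk hF yv1_vec' 3 h3
    rw [e] at hne
    exact hne h

/-! ### The elements of `McL` -/

theorem pB_U : pB • Spor.leechU = Spor.leechU := permAut_leechU _ _ gDbl_none gDbl_zero

theorem pW_U : pW • Spor.leechU = Spor.leechU := permAut_leechU _ _ cubeTwist_none cubeTwist_zero

theorem pU_V : pU • Spor.leechV = Spor.leechV := permAut_leechV _ _ gU22_none

theorem pU_U : pU • Spor.leechU = Spor.leechU := permAut_leechU _ _ gU22_none gU22_zero

/-- the four generators, in `mclSub` -/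
noncomputable def gB : mclSub := ⟨pB, (mem_mclSub _).2 ⟨pB_V, pB_U⟩⟩
noncomputable def gW : mclSub := ⟨pW, (mem_mclSub _).2 ⟨pW_V, pW_U⟩⟩
noncomputable def gU : mclSub := ⟨pU, (mem_mclSub _).2 ⟨pU_V, pU_U⟩⟩
noncomputable def gY : mclSub := ⟨yE, (mem_mclSub _).2 ⟨yE_V, yE_U⟩⟩

/-- the corresponding elements of `m22Sub` -/
noncomputable def m22B : m22Sub := ⟨⟨gDbl, gDbl_mem⟩, Subgroup.mem_inf.2 ⟨gDbl_none, gDbl_zero⟩⟩
noncomputable def m22W : m22Sub :=
  ⟨⟨Cfsg.cubeTwist, cubeTwist_mem⟩, Subgroup.mem_inf.2 ⟨cubeTwist_none, cubeTwist_zero⟩⟩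
noncomputable def m22U : m22Sub := ⟨⟨gU22, gU22_mem⟩, Subgroup.mem_inf.2 ⟨gU22_none, gU22_zero⟩⟩

/-- every coordinate permutation fixing `∞` and `0` lies in a subgroup containing `gB`, `gW`
and `gU` -/
theorem m22HomL_mem (K : Subgroup mclSub) (hB : gB ∈ K) (hW : gW ∈ K) (hU : gU ∈ K)
    (π : m22Sub) : m22HomL π ∈ K := by
  let ι : m22Sub →* Equiv.Perm GolayPt := (Subgroup.subtype M24).comp (Subgroup.subtype m22Sub)
  have hι : Function.Injective ι := by
    intro a b h
    exact Subtype.ext (Subtype.ext h)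
  have h1 : π.1.1 ∈ Subgroup.closure ({gDbl, Cfsg.cubeTwist, gU22} : Set (Equiv.Perm GolayPt)) :=
    Cfsg.Agent.Helper7.M22_le ⟨⟨π.1.2, m22Sub_none π⟩, m22Sub_zero π⟩
  have h2 : ({gDbl, Cfsg.cubeTwist, gU22} : Set (Equiv.Perm GolayPt)) =
      ι '' ({m22B, m22W, m22U} : Set m22Sub) := by
    rw [Set.image_insert_eq, Set.image_pair]
    rfl
  rw [h2, ← MonoidHom.map_closure] at h1
  obtain ⟨π', hπ', he⟩ := h1
  have h3 : π' = π := hι he
  rw [← h3]
  have h4 : Subgroup.closure ({m22B, m22W, m22U} : Set m22Sub) ≤ K.comap m22HomL := by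
    rw [Subgroup.closure_le]
    rintro x (rfl | rfl | rfl)
    exacts [hB, hW, hU]
  exact h4 hπ'

theorem yv1_ne : yE • U4 ≠ U4 := by
  intro h
  have h1 := yv1_vec
  rw [yv1, h, U4_vec] at h1
  have h2 := congrFun h1 (some 0)
  revert h2
  decide

/-- **`McL` is generated by `gB`, `gW`, `gU` and `gY`.** -/
theorem closure_mcl : Subgroup.closure ({gB, gW, gU, gY} : Set mclSub) = ⊤ := by
  set K := Subgroup.closure ({gB, gW, gU, gY} : Set mclSub) with hK
  have hB : gB ∈ K := Subgroup.subset_closure (by simp)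
  have hW : gW ∈ K := Subgroup.subset_closure (by simp)
  have hU : gU ∈ K := Subgroup.subset_closure (by simp)
  have hY : gY ∈ K := Subgroup.subset_closure (by simp)
  apply eq_top_of_stabilizer_le_of_suborbits Spor.leechU' mclSuborb ![330, 462, 1232]
    orbit_mclPt mclPt_notMem mclSuborb_disjoint mclSuborb_finite ncard_mclSuborb mcl_arith_sub
    mcl_suborb_trans K
  · intro g hg
    obtain ⟨π, rfl⟩ := (m22HomL_range g).1 hg
    exact m22HomL_mem K hB hW hU π
  · refine ⟨gY, hY, ?_⟩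
    intro h
    have h' : yE • Spor.leechU' = Spor.leechU' := h
    have e : U4 = Spor.leechU' + Spor.leechU := by
      rw [leechU'_eq]
      abel
    have h4 : yE • U4 = U4 := by
      rw [e, co0_add, h', yE_U]
    exact yv1_ne h4

/-! ### Relations in `McL` -/

theorem orderOf_gB : orderOf gB = 11 := by
  rw [← Subgroup.orderOf_coe]
  show orderOf pB = 11
  rw [← permHom_B, orderOf_injective permHom permHom_injective, ← Subgroup.orderOf_coe]
  exact Cfsg.Agent.Helper7.orderOf_gDbl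

theorem rel_gWB : gW * gB * gW⁻¹ = gB ^ 3 := Subtype.ext rel_WB

/-- the element of `M24` giving `pU` -/
noncomputable def mU : M24 := ⟨gU22, gU22_mem⟩

theorem permHom_U : permHom mU = pU := rfl

theorem rel_UW : pU * pW * pU⁻¹ = pW ^ 2 := by
  have h : mU * mW * mU⁻¹ = mW ^ 2 := Subtype.ext Cfsg.Agent.Helper7.rel_u22_tw
  have h2 := congrArg permHom h
  rwa [map_mul, map_mul, map_inv, map_pow] at h2

theorem rel_gUW : gU * gW * gU⁻¹ = gW ^ 2 := Subtype.ext rel_UW

theorem gY_gW : gY * gW = gW * gY := Subtype.ext yE_comm_pW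

theorem gY_pow5 : gY ^ 5 = 1 := Subtype.ext yE_pow5

theorem gY_ne_one : gY ≠ 1 := by
  intro h
  exact yE_ne_one (congrArg Subtype.val h)

theorem cent_gB (y : ↥mclSub) (hy : y * gB = gB * y) : ∃ j < 11, y = gB ^ j := by
  obtain ⟨j, hj, h⟩ := cent_pB_mcl y.1 ((mem_mclSub _).1 y.2).1 ((mem_mclSub _).1 y.2).2
    (congrArg Subtype.val hy)
  exact ⟨j, hj, Subtype.ext h⟩

theorem cent_gW (y : ↥mclSub) (hy : y * gW = gW * y) :
    ∃ k < 5, ∃ i < 5, y = gY ^ k * gW ^ i := by
  obtain ⟨k, hk, i, hi, h⟩ := cent_pW y.1 ((mem_mclSub _).1 y.2).1 ((mem_mclSub _).1 y.2).2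
    (congrArg Subtype.val hy)
  exact ⟨k, hk, i, hi, Subtype.ext h⟩

theorem gB_pow_eq_one {n : ℕ} (h : gB ^ n = 1) : 11 ∣ n := by
  rw [← orderOf_gB]
  exact orderOf_dvd_of_pow_eq_one h

/-! ### The outer automorphism -/

theorem tE_inv : tE⁻¹ = tE := inv_eq_of_mul_eq_one_left tE_sq

theorem tE_norm (x : Co0) (hx : x ∈ mclSub) : tE * x * tE⁻¹ ∈ mclSub := by
  obtain ⟨hV, hU⟩ := (mem_mclSub x).1 hx
  have h1 : x • co2Pt = co2Pt := by
    show x • (-Spor.leechV - Spor.leechU) = -Spor.leechV - Spor.leechU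
    rw [co0_sub, co0_neg, hV, hU]
  rw [tE_inv, mem_mclSub]
  constructor
  · rw [mul_smul, mul_smul, tE_V, hV, tE_V]
  · rw [mul_smul, mul_smul, tE_U, h1, tE_co2Pt]

theorem tE_norm' (x : Co0) (hx : x ∈ mclSub) : tE⁻¹ * x * tE ∈ mclSub := by
  have h := tE_norm x hx
  rw [tE_inv] at h ⊢
  exact h

/-- the conjugation by `tE`, an automorphism of `McL` -/
noncomputable def tauM : MulAut ↥mclSub := Cfsg.Agent.Helper7.conjAut mclSub tE tE_norm tE_norm'

theorem tau_gB : tauM gB = gB := by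
  apply Subtype.ext
  show tE * pB * tE⁻¹ = pB
  rw [tE_comm_pB, mul_inv_cancel_right]

theorem tau_gW : tauM gW = gW := by
  apply Subtype.ext
  show tE * pW * tE⁻¹ = pW
  rw [tE_comm_pW, mul_inv_cancel_right]

theorem tau_gY : tauM gY = gY ^ 4 := by
  apply Subtype.ext
  show tE * yE * tE⁻¹ = yE ^ 4
  rw [tE_inv]
  have h1 : tE * yE * tE = yE⁻¹ := by
    rw [eq_inv_iff_mul_eq_one]
    exact tE_yE
  have h2 : yE⁻¹ = yE ^ 4 := inv_eq_of_mul_eq_one_left (by rw [← pow_succ]; exact yE_pow5)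
  rw [h1, h2]

/-! ### The automorphisms -/

/-- an automorphism fixing `gB`, `gW` and `gY` is the identity -/
theorem aut_eq_one (γ : MulAut ↥mclSub) (hB : γ gB = gB) (hW : γ gW = gW) (hY : γ gY = gY) :
    γ = 1 := by
  have hc := Cfsg.Agent.Helper7.tied_commute γ (S := gW) (S' := gW ^ 2) (U := gU) hW
    (by rw [map_pow, hW]) rel_gUW
  obtain ⟨k, hk, i, hi, hU⟩ := cent_gW _ hc
  have hγU : γ gU = gU * (gY ^ k * gW ^ i) := by rw [← hU]; group
  have r3 : (gB * (gY * (gY * gU))) ^ 3 = 1 := Subtype.ext rel3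
  have r3' := congrArg γ r3
  simp only [map_pow, map_mul, map_one, hB, hY, hγU] at r3'
  have r3'' : (pB * (yE * (yE * (pU * (yE ^ k * pW ^ i))))) ^ 3 = 1 := congrArg Subtype.val r3'
  obtain ⟨rfl, rfl⟩ := fp2 k i hk hi r3''
  rw [pow_zero, pow_zero, mul_one, mul_one] at hγU
  apply generated_of_fix closure_mcl
  intro x hx
  simp only [Set.mem_insert_iff, Set.mem_singleton_iff] at hx
  rcases hx with rfl | rfl | rfl | rfl
  exacts [hB, hW, hγU, hY]

/-- **Every automorphism of `McL` is inner or the product of `tauM` and an inner one.** -/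
theorem aut_mcl (α : MulAut ↥mclSub) : α ∈ Inn ↥mclSub ∨ tauM * α ∈ Inn ↥mclSub := by
  have : Fact (Nat.Prime 11) := ⟨by norm_num⟩
  have hp2 : ¬ 11 ^ 2 ∣ Nat.card ↥mclSub := by
    rw [card_mclSub]
    norm_num
  have hcent : ∀ y : ↥mclSub, y * gB = gB * y → ∃ i : ℕ, y = gB ^ i := by
    intro y hy
    obtain ⟨j, -, h⟩ := cent_gB y hy
    exact ⟨j, h⟩
  obtain ⟨β, hβ, ε, hε, hγA, hγW⟩ :=
    Cfsg.Agent.Helper7.normalize_frob hp2 orderOf_gB rel_gWB hcent [1, 10] (by decide)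
      (by decide) α
  apply Cfsg.Agent.Helper7.inn_or_of_normalized hβ
  set γ : MulAut ↥mclSub := β * α with hγ
  simp only [List.mem_cons, List.not_mem_nil, or_false] at hε
  -- the image of `gY`
  have h1 : γ gY * gW = gW * γ gY := by
    have h := congrArg γ gY_gW
    rwa [map_mul, map_mul, hγW] at h
  obtain ⟨k, hk, i, hi, hY⟩ := cent_gW _ h1
  have r1 : (gB * (gB * (gY * (gY * (gB * gY))))) ^ 7 = 1 := Subtype.ext rel1
  have r1' := congrArg γ r1
  simp only [map_pow, map_mul, map_one, hγA, hY] at r1'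
  have r1'' : (pB ^ ε * (pB ^ ε * (yE ^ k * pW ^ i * (yE ^ k * pW ^ i *
      (pB ^ ε * (yE ^ k * pW ^ i)))))) ^ 7 = 1 := congrArg Subtype.val r1'
  have r2 : (gY * (gY * (gB * (gB * gB)))) ^ 7 = 1 := Subtype.ext rel2
  have r2' := congrArg γ r2
  simp only [map_pow, map_mul, map_one, hγA, hY] at r2'
  have r2'' : (yE ^ k * pW ^ i * (yE ^ k * pW ^ i * (pB ^ ε * (pB ^ ε * pB ^ ε)))) ^ 7 = 1 :=
    congrArg Subtype.val r2'
  obtain ⟨rfl, rfl, hk14⟩ := fp1 ε k i hε hk hi r1'' r2''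
  rw [pow_one] at hγA
  rw [pow_zero, mul_one] at hY
  rcases hk14 with rfl | rfl
  · left
    exact aut_eq_one γ hγA hγW (by rw [hY, pow_one])
  · right
    apply aut_eq_one
    · rw [MulAut.mul_apply, hγA, tau_gB]
    · rw [MulAut.mul_apply, hγW, tau_gW]
    · rw [MulAut.mul_apply, hY, map_pow, tau_gY, ← pow_mul]
      calc gY ^ (4 * 4) = (gY ^ 5) ^ 3 * gY := by rw [← pow_mul, ← pow_succ]
        _ = gY := by rw [gY_pow5, one_pow, one_mul]

theorem tau_not_inner : tauM ∉ Inn ↥mclSub := by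
  rintro ⟨m, hm⟩
  have hB : m * gB * m⁻¹ = gB := by
    rw [← MulAut.conj_apply, hm, tau_gB]
  have hW : m * gW * m⁻¹ = gW := by
    rw [← MulAut.conj_apply, hm, tau_gW]
  have hY : m * gY * m⁻¹ = gY ^ 4 := by
    rw [← MulAut.conj_apply, hm, tau_gY]
  obtain ⟨j, hj, rfl⟩ := cent_gB m (mul_inv_eq_iff_eq_mul.1 hB)
  have hcW : gB ^ j * gW = gW * gB ^ j := mul_inv_eq_iff_eq_mul.1 hW
  have h4 : gW * gB ^ j * gW⁻¹ = (gB ^ 3) ^ j := by
    rw [← rel_gWB, conj_pow]
  have h5 : gB ^ j = (gB ^ 3) ^ j := by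
    rw [← h4, ← hcW]
    group
  have h6 : gB ^ (2 * j) = 1 := by
    have h7 : (gB ^ 3) ^ j = gB ^ j * gB ^ (2 * j) := by
      rw [← pow_mul, ← pow_add]
      congr 1
      ring
    rw [h7] at h5
    have h5' : gB ^ j * 1 = gB ^ j * gB ^ (2 * j) := by rw [mul_one]; exact h5
    exact (mul_left_cancel h5').symm
  have h8 := gB_pow_eq_one h6
  have h9 : j = 0 := by omega
  subst h9
  rw [pow_zero, one_mul, inv_one, mul_one] at hY
  have h3 : gY ^ 3 = 1 := by
    have h10 : gY * 1 = gY * gY ^ 3 := by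
      rw [mul_one, ← pow_succ']
      exact hY
    exact (mul_left_cancel h10).symm
  apply gY_ne_one
  calc gY = gY ^ 5 * gY := by rw [gY_pow5, one_mul]
    _ = (gY ^ 3) ^ 2 := by rw [← pow_succ, ← pow_mul]
    _ = 1 := by rw [h3, one_pow]

/-! ### Transfer to `Spor.McL` -/

/-- `mclSub` is the group `Spor.McL` -/
def mclEquiv : ↥mclSub ≃* ↥Spor.McL where
  toFun g := ⟨g.1.1, ⟨⟨g.1.2, g.2.1⟩, g.2.2⟩⟩
  invFun g := ⟨⟨g.1, g.2.1.1⟩, ⟨g.2.1.2, g.2.2⟩⟩
  left_inv _ := rfl
  right_inv _ := rfl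
  map_mul' _ _ := rfl

theorem card_out_McL : Nat.card (Out ↥Spor.McL) = 2 := by
  rw [← card_out_congr mclEquiv]
  exact Cfsg.Agent.Helper7.card_out_eq_two tauM tau_not_inner aut_mcl

end McLOut

end Cfsg.Agent.Helper92
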