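import Cfsg.Agent.Helper92.McLInvData
import Cfsg.Agent.Helper75.McLInvGEN

/-!
# The centraliser of a sign change on an octad in a copy of the McLaughlin group: the action on
an invariant 4-space

The classes modulo 2 of the images of `8 e_∞` under the centraliser `CZ` span a 4-dimensional
subspace of the octad lattice modulo 2.  It is invariant, and the action on it is a surjective
homomorphism `rS : CZ →* SL(4, 2)` with kernel `{1, zz}`.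
-/

set_option autoImplicit false
open scoped Pointwise

namespace Cfsg.Agent.Helper92.McLInv

open Cfsg MulAction Cfsg.Agent.Helper92.Mat Cfsg.Agent.Helper92.Co3Out Cfsg.Agent.Helper92.Co2Inv
open Cfsg.Agent.Helper7 (inCode setOf idx pt)

/-! ### The fifteen vectors and their classes -/

/-- the fifteen vectors of the orbit of `8 e_a` -/
def yvN : ℕ → leechLattice
  | 0 => P aP aP
  | n + 1 => if n < 7 then vv + P (pp n) (qq n)
      else vv + (P (pp (n - 7)) (pp (n - 7)) - P (pp (n - 7)) (qq (n - 7)))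

theorem orbit_yv {g : Co0} (hg : g ∈ CZ) : ∃ i : Fin 15, g • P aP aP = yvN i.val := by
  rcases orbit_Paa hg with h | ⟨k, hk, h | h⟩
  · exact ⟨0, h⟩
  · refine ⟨⟨k + 1, by omega⟩, ?_⟩
    show g • P aP aP = if k < 7 then vv + P (pp k) (qq k)
      else vv + (P (pp (k - 7)) (pp (k - 7)) - P (pp (k - 7)) (qq (k - 7)))
    rw [if_pos hk]
    exact h
  · refine ⟨⟨k + 7 + 1, by omega⟩, ?_⟩
    show g • P aP aP = if k + 7 < 7 then vv + P (pp (k + 7)) (qq (k + 7))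
      else vv + (P (pp (k + 7 - 7)) (pp (k + 7 - 7)) - P (pp (k + 7 - 7)) (qq (k + 7 - 7)))
    rw [if_neg (by omega), Nat.add_sub_cancel]
    exact h

/-- the classes modulo 2 of the fifteen vectors -/
def cyT : Fin 15 → Fin 8 → ZMod 2 :=
  ![![0, 0, 1, 0, 0, 0, 1, 0],
    ![0, 1, 1, 1, 1, 0, 1, 0],
    ![1, 1, 1, 1, 0, 0, 1, 0],
    ![1, 0, 1, 0, 0, 0, 1, 1],
    ![0, 0, 1, 0, 1, 0, 1, 1],
    ![1, 1, 0, 1, 1, 0, 0, 1],
    ![0, 1, 0, 1, 0, 0, 0, 1],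
    ![1, 0, 0, 0, 1, 0, 0, 0],
    ![0, 1, 0, 1, 1, 0, 0, 0],
    ![1, 1, 0, 1, 0, 0, 0, 0],
    ![1, 0, 0, 0, 0, 0, 0, 1],
    ![0, 0, 0, 0, 1, 0, 0, 1],
    ![1, 1, 1, 1, 1, 0, 1, 1],
    ![0, 1, 1, 1, 0, 0, 1, 1],
    ![1, 0, 1, 0, 1, 0, 1, 0]]

theorem c8_yv : ∀ i : Fin 15, c8 (yvN i.val) = cyT i := by decide +kernel

theorem cyT_inj : ∀ i j : Fin 15, cyT i = cyT j → i = j := by decide +kernel

theorem c8_orbit {g : Co0} (hg : g ∈ CZ) : ∃ i : Fin 15, c8 (g • P none none) = cyT i := by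
  obtain ⟨i, hi⟩ := orbit_yv hg
  exact ⟨i, by rw [← c8_Paa, hi, c8_yv]⟩

/-! ### The orbit of the class of `8 e_∞` -/

/-- the classes modulo 2 of the images of `8 e_∞` under the centraliser -/
def Orb (v : Fin 8 → ZMod 2) : Prop := ∃ h : Co0, h ∈ CZ ∧ c8 (h • P none none) = v

theorem supp_img {h : Co0} (hh : h ∈ CZ) : Supp (h • P none none) :=
  supp_smul8 (comm_t0 (mem_CZ.1 hh).2.2) (supp_P none_OO none_OO)

theorem c8_Pnn : c8 (P none none) = cyT 0 := by decide +kernel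

theorem orb_0 : Orb (cyT 0) := ⟨1, one_mem _, by rw [one_smul]; exact c8_Pnn⟩

theorem orb_step {γ : Co0} (hγ : γ ∈ CZ) {G : Matrix (Fin 8) (Fin 8) (ZMod 2)} (hG : mat8 γ = G)
    {v : Fin 8 → ZMod 2} (hv : Orb v) (w : Fin 8 → ZMod 2) (e : G.mulVec v = w) : Orb w := by
  obtain ⟨h, hh, rfl⟩ := hv
  refine ⟨γ * h, mul_mem hγ hh, ?_⟩
  rw [mul_smul, c8_smul γ _ (supp_img hh), hG, e]

theorem orb_14 : Orb (cyT 14) := orb_step gaM ga8 orb_0 _ (by decide +kernel)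

theorem orb_11 : Orb (cyT 11) := orb_step gbM gb8 orb_14 _ (by decide +kernel)

theorem orb_10 : Orb (cyT 10) := orb_step gcM gc8 orb_14 _ (by decide +kernel)

theorem orb_4 : Orb (cyT 4) := orb_step gaM ga8 orb_11 _ (by decide +kernel)

theorem orb_8 : Orb (cyT 8) := orb_step gbM gb8 orb_11 _ (by decide +kernel)

theorem orb_3 : Orb (cyT 3) := orb_step gaM ga8 orb_10 _ (by decide +kernel)

theorem orb_13 : Orb (cyT 13) := orb_step gbM gb8 orb_10 _ (by decide +kernel)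

theorem orb_1 : Orb (cyT 1) := orb_step gbM gb8 orb_4 _ (by decide +kernel)

theorem orb_9 : Orb (cyT 9) := orb_step gbM gb8 orb_8 _ (by decide +kernel)

theorem orb_6 : Orb (cyT 6) := orb_step gbM gb8 orb_3 _ (by decide +kernel)

theorem orb_7 : Orb (cyT 7) := orb_step gcM gc8 orb_3 _ (by decide +kernel)

theorem orb_12 : Orb (cyT 12) := orb_step gaM ga8 orb_13 _ (by decide +kernel)

theorem orb_2 : Orb (cyT 2) := orb_step gbM gb8 orb_1 _ (by decide +kernel)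

theorem orb_5 : Orb (cyT 5) := orb_step gbM gb8 orb_2 _ (by decide +kernel)

theorem orb_all : ∀ i : Fin 15, Orb (cyT i) := by
  intro i
  fin_cases i
  exacts [orb_0, orb_1, orb_2, orb_3, orb_4, orb_5, orb_6, orb_7, orb_8, orb_9, orb_10, orb_11, orb_12, orb_13, orb_14]

/-! ### The invariant subspace -/

/-- a basis of the invariant subspace, as columns -/
def Jm : Matrix (Fin 8) (Fin 4) (ZMod 2) :=
  !![0, 1, 0, 0;
    0, 0, 0, 1;
    1, 1, 0, 0;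
    0, 0, 0, 1;
    0, 1, 1, 1;
    0, 0, 0, 0;
    1, 1, 0, 0;
    0, 0, 1, 0]

/-- a left inverse of `Jm` -/
def Lm : Matrix (Fin 4) (Fin 8) (ZMod 2) :=
  !![0, 0, 0, 1, 1, 0, 1, 1;
    0, 0, 0, 1, 1, 0, 0, 1;
    0, 0, 0, 0, 0, 0, 0, 1;
    0, 0, 0, 1, 0, 0, 0, 0]

/-- equations of the invariant subspace -/
def Qm : Matrix (Fin 4) (Fin 8) (ZMod 2) :=
  !![1, 0, 0, 1, 1, 0, 0, 1;
    0, 1, 0, 1, 0, 0, 0, 0;
    0, 0, 1, 0, 0, 0, 1, 0;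
    0, 0, 0, 0, 0, 1, 0, 0]

/-- a complement, as columns -/
def Km : Matrix (Fin 8) (Fin 4) (ZMod 2) :=
  !![1, 0, 0, 0;
    0, 1, 0, 0;
    0, 0, 1, 0;
    0, 0, 0, 0;
    0, 0, 0, 0;
    0, 0, 0, 1;
    0, 0, 0, 0;
    0, 0, 0, 0]

/-- the indices of the columns of `Jm` among the fifteen classes -/
def jix : Fin 4 → Fin 15 := ![0, 14, 11, 8]

theorem Jm_col : ∀ k : Fin 4, (fun i => Jm i k) = cyT (jix k) := by decide +kernel

theorem LJ : Lm * Jm = 1 := by decide +kernel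

theorem JLKQ : Jm * Lm + Km * Qm = 1 := by decide +kernel

theorem Q_cyT : ∀ i : Fin 15, Qm.mulVec (cyT i) = 0 := by decide +kernel

theorem JL_cyT : ∀ i : Fin 15, Jm.mulVec (Lm.mulVec (cyT i)) = cyT i := by decide +kernel

theorem QgJ {g : Co0} (hg : g ∈ CZ) : Qm * mat8 g * Jm = 0 := by
  ext a k
  obtain ⟨h, hh, hc⟩ := orb_all (jix k)
  have e1 : (mat8 g).mulVec (cyT (jix k)) = c8 ((g * h) • P none none) := by
    rw [mul_smul, c8_smul g _ (supp_img hh), hc]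
  obtain ⟨i, hi⟩ := c8_orbit (mul_mem hg hh)
  have e2 : Qm.mulVec ((mat8 g).mulVec (cyT (jix k))) = 0 := by rw [e1, hi, Q_cyT]
  have e3 : (Qm * mat8 g * Jm) a k = ((Qm * mat8 g).mulVec (fun i => Jm i k)) a := rfl
  rw [e3, Jm_col, ← Matrix.mulVec_mulVec, e2]
  rfl

/-- the action on the invariant 4-space -/
def r4 (g : Co0) : Matrix (Fin 4) (Fin 4) (ZMod 2) := Lm * mat8 g * Jm

theorem gJ {g : Co0} (hg : g ∈ CZ) : mat8 g * Jm = Jm * r4 g := by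
  have h := QgJ hg
  calc mat8 g * Jm = (Jm * Lm + Km * Qm) * (mat8 g * Jm) := by rw [JLKQ, Matrix.one_mul]
    _ = Jm * (Lm * mat8 g * Jm) + Km * (Qm * mat8 g * Jm) := by
        rw [Matrix.add_mul, Matrix.mul_assoc Jm, Matrix.mul_assoc Km, ← Matrix.mul_assoc Lm,
          ← Matrix.mul_assoc Qm]
    _ = Jm * r4 g := by rw [h, Matrix.mul_zero, add_zero]; rfl

theorem r4_one : r4 1 = 1 := by
  unfold r4
  rw [mat8_one, Matrix.mul_one, LJ]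

theorem r4_mul {g h : Co0} (hg : g ∈ CZ) (hh : h ∈ CZ) : r4 (g * h) = r4 g * r4 h := by
  unfold r4
  rw [mat8_mul g (comm_t0 (mem_CZ.1 hh).2.2), Matrix.mul_assoc Lm, Matrix.mul_assoc (mat8 g),
    gJ hh, ← Matrix.mul_assoc (mat8 g), ← Matrix.mul_assoc Lm, ← Matrix.mul_assoc Lm]
  rfl

theorem r4_det {g : Co0} (hg : g ∈ CZ) : (r4 g).det = 1 := by
  have h1 : r4 g * r4 g⁻¹ = 1 := by rw [← r4_mul hg (inv_mem hg), mul_inv_cancel, r4_one]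
  have h2 := congrArg Matrix.det h1
  rw [Matrix.det_mul, Matrix.det_one] at h2
  have key : ∀ x y : ZMod 2, x * y = 1 → x = 1 := by decide
  exact key _ _ h2

/-- **The action of the centraliser on the invariant 4-space.** -/
noncomputable def rS : ↥CZ →* Matrix.SpecialLinearGroup (Fin 4) (ZMod 2) where
  toFun g := ⟨r4 g.1, r4_det g.2⟩
  map_one' := Subtype.ext r4_one
  map_mul' g h := Subtype.ext (r4_mul g.2 h.2)

theorem rS_coe (g : ↥CZ) :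
    ((rS g : Matrix.SpecialLinearGroup (Fin 4) (ZMod 2)) : Matrix (Fin 4) (Fin 4) (ZMod 2)) =
      r4 g.1 := rfl

/-! ### Surjectivity -/

/-- the matrices of the action of the centraliser -/
def InR (M : Matrix (Fin 4) (Fin 4) (ZMod 2)) : Prop := ∃ h : Co0, h ∈ CZ ∧ r4 h = M

theorem inR_mul {A B C : Matrix (Fin 4) (Fin 4) (ZMod 2)} (hA : InR A) (hB : InR B)
    (e : A * B = C) : InR C := by
  obtain ⟨a, ha, rfl⟩ := hA
  obtain ⟨b, hb, rfl⟩ := hB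
  exact ⟨a * b, mul_mem ha hb, (r4_mul ha hb).trans e⟩

/-- the matrix of `ga` on the invariant 4-space -/
def gaR : Matrix (Fin 4) (Fin 4) (ZMod 2) :=
  !![0, 1, 1, 1;
    1, 0, 0, 0;
    0, 0, 1, 0;
    0, 0, 0, 1]

theorem inR_ga : InR gaR := ⟨_, gaM, by
  unfold r4
  rw [ga8]
  decide +kernel⟩

/-- the matrix of `gb` on the invariant 4-space -/
def gbR : Matrix (Fin 4) (Fin 4) (ZMod 2) :=
  !![1, 0, 0, 1;
    0, 0, 0, 1;
    0, 1, 0, 0;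
    0, 0, 1, 1]

theorem inR_gb : InR gbR := ⟨_, gbM, by
  unfold r4
  rw [gb8]
  decide +kernel⟩

/-- the matrix of `gc` on the invariant 4-space -/
def gcR : Matrix (Fin 4) (Fin 4) (ZMod 2) :=
  !![1, 1, 0, 0;
    0, 1, 0, 0;
    0, 1, 1, 0;
    0, 0, 0, 1]

theorem inR_gc : InR gcR := ⟨_, gcM, by
  unfold r4
  rw [gc8]
  decide +kernel⟩

theorem nd_0 : InR !![1, 0, 0, 0;
    0, 1, 0, 0;
    0, 0, 1, 0;
    0, 0, 0, 1] :=
  ⟨1, one_mem _, r4_one.trans (by decide +kernel)⟩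

theorem nd_1 : InR !![0, 1, 1, 1;
    1, 0, 0, 0;
    0, 0, 1, 0;
    0, 0, 0, 1] :=
  inR_mul inR_ga nd_0 (by decide +kernel)

theorem nd_2 : InR !![1, 1, 1, 1;
    1, 0, 0, 0;
    1, 0, 1, 0;
    0, 0, 0, 1] :=
  inR_mul inR_gc nd_1 (by decide +kernel)

theorem nd_3 : InR !![0, 0, 1, 1;
    1, 1, 1, 1;
    1, 0, 1, 0;
    0, 0, 0, 1] :=
  inR_mul inR_ga nd_2 (by decide +kernel)

theorem nd_4 : InR !![0, 1, 0, 0;
    0, 0, 1, 1;
    1, 0, 1, 0;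
    0, 0, 0, 1] :=
  inR_mul inR_ga nd_3 (by decide +kernel)

theorem nd_5 : InR !![1, 0, 0, 0;
    0, 1, 0, 0;
    1, 0, 1, 0;
    0, 0, 0, 1] :=
  inR_mul inR_ga nd_4 (by decide +kernel)

theorem nd_6 : InR !![1, 1, 0, 0;
    0, 1, 0, 0;
    1, 1, 1, 0;
    0, 0, 0, 1] :=
  inR_mul inR_gc nd_5 (by decide +kernel)

theorem nd_7 : InR !![1, 0, 1, 1;
    1, 1, 0, 0;
    1, 1, 1, 0;
    0, 0, 0, 1] :=
  inR_mul inR_ga nd_6 (by decide +kernel)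

theorem nd_8 : InR !![0, 1, 1, 1;
    1, 1, 0, 0;
    0, 0, 1, 0;
    0, 0, 0, 1] :=
  inR_mul inR_gc nd_7 (by decide +kernel)

theorem nd_9 : InR !![1, 1, 1, 1;
    0, 1, 1, 1;
    0, 0, 1, 0;
    0, 0, 0, 1] :=
  inR_mul inR_ga nd_8 (by decide +kernel)

theorem nd_10 : InR !![0, 1, 0, 0;
    1, 1, 1, 1;
    0, 0, 1, 0;
    0, 0, 0, 1] :=
  inR_mul inR_ga nd_9 (by decide +kernel)

theorem nd_11 : InR !![1, 1, 0, 0;
    0, 1, 0, 0;
    0, 0, 1, 0;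
    0, 0, 0, 1] :=
  inR_mul inR_ga nd_10 (by decide +kernel)

theorem nd_12 : InR !![0, 1, 1, 0;
    0, 0, 0, 1;
    1, 0, 0, 0;
    0, 0, 1, 1] :=
  inR_mul inR_gb nd_1 (by decide +kernel)

theorem nd_13 : InR !![0, 1, 1, 1;
    0, 0, 0, 1;
    1, 0, 0, 1;
    0, 0, 1, 1] :=
  inR_mul inR_gc nd_12 (by decide +kernel)

theorem nd_14 : InR !![1, 0, 1, 1;
    0, 1, 1, 1;
    1, 0, 0, 1;
    0, 0, 1, 1] :=
  inR_mul inR_ga nd_13 (by decide +kernel)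

theorem nd_15 : InR !![1, 1, 0, 1;
    1, 0, 1, 1;
    1, 0, 0, 1;
    0, 0, 1, 1] :=
  inR_mul inR_ga nd_14 (by decide +kernel)

theorem nd_16 : InR !![0, 1, 1, 0;
    1, 0, 1, 1;
    0, 0, 1, 0;
    0, 0, 1, 1] :=
  inR_mul inR_gc nd_15 (by decide +kernel)

theorem nd_17 : InR !![1, 0, 1, 0;
    0, 1, 1, 0;
    0, 0, 1, 0;
    0, 0, 1, 1] :=
  inR_mul inR_ga nd_16 (by decide +kernel)

theorem nd_18 : InR !![1, 0, 0, 1;
    0, 0, 1, 1;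
    0, 1, 1, 0;
    0, 0, 0, 1] :=
  inR_mul inR_gb nd_17 (by decide +kernel)

theorem nd_19 : InR !![0, 1, 0, 0;
    1, 0, 0, 1;
    0, 1, 1, 0;
    0, 0, 0, 1] :=
  inR_mul inR_ga nd_18 (by decide +kernel)

theorem nd_20 : InR !![1, 1, 1, 0;
    0, 1, 0, 0;
    0, 1, 1, 0;
    0, 0, 0, 1] :=
  inR_mul inR_ga nd_19 (by decide +kernel)

theorem nd_21 : InR !![1, 0, 1, 0;
    0, 1, 0, 0;
    0, 0, 1, 0;
    0, 0, 0, 1] :=
  inR_mul inR_gc nd_20 (by decide +kernel)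

theorem nd_22 : InR !![1, 1, 1, 0;
    0, 0, 0, 1;
    1, 0, 0, 0;
    1, 0, 1, 1] :=
  inR_mul inR_gb nd_2 (by decide +kernel)

theorem nd_23 : InR !![0, 0, 1, 0;
    1, 1, 1, 0;
    1, 0, 0, 0;
    1, 0, 1, 1] :=
  inR_mul inR_ga nd_22 (by decide +kernel)

theorem nd_24 : InR !![1, 0, 0, 1;
    1, 0, 1, 1;
    1, 1, 1, 0;
    0, 0, 1, 1] :=
  inR_mul inR_gb nd_23 (by decide +kernel)

theorem nd_25 : InR !![0, 1, 1, 0;
    1, 0, 0, 1;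
    1, 1, 1, 0;
    0, 0, 1, 1] :=
  inR_mul inR_ga nd_24 (by decide +kernel)

theorem nd_26 : InR !![1, 1, 1, 1;
    1, 0, 0, 1;
    0, 1, 1, 1;
    0, 0, 1, 1] :=
  inR_mul inR_gc nd_25 (by decide +kernel)

theorem nd_27 : InR !![1, 1, 0, 0;
    0, 0, 1, 1;
    1, 0, 0, 1;
    0, 1, 0, 0] :=
  inR_mul inR_gb nd_26 (by decide +kernel)

theorem nd_28 : InR !![1, 1, 1, 0;
    1, 1, 0, 0;
    1, 0, 0, 1;
    0, 1, 0, 0] :=
  inR_mul inR_ga nd_27 (by decide +kernel)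

theorem nd_29 : InR !![0, 0, 1, 0;
    1, 1, 0, 0;
    0, 1, 0, 1;
    0, 1, 0, 0] :=
  inR_mul inR_gc nd_28 (by decide +kernel)

theorem nd_30 : InR !![1, 1, 0, 1;
    0, 0, 1, 0;
    0, 1, 0, 1;
    0, 1, 0, 0] :=
  inR_mul inR_ga nd_29 (by decide +kernel)

theorem nd_31 : InR !![1, 0, 0, 1;
    0, 1, 0, 0;
    0, 0, 1, 0;
    0, 0, 0, 1] :=
  inR_mul inR_gb nd_30 (by decide +kernel)

theorem nd_32 : InR !![1, 1, 0, 0;
    0, 1, 0, 0;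
    0, 1, 1, 0;
    0, 0, 0, 1] :=
  inR_mul inR_gc nd_0 (by decide +kernel)

theorem nd_33 : InR !![0, 0, 1, 1;
    1, 1, 0, 0;
    0, 1, 1, 0;
    0, 0, 0, 1] :=
  inR_mul inR_ga nd_32 (by decide +kernel)

theorem nd_34 : InR !![1, 0, 1, 1;
    0, 0, 1, 1;
    0, 1, 1, 0;
    0, 0, 0, 1] :=
  inR_mul inR_ga nd_33 (by decide +kernel)

theorem nd_35 : InR !![1, 0, 0, 0;
    0, 0, 1, 1;
    0, 1, 0, 1;
    0, 0, 0, 1] :=
  inR_mul inR_gc nd_34 (by decide +kernel)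

theorem nd_36 : InR !![0, 1, 1, 1;
    1, 0, 0, 0;
    0, 1, 0, 1;
    0, 0, 0, 1] :=
  inR_mul inR_ga nd_35 (by decide +kernel)

theorem nd_37 : InR !![1, 1, 1, 1;
    1, 0, 0, 0;
    1, 1, 0, 1;
    0, 0, 0, 1] :=
  inR_mul inR_gc nd_36 (by decide +kernel)

theorem nd_38 : InR !![0, 1, 0, 0;
    1, 1, 1, 1;
    1, 1, 0, 1;
    0, 0, 0, 1] :=
  inR_mul inR_ga nd_37 (by decide +kernel)

theorem nd_39 : InR !![1, 0, 1, 1;
    1, 1, 1, 1;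
    0, 0, 1, 0;
    0, 0, 0, 1] :=
  inR_mul inR_gc nd_38 (by decide +kernel)

theorem nd_40 : InR !![1, 1, 0, 0;
    1, 0, 1, 1;
    0, 0, 1, 0;
    0, 0, 0, 1] :=
  inR_mul inR_ga nd_39 (by decide +kernel)

theorem nd_41 : InR !![1, 0, 0, 0;
    1, 1, 0, 0;
    0, 0, 1, 0;
    0, 0, 0, 1] :=
  inR_mul inR_ga nd_40 (by decide +kernel)

theorem nd_42 : InR !![1, 0, 0, 1;
    0, 0, 0, 1;
    0, 1, 0, 0;
    0, 0, 1, 1] :=
  inR_mul inR_gb nd_0 (by decide +kernel)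

theorem nd_43 : InR !![0, 1, 1, 0;
    1, 0, 0, 1;
    0, 1, 0, 0;
    0, 0, 1, 1] :=
  inR_mul inR_ga nd_42 (by decide +kernel)

theorem nd_44 : InR !![1, 1, 1, 1;
    1, 0, 0, 1;
    1, 1, 0, 1;
    0, 0, 1, 1] :=
  inR_mul inR_gc nd_43 (by decide +kernel)

theorem nd_45 : InR !![0, 1, 1, 1;
    1, 1, 1, 1;
    1, 1, 0, 1;
    0, 0, 1, 1] :=
  inR_mul inR_ga nd_44 (by decide +kernel)

theorem nd_46 : InR !![1, 0, 0, 0;
    1, 1, 1, 1;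
    0, 0, 1, 0;
    0, 0, 1, 1] :=
  inR_mul inR_gc nd_45 (by decide +kernel)

theorem nd_47 : InR !![1, 0, 1, 1;
    0, 0, 1, 1;
    1, 1, 1, 1;
    0, 0, 0, 1] :=
  inR_mul inR_gb nd_46 (by decide +kernel)

theorem nd_48 : InR !![1, 1, 0, 1;
    1, 0, 1, 1;
    1, 1, 1, 1;
    0, 0, 0, 1] :=
  inR_mul inR_ga nd_47 (by decide +kernel)

theorem nd_49 : InR !![0, 1, 1, 0;
    1, 0, 1, 1;
    0, 1, 0, 0;
    0, 0, 0, 1] :=
  inR_mul inR_gc nd_48 (by decide +kernel)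

theorem nd_50 : InR !![1, 1, 1, 0;
    0, 1, 1, 0;
    0, 1, 0, 0;
    0, 0, 0, 1] :=
  inR_mul inR_ga nd_49 (by decide +kernel)

theorem nd_51 : InR !![1, 0, 0, 0;
    0, 1, 1, 0;
    0, 0, 1, 0;
    0, 0, 0, 1] :=
  inR_mul inR_gc nd_50 (by decide +kernel)

theorem nd_52 : InR !![0, 0, 1, 0;
    0, 0, 0, 1;
    1, 1, 0, 0;
    0, 1, 1, 1] :=
  inR_mul inR_gb nd_33 (by decide +kernel)

theorem nd_53 : InR !![1, 0, 1, 0;
    0, 0, 1, 0;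
    1, 1, 0, 0;
    0, 1, 1, 1] :=
  inR_mul inR_ga nd_52 (by decide +kernel)

theorem nd_54 : InR !![1, 0, 0, 1;
    1, 0, 1, 0;
    1, 1, 0, 0;
    0, 1, 1, 1] :=
  inR_mul inR_ga nd_53 (by decide +kernel)

theorem nd_55 : InR !![1, 1, 1, 0;
    0, 1, 1, 1;
    1, 0, 1, 0;
    1, 0, 1, 1] :=
  inR_mul inR_gb nd_54 (by decide +kernel)

theorem nd_56 : InR !![0, 1, 0, 1;
    1, 0, 1, 1;
    0, 1, 1, 1;
    0, 0, 0, 1] :=
  inR_mul inR_gb nd_55 (by decide +kernel)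

theorem nd_57 : InR !![1, 1, 0, 1;
    0, 1, 0, 1;
    0, 1, 1, 1;
    0, 0, 0, 1] :=
  inR_mul inR_ga nd_56 (by decide +kernel)

theorem nd_58 : InR !![1, 0, 0, 0;
    0, 1, 0, 1;
    0, 0, 1, 0;
    0, 0, 0, 1] :=
  inR_mul inR_gc nd_57 (by decide +kernel)

theorem nd_59 : InR !![1, 0, 0, 0;
    0, 0, 0, 1;
    0, 1, 0, 1;
    0, 0, 1, 1] :=
  inR_mul inR_gc nd_42 (by decide +kernel)

theorem nd_60 : InR !![0, 1, 1, 1;
    1, 0, 0, 0;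
    0, 1, 0, 1;
    0, 0, 1, 1] :=
  inR_mul inR_ga nd_59 (by decide +kernel)

theorem nd_61 : InR !![1, 1, 1, 1;
    1, 0, 0, 0;
    1, 1, 0, 1;
    0, 0, 1, 1] :=
  inR_mul inR_gc nd_60 (by decide +kernel)

theorem nd_62 : InR !![1, 1, 0, 0;
    0, 0, 1, 1;
    1, 0, 0, 0;
    1, 1, 1, 0] :=
  inR_mul inR_gb nd_61 (by decide +kernel)

theorem nd_63 : InR !![0, 1, 0, 1;
    1, 1, 0, 0;
    1, 0, 0, 0;
    1, 1, 1, 0] :=
  inR_mul inR_ga nd_62 (by decide +kernel)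

theorem nd_64 : InR !![1, 0, 1, 1;
    1, 1, 1, 0;
    1, 1, 0, 0;
    0, 1, 1, 0] :=
  inR_mul inR_gb nd_63 (by decide +kernel)

theorem nd_65 : InR !![0, 1, 0, 1;
    1, 1, 1, 0;
    0, 0, 1, 0;
    0, 1, 1, 0] :=
  inR_mul inR_gc nd_64 (by decide +kernel)

theorem nd_66 : InR !![1, 0, 1, 0;
    0, 1, 0, 1;
    0, 0, 1, 0;
    0, 1, 1, 0] :=
  inR_mul inR_ga nd_65 (by decide +kernel)

theorem nd_67 : InR !![1, 1, 0, 0;
    0, 1, 1, 0;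
    0, 1, 0, 1;
    0, 1, 0, 0] :=
  inR_mul inR_gb nd_66 (by decide +kernel)

theorem nd_68 : InR !![1, 0, 0, 0;
    0, 1, 0, 0;
    0, 1, 1, 0;
    0, 0, 0, 1] :=
  inR_mul inR_gb nd_67 (by decide +kernel)

theorem nd_69 : InR !![1, 1, 1, 0;
    0, 0, 1, 1;
    1, 0, 1, 1;
    1, 0, 1, 0] :=
  inR_mul inR_gb nd_15 (by decide +kernel)

theorem nd_70 : InR !![0, 1, 0, 0;
    1, 0, 1, 0;
    0, 0, 1, 1;
    0, 0, 0, 1] :=
  inR_mul inR_gb nd_69 (by decide +kernel)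

theorem nd_71 : InR !![1, 0, 0, 0;
    0, 1, 0, 0;
    0, 0, 1, 1;
    0, 0, 0, 1] :=
  inR_mul inR_ga nd_70 (by decide +kernel)

theorem nd_72 : InR !![1, 0, 1, 1;
    0, 1, 1, 1;
    0, 0, 1, 0;
    0, 0, 0, 1] :=
  inR_mul inR_ga nd_1 (by decide +kernel)

theorem nd_73 : InR !![0, 1, 0, 0;
    1, 0, 1, 1;
    0, 0, 1, 0;
    0, 0, 0, 1] :=
  inR_mul inR_ga nd_72 (by decide +kernel)

theorem nd_74 : InR !![0, 1, 0, 1;
    0, 0, 0, 1;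
    1, 0, 1, 1;
    0, 0, 1, 1] :=
  inR_mul inR_gb nd_73 (by decide +kernel)

theorem nd_75 : InR !![0, 1, 0, 0;
    0, 0, 0, 1;
    1, 0, 1, 0;
    0, 0, 1, 1] :=
  inR_mul inR_gc nd_74 (by decide +kernel)

theorem nd_76 : InR !![0, 1, 1, 1;
    0, 0, 1, 1;
    0, 0, 0, 1;
    1, 0, 0, 1] :=
  inR_mul inR_gb nd_75 (by decide +kernel)

theorem nd_77 : InR !![0, 1, 0, 0;
    0, 0, 1, 1;
    0, 0, 1, 0;
    1, 0, 0, 1] :=
  inR_mul inR_gc nd_76 (by decide +kernel)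

theorem nd_78 : InR !![1, 0, 0, 0;
    0, 1, 0, 0;
    0, 0, 1, 0;
    1, 0, 0, 1] :=
  inR_mul inR_ga nd_77 (by decide +kernel)

theorem nd_79 : InR !![1, 0, 0, 1;
    0, 1, 0, 1;
    1, 0, 1, 1;
    0, 0, 1, 1] :=
  inR_mul inR_ga nd_74 (by decide +kernel)

theorem nd_80 : InR !![1, 1, 0, 1;
    1, 0, 0, 1;
    1, 0, 1, 1;
    0, 0, 1, 1] :=
  inR_mul inR_ga nd_79 (by decide +kernel)

theorem nd_81 : InR !![0, 0, 0, 1;
    1, 1, 0, 1;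
    1, 0, 1, 1;
    0, 0, 1, 1] :=
  inR_mul inR_ga nd_80 (by decide +kernel)

theorem nd_82 : InR !![1, 1, 0, 0;
    1, 1, 0, 1;
    0, 1, 1, 0;
    0, 0, 1, 1] :=
  inR_mul inR_gc nd_81 (by decide +kernel)

theorem nd_83 : InR !![1, 1, 1, 1;
    0, 0, 1, 1;
    1, 1, 0, 1;
    0, 1, 0, 1] :=
  inR_mul inR_gb nd_82 (by decide +kernel)

theorem nd_84 : InR !![1, 0, 1, 1;
    1, 1, 1, 1;
    1, 1, 0, 1;
    0, 1, 0, 1] :=
  inR_mul inR_ga nd_83 (by decide +kernel)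

theorem nd_85 : InR !![0, 1, 0, 0;
    1, 1, 1, 1;
    0, 0, 1, 0;
    0, 1, 0, 1] :=
  inR_mul inR_gc nd_84 (by decide +kernel)

theorem nd_86 : InR !![1, 0, 0, 0;
    0, 1, 0, 0;
    0, 0, 1, 0;
    0, 1, 0, 1] :=
  inR_mul inR_ga nd_85 (by decide +kernel)

theorem nd_87 : InR !![0, 1, 0, 0;
    1, 0, 0, 1;
    0, 0, 1, 0;
    0, 0, 1, 1] :=
  inR_mul inR_gc nd_80 (by decide +kernel)

theorem nd_88 : InR !![1, 0, 0, 0;
    0, 1, 0, 0;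
    0, 0, 1, 0;
    0, 0, 1, 1] :=
  inR_mul inR_ga nd_87 (by decide +kernel)

theorem tv_0_1 : InR (Matrix.transvection (0 : Fin 4) (1 : Fin 4) (1 : ZMod 2)) := by
  have e : !![1, 1, 0, 0;
    0, 1, 0, 0;
    0, 0, 1, 0;
    0, 0, 0, 1] = Matrix.transvection (0 : Fin 4) (1 : Fin 4) (1 : ZMod 2) := by
    decide +kernel
  rw [← e]
  exact nd_11

theorem tv_0_2 : InR (Matrix.transvection (0 : Fin 4) (2 : Fin 4) (1 : ZMod 2)) := by
  have e : !![1, 0, 1, 0;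
    0, 1, 0, 0;
    0, 0, 1, 0;
    0, 0, 0, 1] = Matrix.transvection (0 : Fin 4) (2 : Fin 4) (1 : ZMod 2) := by
    decide +kernel
  rw [← e]
  exact nd_21

theorem tv_0_3 : InR (Matrix.transvection (0 : Fin 4) (3 : Fin 4) (1 : ZMod 2)) := by
  have e : !![1, 0, 0, 1;
    0, 1, 0, 0;
    0, 0, 1, 0;
    0, 0, 0, 1] = Matrix.transvection (0 : Fin 4) (3 : Fin 4) (1 : ZMod 2) := by
    decide +kernel
  rw [← e]
  exact nd_31

theorem tv_1_0 : InR (Matrix.transvection (1 : Fin 4) (0 : Fin 4) (1 : ZMod 2)) := by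
  have e : !![1, 0, 0, 0;
    1, 1, 0, 0;
    0, 0, 1, 0;
    0, 0, 0, 1] = Matrix.transvection (1 : Fin 4) (0 : Fin 4) (1 : ZMod 2) := by
    decide +kernel
  rw [← e]
  exact nd_41

theorem tv_1_2 : InR (Matrix.transvection (1 : Fin 4) (2 : Fin 4) (1 : ZMod 2)) := by
  have e : !![1, 0, 0, 0;
    0, 1, 1, 0;
    0, 0, 1, 0;
    0, 0, 0, 1] = Matrix.transvection (1 : Fin 4) (2 : Fin 4) (1 : ZMod 2) := by
    decide +kernel
  rw [← e]
  exact nd_51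

theorem tv_1_3 : InR (Matrix.transvection (1 : Fin 4) (3 : Fin 4) (1 : ZMod 2)) := by
  have e : !![1, 0, 0, 0;
    0, 1, 0, 1;
    0, 0, 1, 0;
    0, 0, 0, 1] = Matrix.transvection (1 : Fin 4) (3 : Fin 4) (1 : ZMod 2) := by
    decide +kernel
  rw [← e]
  exact nd_58

theorem tv_2_0 : InR (Matrix.transvection (2 : Fin 4) (0 : Fin 4) (1 : ZMod 2)) := by
  have e : !![1, 0, 0, 0;
    0, 1, 0, 0;
    1, 0, 1, 0;
    0, 0, 0, 1] = Matrix.transvection (2 : Fin 4) (0 : Fin 4) (1 : ZMod 2) := by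
    decide +kernel
  rw [← e]
  exact nd_5

theorem tv_2_1 : InR (Matrix.transvection (2 : Fin 4) (1 : Fin 4) (1 : ZMod 2)) := by
  have e : !![1, 0, 0, 0;
    0, 1, 0, 0;
    0, 1, 1, 0;
    0, 0, 0, 1] = Matrix.transvection (2 : Fin 4) (1 : Fin 4) (1 : ZMod 2) := by
    decide +kernel
  rw [← e]
  exact nd_68

theorem tv_2_3 : InR (Matrix.transvection (2 : Fin 4) (3 : Fin 4) (1 : ZMod 2)) := by
  have e : !![1, 0, 0, 0;
    0, 1, 0, 0;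
    0, 0, 1, 1;
    0, 0, 0, 1] = Matrix.transvection (2 : Fin 4) (3 : Fin 4) (1 : ZMod 2) := by
    decide +kernel
  rw [← e]
  exact nd_71

theorem tv_3_0 : InR (Matrix.transvection (3 : Fin 4) (0 : Fin 4) (1 : ZMod 2)) := by
  have e : !![1, 0, 0, 0;
    0, 1, 0, 0;
    0, 0, 1, 0;
    1, 0, 0, 1] = Matrix.transvection (3 : Fin 4) (0 : Fin 4) (1 : ZMod 2) := by
    decide +kernel
  rw [← e]
  exact nd_78

theorem tv_3_1 : InR (Matrix.transvection (3 : Fin 4) (1 : Fin 4) (1 : ZMod 2)) := by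
  have e : !![1, 0, 0, 0;
    0, 1, 0, 0;
    0, 0, 1, 0;
    0, 1, 0, 1] = Matrix.transvection (3 : Fin 4) (1 : Fin 4) (1 : ZMod 2) := by
    decide +kernel
  rw [← e]
  exact nd_86

theorem tv_3_2 : InR (Matrix.transvection (3 : Fin 4) (2 : Fin 4) (1 : ZMod 2)) := by
  have e : !![1, 0, 0, 0;
    0, 1, 0, 0;
    0, 0, 1, 0;
    0, 0, 1, 1] = Matrix.transvection (3 : Fin 4) (2 : Fin 4) (1 : ZMod 2) := by
    decide +kernel
  rw [← e]
  exact nd_88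

theorem inR_tv : ∀ i j : Fin 4, i ≠ j → InR (Matrix.transvection i j (1 : ZMod 2)) := by
  intro i j hij
  fin_cases i <;> fin_cases j
  exacts [absurd rfl hij, tv_0_1, tv_0_2, tv_0_3, tv_1_0, absurd rfl hij, tv_1_2, tv_1_3, tv_2_0, tv_2_1, absurd rfl hij, tv_2_3, tv_3_0, tv_3_1, tv_3_2, absurd rfl hij]

/-- **The action on the invariant 4-space is onto `SL(4, 2)`.** -/
theorem rS_surjective : Function.Surjective rS := by
  rw [← MonoidHom.range_eq_top, eq_top_iff,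
    ← Cfsg.Agent.Helper75.sl4_two_closure_transvections, Subgroup.closure_le]
  rintro A ⟨i, j, hij, hA⟩
  obtain ⟨h, hh, hr⟩ := inR_tv i j hij
  exact ⟨⟨h, hh⟩, Subtype.ext (hr.trans hA.symm)⟩

end Cfsg.Agent.Helper92.McLInv
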