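import Cfsg.Agent.Helper92.LeechIrr
import Cfsg.Agent.Helper90.FStarES
import Cfsg.Agent.S5408

/-!
# Groups of Monster type: the elementwise setting

`MSetting z QG Rep` packages the hypothesis `Cfsg.IsOfMonsterType z Q` in terms of elements of
the ambient group: `QG` is the image of `Q` in `G`, and `Rep v x` says that `x ∈ QG` represents
the image of the lattice vector `v` in `Q / Z(Q)`.

Main results:
* `msetting_of_iso`, `exists_msetting`: the setting from the hypothesis.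
* `MSetting.type_eq`: `x` is an involution (or trivial) iff `sqNorm v / 16` is even.
* `MSetting.exists_conj_of_orb`: elements representing vectors in the same orbit modulo twice the
  lattice are conjugate under the centralizer of `z`.
-/

set_option autoImplicit false

namespace Cfsg.Agent.Helper92

open Cfsg

/-- `x` is an element of `Q` whose class modulo the centre is `ψ v` -/
def RepOf {G : Type*} [Group G] {z : G} (Q : Subgroup (Subgroup.centralizer ({z} : Set G)))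
    (ψ : leechLattice → Q ⧸ Subgroup.center Q) (v : leechLattice) (x : G) : Prop :=
  ∃ (hx : x ∈ Subgroup.centralizer ({z} : Set G))
    (hq : (⟨x, hx⟩ : Subgroup.centralizer ({z} : Set G)) ∈ Q),
    ψ v = QuotientGroup.mk (⟨⟨x, hx⟩, hq⟩ : Q)

/-- the elementwise setting of a group of Monster type -/
structure MSetting {G : Type*} [Group G] (z : G) (QG : Subgroup G)
    (Rep : leechLattice → G → Prop) : Prop where
  les : Cfsg.Agent.Helper90.LES QG z
  card : Nat.card QG = 2 ^ 25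
  cardZ : Nat.card (Subgroup.center ↥QG) = 2
  mem : ∀ v x, Rep v x → x ∈ QG
  ex : ∀ v, ∃ x, Rep v x
  surj : ∀ x ∈ QG, ∃ v, Rep v x
  mul : ∀ v w x y, Rep v x → Rep w y → Rep (v + w) (x * y)
  uniq : ∀ v x y, Rep v x → Rep v y → y = x ∨ y = x * z
  mulz : ∀ v x, Rep v x → Rep v (x * z)
  ker : ∀ v x, Rep v x → ((x = 1 ∨ x = z) ↔ ∃ w : leechLattice, v = w + w)
  act : ∀ γ : Co0, ∃ h : G, h * z = z * h ∧ ∀ v x, Rep v x → Rep (γ • v) (h * x * h⁻¹)
  act' : ∀ h : G, h * z = z * h → ∃ γ : Co0, ∀ v x, Rep v x → Rep (γ • v) (h * x * h⁻¹)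
  wit : ∃ g : G, g * z * g⁻¹ ∈ QG ∧ g * z * g⁻¹ ≠ z

theorem msetting_of_iso {G : Type*} [Group G] [Finite G] (z : G)
    (Q : Subgroup (Subgroup.centralizer ({z} : Set G))) [Q.Normal]
    (hS : Cfsg.IsExtraspecialCentralizerSetting z Q 12)
    (e : (Subgroup.centralizer ({z} : Set G)) ⧸ Q ≃* Cfsg.Spor.Co1)
    (ψ : leechLattice → Q ⧸ Subgroup.center Q) (hψ : Cfsg.IsLeechModTwoIso Q e ψ) :
    MSetting z (Q.map (Subgroup.centralizer ({z} : Set G)).subtype) (RepOf Q ψ) := by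
  obtain ⟨hz2, hF, hE, hcard, g, ⟨hq, hgQ⟩, hgz⟩ := hS
  obtain ⟨h1, h2, h3, h4⟩ := hψ
  have hF' : (Cfsg.generalizedFittingSubgroup ↥(Subgroup.centralizer ({z} : Set G))).map
      (Subgroup.centralizer ({z} : Set G)).subtype =
      Q.map (Subgroup.centralizer ({z} : Set G)).subtype := by rw [hF]
  have hEG : Cfsg.IsExtraspecial 2 ↥(Q.map (Subgroup.centralizer ({z} : Set G)).subtype) :=
    Cfsg.Agent.Helper90.isExtraspecial_of_equiv
      (Q.equivMapOfInjective (Subgroup.centralizer ({z} : Set G)).subtype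
        (Subgroup.subtype_injective _)) hE
  obtain ⟨-, -, hLES, hzZ, hzall, hQC⟩ := Cfsg.Agent.Helper90.fstar_setting z hz2 _ hF' hEG
  have memQG : ∀ x : G, x ∈ Q.map (Subgroup.centralizer ({z} : Set G)).subtype ↔
      ∃ hx : x ∈ Subgroup.centralizer ({z} : Set G),
        (⟨x, hx⟩ : Subgroup.centralizer ({z} : Set G)) ∈ Q := by
    intro x
    constructor
    · rintro ⟨y, hy, rfl⟩
      exact ⟨y.2, hy⟩
    · rintro ⟨hx, h⟩
      exact ⟨⟨x, hx⟩, h, rfl⟩
  have hzC : z ∈ Subgroup.centralizer ({z} : Set G) := hQC hLES.mem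
  have hzQ : (⟨z, hzC⟩ : Subgroup.centralizer ({z} : Set G)) ∈ Q := by
    obtain ⟨hx, h⟩ := (memQG z).1 hLES.mem
    exact h
  have hcen : ∀ q : Q, q ∈ Subgroup.center Q ↔
      (((q : Subgroup.centralizer ({z} : Set G)) : G) = 1 ∨
        ((q : Subgroup.centralizer ({z} : Set G)) : G) = z) := by
    intro q
    constructor
    · intro hq
      apply hLES.cent
      intro y hy
      obtain ⟨hyC, hyQ⟩ := (memQG y).1 hy
      have := Subgroup.mem_center_iff.1 hq ⟨⟨y, hyC⟩, hyQ⟩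
      exact congrArg (fun t : Q => ((t : Subgroup.centralizer ({z} : Set G)) : G)) this
    · intro hq
      rw [Subgroup.mem_center_iff]
      intro p
      apply Subtype.ext
      apply Subtype.ext
      show ((p : Subgroup.centralizer ({z} : Set G)) : G) *
        ((q : Subgroup.centralizer ({z} : Set G)) : G) =
        ((q : Subgroup.centralizer ({z} : Set G)) : G) *
        ((p : Subgroup.centralizer ({z} : Set G)) : G)
      rcases hq with hq | hq
      · rw [hq, mul_one, one_mul]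
      · rw [hq]
        exact hLES.central _ ((memQG _).2 ⟨(p : Subgroup.centralizer ({z} : Set G)).2, p.2⟩)
  refine ⟨hLES, ?_, hEG.2, ?_, ?_, ?_, ?_, ?_, ?_, ?_, ?_, ?_, ?_⟩
  · rw [← hcard]
    exact (Nat.card_congr (Q.equivMapOfInjective (Subgroup.centralizer ({z} : Set G)).subtype
        (Subgroup.subtype_injective _)).toEquiv).symm.trans (by norm_num)
  · rintro v x ⟨hx, hq, -⟩
    exact (memQG x).2 ⟨hx, hq⟩
  · intro v
    obtain ⟨q, hq⟩ := QuotientGroup.mk_surjective (ψ v)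
    exact ⟨((q : Subgroup.centralizer ({z} : Set G)) : G),
      (q : Subgroup.centralizer ({z} : Set G)).2, q.2, hq.symm⟩
  · intro x hx
    obtain ⟨hxC, hxQ⟩ := (memQG x).1 hx
    obtain ⟨v, hv⟩ := h2 (QuotientGroup.mk ⟨⟨x, hxC⟩, hxQ⟩)
    exact ⟨v, hxC, hxQ, hv⟩
  · rintro v w x y ⟨hx, hq, hv⟩ ⟨hy, hq', hw⟩
    refine ⟨mul_mem hx hy, Q.mul_mem hq hq', ?_⟩
    rw [h1, hv, hw]
    rfl
  · rintro v x y ⟨hx, hq, hv⟩ ⟨hy, hq', hw⟩
    have h5 := hv.symm.trans hw
    rw [QuotientGroup.eq] at h5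
    have h6 := (hcen _).1 h5
    have e1 : (((⟨⟨x, hx⟩, hq⟩ : Q)⁻¹ * (⟨⟨y, hy⟩, hq'⟩ : Q) : Q) :
        Subgroup.centralizer ({z} : Set G)).1 = x⁻¹ * y := rfl
    rw [e1] at h6
    rcases h6 with h6 | h6
    · left
      calc y = x * (x⁻¹ * y) := by group
        _ = x := by rw [h6, mul_one]
    · right
      calc y = x * (x⁻¹ * y) := by group
        _ = x * z := by rw [h6]
  · rintro v x ⟨hx, hq, hv⟩
    refine ⟨mul_mem hx hzC, Q.mul_mem hq hzQ, ?_⟩
    rw [hv, QuotientGroup.eq]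
    have e1 : (⟨⟨x, hx⟩, hq⟩ : Q)⁻¹ * (⟨⟨x * z, mul_mem hx hzC⟩, Q.mul_mem hq hzQ⟩ : Q) =
        ⟨⟨z, hzC⟩, hzQ⟩ := by
      apply Subtype.ext
      apply Subtype.ext
      show x⁻¹ * (x * z) = z
      group
    rw [e1]
    exact (hcen _).2 (Or.inr rfl)
  · rintro v x ⟨hx, hq, hv⟩
    rw [← h3 v, hv, QuotientGroup.eq_one_iff]
    exact (hcen ⟨⟨x, hx⟩, hq⟩).symm
  · intro γ
    obtain ⟨c, hc⟩ := e.surjective (QuotientGroup.mk γ)
    obtain ⟨h, rfl⟩ := QuotientGroup.mk_surjective c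
    refine ⟨(h : G), ?_, ?_⟩
    · have := Subgroup.mem_centralizer_iff.1 h.2 z rfl
      exact this.symm
    · rintro v x ⟨hx, hq, hv⟩
      have h5 := h4 h γ hc.symm v ⟨⟨x, hx⟩, hq⟩ hv
      exact ⟨(h * ⟨x, hx⟩ * h⁻¹ : Subgroup.centralizer ({z} : Set G)).2,
        (inferInstance : Q.Normal).conj_mem _ hq h, h5⟩
  · intro h hh
    have hC : h ∈ Subgroup.centralizer ({z} : Set G) := by
      rw [Subgroup.mem_centralizer_iff]
      intro y hy
      rw [Set.mem_singleton_iff.1 hy]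
      exact hh.symm
    obtain ⟨γ, hγ⟩ := QuotientGroup.mk_surjective
      (e (QuotientGroup.mk (⟨h, hC⟩ : Subgroup.centralizer ({z} : Set G))))
    refine ⟨γ, ?_⟩
    rintro v x ⟨hx, hq, hv⟩
    have h5 := h4 ⟨h, hC⟩ γ hγ v ⟨⟨x, hx⟩, hq⟩ hv
    exact ⟨((⟨h, hC⟩ : Subgroup.centralizer ({z} : Set G)) * ⟨x, hx⟩ *
        (⟨h, hC⟩ : Subgroup.centralizer ({z} : Set G))⁻¹ : Subgroup.centralizer ({z} : Set G)).2,
      (inferInstance : Q.Normal).conj_mem _ hq ⟨h, hC⟩, h5⟩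
  · exact ⟨g, (memQG _).2 ⟨hq, hgQ⟩, hgz⟩

theorem exists_msetting {G : Type*} [Group G] [Finite G] (z : G)
    (Q : Subgroup (Subgroup.centralizer ({z} : Set G))) [Q.Normal]
    (hM : Cfsg.IsOfMonsterType z Q) :
    ∃ Rep : leechLattice → G → Prop,
      MSetting z (Q.map (Subgroup.centralizer ({z} : Set G)).subtype) Rep := by
  obtain ⟨hS, e, ψ, hψ⟩ := hM
  exact ⟨RepOf Q ψ, msetting_of_iso z Q hS e ψ hψ⟩

theorem mem_map_subtype_iff {G : Type*} [Group G] {z : G}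
    (Q : Subgroup (Subgroup.centralizer ({z} : Set G))) (x : G) :
    x ∈ Q.map (Subgroup.centralizer ({z} : Set G)).subtype ↔
      ∃ hx : x ∈ Subgroup.centralizer ({z} : Set G),
        (⟨x, hx⟩ : Subgroup.centralizer ({z} : Set G)) ∈ Q := by
  constructor
  · rintro ⟨y, hy, rfl⟩
    exact ⟨y.2, hy⟩
  · rintro ⟨hx, h⟩
    exact ⟨⟨x, hx⟩, h, rfl⟩

end Cfsg.Agent.Helper92
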