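import Cfsg.Agent.Helper92.MonsterSetting

/-!
# Groups of Monster type: the squaring form and conjugacy in `Q`

* `MSetting.type_eq`: an element of `Q` representing the lattice vector `v` squares to `1` iff
  `sqNorm v / 16` is even.
* `MSetting.exists_conj_of_orb`: non-central elements representing vectors in the same orbit
  modulo twice the lattice are conjugate under the centralizer of `z`.
* `MSetting.noncentral_invol_trans`: the centralizer of `z` is transitive on the involutions of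
  `Q` that are not conjugate to `z`.
-/

set_option autoImplicit false

namespace Cfsg.Agent.Helper92

open Cfsg Cfsg.Agent.S5408

theorem sqv_coe {G : Type*} [Group G] {H : Subgroup G} (q : H) : sqv (q : G) = sqv q := by
  unfold sqv
  have e : ((q : G) * (q : G) = 1) ↔ (q * q = 1) :=
    ⟨fun h => Subtype.ext h, fun h => congrArg Subtype.val h⟩
  by_cases h : q * q = 1
  · rw [if_pos h, if_pos (e.2 h)]
  · rw [if_neg h, if_neg (fun h' => h (e.1 h'))]

/-- the cubic identity of the squaring form of a group with central squares and commutators -/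
theorem sqv_cubic {Q : Type*} [Group Q] (hZ : Nat.card (Subgroup.center Q) = 2)
    (sq_mem : ∀ q : Q, q * q ∈ Subgroup.center Q)
    (comm_mem : ∀ a b : Q, (a * b)⁻¹ * (b * a) ∈ Subgroup.center Q) (a b c : Q) :
    sqv (a * b * c) + sqv a + sqv b + sqv c = sqv (a * b) + sqv (a * c) + sqv (b * c) := by
  have sq_mul : ∀ a b : Q, sqv (a * b) = sqv a + sqv b + io ((a * b)⁻¹ * (b * a)) := by
    intro a b
    rw [sq_eq_io, mul_mul_eq a b (comm_mem a b),
      io_mul hZ _ _ (mul_mem (sq_mem a) (sq_mem b)) (comm_mem a b),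
      io_mul hZ _ _ (sq_mem a) (sq_mem b)]
    rfl
  rw [sq_mul (a * b) c, comm_mul a b c (comm_mem a c),
    io_mul hZ _ _ (comm_mem b c) (comm_mem a c), sq_mul a c, sq_mul b c]
  ring

namespace MSetting

variable {G : Type*} [Group G] {z : G} {QG : Subgroup G} {Rep : leechLattice → G → Prop}

theorem zsq (M : MSetting z QG Rep) : z * z = 1 := M.les.sq

theorem zcomm (M : MSetting z QG Rep) {q : G} (hq : q ∈ QG) : q * z = z * q := M.les.central q hq

theorem rep_double (M : MSetting z QG Rep) (w : leechLattice) : Rep (w + w) 1 := by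
  obtain ⟨x, hx⟩ := M.ex (w + w)
  rcases (M.ker _ _ hx).2 ⟨w, rfl⟩ with h | h
  · rwa [h] at hx
  · have := M.mulz _ _ hx
    rwa [h, M.zsq] at this

theorem rep_cong (M : MSetting z QG Rep) {v v' : leechLattice} {x : G} (h : Rep v x)
    (hc : Cong v v') : Rep v' x := by
  obtain ⟨w, rfl⟩ := hc
  have := M.mul _ _ _ _ h (M.rep_double (-w))
  have e : v' + (w + w) + (-w + -w) = v' := by abel
  rwa [e, mul_one] at this

theorem sq_cases (M : MSetting z QG Rep) {x : G} (hx : x ∈ QG) : x * x = 1 ∨ x * x = z := by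
  obtain ⟨v, hv⟩ := M.surj x hx
  exact (M.ker _ _ (M.mul _ _ _ _ hv hv)).2 ⟨v, rfl⟩

theorem sq_mul_z (M : MSetting z QG Rep) {x : G} (hx : x ∈ QG) : (x * z) * (x * z) = x * x := by
  have := M.zcomm hx
  calc x * z * (x * z) = x * (z * x) * z := by group
    _ = x * (x * z) * z := by rw [this]
    _ = x * x * (z * z) := by group
    _ = x * x := by rw [M.zsq, mul_one]

/-- the squaring form on the lattice -/
noncomputable def kap (M : MSetting z QG Rep) (v : leechLattice) : ZMod 2 :=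
  sqv (Classical.choose (M.ex v))

theorem kap_eq (M : MSetting z QG Rep) {v : leechLattice} {x : G} (h : Rep v x) :
    M.kap v = sqv x := by
  have hc := Classical.choose_spec (M.ex v)
  unfold kap
  rcases M.uniq _ _ _ hc h with h1 | h1
  · rw [h1]
  · apply sq_congr
    rw [h1, M.sq_mul_z (M.mem _ _ hc)]

theorem conj_sq {x h : G} : (h * x * h⁻¹) * (h * x * h⁻¹) = 1 ↔ x * x = 1 := by
  have e : (h * x * h⁻¹) * (h * x * h⁻¹) = h * (x * x) * h⁻¹ := by group
  rw [e]
  exact conj_eq_one_iff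

theorem comm_of_sq {x y : G} (hx : x * x = 1) (hy : y * y = 1) (hxy : (x * y) * (x * y) = 1) :
    x * y = y * x := by
  calc x * y = x * (x * y * (x * y)) * y := by rw [hxy]; group
    _ = (x * x) * (y * x) * (y * y) := by group
    _ = y * x := by rw [hx, hy]; group

theorem kap_isInvQuad (M : MSetting z QG Rep) : IsInvQuad M.kap := by
  refine ⟨?_, ?_, ?_⟩
  · intro v w
    obtain ⟨x, hx⟩ := M.ex v
    have h1 := M.mul _ _ _ _ hx (M.rep_double w)
    rw [mul_one] at h1
    rw [M.kap_eq h1, M.kap_eq hx]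
  · intro u v w
    obtain ⟨a, ha⟩ := M.ex u
    obtain ⟨b, hb⟩ := M.ex v
    obtain ⟨c, hc⟩ := M.ex w
    have hab := M.mul _ _ _ _ ha hb
    have hac := M.mul _ _ _ _ ha hc
    have hbc := M.mul _ _ _ _ hb hc
    have habc := M.mul _ _ _ _ hab hc
    rw [M.kap_eq ha, M.kap_eq hb, M.kap_eq hc, M.kap_eq hab, M.kap_eq hac, M.kap_eq hbc,
      M.kap_eq habc]
    have haQ := M.mem _ _ ha
    have hbQ := M.mem _ _ hb
    have hcQ := M.mem _ _ hc
    have key := sqv_cubic (Q := ↥QG) M.cardZ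
      (fun q => by
        have h1 := M.sq_cases q.2
        exact M.les.mem_center_of h1 (QG.mul_mem q.2 q.2))
      (fun p q => by
        have h1 := M.les.comm _ (QG.inv_mem q.2) _ (QG.inv_mem p.2)
        have e : ((p * q)⁻¹ * (q * p) : ↥QG) =
            ⟨(q : G)⁻¹ * (p : G)⁻¹ * (q : G)⁻¹⁻¹ * (p : G)⁻¹⁻¹,
              QG.mul_mem (QG.mul_mem (QG.mul_mem (QG.inv_mem q.2) (QG.inv_mem p.2))
                (QG.inv_mem (QG.inv_mem q.2))) (QG.inv_mem (QG.inv_mem p.2))⟩ := by
          apply Subtype.ext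
          show ((p : G) * (q : G))⁻¹ * ((q : G) * (p : G)) = _
          group
        rw [e]
        exact M.les.mem_center_of h1 _)
      ⟨a, haQ⟩ ⟨b, hbQ⟩ ⟨c, hcQ⟩
    rw [← sqv_coe, ← sqv_coe, ← sqv_coe, ← sqv_coe, ← sqv_coe, ← sqv_coe, ← sqv_coe] at key
    exact key
  · intro γ v
    obtain ⟨h, -, hact⟩ := M.act γ
    obtain ⟨x, hx⟩ := M.ex v
    rw [M.kap_eq (hact _ _ hx), M.kap_eq hx]
    exact sq_congr _ _ conj_sq

theorem exists_kap_ne (M : MSetting z QG Rep) : ∃ v : leechLattice, M.kap v ≠ 0 := by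
  by_contra hcon
  push Not at hcon
  have hsq : ∀ x ∈ QG, x * x = 1 := by
    intro x hx
    obtain ⟨v, hv⟩ := M.surj x hx
    have := hcon v
    rwa [M.kap_eq hv, Cfsg.Agent.S5408.sq_eq_zero_iff] at this
  have hall : ∀ x ∈ QG, x = 1 ∨ x = z := by
    intro x hx
    apply M.les.cent
    intro q hq
    exact comm_of_sq (hsq q hq) (hsq x hx) (hsq _ (QG.mul_mem hq hx))
  have hsub : (QG : Set G) ⊆ {1, z} := by
    intro x hx
    rcases hall x hx with h | h
    · left; exact h
    · right; exact h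
  have h1 : Nat.card QG ≤ 2 := by
    rw [← SetLike.coe_sort_coe, Nat.card_coe_set_eq]
    calc (QG : Set G).ncard ≤ ({1, z} : Set G).ncard :=
          Set.ncard_le_ncard hsub (Set.toFinite _)
      _ ≤ ({z} : Set G).ncard + 1 := Set.ncard_insert_le _ _
      _ = 2 := by rw [Set.ncard_singleton]
  rw [M.card] at h1
  norm_num at h1

/-- **The squaring form is the type form.** -/
theorem kap_eq_type (M : MSetting z QG Rep) (v : leechLattice) :
    M.kap v = ((sqNorm (v : GolayPt → ℤ) / 16 : ℤ) : ZMod 2) :=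
  M.kap_isInvQuad.eq_type M.exists_kap_ne v

theorem type_eq (M : MSetting z QG Rep) {v : leechLattice} {x : G} (h : Rep v x) :
    x * x = 1 ↔ ((sqNorm (v : GolayPt → ℤ) / 16 : ℤ) : ZMod 2) = 0 := by
  rw [← Cfsg.Agent.S5408.sq_eq_zero_iff, ← M.kap_eq h, M.kap_eq_type]

/-! ### Orbits -/

theorem central_of_orb_zero (M : MSetting z QG Rep) {v : leechLattice} {x : G} (h : Rep v x)
    (ho : Orb v 0) : x = 1 ∨ x = z := by
  obtain ⟨γ, u, hu⟩ := ho
  apply (M.ker _ _ h).2
  refine ⟨γ⁻¹ • u, ?_⟩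
  rw [← co0_add, ← zero_add (u + u), ← hu, inv_smul_smul]

theorem not_central_of_orb (M : MSetting z QG Rep) {v u₀ : leechLattice} {x : G} (h : Rep v x)
    (ho : Orb v u₀) (h0 : 0 < sqNorm (u₀ : GolayPt → ℤ))
    (h64 : sqNorm (u₀ : GolayPt → ℤ) ≤ 64) : x ≠ 1 ∧ x ≠ z := by
  have key : ¬ (x = 1 ∨ x = z) := by
    intro hx
    obtain ⟨w, hw⟩ := (M.ker _ _ h).1 hx
    have hc : Cong v 0 := ⟨w, by rw [hw, zero_add]⟩
    have ho2 : Orb 0 u₀ := (Orb.of_cong hc).symm.trans ho
    have := ho2.sqNorm_eq (by rw [sqNorm_zero']; norm_num) h64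
    rw [sqNorm_zero'] at this
    omega
  exact ⟨fun h1 => key (Or.inl h1), fun h1 => key (Or.inr h1)⟩

theorem sq_ne_of_orb_leechV (M : MSetting z QG Rep) {v : leechLattice} {x : G} (h : Rep v x)
    (ho : Orb v Cfsg.Spor.leechV) : x * x ≠ 1 := by
  intro hx
  have h0 := (M.type_eq h).1 hx
  have h1 := cast_div_sixteen (leech_sixteen_dvd v.2) (leech_sixteen_dvd Cfsg.Spor.leechV.2)
    ho.sqNorm_mod
  rw [sqNorm_leechV] at h1
  rw [h1] at h0
  revert h0
  decide

theorem sq_of_orb (M : MSetting z QG Rep) {v u₀ : leechLattice} {x : G} (h : Rep v x)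
    (ho : Orb v u₀) (h32 : sqNorm (u₀ : GolayPt → ℤ) % 32 = 0) : x * x = 1 := by
  rw [M.type_eq h]
  have h1 := ho.sqNorm_mod
  have h2 := leech_sixteen_dvd v.2
  rw [ZMod.intCast_zmod_eq_zero_iff_dvd]
  omega

/-- a non-central involution of `Q` represents a vector in the orbit of `(4,4,0^22)` or of
`(8,0^23)` -/
theorem cases_of_invol (M : MSetting z QG Rep) {v : leechLattice} {x : G} (h : Rep v x)
    (hx2 : x * x = 1) (hx1 : x ≠ 1) (hxz : x ≠ z) : Orb v Cfsg.Spor.leechU ∨ Orb v U4 := by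
  rcases orb_cases v with ho | ho | ho | ho
  · rcases M.central_of_orb_zero h ho with h1 | h1
    · exact absurd h1 hx1
    · exact absurd h1 hxz
  · exact Or.inl ho
  · exact absurd hx2 (M.sq_ne_of_orb_leechV h ho)
  · exact Or.inr ho

/-- non-central elements of `Q` representing vectors in the same orbit modulo twice the lattice
are conjugate under the centralizer of `z` -/
theorem exists_conj_of_orb (M : MSetting z QG Rep) {v w : leechLattice} {s t : G}
    (hs : Rep v s) (ht : Rep w t) (ho : Orb v w) (hs1 : s ≠ 1) (hsz : s ≠ z) :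
    ∃ h : G, h * z = z * h ∧ h * s * h⁻¹ = t := by
  obtain ⟨γ, hγ⟩ := ho
  obtain ⟨h₁, hh₁, hact⟩ := M.act γ
  have h1 := M.rep_cong (hact _ _ hs) hγ
  rcases M.uniq _ _ _ ht h1 with h2 | h2
  · exact ⟨h₁, hh₁, h2⟩
  · have hsQ : h₁ * s * h₁⁻¹ ∈ QG := M.mem _ _ h1
    have hs1' : h₁ * s * h₁⁻¹ ≠ 1 := by
      intro h3
      exact hs1 (conj_eq_one_iff.1 h3)
    have hh₁' : h₁⁻¹ * z * h₁ = z := by
      calc h₁⁻¹ * z * h₁ = h₁⁻¹ * (z * h₁) := by group
        _ = h₁⁻¹ * (h₁ * z) := by rw [hh₁]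
        _ = z := by group
    have hsz' : h₁ * s * h₁⁻¹ ≠ z := by
      intro h3
      apply hsz
      calc s = h₁⁻¹ * (h₁ * s * h₁⁻¹) * h₁ := by group
        _ = z := by rw [h3, hh₁']
    obtain ⟨q, hq, hqs⟩ := M.les.exists_conj hsQ hs1' hsz'
    have htQ := M.mem _ _ ht
    refine ⟨q * h₁, ?_, ?_⟩
    · calc q * h₁ * z = q * (h₁ * z) := by group
        _ = q * (z * h₁) := by rw [hh₁]
        _ = (q * z) * h₁ := by group
        _ = (z * q) * h₁ := by rw [M.zcomm hq]
        _ = z * (q * h₁) := by group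
    · calc q * h₁ * s * (q * h₁)⁻¹ = q * (h₁ * s * h₁⁻¹) * q⁻¹ := by group
        _ = z * (h₁ * s * h₁⁻¹) := hqs
        _ = z * (t * z) := by rw [h2]
        _ = (z * t) * z := by group
        _ = (t * z) * z := by rw [M.zcomm htQ]
        _ = t * (z * z) := by group
        _ = t := by rw [M.zsq, mul_one]

/-- **Transitivity on the involutions of `Q` not conjugate to `z`.** -/
theorem noncentral_invol_trans (M : MSetting z QG Rep) {s t : G} (hs : s ∈ QG) (ht : t ∈ QG)
    (hs2 : s * s = 1) (ht2 : t * t = 1) (hs1 : s ≠ 1) (ht1 : t ≠ 1) (hsc : ¬ IsConj z s)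
    (htc : ¬ IsConj z t) : ∃ h : G, h * z = z * h ∧ h * s * h⁻¹ = t := by
  have hsz : s ≠ z := fun h => hsc (h ▸ IsConj.refl z)
  have htz : t ≠ z := fun h => htc (h ▸ IsConj.refl z)
  obtain ⟨v, hv⟩ := M.surj s hs
  obtain ⟨w, hw⟩ := M.surj t ht
  obtain ⟨g, hgQ, hgz⟩ := M.wit
  obtain ⟨v₀, hv₀⟩ := M.surj _ hgQ
  have hg1 : g * z * g⁻¹ ≠ 1 := fun h => M.les.ne_one (conj_eq_one_iff.1 h)
  have hg2 : (g * z * g⁻¹) * (g * z * g⁻¹) = 1 := conj_sq.2 M.zsq
  have hconj : ∀ {u : leechLattice} {x : G}, Rep u x → Orb v₀ u → IsConj z x := by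
    intro u x hu ho
    obtain ⟨h, -, hh⟩ := M.exists_conj_of_orb hv₀ hu ho hg1 hgz
    rw [isConj_iff]
    refine ⟨h * g, ?_⟩
    rw [← hh]
    group
  rcases M.cases_of_invol hv hs2 hs1 hsz with h1 | h1 <;>
    rcases M.cases_of_invol hw ht2 ht1 htz with h2 | h2
  · exact M.exists_conj_of_orb hv hw (h1.trans h2.symm) hs1 hsz
  · exfalso
    rcases M.cases_of_invol hv₀ hg2 hg1 hgz with h3 | h3
    · exact hsc (hconj hv (h3.trans h1.symm))
    · exact htc (hconj hw (h3.trans h2.symm))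
  · exfalso
    rcases M.cases_of_invol hv₀ hg2 hg1 hgz with h3 | h3
    · exact htc (hconj hw (h3.trans h2.symm))
    · exact hsc (hconj hv (h3.trans h1.symm))
  · exact M.exists_conj_of_orb hv hw (h1.trans h2.symm) hs1 hsz

end MSetting

end Cfsg.Agent.Helper92
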