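import Cfsg.Agent.Helper55.N9Defs

/-!
# CALL S4409 (helper55), piece HP: a hyperplane avoiding a given element (helper92)
-/

set_option autoImplicit false

namespace Cfsg.Agent.Helper92.N9

open Subgroup Cfsg.Agent.Helper55.N9

variable {G : Type*} [Group G] [Finite G]

theorem n9_hyperplane (X N : Subgroup G) (hNX : N ≤ X) (hsq : ∀ x ∈ X, x ^ 2 ∈ N)
    (hn : X ≤ normalizer (N : Set G)) (v : G) (hvX : v ∈ X) (hv : v ∉ N) :
    ∃ M : Subgroup G, M ≤ X ∧ M.relIndex X = 2 ∧ N ≤ M ∧ v ∉ M := by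
  classical
  have hconj : ∀ x ∈ X, ∀ n ∈ N, x * n * x⁻¹ ∈ N := fun x hx n hn' =>
    (mem_normalizer_iff.mp (hn hx) n).mp hn'
  have hcomm : ∀ x ∈ X, ∀ y ∈ X, x * y * x⁻¹ * y⁻¹ ∈ N := by
    intro x hx y hy
    have h1 := hsq (x * y) (X.mul_mem hx hy)
    have h2 := hsq x hx
    have h3 := hsq y hy
    have h4 : y⁻¹ * (x ^ 2)⁻¹ * y ∈ N := by
      have h := hconj y⁻¹ (X.inv_mem hy) _ (N.inv_mem h2)
      rwa [inv_inv] at h
    rw [pow_two] at h1
    have e : x * y * x⁻¹ * y⁻¹ = (x * y * (x * y)) * (y⁻¹ * (x ^ 2)⁻¹ * y) * (y ^ 2)⁻¹ := by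
      group
    rw [e]
    exact N.mul_mem (N.mul_mem h1 h4) (N.inv_mem h3)
  -- a subgroup of maximal order between `N` and `X` avoiding `v`
  have hne : Nonempty {M : Subgroup G // N ≤ M ∧ M ≤ X ∧ v ∉ M} := ⟨⟨N, le_refl N, hNX, hv⟩⟩
  obtain ⟨⟨M, hNM, hMX, hvM⟩, hM⟩ :=
    Finite.exists_max (fun M : {M : Subgroup G // N ≤ M ∧ M ≤ X ∧ v ∉ M} => Nat.card M.1)
  have hmax : ∀ M' : Subgroup G, N ≤ M' → M' ≤ X → v ∉ M' → M ≤ M' → M = M' := by
    intro M' h1 h2 h3 h4
    exact Subgroup.eq_of_le_of_card_ge h4 (hM ⟨M', h1, h2, h3⟩)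
  have hMn : ∀ x ∈ X, ∀ m ∈ M, x * m * x⁻¹ ∈ M := by
    intro x hx m hm
    have h := hNM (hcomm x hx m (hMX hm))
    have e : x * m * x⁻¹ = (x * m * x⁻¹ * m⁻¹) * m := by group
    rw [e]
    exact M.mul_mem h hm
  have hMn' : ∀ x ∈ X, ∀ m ∈ M, x⁻¹ * m * x ∈ M := by
    intro x hx m hm
    have h := hMn x⁻¹ (X.inv_mem hx) m hm
    rwa [inv_inv] at h
  have hsqM : ∀ x ∈ X, x ^ 2 ∈ M := fun x hx => hNM (hsq x hx)
  have key : ∀ b ∈ X, b ∉ M → b * v ∈ M := by
    intro b hb hbM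
    let M' : Subgroup G :=
      { carrier := {x | x ∈ M ∨ x * b ∈ M}
        one_mem' := Or.inl M.one_mem
        mul_mem' := by
          rintro x y (hx | hx) (hy | hy)
          · exact Or.inl (M.mul_mem hx hy)
          · right
            rw [mul_assoc]
            exact M.mul_mem hx hy
          · right
            have e : x * y * b = (x * b) * (b⁻¹ * y * b) := by group
            rw [e]
            exact M.mul_mem hx (hMn' b hb y hy)
          · left
            have e : x * y = (x * b) * (b⁻¹ * (y * b) * b) * (b ^ 2)⁻¹ := by group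
            rw [e]
            exact M.mul_mem (M.mul_mem hx (hMn' b hb _ hy)) (M.inv_mem (hsqM b hb))
        inv_mem' := by
          rintro x (hx | hx)
          · exact Or.inl (M.inv_mem hx)
          · right
            have e : x⁻¹ * b = b * (x * b)⁻¹ * b⁻¹ * b ^ 2 := by group
            rw [e]
            exact M.mul_mem (hMn b hb _ (M.inv_mem hx)) (hsqM b hb) }
    have hM'mem : ∀ x, x ∈ M' ↔ (x ∈ M ∨ x * b ∈ M) := fun x => Iff.rfl
    have hbM' : b ∈ M' := (hM'mem b).mpr (Or.inr (by rw [← pow_two]; exact hsqM b hb))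
    have hle : M ≤ M' := fun x hx => (hM'mem x).mpr (Or.inl hx)
    have hM'X : M' ≤ X := by
      intro x hx
      rcases (hM'mem x).mp hx with h | h
      · exact hMX h
      · have e : x = (x * b) * b⁻¹ := by group
        rw [e]
        exact X.mul_mem (hMX h) (X.inv_mem hb)
    have hvM' : v ∈ M' := by
      by_contra hv'
      have h := hmax M' (hNM.trans hle) hM'X hv' hle
      exact hbM (h ▸ hbM')
    rcases (hM'mem v).mp hvM' with h | h
    · exact absurd h hvM
    · have e : b * v = b * (v * b) * b⁻¹ := by group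
      rw [e]
      exact hMn b hb _ h
  refine ⟨M, hMX, ?_, hNM, hvM⟩
  rw [Subgroup.relIndex, Subgroup.index_eq_two_iff]
  refine ⟨⟨v, hvX⟩, fun b => ?_⟩
  simp only [Subgroup.mem_subgroupOf, Subgroup.coe_mul]
  by_cases hb : (b : G) ∈ M
  · right
    refine ⟨hb, fun h => hvM ?_⟩
    have h' := M.mul_mem (M.inv_mem hb) h
    rwa [inv_mul_cancel_left] at h'
  · left
    exact ⟨key b b.2 hb, hb⟩

end Cfsg.Agent.Helper92.N9
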