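/-
Helper92: a Parker-type factor set on the words of the length-24 code that vanish at the extra
point.  `th x z` is additive in `z`, its additivity defect in `x` is the triple intersection
parity `tau`, and `th x x` is the weight divided by four (modulo two).  Consequently, for a
permutation of the points preserving the code and fixing the extra point, `bt π x y =
th (x∘π⁻¹) (y∘π⁻¹) + th x y` is biadditive and alternating on those words.
-/
import Cfsg.Agent.Helper91.Perm
import Cfsg.Agent.Helper8.GolayBasic

set_option autoImplicit false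

namespace Cfsg.Agent.Helper92.Parker

open Cfsg
open Cfsg.Agent.Helper91 (toWord pt idx popc)
open scoped Pointwise

/-- Binary words on the 24 points. -/
abbrev W : Type := GolayPt → ZMod 2

/-- The words of the code vanishing at the extra point. -/
def C0 : Submodule (ZMod 2) W where
  carrier := {x | x ∈ golayCode ∧ x none = 0}
  add_mem' := by
    rintro x y ⟨hx, hx0⟩ ⟨hy, hy0⟩
    exact ⟨golayCode.add_mem hx hy, by simp [hx0, hy0]⟩
  zero_mem' := ⟨golayCode.zero_mem, rfl⟩
  smul_mem' := by
    rintro c x ⟨hx, hx0⟩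
    exact ⟨golayCode.smul_mem c hx, by simp [hx0]⟩

theorem mem_C0 (x : W) : x ∈ C0 ↔ x ∈ golayCode ∧ x none = 0 := Iff.rfl

theorem C0_le {x : W} (hx : x ∈ C0) : x ∈ golayCode := hx.1

/-! ## Small facts on `ZMod 2` -/

theorem z2_cases (a : ZMod 2) : a = 0 ∨ a = 1 := by revert a; decide

theorem z2_add_self (a : ZMod 2) : a + a = 0 := by revert a; decide

theorem z2_eq_of_add (a b : ZMod 2) (h : a + b = 0) : a = b := by revert a b; decide

/-! ## The triple intersection parity -/

/-- The parity of the number of points common to three words. -/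
def tau (x y z : W) : ZMod 2 := ∑ p, x p * y p * z p

theorem tau_eq_card (x y z : W) :
    tau x y z = (((support₂ x ∩ support₂ y ∩ support₂ z).card : ℕ) : ZMod 2) := by
  have h1 : support₂ x ∩ support₂ y ∩ support₂ z =
      Finset.univ.filter (fun p => x p * y p * z p ≠ 0) := by
    ext p
    simp only [support₂, Finset.mem_inter, Finset.mem_filter, Finset.mem_univ, true_and]
    have key : ∀ a b c : ZMod 2, ((a ≠ 0 ∧ b ≠ 0) ∧ c ≠ 0) ↔ a * b * c ≠ 0 := by decide
    exact key _ _ _
  rw [h1, Finset.card_filter, Nat.cast_sum, tau]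
  apply Finset.sum_congr rfl
  intro p _
  have key : ∀ a : ZMod 2, a = (((if a ≠ 0 then 1 else 0 : ℕ)) : ZMod 2) := by decide
  exact key _

theorem tau_comp (π : Equiv.Perm GolayPt) (x y z : W) :
    tau (x ∘ ⇑π) (y ∘ ⇑π) (z ∘ ⇑π) = tau x y z := by
  unfold tau
  exact Equiv.sum_comp π (fun p => x p * y p * z p)

theorem tau_add_right (x y z z' : W) : tau x y (z + z') = tau x y z + tau x y z' := by
  unfold tau
  rw [← Finset.sum_add_distrib]
  apply Finset.sum_congr rfl
  intro p _
  simp [mul_add]

theorem tau_zero_right (x y : W) : tau x y 0 = 0 := by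
  unfold tau; simp

theorem tau_smul_right (c : ZMod 2) (x y z : W) : tau x y (c • z) = c * tau x y z := by
  unfold tau
  rw [Finset.mul_sum]
  apply Finset.sum_congr rfl
  intro p _
  simp only [Pi.smul_apply, smul_eq_mul]
  ring

theorem tau_sum_right (x y : W) (s : Finset ℕ) (c : ℕ → ZMod 2) (w : ℕ → W) :
    tau x y (∑ k ∈ s, c k • w k) = ∑ k ∈ s, c k * tau x y (w k) := by
  classical
  induction s using Finset.induction_on with
  | empty => simp [tau_zero_right]
  | insert a s ha ih =>
    rw [Finset.sum_insert ha, Finset.sum_insert ha, tau_add_right, tau_smul_right, ih]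

theorem tau_self_mid (x b : W) : tau x b x = tau x b b := by
  unfold tau
  apply Finset.sum_congr rfl
  intro p _
  have key : ∀ u v : ZMod 2, u * v * u = u * v * v := by decide
  exact key _ _

/-! ## The half intersection -/

/-- Half the number of common points of two words, modulo two. -/
def Qh (b x : W) : ZMod 2 := (((support₂ x ∩ support₂ b).card / 2 : ℕ) : ZMod 2)

theorem Qh_comm (b x : W) : Qh b x = Qh x b := by
  unfold Qh; rw [Finset.inter_comm]

theorem even_inter {x b : W} (hx : x ∈ golayCode) (hb : b ∈ golayCode) :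
    Even (support₂ x ∩ support₂ b).card :=
  Helper8.inter_even_of_dot x b (Helper8.golay_self_orth x hx b hb)

/-- The polarisation of the half intersection is the triple intersection parity. -/
theorem Qh_add {x y b : W} (hx : x ∈ golayCode) (hy : y ∈ golayCode) (hb : b ∈ golayCode) :
    Qh b (x + y) + Qh b x + Qh b y = tau x y b := by
  obtain ⟨m, hm⟩ := even_inter hx hb
  obtain ⟨n, hn⟩ := even_inter hy hb
  have h1 : support₂ (x + y) ∩ support₂ b =
      symmDiff (support₂ x ∩ support₂ b) (support₂ y ∩ support₂ b) := by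
    rw [Helper8.support₂_add]
    exact inf_symmDiff_distrib_right _ _ _
  have h2 := Helper8.card_symmDiff_add (support₂ x ∩ support₂ b) (support₂ y ∩ support₂ b)
  have h3 : support₂ x ∩ support₂ b ∩ (support₂ y ∩ support₂ b) =
      support₂ x ∩ support₂ y ∩ support₂ b := by
    ext p
    simp only [Finset.mem_inter]
    tauto
  rw [h3, ← h1] at h2
  have h4 : (support₂ (x + y) ∩ support₂ b).card / 2 +
      (support₂ x ∩ support₂ y ∩ support₂ b).card =
      (support₂ x ∩ support₂ b).card / 2 + (support₂ y ∩ support₂ b).card / 2 := by omega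
  have h5 : Qh b (x + y) + tau x y b = Qh b x + Qh b y := by
    rw [tau_eq_card]
    unfold Qh
    rw [← Nat.cast_add, ← Nat.cast_add, h4]
  have key : ∀ a t u v : ZMod 2, a + t = u + v → a + u + v = t := by decide
  exact key _ _ _ _ h5

/-! ## The weight divided by four -/

/-- A quarter of the weight, modulo two. -/
def sg (x : W) : ZMod 2 := (((support₂ x).card / 4 : ℕ) : ZMod 2)

theorem sg_add {x y : W} (hx : x ∈ golayCode) (hy : y ∈ golayCode) :
    sg (x + y) = sg x + sg y + Qh y x := by
  obtain ⟨m, hm⟩ := even_inter hx hy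
  obtain ⟨a, ha⟩ := Helper8.golay_doubly_even x hx
  obtain ⟨b, hb⟩ := Helper8.golay_doubly_even y hy
  obtain ⟨c, hc⟩ := Helper8.golay_doubly_even (x + y) (golayCode.add_mem hx hy)
  have h2 := Helper8.card_symmDiff_add (support₂ x) (support₂ y)
  rw [← Helper8.support₂_add] at h2
  have h4 : (support₂ (x + y)).card / 4 + (support₂ x ∩ support₂ y).card / 2 =
      (support₂ x).card / 4 + (support₂ y).card / 4 := by omega
  have h5 : sg (x + y) + Qh y x = sg x + sg y := by
    unfold sg Qh
    rw [← Nat.cast_add, ← Nat.cast_add, h4]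
  have key : ∀ s q u v : ZMod 2, s + q = u + v → s = u + v + q := by decide
  exact key _ _ _ _ h5

theorem sg_comp (π : Equiv.Perm GolayPt) (x : W) : sg (x ∘ ⇑π) = sg x := by
  unfold sg
  rw [Helper91.support₂_comp, Finset.card_smul_finset]

theorem sg_zero : sg 0 = 0 := by
  have : support₂ (0 : W) = ∅ := by
    ext p; simp [support₂]
  simp [sg, this]

/-! ## The basis of `C0` -/

/-- Eleven words of weight 8 of `C0`; the word `k` has a single one among the points `0, …, 10`,
at the point `k`. -/
def bmL : List ℕ :=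
  [2422785, 4845570, 3610628, 7221256, 7903248, 5621792, 1009728, 2019456, 4038912, 8077824, 5405696]

/-- The mask of the basis word `k`. -/
def bm (k : ℕ) : ℕ := bmL.getD k 0

/-- The basis word `k`. -/
def bw (k : ℕ) : W := toWord (bm k)

theorem bm_facts : ∀ k < 11, Helper91.isCode (bm k) = true ∧ (bm k).testBit 23 = false ∧
    bm k < 2 ^ 24 ∧ popc 24 (bm k) = 8 := by decide +kernel

theorem bm_bit : ∀ k < 11, ∀ j < 11, (bm k).testBit j = decide (k = j) := by decide +kernel

theorem pt_val {k : ℕ} (hk : k < 24) (m : ℕ) : toWord m (pt k) = if m.testBit k then 1 else 0 := by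
  rw [Helper91.toWord_apply, Helper91.idx_pt hk]

theorem none_val (m : ℕ) : toWord m none = if m.testBit 23 then 1 else 0 := rfl

theorem bw_mem {k : ℕ} (hk : k < 11) : bw k ∈ C0 := by
  obtain ⟨h1, h2, h3, -⟩ := bm_facts k hk
  refine ⟨(Helper91.toWord_mem_iff h3).2 h1, ?_⟩
  show toWord (bm k) none = 0
  rw [none_val, h2]; simp

theorem bw_pt {k j : ℕ} (hk : k < 11) (hj : j < 11) : bw k (pt j) = if k = j then 1 else 0 := by
  unfold bw
  rw [pt_val (by omega), bm_bit k hk j hj]
  by_cases h : k = j <;> simp [h]

/-- Boolean test: a mask has a one among the points `0, …, 10` or at the extra point, or is zero. -/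
def vanChk (m : ℕ) : Bool := (List.range 11).any (fun i => m.testBit i) || m.testBit 23 || m == 0

theorem vanChk_all : Helper91.allB Helper91.golayBasis 0 vanChk = true := by decide +kernel

/-- A word of `C0` vanishing at the points `0, …, 10` is zero. -/
theorem eq_zero_of_vanish {z : W} (hz : z ∈ C0) (h : ∀ k < 11, z (pt k) = 0) : z = 0 := by
  obtain ⟨m, hm, rfl⟩ := (Helper91.mem_golayCode_iff z).1 hz.1
  have hc := (Helper91.allB_iff _ _ _).1 vanChk_all m hm
  have h23 : m.testBit 23 = false := by
    have h1 := hz.2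
    rw [none_val] at h1
    by_contra hne
    rw [Bool.not_eq_false] at hne
    rw [hne] at h1; simp at h1
  have hk : ∀ i < 11, m.testBit i = false := by
    intro i hi
    have h1 := h i hi
    rw [pt_val (by omega)] at h1
    by_contra hne
    rw [Bool.not_eq_false] at hne
    rw [hne] at h1; simp at h1
  have hany : (List.range 11).any (fun i => m.testBit i) = false := by
    rw [List.any_eq_false]
    intro i hi
    simp [hk i (List.mem_range.1 hi)]
  unfold vanChk at hc
  rw [hany, h23] at hc
  simp at hc
  rw [hc, Helper91.toWord_zero]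

/-- Every word of `C0` is the combination of the basis words given by its values at the points
`0, …, 10`. -/
theorem expand {z : W} (hz : z ∈ C0) : z = ∑ k ∈ Finset.range 11, z (pt k) • bw k := by
  have hmem : z - ∑ k ∈ Finset.range 11, z (pt k) • bw k ∈ C0 :=
    C0.sub_mem hz (C0.sum_mem (fun k hk => C0.smul_mem _ (bw_mem (Finset.mem_range.1 hk))))
  have h0 := eq_zero_of_vanish hmem (fun j hj => by
    rw [Pi.sub_apply, Finset.sum_apply]
    have h1 : ∀ k ∈ Finset.range 11, (z (pt k) • bw k) (pt j) = if k = j then z (pt j) else 0 := by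
      intro k hk
      rw [Pi.smul_apply, bw_pt (Finset.mem_range.1 hk) hj, smul_eq_mul]
      by_cases h : k = j
      · subst h; simp
      · simp [h]
    rw [Finset.sum_congr rfl h1, Finset.sum_ite_eq', if_pos (Finset.mem_range.2 hj), sub_self])
  exact sub_eq_zero.1 h0

/-! ## The factor set -/

/-- Correction coefficients making the commutator of basis words come out right. -/
def al (i k : ℕ) : ZMod 2 := if k < i then Qh (bw k) (bw i) else 0

/-- The linear correction. -/
def lin (k : ℕ) (x : W) : ZMod 2 := ∑ i ∈ Finset.range 11, al i k * x (pt i)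

/-- The factor set. -/
def th (x z : W) : ZMod 2 := ∑ k ∈ Finset.range 11, z (pt k) * (Qh (bw k) x + lin k x)

theorem lin_add (k : ℕ) (x y : W) : lin k (x + y) = lin k x + lin k y := by
  unfold lin
  rw [← Finset.sum_add_distrib]
  apply Finset.sum_congr rfl
  intro i _
  simp [mul_add]

theorem th_add_right (x z z' : W) : th x (z + z') = th x z + th x z' := by
  unfold th
  rw [← Finset.sum_add_distrib]
  apply Finset.sum_congr rfl
  intro k _
  simp [add_mul]

theorem th_zero_right (x : W) : th x 0 = 0 := by
  unfold th; simp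

theorem th_add_left {x y z : W} (hx : x ∈ golayCode) (hy : y ∈ golayCode) (hz : z ∈ C0) :
    th (x + y) z + th x z + th y z = tau x y z := by
  have hz' := expand hz
  have h1 : tau x y z = ∑ k ∈ Finset.range 11, z (pt k) * tau x y (bw k) := by
    have := tau_sum_right x y (Finset.range 11) (fun k => z (pt k)) bw
    rw [← hz'] at this
    exact this
  rw [h1]
  unfold th
  rw [← Finset.sum_add_distrib, ← Finset.sum_add_distrib]
  apply Finset.sum_congr rfl
  intro k hk
  have hQ := Qh_add hx hy (bw_mem (Finset.mem_range.1 hk)).1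
  have hL := lin_add k x y
  have h2 := z2_add_self (lin k x)
  have h3 := z2_add_self (lin k y)
  rw [hL]
  linear_combination z (pt k) * hQ + z (pt k) * h2 + z (pt k) * h3

theorem Qh_bw_self {k : ℕ} (hk : k < 11) : Qh (bw k) (bw k) = 0 := by
  unfold Qh bw
  rw [Finset.inter_self, Helper91.card_support_toWord, (bm_facts k hk).2.2.2]
  decide

theorem sg_bw {k : ℕ} (hk : k < 11) : sg (bw k) = 0 := by
  unfold sg bw
  rw [Helper91.card_support_toWord, (bm_facts k hk).2.2.2]
  decide

theorem al_bracket {k j : ℕ} (hk : k < 11) (hj : j < 11) :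
    al k j + Qh (bw k) (bw j) + al j k = 0 := by
  unfold al
  rcases Nat.lt_trichotomy k j with h | h | h
  · rw [if_neg (by omega), if_pos h, zero_add]; exact z2_add_self _
  · subst h; rw [if_neg (lt_irrefl _), Qh_bw_self hk]; simp
  · rw [if_pos h, if_neg (by omega), add_zero, Qh_comm (bw j) (bw k)]; exact z2_add_self _

theorem th_bw_right (x : W) {j : ℕ} (hj : j < 11) : th x (bw j) = Qh (bw j) x + lin j x := by
  unfold th
  have h1 : ∀ k ∈ Finset.range 11, bw j (pt k) * (Qh (bw k) x + lin k x) =
      if k = j then Qh (bw j) x + lin j x else 0 := by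
    intro k hk
    rw [bw_pt hj (Finset.mem_range.1 hk)]
    by_cases h : j = k
    · subst h; simp
    · have h' : ¬ k = j := fun e => h e.symm
      simp [h, h']
  rw [Finset.sum_congr rfl h1, Finset.sum_ite_eq', if_pos (Finset.mem_range.2 hj)]

theorem lin_bw (k : ℕ) {j : ℕ} (hj : j < 11) : lin k (bw j) = al j k := by
  unfold lin
  have h1 : ∀ i ∈ Finset.range 11, al i k * bw j (pt i) = if i = j then al j k else 0 := by
    intro i hi
    rw [bw_pt hj (Finset.mem_range.1 hi)]
    by_cases h : j = i
    · subst h; simp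
    · have h' : ¬ i = j := fun e => h e.symm
      simp [h, h']
  rw [Finset.sum_congr rfl h1, Finset.sum_ite_eq', if_pos (Finset.mem_range.2 hj)]

/-- The commutator of a word with a basis word. -/
theorem th_comm_bw (x : W) {j : ℕ} (hj : j < 11) : th x (bw j) + th (bw j) x = Qh (bw j) x := by
  rw [th_bw_right x hj]
  have h0 : th (bw j) x = ∑ k ∈ Finset.range 11, x (pt k) * (Qh (bw k) (bw j) + al j k) := by
    unfold th
    apply Finset.sum_congr rfl
    intro k _
    rw [lin_bw k hj]
  have h1 : (∑ i ∈ Finset.range 11, al i j * x (pt i)) +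
      ∑ k ∈ Finset.range 11, x (pt k) * (Qh (bw k) (bw j) + al j k) = 0 := by
    rw [← Finset.sum_add_distrib]
    apply Finset.sum_eq_zero
    intro k hk
    have hb := al_bracket (Finset.mem_range.1 hk) hj
    linear_combination x (pt k) * hb
  have h2 : lin j x = ∑ i ∈ Finset.range 11, al i j * x (pt i) := rfl
  rw [h0, h2, add_assoc, h1, add_zero]

theorem th_bw_self {j : ℕ} (hj : j < 11) : th (bw j) (bw j) = 0 := by
  rw [th_bw_right (bw j) hj, Qh_bw_self hj, lin_bw j hj]
  unfold al
  simp

theorem th_step {x : W} (hx : x ∈ C0) {j : ℕ} (hj : j < 11) :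
    th (x + bw j) (x + bw j) + sg (x + bw j) = th x x + sg x := by
  have hb := bw_mem hj
  have e1 := th_add_right (x + bw j) x (bw j)
  have e2 := th_add_left hx.1 hb.1 hx
  have e3 := th_add_left hx.1 hb.1 hb
  have e4 := th_comm_bw x hj
  have e5 := th_bw_self hj
  have e6 := sg_add hx.1 hb.1
  have e7 := sg_bw hj
  have e8 := tau_self_mid x (bw j)
  rw [e1, e6, e7]
  linear_combination e2 + e3 - e4 - e5 - e8 - z2_add_self (th x x) +
    z2_add_self (tau x (bw j) x)

theorem th_self_sum (s : Finset ℕ) (hs : ∀ k ∈ s, k < 11) :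
    th (∑ k ∈ s, bw k) (∑ k ∈ s, bw k) + sg (∑ k ∈ s, bw k) = 0 := by
  classical
  induction s using Finset.induction_on with
  | empty => simp [th_zero_right, sg_zero]
  | insert a s ha ih =>
    have hs' : ∀ k ∈ s, k < 11 := fun k hk => hs k (Finset.mem_insert_of_mem hk)
    have hmem : ∑ k ∈ s, bw k ∈ C0 := C0.sum_mem (fun k hk => bw_mem (hs' k hk))
    rw [Finset.sum_insert ha, add_comm (bw a), th_step hmem (hs a (Finset.mem_insert_self a s)),
      ih hs']

/-- On `C0` the diagonal of the factor set is the weight divided by four. -/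
theorem th_self {x : W} (hx : x ∈ C0) : th x x = sg x := by
  have h1 := expand hx
  have h2 : ∑ k ∈ Finset.range 11, x (pt k) • bw k =
      ∑ k ∈ (Finset.range 11).filter (fun k => x (pt k) = 1), bw k := by
    rw [Finset.sum_filter]
    apply Finset.sum_congr rfl
    intro k _
    rcases z2_cases (x (pt k)) with h | h <;> simp [h]
  have h3 := th_self_sum ((Finset.range 11).filter (fun k => x (pt k) = 1))
    (fun k hk => Finset.mem_range.1 (Finset.mem_filter.1 hk).1)
  rw [← h2, ← h1] at h3
  exact z2_eq_of_add _ _ h3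

/-! ## The action of permutations and the twisted difference -/

/-- The action of a permutation of the points on words. -/
def pa (π : Equiv.Perm GolayPt) (x : W) : W := x ∘ ⇑π⁻¹

theorem pa_add (π : Equiv.Perm GolayPt) (x y : W) : pa π (x + y) = pa π x + pa π y := rfl

theorem pa_zero (π : Equiv.Perm GolayPt) : pa π 0 = 0 := rfl

theorem pa_one (x : W) : pa 1 x = x := rfl

theorem pa_mul (π π' : Equiv.Perm GolayPt) (x : W) : pa (π * π') x = pa π (pa π' x) := by
  funext p
  simp [pa, mul_inv_rev]

theorem pa_inv_cancel (π : Equiv.Perm GolayPt) (x : W) : pa π (pa π⁻¹ x) = x := by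
  rw [← pa_mul, mul_inv_cancel, pa_one]

theorem pa_inv_cancel' (π : Equiv.Perm GolayPt) (x : W) : pa π⁻¹ (pa π x) = x := by
  rw [← pa_mul, inv_mul_cancel, pa_one]

theorem mem_M23 (π : Equiv.Perm GolayPt) : π ∈ Spor.M23 ↔ π ∈ M24 ∧ π none = none := by
  unfold Spor.M23
  rw [Subgroup.mem_inf]
  exact Iff.rfl

theorem pa_mem {π : Equiv.Perm GolayPt} (hπ : π ∈ Spor.M23) {x : W} (hx : x ∈ C0) :
    pa π x ∈ C0 := by
  have h := (mem_M23 π).1 hπ
  refine ⟨Helper91.comp_mem_of_mem_M24 (inv_mem h.1) hx.1, ?_⟩
  show x (π⁻¹ none) = 0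
  have h1 : π⁻¹ none = none := by
    rw [Equiv.Perm.inv_eq_iff_eq]; exact h.2.symm
  rw [h1]; exact hx.2

theorem pa_mem_iff {π : Equiv.Perm GolayPt} (hπ : π ∈ Spor.M23) (x : W) :
    pa π x ∈ C0 ↔ x ∈ C0 :=
  ⟨fun h => by
    have := pa_mem (inv_mem hπ) h
    rwa [pa_inv_cancel'] at this, pa_mem hπ⟩

/-- The twisted difference of the factor set. -/
def bt (π : Equiv.Perm GolayPt) (x y : W) : ZMod 2 := th (pa π x) (pa π y) + th x y

theorem bt_add_right (π : Equiv.Perm GolayPt) (x y y' : W) :
    bt π x (y + y') = bt π x y + bt π x y' := by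
  unfold bt
  rw [pa_add, th_add_right, th_add_right]
  ring

theorem bt_add_left {π : Equiv.Perm GolayPt} (hπ : π ∈ Spor.M23) {x x' z : W} (hx : x ∈ C0)
    (hx' : x' ∈ C0) (hz : z ∈ C0) : bt π (x + x') z = bt π x z + bt π x' z := by
  have e1 := th_add_left (pa_mem hπ hx).1 (pa_mem hπ hx').1 (pa_mem hπ hz)
  have e2 := th_add_left hx.1 hx'.1 hz
  have e3 : tau (pa π x) (pa π x') (pa π z) = tau x x' z := tau_comp π⁻¹ x x' z
  unfold bt
  rw [pa_add]
  have key : ∀ (A a a' t B b b' t' : ZMod 2), A + a + a' = t → B + b + b' = t' → t = t' →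
      A + B = a + b + (a' + b') := by decide
  exact key _ _ _ _ _ _ _ _ e1 e2 e3

theorem bt_self {π : Equiv.Perm GolayPt} (hπ : π ∈ Spor.M23) {x : W} (hx : x ∈ C0) :
    bt π x x = 0 := by
  unfold bt
  rw [th_self (pa_mem hπ hx), th_self hx]
  have h1 : sg (pa π x) = sg x := sg_comp π⁻¹ x
  rw [h1]; exact z2_add_self _

theorem bt_one (x y : W) : bt 1 x y = 0 := by
  unfold bt
  rw [pa_one, pa_one]; exact z2_add_self _

/-! ## Evaluation on masks -/

theorem card_inter_toWord (a b : ℕ) :
    (support₂ (toWord a) ∩ support₂ (toWord b)).card = popc 24 (a &&& b) := by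
  rw [← Helper91.card_support_toWord]
  congr 1
  rw [Helper91.support_toWord, Helper91.support_toWord, Helper91.support_toWord]
  ext p
  simp [Nat.testBit_and]

/-- The factor set on masks, as a natural number. -/
def thN (m m' : ℕ) : ℕ :=
  ∑ k ∈ Finset.range 11, (if m'.testBit k then 1 else 0) *
    (popc 24 (m &&& bm k) / 2 + ∑ i ∈ Finset.range 11,
      (if k < i then popc 24 (bm i &&& bm k) / 2 else 0) * (if m.testBit i then 1 else 0))

theorem th_toWord (m m' : ℕ) : th (toWord m) (toWord m') = ((thN m m' : ℕ) : ZMod 2) := by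
  unfold th thN
  rw [Nat.cast_sum]
  apply Finset.sum_congr rfl
  intro k hk
  have hk' := Finset.mem_range.1 hk
  rw [Nat.cast_mul, Nat.cast_add, Nat.cast_sum]
  congr 1
  · rw [pt_val (by omega)]; split_ifs <;> simp
  · congr 1
    · unfold Qh bw; rw [card_inter_toWord]
    · unfold lin
      apply Finset.sum_congr rfl
      intro i hi
      have hi' := Finset.mem_range.1 hi
      rw [Nat.cast_mul, pt_val (by omega)]
      congr 1
      · unfold al Qh bw
        split_ifs
        · rw [card_inter_toWord]
        · simp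
      · split_ifs <;> simp

end Cfsg.Agent.Helper92.Parker
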