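/-
Helper92: the group of pairs (π, f), π a permutation of the 24 points preserving the code and
fixing the extra point, f the permutation `(e, x) ↦ (e + q x, x ∘ π⁻¹)` of `ZMod 2 × W` for a
function `q` vanishing outside `C0` whose additivity defect on `C0` is the twisted difference
`bt π` of the factor set.  It maps onto `Spor.M23`; the kernel is the image of the words under
`w ↦ (x ↦ Σ w x)`, two words giving the same element iff they differ by a code word or by a code
word plus the unit vector at the extra point.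
-/
import Cfsg.Agent.Helper92.ParkerTheta

set_option autoImplicit false

namespace Cfsg.Agent.Helper92.Parker

open Cfsg
open Cfsg.Agent.Helper91 (toWord pt idx popc)
open scoped Pointwise

/-! ## Bilinearity of the twisted difference on the basis -/

theorem bt_zero_left {π : Equiv.Perm GolayPt} (hπ : π ∈ Spor.M23) {z : W} (hz : z ∈ C0) :
    bt π 0 z = 0 := by
  have h := bt_add_left hπ C0.zero_mem C0.zero_mem hz
  rw [add_zero] at h
  have key : ∀ a : ZMod 2, a = a + a → a = 0 := by decide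
  exact key _ h

theorem bt_smul_left {π : Equiv.Perm GolayPt} (hπ : π ∈ Spor.M23) (c : ZMod 2) {x z : W}
    (hz : z ∈ C0) : bt π (c • x) z = c * bt π x z := by
  rcases z2_cases c with rfl | rfl
  · rw [zero_smul, zero_mul]; exact bt_zero_left hπ hz
  · rw [one_smul, one_mul]

theorem bt_sum_left {π : Equiv.Perm GolayPt} (hπ : π ∈ Spor.M23) (s : Finset ℕ)
    (hs : ∀ k ∈ s, k < 11) (c : ℕ → ZMod 2) {z : W} (hz : z ∈ C0) :
    bt π (∑ k ∈ s, c k • bw k) z = ∑ k ∈ s, c k * bt π (bw k) z := by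
  classical
  induction s using Finset.induction_on with
  | empty => simp [bt_zero_left hπ hz]
  | insert a s ha ih =>
    have hs' : ∀ k ∈ s, k < 11 := fun k hk => hs k (Finset.mem_insert_of_mem hk)
    have ha' : a < 11 := hs a (Finset.mem_insert_self a s)
    have hmem : ∑ k ∈ s, c k • bw k ∈ C0 :=
      C0.sum_mem (fun k hk => C0.smul_mem _ (bw_mem (hs' k hk)))
    rw [Finset.sum_insert ha, Finset.sum_insert ha,
      bt_add_left hπ (C0.smul_mem _ (bw_mem ha')) hmem hz, bt_smul_left hπ _ hz, ih hs']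

theorem bt_zero_right (π : Equiv.Perm GolayPt) (x : W) : bt π x 0 = 0 := by
  unfold bt
  rw [pa_zero, th_zero_right, th_zero_right, add_zero]

theorem bt_smul_right (π : Equiv.Perm GolayPt) (c : ZMod 2) (x y : W) :
    bt π x (c • y) = c * bt π x y := by
  rcases z2_cases c with rfl | rfl
  · rw [zero_smul, zero_mul]; exact bt_zero_right π x
  · rw [one_smul, one_mul]

theorem bt_sum_right (π : Equiv.Perm GolayPt) (x : W) (s : Finset ℕ) (c : ℕ → ZMod 2)
    (w : ℕ → W) : bt π x (∑ k ∈ s, c k • w k) = ∑ k ∈ s, c k * bt π x (w k) := by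
  classical
  induction s using Finset.induction_on with
  | empty => simp [bt_zero_right]
  | insert a s ha ih =>
    rw [Finset.sum_insert ha, Finset.sum_insert ha, bt_add_right, bt_smul_right, ih]

theorem bt_expand {π : Equiv.Perm GolayPt} (hπ : π ∈ Spor.M23) {x y : W} (hx : x ∈ C0)
    (hy : y ∈ C0) : bt π x y =
      ∑ i ∈ Finset.range 11, ∑ j ∈ Finset.range 11, x (pt i) * y (pt j) * bt π (bw i) (bw j) := by
  have h1 := bt_sum_left hπ (Finset.range 11) (fun k hk => Finset.mem_range.1 hk)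
    (fun k => x (pt k)) hy
  rw [← expand hx] at h1
  rw [h1]
  apply Finset.sum_congr rfl
  intro i _
  have h2 := bt_sum_right π (bw i) (Finset.range 11) (fun k => y (pt k)) bw
  rw [← expand hy] at h2
  rw [h2, Finset.mul_sum]
  apply Finset.sum_congr rfl
  intro j _
  ring

theorem bt_bw_symm {π : Equiv.Perm GolayPt} (hπ : π ∈ Spor.M23) {i j : ℕ} (hi : i < 11)
    (hj : j < 11) : bt π (bw i) (bw j) = bt π (bw j) (bw i) := by
  have hbi := bw_mem hi
  have hbj := bw_mem hj
  have h := bt_self hπ (C0.add_mem hbi hbj)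
  rw [bt_add_left hπ hbi hbj (C0.add_mem hbi hbj), bt_add_right, bt_add_right, bt_self hπ hbi,
    bt_self hπ hbj] at h
  have key : ∀ a b : ZMod 2, 0 + a + (b + 0) = 0 → a = b := by decide
  exact key _ _ h

/-! ## A function with prescribed additivity defect -/

/-- A function on words, zero outside `C0`, whose additivity defect on `C0` is `bt π`. -/
noncomputable def qq (π : Equiv.Perm GolayPt) (x : W) : ZMod 2 := by
  classical
  exact if x ∈ C0 then ∑ i ∈ Finset.range 11, ∑ j ∈ Finset.range 11,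
    (if i < j then x (pt i) * x (pt j) * bt π (bw i) (bw j) else 0) else 0

theorem qq_out (π : Equiv.Perm GolayPt) (x : W) (hx : x ∉ C0) : qq π x = 0 := by
  unfold qq
  rw [if_neg hx]

theorem qq_spec {π : Equiv.Perm GolayPt} (hπ : π ∈ Spor.M23) (x : W) (hx : x ∈ C0) (y : W)
    (hy : y ∈ C0) : qq π (x + y) + qq π x + qq π y = bt π x y := by
  classical
  rw [bt_expand hπ hx hy]
  unfold qq
  rw [if_pos (C0.add_mem hx hy), if_pos hx, if_pos hy]
  have h1 : (∑ i ∈ Finset.range 11, ∑ j ∈ Finset.range 11,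
        (if i < j then (x + y) (pt i) * (x + y) (pt j) * bt π (bw i) (bw j) else 0)) +
      (∑ i ∈ Finset.range 11, ∑ j ∈ Finset.range 11,
        (if i < j then x (pt i) * x (pt j) * bt π (bw i) (bw j) else 0)) +
      (∑ i ∈ Finset.range 11, ∑ j ∈ Finset.range 11,
        (if i < j then y (pt i) * y (pt j) * bt π (bw i) (bw j) else 0)) =
      (∑ i ∈ Finset.range 11, ∑ j ∈ Finset.range 11,
        (if i < j then x (pt i) * y (pt j) * bt π (bw i) (bw j) else 0)) +
      (∑ i ∈ Finset.range 11, ∑ j ∈ Finset.range 11,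
        (if i < j then y (pt i) * x (pt j) * bt π (bw i) (bw j) else 0)) := by
    rw [← Finset.sum_add_distrib, ← Finset.sum_add_distrib, ← Finset.sum_add_distrib]
    apply Finset.sum_congr rfl
    intro i _
    rw [← Finset.sum_add_distrib, ← Finset.sum_add_distrib, ← Finset.sum_add_distrib]
    apply Finset.sum_congr rfl
    intro j _
    by_cases h : i < j
    · simp only [if_pos h, Pi.add_apply]
      have key : ∀ a b c d e : ZMod 2,
          (a + b) * (c + d) * e + a * c * e + b * d * e = a * d * e + b * c * e := by decide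
      exact key _ _ _ _ _
    · simp [if_neg h]
  have h2 : (∑ i ∈ Finset.range 11, ∑ j ∈ Finset.range 11,
        (if i < j then y (pt i) * x (pt j) * bt π (bw i) (bw j) else 0)) =
      ∑ i ∈ Finset.range 11, ∑ j ∈ Finset.range 11,
        (if j < i then y (pt j) * x (pt i) * bt π (bw j) (bw i) else 0) := Finset.sum_comm
  rw [h1, h2, ← Finset.sum_add_distrib]
  apply Finset.sum_congr rfl
  intro i hi
  rw [← Finset.sum_add_distrib]
  apply Finset.sum_congr rfl
  intro j hj
  have hi' := Finset.mem_range.1 hi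
  have hj' := Finset.mem_range.1 hj
  rcases Nat.lt_trichotomy i j with h | h | h
  · rw [if_pos h, if_neg (by omega), add_zero]
  · subst h
    rw [if_neg (lt_irrefl _), if_neg (lt_irrefl _), bt_self hπ (bw_mem hi')]
    simp
  · rw [if_neg (by omega), if_pos h, zero_add, bt_bw_symm hπ hj' hi']
    ring

/-! ## The permutations of `ZMod 2 × W` -/

/-- The permutation `(e, x) ↦ (e + q x, x ∘ π⁻¹)`. -/
def liftPerm (π : Equiv.Perm GolayPt) (q : W → ZMod 2) : Equiv.Perm (ZMod 2 × W) where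
  toFun z := (z.1 + q z.2, pa π z.2)
  invFun z := (z.1 + q (pa π⁻¹ z.2), pa π⁻¹ z.2)
  left_inv := by
    rintro ⟨e, x⟩
    refine Prod.ext ?_ (pa_inv_cancel' π x)
    show e + q x + q (pa π⁻¹ (pa π x)) = e
    rw [pa_inv_cancel', add_assoc, z2_add_self, add_zero]
  right_inv := by
    rintro ⟨e, x⟩
    refine Prod.ext ?_ (pa_inv_cancel π x)
    show e + q (pa π⁻¹ x) + q (pa π⁻¹ x) = e
    rw [add_assoc, z2_add_self, add_zero]

theorem liftPerm_apply (π : Equiv.Perm GolayPt) (q : W → ZMod 2) (e : ZMod 2) (x : W) :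
    liftPerm π q (e, x) = (e + q x, pa π x) := rfl

theorem liftPerm_mul (π π' : Equiv.Perm GolayPt) (q q' : W → ZMod 2) :
    liftPerm π q * liftPerm π' q' = liftPerm (π * π') (fun x => q' x + q (pa π' x)) := by
  apply Equiv.ext
  rintro ⟨e, x⟩
  rw [Equiv.Perm.mul_apply, liftPerm_apply, liftPerm_apply, liftPerm_apply, pa_mul, add_assoc]

theorem liftPerm_inv (π : Equiv.Perm GolayPt) (q : W → ZMod 2) :
    (liftPerm π q)⁻¹ = liftPerm π⁻¹ (fun x => q (pa π⁻¹ x)) := by
  apply Equiv.ext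
  rintro ⟨e, x⟩
  rfl

theorem liftPerm_one : liftPerm 1 (fun _ => 0) = 1 := by
  apply Equiv.ext
  rintro ⟨e, x⟩
  rw [liftPerm_apply, add_zero, pa_one]
  rfl

theorem liftPerm_congr (π : Equiv.Perm GolayPt) {q q' : W → ZMod 2} (h : ∀ x, q x = q' x) :
    liftPerm π q = liftPerm π q' := by
  have : q = q' := funext h
  rw [this]

/-! ## The group -/

/-- `f` is a lift of `π`. -/
def IsLift (π : Equiv.Perm GolayPt) (f : Equiv.Perm (ZMod 2 × W)) : Prop :=
  ∃ q : W → ZMod 2, (∀ x, x ∉ C0 → q x = 0) ∧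
    (∀ x ∈ C0, ∀ y ∈ C0, q (x + y) + q x + q y = bt π x y) ∧ f = liftPerm π q

/-- The pair `(π, f)` belongs to the group. -/
def InE (π : Equiv.Perm GolayPt) (f : Equiv.Perm (ZMod 2 × W)) : Prop :=
  π ∈ Spor.M23 ∧ IsLift π f

theorem InE_mul {π π' : Equiv.Perm GolayPt} {f f' : Equiv.Perm (ZMod 2 × W)} (h : InE π f)
    (h' : InE π' f') : InE (π * π') (f * f') := by
  obtain ⟨hπ, q, hq0, hq, rfl⟩ := h
  obtain ⟨hπ', q', hq0', hq', rfl⟩ := h'
  refine ⟨mul_mem hπ hπ', fun x => q' x + q (pa π' x), ?_, ?_, liftPerm_mul π π' q q'⟩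
  · intro x hx
    show q' x + q (pa π' x) = 0
    rw [hq0' x hx, hq0 (pa π' x) (fun h => hx ((pa_mem_iff hπ' x).1 h)), add_zero]
  · intro x hx y hy
    have e1 := hq' x hx y hy
    have e2 := hq (pa π' x) (pa_mem hπ' hx) (pa π' y) (pa_mem hπ' hy)
    show q' (x + y) + q (pa π' (x + y)) + (q' x + q (pa π' x)) + (q' y + q (pa π' y)) =
      bt (π * π') x y
    rw [pa_add]
    unfold bt at e1 e2 ⊢
    rw [pa_mul, pa_mul]
    linear_combination e1 + e2 + z2_add_self (th (pa π' x) (pa π' y))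

theorem InE_one : InE 1 1 :=
  ⟨one_mem _, fun _ => 0, fun _ _ => rfl, fun x _ y _ => by rw [bt_one]; simp, liftPerm_one.symm⟩

theorem InE_inv {π : Equiv.Perm GolayPt} {f : Equiv.Perm (ZMod 2 × W)} (h : InE π f) :
    InE π⁻¹ f⁻¹ := by
  obtain ⟨hπ, q, hq0, hq, rfl⟩ := h
  refine ⟨inv_mem hπ, fun x => q (pa π⁻¹ x), ?_, ?_, liftPerm_inv π q⟩
  · intro x hx
    exact hq0 _ (fun h => hx ((pa_mem_iff (inv_mem hπ) x).1 h))
  · intro x hx y hy
    have e := hq (pa π⁻¹ x) (pa_mem (inv_mem hπ) hx) (pa π⁻¹ y) (pa_mem (inv_mem hπ) hy)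
    show q (pa π⁻¹ (x + y)) + q (pa π⁻¹ x) + q (pa π⁻¹ y) = bt π⁻¹ x y
    rw [pa_add, e]
    unfold bt
    rw [pa_inv_cancel, pa_inv_cancel, add_comm]

/-- The group of all lifts of the elements of `Spor.M23`. -/
def EE : Subgroup (Equiv.Perm GolayPt × Equiv.Perm (ZMod 2 × W)) where
  carrier := {g | InE g.1 g.2}
  mul_mem' := fun {a b} ha hb => InE_mul (π := a.1) (π' := b.1) (f := a.2) (f' := b.2) ha hb
  one_mem' := InE_one
  inv_mem' := fun {a} ha => InE_inv (π := a.1) (f := a.2) ha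

theorem mem_EE (g : Equiv.Perm GolayPt × Equiv.Perm (ZMod 2 × W)) : g ∈ EE ↔ InE g.1 g.2 :=
  Iff.rfl

/-- The projection onto `Spor.M23`. -/
def proj : ↥EE →* ↥Spor.M23 where
  toFun g := ⟨g.1.1, g.2.1⟩
  map_one' := rfl
  map_mul' _ _ := rfl

theorem proj_val (g : ↥EE) : ((proj g : ↥Spor.M23) : Equiv.Perm GolayPt) = g.1.1 := rfl

theorem proj_surj : Function.Surjective proj := by
  rintro ⟨π, hπ⟩
  exact ⟨⟨(π, liftPerm π (qq π)), hπ, qq π, qq_out π, qq_spec hπ, rfl⟩, rfl⟩

/-- The quotient by the kernel of the projection is `Spor.M23`. -/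
noncomputable def phi : ↥EE ⧸ proj.ker ≃* ↥Spor.M23 :=
  QuotientGroup.quotientKerEquivOfSurjective proj proj_surj

theorem phi_mk (g : ↥EE) : phi (QuotientGroup.mk g) = proj g := rfl

end Cfsg.Agent.Helper92.Parker
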