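/-
Helper92: the kernel of the projection `proj : EE →* Spor.M23` as the image of the words of
length 24: `thetaHom w` is the pair `(1, (e, x) ↦ (e + Σ w x, x))` (for `x ∈ C0`).  It is
surjective onto the kernel, `thetaHom w = 0` iff `w` is a code word or a code word plus the unit
vector at the extra point, and conjugation by `g` corresponds to the permutation of `g`.
-/
import Cfsg.Agent.Helper92.ParkerGroup

set_option autoImplicit false

namespace Cfsg.Agent.Helper92.Parker

open Cfsg
open Cfsg.Agent.Helper91 (toWord pt idx popc)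
open scoped Pointwise

/-- The function `x ↦ Σ w x` on `C0`, extended by zero. -/
noncomputable def lam (w x : W) : ZMod 2 := by
  classical
  exact if x ∈ C0 then Helper8.dot w x else 0

theorem lam_in (w : W) {x : W} (hx : x ∈ C0) : lam w x = Helper8.dot w x := by
  unfold lam; rw [if_pos hx]

theorem lam_out (w x : W) (hx : x ∉ C0) : lam w x = 0 := by
  unfold lam; rw [if_neg hx]

theorem lam_spec (w x : W) (hx : x ∈ C0) (y : W) (hy : y ∈ C0) :
    lam w (x + y) + lam w x + lam w y = bt 1 x y := by
  rw [bt_one, lam_in w (C0.add_mem hx hy), lam_in w hx, lam_in w hy, Helper8.dot_add_right]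
  linear_combination z2_add_self (Helper8.dot w x) + z2_add_self (Helper8.dot w y)

theorem lam_add (w w' x : W) : lam (w + w') x = lam w x + lam w' x := by
  by_cases hx : x ∈ C0
  · rw [lam_in _ hx, lam_in _ hx, lam_in _ hx, Helper8.dot_add_left]
  · rw [lam_out _ _ hx, lam_out _ _ hx, lam_out _ _ hx, add_zero]

/-- The element of the group attached to a word. -/
noncomputable def nw (w : W) : ↥EE :=
  ⟨(1, liftPerm 1 (lam w)), one_mem _, lam w, lam_out w, lam_spec w, rfl⟩

theorem nw_val (w : W) : (nw w : Equiv.Perm GolayPt × Equiv.Perm (ZMod 2 × W)) =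
    (1, liftPerm 1 (lam w)) := rfl

theorem nw_ker (w : W) : nw w ∈ proj.ker := by
  rw [MonoidHom.mem_ker]
  exact Subtype.ext rfl

theorem nw_add (w w' : W) : nw (w + w') = nw w * nw w' := by
  apply Subtype.ext
  show ((1 : Equiv.Perm GolayPt), liftPerm 1 (lam (w + w'))) =
    ((1 : Equiv.Perm GolayPt) * 1, liftPerm 1 (lam w) * liftPerm 1 (lam w'))
  rw [liftPerm_mul, one_mul]
  congr 1
  apply liftPerm_congr
  intro x
  rw [pa_one, lam_add, add_comm]

/-- The homomorphism from words onto the kernel of the projection. -/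
noncomputable def thetaHom : W →+ Additive ↥(proj.ker) :=
  AddMonoidHom.mk' (fun w => Additive.ofMul ⟨nw w, nw_ker w⟩) (fun w w' => by
    show Additive.ofMul (⟨nw (w + w'), nw_ker (w + w')⟩ : ↥(proj.ker)) =
      Additive.ofMul ((⟨nw w, nw_ker w⟩ : ↥(proj.ker)) * ⟨nw w', nw_ker w'⟩)
    congr 1
    exact Subtype.ext (nw_add w w'))

theorem thetaHom_val (w : W) : (((thetaHom w).toMul : ↥(proj.ker)) : ↥EE) = nw w := rfl

/-- Every element of the group is `(π, liftPerm π q)`. -/
theorem exists_rep (g : ↥EE) : ∃ (π : Equiv.Perm GolayPt) (q : W → ZMod 2)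
    (h : (π, liftPerm π q) ∈ EE), π ∈ Spor.M23 ∧ (∀ x, x ∉ C0 → q x = 0) ∧
      (∀ x ∈ C0, ∀ y ∈ C0, q (x + y) + q x + q y = bt π x y) ∧
      g = ⟨(π, liftPerm π q), h⟩ := by
  obtain ⟨⟨π, f⟩, hg⟩ := g
  have hg' : InE π f := hg
  obtain ⟨hπ, q, hq0, hq, hf⟩ := hg'
  subst hf
  exact ⟨π, q, hg, hπ, hq0, hq, rfl⟩

/-! ## Surjectivity -/

theorem thetaHom_surj : Function.Surjective thetaHom := by
  classical
  intro n
  obtain ⟨g0, hker⟩ := n
  obtain ⟨π, q, h, hπ, hq0, hq, rfl⟩ := exists_rep g0
  have h1 : π = 1 := congrArg Subtype.val (MonoidHom.mem_ker.1 hker)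
  subst h1
  have hq00 : q 0 = 0 := by
    have h := hq 0 C0.zero_mem 0 C0.zero_mem
    rw [bt_one, add_zero] at h
    have key : ∀ a : ZMod 2, a + a + a = 0 → a = 0 := by decide
    exact key _ h
  have hqadd : ∀ x ∈ C0, ∀ y ∈ C0, q (x + y) = q x + q y := by
    intro x hx y hy
    have h := hq x hx y hy
    rw [bt_one] at h
    have key : ∀ a b c : ZMod 2, a + b + c = 0 → a = b + c := by decide
    exact key _ _ _ h
  let φ0 : ↥C0 →ₗ[ZMod 2] ZMod 2 :=
    { toFun := fun x => q x.1
      map_add' := fun x y => hqadd x.1 x.2 y.1 y.2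
      map_smul' := fun c x => by
        rcases z2_cases c with rfl | rfl
        · simp [hq00]
        · simp }
  obtain ⟨g, hg'⟩ := LinearMap.exists_extend φ0
  let w : W := fun p => g (fun j => if p = j then 1 else 0)
  have hw : ∀ x ∈ C0, q x = Helper8.dot w x := by
    intro x hx
    have h2 : g x = q x := by
      have := congrArg (fun F : ↥C0 →ₗ[ZMod 2] ZMod 2 => F ⟨x, hx⟩) hg'
      exact this
    rw [← h2, LinearMap.pi_apply_eq_sum_univ g x]
    unfold Helper8.dot
    apply Finset.sum_congr rfl
    intro p _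
    rw [smul_eq_mul, mul_comm]
  refine ⟨w, ?_⟩
  show Additive.ofMul (⟨nw w, nw_ker w⟩ : ↥(proj.ker)) = _
  apply Subtype.ext
  apply Subtype.ext
  show ((1 : Equiv.Perm GolayPt), liftPerm 1 (lam w)) = (1, liftPerm 1 q)
  congr 1
  apply liftPerm_congr
  intro x
  by_cases hx : x ∈ C0
  · rw [lam_in _ hx, hw x hx]
  · rw [lam_out _ _ hx, hq0 x hx]

/-! ## Conjugation -/

theorem dot_pa (π : Equiv.Perm GolayPt) (w x : W) :
    Helper8.dot w (pa π⁻¹ x) = Helper8.dot (pa π w) x := by
  unfold Helper8.dot pa
  rw [inv_inv]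
  have h := Equiv.sum_comp π (fun p => w (π⁻¹ p) * x p)
  simp only [Function.comp_apply]
  rw [← h]
  apply Finset.sum_congr rfl
  intro p _
  simp

theorem lam_pa {π : Equiv.Perm GolayPt} (hπ : π ∈ Spor.M23) (w x : W) :
    lam w (pa π⁻¹ x) = lam (pa π w) x := by
  by_cases hx : x ∈ C0
  · rw [lam_in _ (pa_mem (inv_mem hπ) hx), lam_in _ hx, dot_pa]
  · rw [lam_out _ _ hx, lam_out _ _ (fun h => hx ((pa_mem_iff (inv_mem hπ) x).1 h))]

theorem nw_conj (g : ↥EE) (w : W) : g * nw w * g⁻¹ = nw (pa g.1.1 w) := by
  obtain ⟨π, q, h, hπ, hq0, hq, rfl⟩ := exists_rep g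
  apply Subtype.ext
  show ((π * 1 * π⁻¹ : Equiv.Perm GolayPt), liftPerm π q * liftPerm 1 (lam w) * (liftPerm π q)⁻¹) =
    ((1 : Equiv.Perm GolayPt), liftPerm 1 (lam (pa π w)))
  rw [liftPerm_inv, liftPerm_mul, liftPerm_mul, mul_one, mul_inv_cancel]
  congr 1
  apply liftPerm_congr
  intro x
  show q (pa π⁻¹ x) + (lam w (pa π⁻¹ x) + q (pa 1 (pa π⁻¹ x))) = lam (pa π w) x
  rw [pa_one, lam_pa hπ]
  linear_combination z2_add_self (q (pa π⁻¹ x))

theorem thetaHom_conj (g : ↥EE) (w : W) :
    (((thetaHom (w ∘ ⇑(((phi (QuotientGroup.mk g) : ↥Spor.M23) : Equiv.Perm GolayPt)⁻¹))).toMul :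
        ↥(proj.ker)) : ↥EE) = g * (((thetaHom w).toMul : ↥(proj.ker)) : ↥EE) * g⁻¹ := by
  rw [thetaHom_val, thetaHom_val, nw_conj, phi_mk, proj_val]
  rfl

/-! ## The kernel of `thetaHom` -/

/-- Twelve code words; the word `j` has a single one among the points `11, …, 22`, at `11 + j`. -/
def dmL : List ℕ :=
  [8391797, 5279, 8398155, 18147, 8421811, 8455014, 8521420, 262637, 525274, 1050548, 10486557,
    12584506]

/-- The mask of the word `j`. -/
def dm (j : ℕ) : ℕ := dmL.getD j 0

/-- The word `j`. -/
def dw (j : ℕ) : W := toWord (dm j)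

theorem dm_facts : ∀ j < 12, Helper91.isCode (dm j) = true ∧ dm j < 2 ^ 24 := by decide +kernel

theorem dm_bit : ∀ j < 12, ∀ j' < 12, (dm j).testBit (11 + j') = decide (j = j') := by
  decide +kernel

theorem dw_mem {j : ℕ} (hj : j < 12) : dw j ∈ golayCode :=
  (Helper91.toWord_mem_iff (dm_facts j hj).2).2 (dm_facts j hj).1

theorem dw_pt {j j' : ℕ} (hj : j < 12) (hj' : j' < 12) :
    dw j (pt (11 + j')) = if j = j' then 1 else 0 := by
  unfold dw
  rw [pt_val (by omega), dm_bit j hj j' hj']
  by_cases h : j = j' <;> simp [h]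

theorem w_add_self (c : W) : c + c = 0 := by
  funext p
  exact z2_add_self (c p)

theorem nw_eq_one_iff (w : W) : nw w = 1 ↔ ∀ x ∈ C0, Helper8.dot w x = 0 := by
  constructor
  · intro h x hx
    have h1 : liftPerm 1 (lam w) = 1 := congrArg (fun g : ↥EE => g.1.2) h
    have h2 : (liftPerm 1 (lam w) (0, x)).1 = ((1 : Equiv.Perm (ZMod 2 × W)) (0, x)).1 := by
      rw [h1]
    rw [liftPerm_apply] at h2
    rw [← lam_in w hx]
    simpa using h2
  · intro h
    apply Subtype.ext
    show ((1 : Equiv.Perm GolayPt), liftPerm 1 (lam w)) = (1, 1)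
    congr 1
    rw [← liftPerm_one]
    apply liftPerm_congr
    intro x
    by_cases hx : x ∈ C0
    · rw [lam_in _ hx, h x hx]
    · rw [lam_out _ _ hx]

theorem dot_single (x : W) : Helper8.dot (Pi.single none 1) x = x none := by
  unfold Helper8.dot
  rw [Finset.sum_eq_single none]
  · simp
  · intro p _ hp
    simp [hp]
  · intro h
    exact absurd (Finset.mem_univ _) h

theorem dot_toWord (u : W) (m : ℕ) : Helper8.dot u (toWord m) =
    ∑ i ∈ Finset.range 24, u (pt i) * (if m.testBit i then 1 else 0) := by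
  rw [← Helper91.sum_idx (fun i => u (pt i) * (if m.testBit i then 1 else 0))]
  unfold Helper8.dot
  apply Finset.sum_congr rfl
  intro p _
  rw [Helper91.pt_idx, Helper91.toWord_apply]

/-- The words orthogonal to `C0` are the code words and their translates by the unit vector at
the extra point. -/
theorem orth_iff (w : W) : (∀ x ∈ C0, Helper8.dot w x = 0) ↔
    (w ∈ golayCode ∨ w + Pi.single none 1 ∈ golayCode) := by
  constructor
  · intro h
    obtain ⟨c, hc⟩ : ∃ c : W, c = ∑ j ∈ Finset.range 12, w (pt (11 + j)) • dw j := ⟨_, rfl⟩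
    have hcmem : c ∈ golayCode := by
      rw [hc]
      exact golayCode.sum_mem
        (fun j hj => golayCode.smul_mem _ (dw_mem (Finset.mem_range.1 hj)))
    obtain ⟨u, hu⟩ : ∃ u : W, u = w + c := ⟨_, rfl⟩
    have hu_orth : ∀ x ∈ C0, Helper8.dot u x = 0 := by
      intro x hx
      rw [hu, Helper8.dot_add_left, h x hx, Helper8.golay_self_orth c hcmem x hx.1, add_zero]
    have hu_mid : ∀ j < 12, u (pt (11 + j)) = 0 := by
      intro j hj
      rw [hu, Pi.add_apply, hc, Finset.sum_apply]
      have h1 : ∀ k ∈ Finset.range 12, (w (pt (11 + k)) • dw k) (pt (11 + j)) =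
          if k = j then w (pt (11 + j)) else 0 := by
        intro k hk
        rw [Pi.smul_apply, dw_pt (Finset.mem_range.1 hk) hj, smul_eq_mul]
        by_cases h : k = j
        · subst h; simp
        · simp [h]
      rw [Finset.sum_congr rfl h1, Finset.sum_ite_eq', if_pos (Finset.mem_range.2 hj)]
      exact z2_add_self _
    have hu_low : ∀ k < 11, u (pt k) = 0 := by
      intro k hk
      have h1 := hu_orth (bw k) (bw_mem hk)
      unfold bw at h1
      rw [dot_toWord] at h1
      have h2 : ∀ i ∈ Finset.range 24, u (pt i) * (if (bm k).testBit i then 1 else 0) =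
          if i = k then u (pt k) else 0 := by
        intro i hi
        have hi' := Finset.mem_range.1 hi
        by_cases h11 : i < 11
        · rw [bm_bit k hk i h11]
          by_cases h : k = i
          · subst h; simp
          · have h' : ¬ i = k := fun e => h e.symm
            simp [h, h']
        · by_cases h23 : i = 23
          · subst h23
            rw [(bm_facts k hk).2.1]
            have h' : ¬ (23 = k) := by omega
            simp [h']
          · have h3 := hu_mid (i - 11) (by omega)
            have h4 : 11 + (i - 11) = i := by omega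
            rw [h4] at h3
            rw [h3]
            have h' : ¬ i = k := by omega
            simp [h']
      rw [Finset.sum_congr rfl h2, Finset.sum_ite_eq', if_pos (Finset.mem_range.2 (by omega))] at h1
      exact h1
    have hu_some : ∀ i : ZMod 23, u (some i) = 0 := by
      intro i
      have h1 : some i = pt (idx (some i)) := (Helper91.pt_idx (some i)).symm
      have h2 : idx (some i) = i.val := rfl
      have h3 : i.val < 23 := ZMod.val_lt i
      rw [h1, h2]
      by_cases h11 : i.val < 11
      · exact hu_low _ h11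
      · have h4 := hu_mid (i.val - 11) (by omega)
        have h5 : 11 + (i.val - 11) = i.val := by omega
        rw [h5] at h4
        exact h4
    have hw : w = u + c := by
      rw [hu, add_assoc, w_add_self, add_zero]
    rcases z2_cases (u none) with h0 | h1
    · left
      have hu0 : u = 0 := by
        funext p
        cases p with
        | none => exact h0
        | some i => exact hu_some i
      rw [hw, hu0, zero_add]
      exact hcmem
    · right
      have hu1 : u = Pi.single none 1 := by
        funext p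
        cases p with
        | none => simp [h1]
        | some i => simp [hu_some i]
      have h2 : w + Pi.single none 1 = c := by
        rw [hw, hu1, add_comm (Pi.single none 1) c, add_assoc, w_add_self, add_zero]
      rw [h2]
      exact hcmem
  · rintro (h | h) x hx
    · exact Helper8.golay_self_orth w h x hx.1
    · have h1 := Helper8.golay_self_orth _ h x hx.1
      rw [Helper8.dot_add_left, dot_single, hx.2, add_zero] at h1
      exact h1

theorem thetaHom_ker (w : W) :
    thetaHom w = 0 ↔ (w ∈ golayCode ∨ w + Pi.single none 1 ∈ golayCode) := by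
  rw [← orth_iff, ← nw_eq_one_iff]
  constructor
  · intro h
    have h1 : (((thetaHom w).toMul : ↥(proj.ker)) : ↥EE) =
        (((0 : Additive ↥(proj.ker)).toMul : ↥(proj.ker)) : ↥EE) := by rw [h]
    exact h1
  · intro h
    show Additive.ofMul (⟨nw w, nw_ker w⟩ : ↥(proj.ker)) = 0
    have h1 : (⟨nw w, nw_ker w⟩ : ↥(proj.ker)) = 1 := Subtype.ext h
    rw [h1]
    rfl

end Cfsg.Agent.Helper92.Parker
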