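/-
Helper92: the extension `1 → ker proj → EE → Spor.M23 → 1` does not split.  A quaternion group
`⟨a, b⟩` of `Spor.M23` (`a² = b²`, `a b a = b`) cannot be lifted: for lifts `(a, q_a)`, `(b, q_b)`
the two relations evaluated at two words of `C0`, together with the additivity defects of `q_a`,
`q_b` at four pairs of words, add up to `1 = 0`.
-/
import Cfsg.Agent.Helper92.ParkerKernel

set_option autoImplicit false

namespace Cfsg.Agent.Helper92.Parker

open Cfsg
open Cfsg.Agent.Helper91 (toWord pt idx popc)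
open scoped Pointwise

/-- Table of the inverse of `a`. -/
def TA : List ℕ :=
  [10, 13, 0, 22, 6, 15, 12, 2, 16, 9, 7, 18, 20, 3, 14, 19, 8, 5, 11, 17, 4, 21, 1, 23]

/-- Table of the inverse of `b`. -/
def TB : List ℕ :=
  [3, 0, 22, 7, 19, 4, 15, 1, 11, 9, 13, 8, 5, 2, 14, 20, 18, 6, 16, 12, 17, 21, 10, 23]

theorem TA_valid : Helper91.validTab TA = true := by decide

theorem TB_valid : Helper91.validTab TB = true := by decide

theorem TA_in : Helper91.inM24 TA = true := by decide +kernel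

theorem TB_in : Helper91.inM24 TB = true := by decide +kernel

/-- The inverse of `a`. -/
noncomputable def pA : Equiv.Perm GolayPt := Helper91.permT TA TA_valid

/-- The inverse of `b`. -/
noncomputable def pB : Equiv.Perm GolayPt := Helper91.permT TB TB_valid

theorem pA_mem : pA ∈ Spor.M23 :=
  (mem_M23 _).2 ⟨Helper91.permT_mem_M24 TA_valid TA_in, by
    show Helper91.tabFun TA none = none
    decide⟩

theorem pB_mem : pB ∈ Spor.M23 :=
  (mem_M23 _).2 ⟨Helper91.permT_mem_M24 TB_valid TB_in, by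
    show Helper91.tabFun TB none = none
    decide⟩

theorem relAB1 : pA * pA = pB * pB := by
  apply Equiv.ext
  intro p
  show Helper91.tabFun TA (Helper91.tabFun TA p) = Helper91.tabFun TB (Helper91.tabFun TB p)
  revert p
  decide

theorem relAB2 : pA * pB * pA = pB := by
  apply Equiv.ext
  intro p
  show Helper91.tabFun TA (Helper91.tabFun TB (Helper91.tabFun TA p)) = Helper91.tabFun TB p
  revert p
  decide

theorem pa_inv_tab (T : List ℕ) (h : Helper91.validTab T = true) (m : ℕ) :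
    pa (Helper91.permT T h)⁻¹ (toWord m) = toWord (Helper91.pullMask T m) := by
  unfold pa
  rw [inv_inv, Helper91.coe_permT, ← Helper91.toWord_pullMask h]

theorem bt_tab (T : List ℕ) (h : Helper91.validTab T = true) (m m' : ℕ) :
    bt (Helper91.permT T h)⁻¹ (toWord m) (toWord m') =
      ((thN (Helper91.pullMask T m) (Helper91.pullMask T m') + thN m m' : ℕ) : ZMod 2) := by
  unfold bt
  rw [pa_inv_tab, pa_inv_tab, th_toWord, th_toWord, Nat.cast_add]

theorem toWord_mem_C0 {m : ℕ} (h1 : Helper91.isCode m = true) (h2 : m < 2 ^ 24)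
    (h3 : m.testBit 23 = false) : toWord m ∈ C0 := by
  refine ⟨(Helper91.toWord_mem_iff h2).2 h1, ?_⟩
  rw [none_val, h3]; simp

theorem cast_odd {n : ℕ} (h : n % 2 = 1) : ((n : ℕ) : ZMod 2) = 1 := by
  rw [← ZMod.natCast_mod, h]; rfl

theorem cast_even {n : ℕ} (h : n % 2 = 0) : ((n : ℕ) : ZMod 2) = 0 := by
  rw [← ZMod.natCast_mod, h]; rfl

/-! ## The certificate -/

theorem cert_mem : ∀ m ∈ [252432, 1852256, 2969648, 3328320],
    Helper91.isCode m = true ∧ m < 2 ^ 24 ∧ m.testBit 23 = false := by decide +kernel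

theorem cert_pull : Helper91.pullMask TA 252432 = 1852256 ∧ Helper91.pullMask TB 252432 = 1852256 ∧
    Helper91.pullMask TA 2969648 = 3328320 ∧ Helper91.pullMask TB 3328320 = 3328320 ∧
    Helper91.pullMask TA 1852256 = 252432 ∧ Helper91.pullMask TA 3328320 = 2969648 ∧
    Helper91.pullMask TB 1852256 = 252432 ∧ Helper91.pullMask TB 2969648 = 2969648 := by
  decide +kernel

theorem cert_xor : 252432 ^^^ 1852256 = 2969648 ^^^ 3328320 ∧
    3328320 ^^^ 2969648 = 2969648 ^^^ 3328320 := by decide +kernel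

theorem cert_val : (thN 1852256 252432 + thN 252432 1852256) % 2 = 1 ∧
    (thN 3328320 2969648 + thN 2969648 3328320) % 2 = 1 ∧
    (thN 3328320 2969648 + thN 3328320 2969648) % 2 = 0 := by decide +kernel

theorem z2_key5 : ∀ s a b c d : ZMod 2, s + a + b = 1 → s + c + d = 1 → a + b + c + d = 0 := by
  decide

theorem z2_key5' : ∀ s a b c d : ZMod 2, s + a + b = 1 → s + c + d = 0 → a + b + c + d = 1 := by
  decide

theorem z2_key8 : ∀ a1 a2 a3 a4 b1 b2 b3 b4 : ZMod 2, a1 + a2 = b1 + b2 → a3 + b4 + a4 = b3 →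
    a1 + a2 + a3 + a4 = 0 → b1 + b2 + b4 + b3 = 1 → False := by
  decide

theorem rel1 : pA⁻¹ * pA⁻¹ * (pB⁻¹ * pB⁻¹)⁻¹ = 1 := by
  have h : pA⁻¹ * pA⁻¹ = pB⁻¹ * pB⁻¹ := by
    rw [← mul_inv_rev, ← mul_inv_rev, relAB1]
  rw [h, mul_inv_cancel]

theorem rel3 : pA⁻¹ * pB⁻¹ * pA⁻¹ * (pB⁻¹)⁻¹ = 1 := by
  have h : pA⁻¹ * pB⁻¹ * pA⁻¹ = pB⁻¹ := by
    rw [← mul_inv_rev, ← mul_inv_rev, ← mul_assoc, relAB2]
  rw [h, mul_inv_cancel]

/-- The kernel of the projection has no complement. -/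
theorem nonsplit (H : Subgroup ↥EE) (hHN : H ⊓ proj.ker = ⊥) : H ⊔ proj.ker ≠ ⊤ := by
  intro htop
  have hlift : ∀ π : ↥Spor.M23, ∃ h ∈ H, proj h = π := by
    intro π
    obtain ⟨g, hg⟩ := proj_surj π
    have hg' : g ∈ H ⊔ proj.ker := by rw [htop]; trivial
    rw [← SetLike.mem_coe, Subgroup.mul_normal] at hg'
    obtain ⟨h, hh, n, hn, rfl⟩ := Set.mem_mul.1 hg'
    refine ⟨h, hh, ?_⟩
    rw [← hg, map_mul, MonoidHom.mem_ker.1 hn, mul_one]
  have hinj : ∀ h ∈ H, proj h = 1 → h = 1 := by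
    intro h hh h1
    have h2 : h ∈ H ⊓ proj.ker := ⟨hh, MonoidHom.mem_ker.2 h1⟩
    rw [hHN] at h2
    exact Subgroup.mem_bot.1 h2
  obtain ⟨ha, haH, hpa⟩ := hlift ⟨pA⁻¹, inv_mem pA_mem⟩
  obtain ⟨hb, hbH, hpb⟩ := hlift ⟨pB⁻¹, inv_mem pB_mem⟩
  have r1 : ha * ha = hb * hb := by
    have h1 := hinj (ha * ha * (hb * hb)⁻¹)
      (H.mul_mem (H.mul_mem haH haH) (H.inv_mem (H.mul_mem hbH hbH))) (by
        rw [map_mul, map_mul, map_inv, map_mul, hpa, hpb]
        apply Subtype.ext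
        exact rel1)
    exact mul_inv_eq_one.1 h1
  have r3 : ha * hb * ha = hb := by
    have h1 := hinj (ha * hb * ha * hb⁻¹)
      (H.mul_mem (H.mul_mem (H.mul_mem haH hbH) haH) (H.inv_mem hbH)) (by
        rw [map_mul, map_mul, map_mul, map_inv, hpa, hpb]
        apply Subtype.ext
        exact rel3)
    exact mul_inv_eq_one.1 h1
  obtain ⟨πa, qa, hEa, hπa, hqa0, hqa, rfl⟩ := exists_rep ha
  obtain ⟨πb, qb, hEb, hπb, hqb0, hqb, rfl⟩ := exists_rep hb
  have hπa' : πa = pA⁻¹ := congrArg Subtype.val hpa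
  have hπb' : πb = pB⁻¹ := congrArg Subtype.val hpb
  subst hπa'
  subst hπb'
  have r1' : liftPerm pA⁻¹ qa * liftPerm pA⁻¹ qa = liftPerm pB⁻¹ qb * liftPerm pB⁻¹ qb :=
    congrArg (fun g : ↥EE => g.1.2) r1
  have r3' : liftPerm pA⁻¹ qa * liftPerm pB⁻¹ qb * liftPerm pA⁻¹ qa = liftPerm pB⁻¹ qb :=
    congrArg (fun g : ↥EE => g.1.2) r3
  have e1 : ((liftPerm pA⁻¹ qa * liftPerm pA⁻¹ qa) (0, toWord 252432)).1 =
      ((liftPerm pB⁻¹ qb * liftPerm pB⁻¹ qb) (0, toWord 252432)).1 := by rw [r1']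
  have e3 : ((liftPerm pA⁻¹ qa * liftPerm pB⁻¹ qb * liftPerm pA⁻¹ qa) (0, toWord 2969648)).1 =
      ((liftPerm pB⁻¹ qb) (0, toWord 2969648)).1 := by rw [r3']
  obtain ⟨p1, p2, p3, p4, p5, p6, p7, p8⟩ := cert_pull
  have hA : ∀ m, pa pA⁻¹ (toWord m) = toWord (Helper91.pullMask TA m) :=
    fun m => pa_inv_tab TA TA_valid m
  have hB : ∀ m, pa pB⁻¹ (toWord m) = toWord (Helper91.pullMask TB m) :=
    fun m => pa_inv_tab TB TB_valid m
  simp only [Equiv.Perm.mul_apply, liftPerm_apply, hA, hB, zero_add, p1, p2, p3, p4] at e1 e3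
  have m1 := cert_mem 252432 (by simp)
  have m2 := cert_mem 1852256 (by simp)
  have m3 := cert_mem 2969648 (by simp)
  have m4 := cert_mem 3328320 (by simp)
  have c1 := toWord_mem_C0 m1.1 m1.2.1 m1.2.2
  have c2 := toWord_mem_C0 m2.1 m2.2.1 m2.2.2
  have c3 := toWord_mem_C0 m3.1 m3.2.1 m3.2.2
  have c4 := toWord_mem_C0 m4.1 m4.2.1 m4.2.2
  obtain ⟨v1, v2, v3⟩ := cert_val
  have A1 := hqa _ c1 _ c2
  have A2 := hqa _ c3 _ c4
  have B1 := hqb _ c1 _ c2
  have B2 := hqb _ c4 _ c3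
  have btA : ∀ m m', bt pA⁻¹ (toWord m) (toWord m') =
      ((thN (Helper91.pullMask TA m) (Helper91.pullMask TA m') + thN m m' : ℕ) : ZMod 2) :=
    fun m m' => bt_tab TA TA_valid m m'
  have btB : ∀ m m', bt pB⁻¹ (toWord m) (toWord m') =
      ((thN (Helper91.pullMask TB m) (Helper91.pullMask TB m') + thN m m' : ℕ) : ZMod 2) :=
    fun m m' => bt_tab TB TB_valid m m'
  rw [← Helper91.toWord_xor, btA, p1, p5, cast_odd v1] at A1
  rw [← Helper91.toWord_xor, btA, p3, p6, cast_odd v2, ← cert_xor.1] at A2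
  rw [← Helper91.toWord_xor, btB, p2, p7, cast_odd v1] at B1
  rw [← Helper91.toWord_xor, btB, p4, p8, cast_even v3, cert_xor.2, ← cert_xor.1] at B2
  exact z2_key8 _ _ _ _ _ _ _ _ e1 e3 (z2_key5 _ _ _ _ _ A1 A2) (z2_key5' _ _ _ _ _ B1 B2)

end Cfsg.Agent.Helper92.Parker
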