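import Mathlib

/-!
# A simplicity criterion from an element of prime order

Abstract group theory.

* `fix_of_iterate_prime`: an endomorphism of a finite `p`-group whose `q`-th iterate is the
  identity is the identity, under an arithmetic condition on the powers of `p` modulo `q`.
* `centralizes_of_coprime`: an element of prime order `q` centralises a normal subgroup of order
  prime to `q`, under the arithmetic condition for the primes dividing its order.
* `isSimpleGroup_of_prime_elt`: the simplicity criterion.
-/

set_option autoImplicit false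

namespace Cfsg.Agent.Helper92

open scoped Pointwise

/-- an endomorphism of a finite `p`-group whose `q`-th iterate is the identity is the identity,
when distinct powers of `p` up to the group order are incongruent modulo `q` -/
theorem fix_of_iterate_prime {Q : Type*} [Group Q] [Finite Q] (q : ℕ) (hq : q.Prime) (f : Q →* Q)
    (hf : ∀ x, f^[q] x = x) (p i : ℕ) (hp : p.Prime) (hcard : Nat.card Q = p ^ i)
    (harith : ∀ j ≤ i, p ^ i ≡ p ^ j [MOD q] → i = j) (x : Q) : f x = x := by
  classical
  have := Fintype.ofFinite Q
  have : Fact (Nat.Prime q) := ⟨hq⟩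
  let F : Subgroup Q :=
    { carrier := {x | f x = x}
      one_mem' := map_one f
      mul_mem' := by
        intro a b ha hb
        have ha' : f a = a := ha
        have hb' : f b = b := hb
        show f (a * b) = a * b
        rw [map_mul, ha', hb']
      inv_mem' := by
        intro a ha
        have ha' : f a = a := ha
        show f a⁻¹ = a⁻¹
        rw [map_inv, ha'] }
  let g : Function.End Q := fun y => f y
  have h1 : g ^ q ^ 1 = (1 : Function.End Q) := by
    rw [pow_one]
    have key := hom_coe_pow (fun g : Function.End Q ↦ g) rfl (fun g h ↦ rfl) g q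
    funext y
    exact (congrFun key y).trans (hf y)
  have h2 := Equiv.Perm.card_fixedPoints_modEq (p := q) (n := 1) h1
  have h3 : Fintype.card (Function.fixedPoints g) = Nat.card F := by
    rw [Nat.card_eq_fintype_card]
    exact Fintype.card_congr (Equiv.refl _)
  have h4 : Nat.card F ∣ p ^ i := hcard ▸ Subgroup.card_subgroup_dvd_card F
  obtain ⟨j, hj, hFj⟩ := (Nat.dvd_prime_pow hp).1 h4
  have h5 : Fintype.card Q = p ^ i := by rw [← Nat.card_eq_fintype_card]; exact hcard
  rw [h3, hFj, h5] at h2
  have h6 := harith j hj h2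
  have h7 : F = ⊤ := by
    apply Subgroup.eq_top_of_card_eq
    rw [hFj, hcard, h6]
  have : x ∈ F := by rw [h7]; exact Subgroup.mem_top x
  exact this

/-- an element of prime order `q` centralises a normal subgroup of order prime to `q`, when for
every other prime `p` the powers of `p` dividing the order are incongruent modulo `q` -/
theorem centralizes_of_coprime {G : Type*} [Group G] [Finite G] (K : Subgroup G) [hK : K.Normal]
    (t : G) (q : ℕ) (hq : q.Prime) (ht : t ^ q = 1) (hKq : ¬ q ∣ Nat.card K)
    (harith : ∀ p i j : ℕ, p.Prime → p ≠ q → j ≤ i → p ^ i ∣ Nat.card K →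
      p ^ i ≡ p ^ j [MOD q] → i = j) :
    ∀ x ∈ K, t * x = x * t := by
  classical
  let φ : MulAut K := MulAut.conjNormal t
  have hφ : ∀ x : K, ((φ x : K) : G) = t * x * t⁻¹ := fun x => rfl
  have hφq : φ ^ q = 1 := by
    show (MulAut.conjNormal t : MulAut K) ^ q = 1
    rw [← map_pow, ht, map_one]
  let H : Subgroup K := (Subgroup.centralizer {t}).subgroupOf K
  have hH : ∀ x : K, x ∈ H ↔ t * (x : G) = x * t := by
    intro x
    show (x : G) ∈ Subgroup.centralizer {t} ↔ _
    rw [Subgroup.mem_centralizer_iff]
    simp
  suffices hs : H = ⊤ by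
    intro x hx
    have : (⟨x, hx⟩ : K) ∈ H := by rw [hs]; exact Subgroup.mem_top _
    exact (hH _).1 this
  apply Subgroup.eq_top_of_card_eq
  apply Nat.dvd_antisymm (Subgroup.card_subgroup_dvd_card H)
  have hK0 : Nat.card K ≠ 0 := Nat.card_pos.ne'
  have hH0 : Nat.card H ≠ 0 := Nat.card_pos.ne'
  rw [← Nat.factorization_le_iff_dvd hK0 hH0]
  intro p
  by_cases hp : p.Prime
  swap
  · rw [Nat.factorization_eq_zero_of_not_prime _ hp]
    exact Nat.zero_le _
  have : Fact p.Prime := ⟨hp⟩
  by_cases hpq : p = q
  · subst hpq
    rw [Nat.factorization_eq_zero_of_not_dvd hKq]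
    exact Nat.zero_le _
  suffices hQ : ∃ Q : Sylow p K, (Q : Subgroup K) ≤ H by
    obtain ⟨Q, hQ⟩ := hQ
    rw [← Nat.Prime.pow_dvd_iff_le_factorization hp hH0, ← Sylow.card_eq_multiplicity Q]
    exact Subgroup.card_dvd_of_le hQ
  -- a Sylow subgroup fixed by the automorphism
  have hfix : ∃ Q : Sylow p K, φ • Q = Q := by
    have := Fintype.ofFinite (Sylow p K)
    have : Fact (Nat.Prime q) := ⟨hq⟩
    have hnd : ¬ q ∣ Fintype.card (Sylow p K) := by
      rw [← Nat.card_eq_fintype_card]
      intro h
      have Q : Sylow p K := default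
      exact hKq ((h.trans (Sylow.card_dvd_index Q)).trans (Subgroup.index_dvd_card _))
    have hσ : (MulAction.toPerm φ : Equiv.Perm (Sylow p K)) ^ q ^ 1 = 1 := by
      rw [pow_one]
      have := congrArg (MulAction.toPermHom (MulAut K) (Sylow p K)) hφq
      rw [map_pow, map_one] at this
      exact this
    obtain ⟨Q, hQ⟩ := Equiv.Perm.exists_fixed_point_of_prime hnd hσ
    exact ⟨Q, hQ⟩
  obtain ⟨Q, hQ⟩ := hfix
  refine ⟨Q, ?_⟩
  have hmem : ∀ x : K, x ∈ Q → φ x ∈ Q := by
    intro x hx
    have h1 : φ • x ∈ φ • (Q : Subgroup K) :=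
      Subgroup.smul_mem_pointwise_smul x φ (Q : Subgroup K) hx
    rw [← Sylow.pointwise_smul_def, hQ] at h1
    exact h1
  let f : (Q : Subgroup K) →* (Q : Subgroup K) :=
    { toFun := fun x => ⟨φ x.1, hmem x.1 x.2⟩
      map_one' := Subtype.ext (map_one φ)
      map_mul' := fun x y => Subtype.ext (map_mul φ x.1 y.1) }
  have hf1 : ∀ x : (Q : Subgroup K), ((f x : (Q : Subgroup K)) : K) = φ x := fun x => rfl
  have hfn : ∀ (n : ℕ) (x : (Q : Subgroup K)),
      ((f^[n] x : (Q : Subgroup K)) : K) = (φ ^ n) x := by
    intro n
    induction n with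
    | zero => intro x; rfl
    | succ n ih =>
      intro x
      rw [Function.iterate_succ_apply', hf1, ih, pow_succ', MulAut.mul_apply]
  have hfq : ∀ x : (Q : Subgroup K), f^[q] x = x := by
    intro x
    apply Subtype.ext
    rw [hfn, hφq]
    rfl
  have hi := Sylow.card_eq_multiplicity Q
  have hdiv : p ^ (Nat.card K).factorization p ∣ Nat.card K := by
    rw [← hi]
    exact Subgroup.card_subgroup_dvd_card (Q : Subgroup K)
  have hall := fix_of_iterate_prime q hq f hfq p _ hp hi
    (fun j hj hmod => harith p _ j hp hpq hj hdiv hmod)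
  intro x hx
  rw [hH]
  have h1 := hall ⟨x, hx⟩
  have h2 : φ x = x := congrArg Subtype.val h1
  have h3 := congrArg Subtype.val h2
  rw [hφ] at h3
  calc t * (x : G) = (t * x * t⁻¹) * t := by group
    _ = x * t := by rw [h3]

/-- **A simplicity criterion.** A finite group with trivial centre containing an element `t` of
prime order `q`, with `q²` not dividing the group order, such that every normal subgroup
containing `t` is the whole group, is simple — provided that for every other prime `p` the powers
of `p` dividing the group order are incongruent modulo `q`. -/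
theorem isSimpleGroup_of_prime_elt {G : Type*} [Group G] [Finite G] (t : G) (q : ℕ)
    (hq : q.Prime) (ht : t ^ q = 1) (ht1 : t ≠ 1) (hq2 : ¬ q * q ∣ Nat.card G)
    (harith : ∀ p i j : ℕ, p.Prime → p ≠ q → j ≤ i → p ^ i ∣ Nat.card G →
      p ^ i ≡ p ^ j [MOD q] → i = j)
    (hgen : ∀ L : Subgroup G, L.Normal → t ∈ L → L = ⊤)
    (hcen : Subgroup.center G = ⊥) : IsSimpleGroup G := by
  have hnt : Nontrivial G := ⟨⟨t, 1, ht1⟩⟩
  refine { exists_pair_ne := hnt.exists_pair_ne, eq_bot_or_eq_top_of_normal := ?_ }
  intro K hK
  by_cases hKq : q ∣ Nat.card K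
  · right
    apply hgen K hK
    have h1 := Subgroup.card_mul_index K
    have h2 : Nat.Coprime K.index q := by
      rw [Nat.coprime_comm, Nat.Prime.coprime_iff_not_dvd hq]
      intro h3
      apply hq2
      rw [← h1]
      exact Nat.mul_dvd_mul hKq h3
    have h4 : t ^ K.index ∈ K := Subgroup.pow_index_mem K t
    have ho : orderOf t = q := by
      rcases (Nat.dvd_prime hq).1 (orderOf_dvd_of_pow_eq_one ht) with h | h
      · exact absurd (orderOf_eq_one_iff.1 h) ht1
      · exact h
    rw [← ho] at h2
    obtain ⟨m, hm⟩ := exists_pow_eq_self_of_coprime h2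
    rw [← hm]
    exact K.pow_mem h4 m
  · left
    have hD3 := centralizes_of_coprime K t q hq ht hKq
      (fun p i j hp hpq hji hdvd hmod =>
        harith p i j hp hpq hji (hdvd.trans (Subgroup.card_subgroup_dvd_card K)) hmod)
    have hCn : (Subgroup.centralizer (K : Set G)).Normal := inferInstance
    have hC : Subgroup.centralizer (K : Set G) = ⊤ := by
      apply hgen _ hCn
      rw [Subgroup.mem_centralizer_iff]
      intro h hh
      exact (hD3 h hh).symm
    rw [eq_bot_iff, ← hcen]
    intro x hx
    rw [Subgroup.mem_center_iff]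
    intro g
    have hg : g ∈ Subgroup.centralizer (K : Set G) := by rw [hC]; exact Subgroup.mem_top _
    rw [Subgroup.mem_centralizer_iff] at hg
    exact (hg x hx).symm

end Cfsg.Agent.Helper92
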