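import Cfsg.Agent.Helper92.SimpleCrit
import Cfsg.Agent.Helper92.Suborbit

/-!
# Simplicity from a primitive action with simple point stabiliser

`isSimpleGroup_of_suborbits`: a finite group acting transitively on a set, with simple point
stabiliser, is simple — given the arithmetic of the subdegrees (which forces primitivity) and an
element of prime order `q` of the point stabiliser, where `q` does not divide the degree and
the prime powers dividing the degree are incongruent modulo `q` (which excludes a regular normal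
subgroup).
-/

set_option autoImplicit false

namespace Cfsg.Agent.Helper92

open MulAction

open scoped Pointwise

theorem ncard_insert_iUnion {X ι : Type*} [Fintype ι] (x₀ : X) (A : ι → Set X) (n : ι → ℕ)
    (hx : ∀ i, x₀ ∉ A i) (hdisj : ∀ i j, i ≠ j → Disjoint (A i) (A j))
    (hfin : ∀ i, (A i).Finite) (hn : ∀ i, (A i).ncard = n i) :
    (insert x₀ (⋃ i, A i)).ncard = 1 + ∑ i, n i := by
  classical
  have hfinU : ∀ I : Finset ι, (⋃ i ∈ I, A i).Finite :=
    fun I => Set.Finite.biUnion I.finite_toSet (fun i _ => hfin i)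
  have hU : ∀ I : Finset ι, (⋃ i ∈ I, A i).ncard = ∑ i ∈ I, n i := by
    intro I
    induction I using Finset.induction_on with
    | empty => simp
    | insert a s ha ih =>
      rw [Finset.set_biUnion_insert, Finset.sum_insert ha, Set.ncard_union_eq _ (hfin a) (hfinU s),
        hn a, ih]
      rw [Set.disjoint_iUnion₂_right]
      intro i hi
      exact hdisj a i (by rintro rfl; exact ha hi)
  have e : (⋃ i, A i) = ⋃ i ∈ (Finset.univ : Finset ι), A i := by simp
  rw [e, Set.ncard_insert_of_notMem _ (hfinU _), hU, add_comm]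
  simp only [Set.mem_iUnion, not_exists]
  intro i _ h
  exact hx i h

/-- **Simplicity from a primitive action with simple point stabiliser.** -/
theorem isSimpleGroup_of_suborbits {G X ι M : Type*} [Group G] [Finite G] [MulAction G X]
    [Fintype ι] [Group M] [IsSimpleGroup M]
    (x₀ : X) (A : ι → Set X) (n : ι → ℕ)
    (horb : orbit G x₀ = insert x₀ (⋃ i, A i)) (hx : ∀ i, x₀ ∉ A i)
    (hdisj : ∀ i j, i ≠ j → Disjoint (A i) (A j)) (hfin : ∀ i, (A i).Finite)
    (hn : ∀ i, (A i).ncard = n i)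
    (harith : ∀ I : Finset ι, (1 + ∑ i ∈ I, n i) ∣ (1 + ∑ i, n i) → I = ∅ ∨ I = Finset.univ)
    (htrans : ∀ i, ∀ y ∈ A i, ∀ y' ∈ A i, ∃ s : G, s • x₀ = x₀ ∧ s • y = y')
    (hmove : ∃ i, 2 ≤ n i)
    (f : M →* G) (hf : Function.Injective f) (hrange : ∀ g : G, g • x₀ = x₀ ↔ ∃ m, f m = g)
    (m : M) (q : ℕ) (hq : q.Prime) (hm : m ^ q = 1) (hm1 : m ≠ 1)
    (hqX : ¬ q ∣ (1 + ∑ i, n i))
    (harith2 : ∀ p i j : ℕ, p.Prime → p ≠ q → j ≤ i → p ^ i ∣ (1 + ∑ i, n i) →
      p ^ i ≡ p ^ j [MOD q] → i = j) :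
    IsSimpleGroup G := by
  have hcardX : (orbit G x₀).ncard = 1 + ∑ i, n i := by
    rw [horb]
    exact ncard_insert_iUnion x₀ A n hx hdisj hfin hn
  have hZfin : (orbit G x₀).Finite := by
    rw [horb]
    exact Set.Finite.insert _ (Set.finite_iUnion hfin)
  have hpos : 0 < (orbit G x₀).ncard := (Set.ncard_pos hZfin).2 ⟨x₀, mem_orbit_self x₀⟩
  have hS : ∀ g : G, g ∈ stabilizer G x₀ ↔ ∃ m, f m = g := fun g => hrange g
  have ht1 : f m ≠ 1 := fun h => hm1 (hf (h.trans (map_one f).symm))
  have htS : f m ∈ stabilizer G x₀ := (hS _).2 ⟨m, rfl⟩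
  -- the point stabiliser is simple
  have hsimple : ∀ N : Subgroup G, N ≤ stabilizer G x₀ →
      (∀ s ∈ stabilizer G x₀, ∀ x ∈ N, s * x * s⁻¹ ∈ N) → N = ⊥ ∨ stabilizer G x₀ ≤ N := by
    intro N hN hnorm
    have hNn : (N.comap f).Normal := ⟨fun a ha b => by
      show f (b * a * b⁻¹) ∈ N
      rw [map_mul, map_mul, map_inv]
      exact hnorm _ ((hS _).2 ⟨b, rfl⟩) _ ha⟩
    rcases IsSimpleGroup.eq_bot_or_eq_top_of_normal (N.comap f) hNn with h | h
    · left
      rw [eq_bot_iff]
      intro x hx'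
      obtain ⟨a, rfl⟩ := (hS x).1 (hN hx')
      have ha : a ∈ N.comap f := hx'
      rw [h, Subgroup.mem_bot] at ha
      rw [ha, map_one]
      exact one_mem _
    · right
      intro s hs
      obtain ⟨a, rfl⟩ := (hS s).1 hs
      have ha : a ∈ N.comap f := by rw [h]; exact Subgroup.mem_top _
      exact ha
  -- the point stabiliser is not normal
  have hnotnormal : ¬ ∀ g : G, ∀ s ∈ stabilizer G x₀, g * s * g⁻¹ ∈ stabilizer G x₀ := by
    intro hnorm
    obtain ⟨i, hi⟩ := hmove
    have h1 : 1 < (A i).ncard := by rw [hn i]; omega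
    obtain ⟨y, hy, y', hy', hne⟩ := (Set.one_lt_ncard (hfin i)).1 h1
    obtain ⟨s, hs, hsy⟩ := htrans i y hy y' hy'
    have hyZ : y ∈ orbit G x₀ := by
      rw [horb]
      exact Set.mem_insert_of_mem _ (Set.mem_iUnion.2 ⟨i, hy⟩)
    obtain ⟨g, rfl⟩ := hyZ
    have hc := hnorm g⁻¹ s hs
    rw [inv_inv, mem_stabilizer_iff, mul_smul, mul_smul, inv_smul_eq_iff] at hc
    exact hne (hsy.symm.trans hc).symm
  have hnt : Nontrivial G := ⟨⟨f m, 1, ht1⟩⟩
  refine { exists_pair_ne := hnt.exists_pair_ne, eq_bot_or_eq_top_of_normal := ?_ }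
  intro K hK
  -- the orbit of `K` is a union of suborbits
  have hLorb : (orbit (K ⊔ stabilizer G x₀ : Subgroup G) x₀ : Set X) = orbit K x₀ := by
    ext y
    constructor
    · rintro ⟨l, rfl⟩
      have hl : (l : G) ∈ (K : Set G) * (stabilizer G x₀ : Set G) := by
        rw [← Subgroup.normal_mul]
        exact l.2
      obtain ⟨k, hk, s, hs, e⟩ := hl
      refine ⟨⟨k, hk⟩, ?_⟩
      show k • x₀ = (l : G) • x₀
      rw [← e, mul_smul, mem_stabilizer_iff.1 hs]
    · rintro ⟨k, rfl⟩
      exact ⟨⟨k.1, Subgroup.mem_sup_left k.2⟩, rfl⟩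
  have hcount := orbit_ncard_mul_index x₀ (K ⊔ stabilizer G x₀) le_sup_right
  rw [hLorb] at hcount
  have hsub : (orbit K x₀ : Set X) ⊆ orbit G x₀ := by
    rintro y ⟨l, rfl⟩
    exact ⟨l.1, rfl⟩
  have hinv : ∀ i, ∀ y ∈ (orbit K x₀ : Set X), y ∈ A i → A i ⊆ orbit K x₀ := by
    intro i y hyO hyA y' hy'
    obtain ⟨s, hs, hsy⟩ := htrans i y hyA y' hy'
    obtain ⟨k, rfl⟩ := hyO
    refine ⟨⟨s * k.1 * s⁻¹, hK.conj_mem k.1 k.2 s⟩, ?_⟩
    show (s * k.1 * s⁻¹) • x₀ = y'
    rw [← hsy, mul_smul, mul_smul, inv_smul_eq_iff.2 hs.symm]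
    rfl
  have hKnorm : ∀ s ∈ stabilizer G x₀, ∀ x ∈ K, s * x * s⁻¹ ∈ K :=
    fun s _ x hx' => hK.conj_mem x hx' s
  rcases suborbit_cases x₀ (orbit G x₀) A n horb hx hdisj hfin hn harith (orbit K x₀)
    (mem_orbit_self x₀) hsub hinv (Dvd.intro _ hcount) with h | h
  · -- `K` fixes the base point
    left
    have hKS : K ≤ stabilizer G x₀ := by
      intro k hk
      have h1 : (⟨k, hk⟩ : K) • x₀ ∈ orbit K x₀ := mem_orbit _ _
      rw [h] at h1
      exact h1
    rcases hsimple K hKS hKnorm with h1 | h1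
    · exact h1
    · exfalso
      apply hnotnormal
      intro g s hs
      exact hKS (hK.conj_mem s (h1 hs) g)
  · -- `K` is transitive
    rw [h] at hcount
    have hidx : (K ⊔ stabilizer G x₀ : Subgroup G).index = 1 := by
      have h2 : (orbit G x₀).ncard * (K ⊔ stabilizer G x₀ : Subgroup G).index =
          (orbit G x₀).ncard * 1 := by rw [hcount, mul_one]
      exact Nat.eq_of_mul_eq_mul_left hpos h2
    have htop : K ⊔ stabilizer G x₀ = ⊤ := Subgroup.index_eq_one.1 hidx
    have hNnorm : ∀ s ∈ stabilizer G x₀, ∀ x ∈ K ⊓ stabilizer G x₀,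
        s * x * s⁻¹ ∈ K ⊓ stabilizer G x₀ := by
      intro s hs x hx'
      have hx2 := Subgroup.mem_inf.1 hx'
      exact Subgroup.mem_inf.2 ⟨hKnorm s hs x hx2.1,
        (stabilizer G x₀).mul_mem ((stabilizer G x₀).mul_mem hs hx2.2)
          ((stabilizer G x₀).inv_mem hs)⟩
    rcases hsimple (K ⊓ stabilizer G x₀) inf_le_right hNnorm with h1 | h1
    · -- the regular case
      exfalso
      have hstab : stabilizer K x₀ = ⊥ := by
        rw [stabilizer_subgroupOf, Subgroup.subgroupOf_eq_bot, disjoint_iff, inf_comm]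
        exact h1
      have hcardK : Nat.card K = 1 + ∑ i, n i := by
        have h2 := card_stabilizer_mul_ncard_orbit (G := K) x₀
        rw [hstab, Subgroup.card_bot, one_mul, h, hcardX] at h2
        exact h2.symm
      have hcent := centralizes_of_coprime K (f m) q hq (by rw [← map_pow, hm, map_one])
        (by rw [hcardK]; exact hqX)
        (fun p i j hp hpq hji hdvd hmod => harith2 p i j hp hpq hji (hcardK ▸ hdvd) hmod)
      have hCn : (Subgroup.centralizer (K : Set G)).Normal := inferInstance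
      have htC : f m ∈ Subgroup.centralizer (K : Set G) := by
        rw [Subgroup.mem_centralizer_iff]
        intro x hx'
        exact (hcent x hx').symm
      have hSC : stabilizer G x₀ ≤ Subgroup.centralizer (K : Set G) := by
        have hCnorm : ∀ s ∈ stabilizer G x₀,
            ∀ x ∈ Subgroup.centralizer (K : Set G) ⊓ stabilizer G x₀,
            s * x * s⁻¹ ∈ Subgroup.centralizer (K : Set G) ⊓ stabilizer G x₀ := by
          intro s hs x hx'
          have hx2 := Subgroup.mem_inf.1 hx'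
          exact Subgroup.mem_inf.2 ⟨hCn.conj_mem x hx2.1 s,
            (stabilizer G x₀).mul_mem ((stabilizer G x₀).mul_mem hs hx2.2)
              ((stabilizer G x₀).inv_mem hs)⟩
        rcases hsimple _ inf_le_right hCnorm with h2 | h2
        · exfalso
          have h3 : f m ∈ Subgroup.centralizer (K : Set G) ⊓ stabilizer G x₀ :=
            Subgroup.mem_inf.2 ⟨htC, htS⟩
          rw [h2, Subgroup.mem_bot] at h3
          exact ht1 h3
        · exact fun s hs => (Subgroup.mem_inf.1 (h2 hs)).1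
      apply hnotnormal
      intro g s hs
      have hg : g ∈ (K : Set G) * (stabilizer G x₀ : Set G) := by
        rw [← Subgroup.normal_mul, htop]
        exact Subgroup.mem_top g
      obtain ⟨k, hk, s', hs', rfl⟩ := hg
      have hcomm : ∀ z ∈ stabilizer G x₀, k * z * k⁻¹ = z := by
        intro z hz
        have h2 := Subgroup.mem_centralizer_iff.1 (hSC hz) k hk
        rw [h2, mul_inv_cancel_right]
      have e : k * s' * s * (k * s')⁻¹ = k * (s' * s * s'⁻¹) * k⁻¹ := by group
      have hmem : s' * s * s'⁻¹ ∈ stabilizer G x₀ :=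
        (stabilizer G x₀).mul_mem ((stabilizer G x₀).mul_mem hs' hs) ((stabilizer G x₀).inv_mem hs')
      rw [e, hcomm _ hmem]
      exact hmem
    · right
      have h2 : stabilizer G x₀ ≤ K := fun s hs => (Subgroup.mem_inf.1 (h1 hs)).1
      rw [← htop]
      exact (sup_eq_left.2 h2).symm

end Cfsg.Agent.Helper92
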