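import Cfsg.Agent.Helper92.SimpleStab

/-!
# Normal subgroups of a group with a primitive action and simple point stabiliser

* `normal_trichotomy`: under the hypotheses on the suborbits of `isSimpleGroup_of_suborbits`, a
  normal subgroup is trivial, everything, or regular on the orbit.
* `exists_normal_of_card_prime_pow_mul_prime`: a normal subgroup of order `p^a q` contains a
  normal subgroup (of the whole group) of order `q` or `p^a`, when no power `p^k`, `0 < k < a`,
  is congruent to `1` modulo `q`.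
-/

set_option autoImplicit false

namespace Cfsg.Agent.Helper92

open MulAction

open scoped Pointwise

/-- **Normal subgroups in a primitive action with simple point stabiliser**: trivial,
everything, or regular. -/
theorem normal_trichotomy {G X ι M : Type*} [Group G] [MulAction G X]
    [Fintype ι] [Group M] [IsSimpleGroup M]
    (x₀ : X) (A : ι → Set X) (n : ι → ℕ)
    (horb : orbit G x₀ = insert x₀ (⋃ i, A i)) (hx : ∀ i, x₀ ∉ A i)
    (hdisj : ∀ i j, i ≠ j → Disjoint (A i) (A j)) (hfin : ∀ i, (A i).Finite)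
    (hn : ∀ i, (A i).ncard = n i)
    (harith : ∀ I : Finset ι, (1 + ∑ i ∈ I, n i) ∣ (1 + ∑ i, n i) → I = ∅ ∨ I = Finset.univ)
    (htrans : ∀ i, ∀ y ∈ A i, ∀ y' ∈ A i, ∃ s : G, s • x₀ = x₀ ∧ s • y = y')
    (hmove : ∃ i, 2 ≤ n i)
    (f : M →* G) (hrange : ∀ g : G, g • x₀ = x₀ ↔ ∃ m, f m = g)
    (K : Subgroup G) (hK : K.Normal) :
    K = ⊥ ∨ K = ⊤ ∨ Nat.card K = 1 + ∑ i, n i := by
  have hcardX : (orbit G x₀).ncard = 1 + ∑ i, n i := by
    rw [horb]
    exact ncard_insert_iUnion x₀ A n hx hdisj hfin hn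
  have hZfin : (orbit G x₀).Finite := by
    rw [horb]
    exact Set.Finite.insert _ (Set.finite_iUnion hfin)
  have hpos : 0 < (orbit G x₀).ncard := (Set.ncard_pos hZfin).2 ⟨x₀, mem_orbit_self x₀⟩
  have hS : ∀ g : G, g ∈ stabilizer G x₀ ↔ ∃ m, f m = g := fun g => hrange g
  -- the point stabiliser is simple
  have hsimple : ∀ N : Subgroup G, N ≤ stabilizer G x₀ →
      (∀ s ∈ stabilizer G x₀, ∀ x ∈ N, s * x * s⁻¹ ∈ N) → N = ⊥ ∨ stabilizer G x₀ ≤ N := by
    intro N hN hnorm
    have hNn : (N.comap f).Normal := ⟨fun a ha b => by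
      show f (b * a * b⁻¹) ∈ N
      rw [map_mul, map_mul, map_inv]
      exact hnorm _ ((hS _).2 ⟨b, rfl⟩) _ ha⟩
    rcases IsSimpleGroup.eq_bot_or_eq_top_of_normal (N.comap f) hNn with h | h
    · left
      rw [eq_bot_iff]
      intro x hx'
      obtain ⟨a, rfl⟩ := (hS x).1 (hN hx')
      have ha : a ∈ N.comap f := hx'
      rw [h, Subgroup.mem_bot] at ha
      rw [ha, map_one]
      exact one_mem _
    · right
      intro s hs
      obtain ⟨a, rfl⟩ := (hS s).1 hs
      have ha : a ∈ N.comap f := by rw [h]; exact Subgroup.mem_top _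
      exact ha
  -- the point stabiliser is not normal
  have hnotnormal : ¬ ∀ g : G, ∀ s ∈ stabilizer G x₀, g * s * g⁻¹ ∈ stabilizer G x₀ := by
    intro hnorm
    obtain ⟨i, hi⟩ := hmove
    have h1 : 1 < (A i).ncard := by rw [hn i]; omega
    obtain ⟨y, hy, y', hy', hne⟩ := (Set.one_lt_ncard (hfin i)).1 h1
    obtain ⟨s, hs, hsy⟩ := htrans i y hy y' hy'
    have hyZ : y ∈ orbit G x₀ := by
      rw [horb]
      exact Set.mem_insert_of_mem _ (Set.mem_iUnion.2 ⟨i, hy⟩)
    obtain ⟨g, rfl⟩ := hyZ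
    have hc := hnorm g⁻¹ s hs
    rw [inv_inv, mem_stabilizer_iff, mul_smul, mul_smul, inv_smul_eq_iff] at hc
    exact hne (hsy.symm.trans hc).symm
  -- the orbit of `K` is a union of suborbits
  have hLorb : (orbit (K ⊔ stabilizer G x₀ : Subgroup G) x₀ : Set X) = orbit K x₀ := by
    ext y
    constructor
    · rintro ⟨l, rfl⟩
      have hl : (l : G) ∈ (K : Set G) * (stabilizer G x₀ : Set G) := by
        rw [← Subgroup.normal_mul]
        exact l.2
      obtain ⟨k, hk, s, hs, e⟩ := hl
      refine ⟨⟨k, hk⟩, ?_⟩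
      show k • x₀ = (l : G) • x₀
      rw [← e, mul_smul, mem_stabilizer_iff.1 hs]
    · rintro ⟨k, rfl⟩
      exact ⟨⟨k.1, Subgroup.mem_sup_left k.2⟩, rfl⟩
  have hcount := orbit_ncard_mul_index x₀ (K ⊔ stabilizer G x₀) le_sup_right
  rw [hLorb] at hcount
  have hsub : (orbit K x₀ : Set X) ⊆ orbit G x₀ := by
    rintro y ⟨l, rfl⟩
    exact ⟨l.1, rfl⟩
  have hinv : ∀ i, ∀ y ∈ (orbit K x₀ : Set X), y ∈ A i → A i ⊆ orbit K x₀ := by
    intro i y hyO hyA y' hy'
    obtain ⟨s, hs, hsy⟩ := htrans i y hyA y' hy'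
    obtain ⟨k, rfl⟩ := hyO
    refine ⟨⟨s * k.1 * s⁻¹, hK.conj_mem k.1 k.2 s⟩, ?_⟩
    show (s * k.1 * s⁻¹) • x₀ = y'
    rw [← hsy, mul_smul, mul_smul, inv_smul_eq_iff.2 hs.symm]
    rfl
  have hKnorm : ∀ s ∈ stabilizer G x₀, ∀ x ∈ K, s * x * s⁻¹ ∈ K :=
    fun s _ x hx' => hK.conj_mem x hx' s
  rcases suborbit_cases x₀ (orbit G x₀) A n horb hx hdisj hfin hn harith (orbit K x₀)
    (mem_orbit_self x₀) hsub hinv (Dvd.intro _ hcount) with h | h
  · -- `K` fixes the base point
    left
    have hKS : K ≤ stabilizer G x₀ := by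
      intro k hk
      have h1 : (⟨k, hk⟩ : K) • x₀ ∈ orbit K x₀ := mem_orbit _ _
      rw [h] at h1
      exact h1
    rcases hsimple K hKS hKnorm with h1 | h1
    · exact h1
    · exfalso
      apply hnotnormal
      intro g s hs
      exact hKS (hK.conj_mem s (h1 hs) g)
  · -- `K` is transitive
    right
    rw [h] at hcount
    have hidx : (K ⊔ stabilizer G x₀ : Subgroup G).index = 1 := by
      have h2 : (orbit G x₀).ncard * (K ⊔ stabilizer G x₀ : Subgroup G).index =
          (orbit G x₀).ncard * 1 := by rw [hcount, mul_one]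
      exact Nat.eq_of_mul_eq_mul_left hpos h2
    have htop : K ⊔ stabilizer G x₀ = ⊤ := Subgroup.index_eq_one.1 hidx
    have hNnorm : ∀ s ∈ stabilizer G x₀, ∀ x ∈ K ⊓ stabilizer G x₀,
        s * x * s⁻¹ ∈ K ⊓ stabilizer G x₀ := by
      intro s hs x hx'
      have hx2 := Subgroup.mem_inf.1 hx'
      exact Subgroup.mem_inf.2 ⟨hKnorm s hs x hx2.1,
        (stabilizer G x₀).mul_mem ((stabilizer G x₀).mul_mem hs hx2.2)
          ((stabilizer G x₀).inv_mem hs)⟩
    rcases hsimple (K ⊓ stabilizer G x₀) inf_le_right hNnorm with h1 | h1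
    · -- the regular case
      right
      have hstab : stabilizer K x₀ = ⊥ := by
        rw [stabilizer_subgroupOf, Subgroup.subgroupOf_eq_bot, disjoint_iff, inf_comm]
        exact h1
      have h2 := card_stabilizer_mul_ncard_orbit (G := K) x₀
      rw [hstab, Subgroup.card_bot, one_mul, h, hcardX] at h2
      exact h2.symm
    · left
      have h2 : stabilizer G x₀ ≤ K := fun s hs => (Subgroup.mem_inf.1 (h1 hs)).1
      rw [← htop]
      exact (sup_eq_left.2 h2).symm

/-- a group of prime order is commutative -/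
theorem mul_comm_of_card_prime {H : Type*} [Group H] (q : ℕ) (hq : q.Prime)
    (h : Nat.card H = q) (a b : H) : a * b = b * a := by
  have : Fact q.Prime := ⟨hq⟩
  have hc : IsCyclic H := isCyclic_of_prime_card h
  obtain ⟨g, hg⟩ := hc.exists_generator
  obtain ⟨i, rfl⟩ := Subgroup.mem_zpowers_iff.1 (hg a)
  obtain ⟨j, rfl⟩ := Subgroup.mem_zpowers_iff.1 (hg b)
  exact zpow_mul_comm g i j

/-- a normal subgroup of order `p^a q` contains a subgroup of order `q` or `p^a` that is normal
in the whole group, when no power `p^k`, `0 < k < a`, is congruent to `1` modulo `q` -/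
theorem exists_normal_of_card_prime_pow_mul_prime {G : Type*} [Group G] [Finite G]
    (K : Subgroup G) [hK : K.Normal] (p a q : ℕ) (hp : p.Prime) (hq : q.Prime) (hpq : p ≠ q)
    (hcard : Nat.card K = p ^ a * q)
    (harith : ∀ k ≤ a, p ^ k ≡ 1 [MOD q] → k = 0 ∨ k = a) :
    ∃ N : Subgroup G, N.Normal ∧ (Nat.card N = q ∨ Nat.card N = p ^ a) := by
  classical
  have : Fact q.Prime := ⟨hq⟩
  have hcop : Nat.Coprime (p ^ a) q :=
    Nat.Coprime.pow_left a ((Nat.coprime_primes hp hq).2 hpq)
  let P : Sylow q K := default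
  -- the order of `P`
  have hPcard : Nat.card P = q := by
    obtain ⟨k, hk⟩ := IsPGroup.iff_card.1 P.2
    have h1 := Subgroup.card_mul_index (P : Subgroup K)
    rw [hcard, hk] at h1
    have h2 : ¬ q ∣ (P : Subgroup K).index := P.not_dvd_index
    have h3 : q ^ k ∣ p ^ a * q := Dvd.intro _ h1
    have h4 : q ^ k ∣ q := (Nat.Coprime.pow_left k (Nat.Coprime.symm hcop)).dvd_of_dvd_mul_left h3
    have h5 : k ≤ 1 :=
      (Nat.pow_dvd_pow_iff_le_right hq.one_lt).1 (by rw [pow_one]; exact h4)
    interval_cases k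
    · exfalso
      rw [pow_zero, one_mul] at h1
      exact h2 (h1 ▸ Dvd.intro_left _ rfl)
    · rw [hk, pow_one]
  have hPidx : (P : Subgroup K).index = p ^ a := by
    have h1 := Subgroup.card_mul_index (P : Subgroup K)
    rw [hcard, hPcard, mul_comm] at h1
    exact Nat.eq_of_mul_eq_mul_right hq.pos h1
  -- the number of Sylow subgroups
  have hn1 := card_sylow_modEq_one q K
  have hn2 : Nat.card (Sylow q K) ∣ p ^ a := hPidx ▸ P.card_dvd_index
  obtain ⟨k, hk, hnk⟩ := (Nat.dvd_prime_pow hp).1 hn2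
  rw [hnk] at hn1
  rcases harith k hk hn1 with h0 | ha
  · -- a normal Sylow `q`-subgroup
    subst h0
    rw [pow_zero] at hnk
    have hsub : Subsingleton (Sylow q K) := (Nat.card_eq_one_iff_unique.1 hnk).1
    refine ⟨(P : Subgroup K).map K.subtype, ⟨?_⟩, Or.inl ?_⟩
    · rintro y ⟨x, hx, rfl⟩ g
      have hxK : g * (x : G) * g⁻¹ ∈ K := hK.conj_mem x x.2 g
      refine ⟨⟨g * (x : G) * g⁻¹, hxK⟩, ?_, rfl⟩
      -- the conjugate is a `q`-element of `K`
      have hxq : x ^ q = 1 := by
        have h1 : (⟨x, hx⟩ : P) ^ Nat.card P = 1 := pow_card_eq_one'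
        rw [hPcard] at h1
        exact congrArg Subtype.val h1
      have hyq : (⟨g * (x : G) * g⁻¹, hxK⟩ : K) ^ q = 1 := by
        apply Subtype.ext
        show (g * (x : G) * g⁻¹) ^ q = 1
        rw [conj_pow]
        have : (x : G) ^ q = 1 := congrArg Subtype.val hxq
        rw [this, mul_one, mul_inv_cancel]
      have hpg : IsPGroup q (Subgroup.zpowers (⟨g * (x : G) * g⁻¹, hxK⟩ : K)) := by
        apply IsPGroup.of_card (n := if (⟨g * (x : G) * g⁻¹, hxK⟩ : K) = 1 then 0 else 1)
        rw [Nat.card_zpowers]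
        split_ifs with h1
        · rw [h1, orderOf_one, pow_zero]
        · rw [pow_one]
          exact orderOf_eq_prime hyq h1
      obtain ⟨Q, hQ⟩ := hpg.exists_le_sylow
      have hQP : Q = P := Subsingleton.elim _ _
      rw [hQP] at hQ
      exact hQ (Subgroup.mem_zpowers _)
    · rw [Nat.card_congr (Subgroup.equivMapOfInjective (P : Subgroup K) K.subtype
        K.subtype_injective).symm.toEquiv]
      exact hPcard
  · -- a normal complement
    subst ha
    have hnorm_idx : (Subgroup.normalizer (P : Set K)).index = p ^ k :=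
      P.card_eq_index_normalizer.symm.trans hnk
    have hnorm_card : Nat.card (Subgroup.normalizer (P : Set K)) = q := by
      have h1 := Subgroup.card_mul_index (Subgroup.normalizer (P : Set K))
      rw [hcard, hnorm_idx, mul_comm] at h1
      exact Nat.eq_of_mul_eq_mul_left (pow_pos hp.pos k) h1
    have hPn : Subgroup.normalizer (P : Set K) = (P : Subgroup K) := by
      symm
      have hle : (P : Subgroup K) ≤ Subgroup.normalizer (P : Set K) := Subgroup.le_normalizer
      apply Subgroup.eq_of_le_of_card_ge hle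
      rw [hnorm_card, hPcard]
    have hP : Subgroup.normalizer (P : Set K) ≤ Subgroup.centralizer (P : Set K) := by
      rw [hPn]
      intro x hx
      rw [Subgroup.mem_centralizer_iff]
      intro y hy
      have := mul_comm_of_card_prime q hq hPcard (⟨y, hy⟩ : P) ⟨x, hx⟩
      exact congrArg Subtype.val this
    have hcompl := MonoidHom.ker_transferSylow_isComplement' P hP
    set Q : Subgroup K := (MonoidHom.transferSylow P hP).ker with hQdef
    have hQn : Q.Normal := MonoidHom.normal_ker _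
    have hQcard : Nat.card Q = p ^ k := by
      have h1 := hcompl.card_mul_card
      rw [hcard, hPcard] at h1
      exact Nat.eq_of_mul_eq_mul_right hq.pos h1
    have hQidx : Q.index = q := by
      have h1 := Subgroup.card_mul_index Q
      rw [hcard, hQcard] at h1
      exact Nat.eq_of_mul_eq_mul_left (pow_pos hp.pos k) h1
    -- `Q` consists of the `p`-elements of `K`
    have hQmem : ∀ x : K, x ^ p ^ k = 1 → x ∈ Q := by
      intro x hx
      have h1 : x ^ Q.index ∈ Q := Subgroup.pow_index_mem Q x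
      rw [hQidx] at h1
      have h2 : Nat.Coprime (orderOf x) q :=
        Nat.Coprime.coprime_dvd_left (orderOf_dvd_of_pow_eq_one hx) hcop
      obtain ⟨m, hm⟩ := exists_pow_eq_self_of_coprime h2.symm
      rw [← hm]
      exact Q.pow_mem h1 m
    refine ⟨Q.map K.subtype, ⟨?_⟩, Or.inr ?_⟩
    · rintro y ⟨x, hx, rfl⟩ g
      have hxK : g * (x : G) * g⁻¹ ∈ K := hK.conj_mem x x.2 g
      refine ⟨⟨g * (x : G) * g⁻¹, hxK⟩, ?_, rfl⟩
      apply hQmem
      have hxp : x ^ p ^ k = 1 := by
        have h1 : (⟨x, hx⟩ : Q) ^ Nat.card Q = 1 := pow_card_eq_one'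
        rw [hQcard] at h1
        exact congrArg Subtype.val h1
      apply Subtype.ext
      show (g * (x : G) * g⁻¹) ^ p ^ k = 1
      rw [conj_pow]
      have : (x : G) ^ p ^ k = 1 := congrArg Subtype.val hxp
      rw [this, mul_one, mul_inv_cancel]
    · rw [Nat.card_congr (Subgroup.equivMapOfInjective Q K.subtype
        K.subtype_injective).symm.toEquiv]
      exact hQcard

end Cfsg.Agent.Helper92
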